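import Cfsg.Statements.S0268
import Mathlib.FieldTheory.Finite.Basic

set_option autoImplicit false
open Cfsg

namespace Cfsg.Agent.S0268

/-- For q odd, -1 is the unique involution of SL_2(q). -/
theorem result {F : Type*} [Field F] [Fintype F] (hF : Odd (Fintype.card F)) (g : Matrix.SpecialLinearGroup (Fin 2) F) (h1 : g ≠ 1) (h2 : g * g = 1) : (g : Matrix (Fin 2) (Fin 2) F) = -1 := by
  have h2F : (2 : F) ≠ 0 := by
    refine Ring.two_ne_zero fun hc => ?_
    have := FiniteField.even_card_iff_char_two.mp hc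
    rw [Nat.odd_iff] at hF
    omega
  set M := (g : Matrix (Fin 2) (Fin 2) F) with hM
  have hd : M 0 0 * M 1 1 - M 0 1 * M 1 0 = 1 := by rw [← Matrix.det_fin_two]; exact g.2
  have e : M * M = 1 := by rw [hM, ← Matrix.SpecialLinearGroup.coe_mul, h2]; rfl
  have e00 := congrFun (congrFun e 0) 0
  have e01 := congrFun (congrFun e 0) 1
  have e10 := congrFun (congrFun e 1) 0
  have e11 := congrFun (congrFun e 1) 1
  simp [Matrix.mul_apply, Fin.sum_univ_two] at e00 e01 e10 e11
  have hs : (M 0 0 + M 1 1) * M 0 0 = 2 := by linear_combination e00 + hd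
  have hs0 : M 0 0 + M 1 1 ≠ 0 := fun h0 => h2F (by rw [← hs, h0, zero_mul])
  have hb : M 0 1 = 0 := (mul_eq_zero.mp (show (M 0 0 + M 1 1) * M 0 1 = 0 by linear_combination e01)).resolve_left hs0
  have hc : M 1 0 = 0 := (mul_eq_zero.mp (show (M 0 0 + M 1 1) * M 1 0 = 0 by linear_combination e10)).resolve_left hs0
  rw [hb, zero_mul, sub_zero] at hd
  rw [hb, zero_mul, add_zero] at e00
  have had : M 1 1 = M 0 0 := by linear_combination M 0 0 * hd - M 1 1 * e00
  rcases mul_self_eq_one_iff.mp e00 with ha | ha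
  · refine absurd (Subtype.ext ?_) h1
    ext i j
    fin_cases i <;> fin_cases j <;> simp [← hM, hb, hc, had, ha]
  · ext i j
    fin_cases i <;> fin_cases j <;> simp [hb, hc, had, ha]

end Cfsg.Agent.S0268
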