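import Cfsg.Statements.S0803
import Cfsg.Agent.Lib.ClassicalPSLTwoPoly

set_option autoImplicit false
open Cfsg

namespace Cfsg.Agent.S0803

/-- PSL_2(q) has a subgroup isomorphic to S_4 iff q² ≡ 1 (mod 16). -/
theorem result {F : Type*} [Field F] [Fintype F] {q : ℕ} (hF : Fintype.card F = q) : (∃ H : Subgroup (Matrix.ProjectiveSpecialLinearGroup (Fin 2) F), Nonempty (H ≃* Equiv.Perm (Fin 4))) ↔ q ^ 2 % 16 = 1 := by
  classical
  subst hF
  have hmod : ∀ q : ℕ, q ^ 2 % 16 = 1 ↔ (q % 8 = 1 ∨ q % 8 = 3 ∨ q % 8 = 5 ∨ q % 8 = 7) ∧ q % 8 ≠ 3 ∧ q % 8 ≠ 5 := by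
    intro q
    have h16 := Nat.mod_lt q (show 16 > 0 by norm_num)
    have h8 : q % 8 = q % 16 % 8 := by omega
    rw [Nat.pow_mod, h8]
    generalize q % 16 = r at h16 ⊢
    interval_cases r <;> norm_num
  rw [hmod]
  constructor
  · rintro ⟨H, ⟨e⟩⟩
    have hx : orderOf ((e.symm (finRotate 4) : H) : Matrix.ProjectiveSpecialLinearGroup (Fin 2) F) = 4 := by
      rw [Subgroup.orderOf_coe, e.symm.orderOf_eq,
        (isCycle_finRotate (n := 2)).orderOf, support_finRotate]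
      rfl
    have hodd : Odd (Fintype.card F) := by
      by_contra h
      obtain ⟨n, -, hc⟩ := CfsgLib.Classical.exists_two_pow_of_even h
      exact CfsgLib.Classical.no_element_order_four _ hx
    obtain ⟨t, ht⟩ := CfsgLib.Classical.exists_sqrt_two hodd _ hx
    have h8 := Nat.odd_iff.mp hodd
    exact ⟨by omega, FiniteField.isSquare_two_iff.mp ⟨t, ht.symm⟩⟩
  · rintro ⟨h, h35⟩
    obtain ⟨t, ht⟩ := FiniteField.isSquare_two_iff.mpr h35
    obtain ⟨H, -, e⟩ := CfsgLib.Classical.exists_sym_four_of_sqrt (Nat.odd_iff.mpr (by omega)) ht.symm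
    exact ⟨H, e⟩

end Cfsg.Agent.S0803
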