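import Cfsg.Statements.S0804
import Cfsg.Agent.Lib.ClassicalPSLTwoPoly

set_option autoImplicit false
open Cfsg

namespace Cfsg.Agent.S0804

/-- PSL_2(q) has a subgroup isomorphic to A_5 iff 5 ∣ q(q² − 1). -/
theorem result {F : Type*} [Field F] [Fintype F] {q : ℕ} (hF : Fintype.card F = q) : (∃ H : Subgroup (Matrix.ProjectiveSpecialLinearGroup (Fin 2) F), Nonempty (H ≃* alternatingGroup (Fin 5))) ↔ 5 ∣ q * (q ^ 2 - 1) := by
  classical
  subst hF
  have hfac : Fintype.card F * (Fintype.card F ^ 2 - 1) =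
      Fintype.card F * (Fintype.card F - 1) * (Fintype.card F + 1) := by
    rw [show (1 : ℕ) = 1 ^ 2 from rfl, Nat.sq_sub_sq, one_pow, mul_assoc, mul_comm (Fintype.card F + 1)]
  rw [hfac]
  constructor
  · rintro ⟨H, ⟨e⟩⟩
    refine dvd_trans ?_ CfsgLib.Classical.card_psl_dvd
    refine dvd_trans ?_ H.card_subgroup_dvd_card
    rw [Nat.card_congr e.toEquiv, nat_card_alternatingGroup, Nat.card_fin]
    decide
  · intro h5
    by_cases hodd : Odd (Fintype.card F)
    · obtain ⟨t, ht⟩ := CfsgLib.Classical.exists_root_of_five_dvd (F := F)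
        (by rw [CfsgLib.Classical.Two.card_sl_two]; exact h5)
      obtain ⟨H, -, e⟩ := CfsgLib.Classical.exists_alt_five_of_root hodd ht
      exact ⟨H, e⟩
    obtain ⟨n, hn, -⟩ := CfsgLib.Classical.exists_two_pow_of_even hodd
    refine CfsgLib.Classical.exists_alt_five_of_even ?_ hn
    rcases Nat.even_or_odd n with h | h
    · exact h
    exfalso
    obtain ⟨k, rfl⟩ := h
    rw [← hfac, hn, Nat.dvd_iff_mod_eq_zero, Nat.mul_mod] at h5
    have h4 : 2 ^ (2 * k + 1) % 5 = 2 ∨ 2 ^ (2 * k + 1) % 5 = 3 := by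
      induction k with
      | zero => simp
      | succ k ih =>
        rw [show 2 * (k + 1) + 1 = (2 * k + 1) + 2 by omega, pow_add, Nat.mul_mod]
        rcases (show 2 ^ (2 * k + 1) % 5 = 2 ∨ 2 ^ (2 * k + 1) % 5 = 3 by
          clear h5 hn hfac; clear ih; induction k with
          | zero => simp
          | succ k ih => rw [show 2 * (k + 1) + 1 = (2 * k + 1) + 2 by omega, pow_add, Nat.mul_mod]; rcases ih with h | h <;> rw [h] <;> norm_num) with h | h <;>
          rw [h] <;> norm_num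
    have h1 : 1 ≤ (2 ^ (2 * k + 1)) ^ 2 := Nat.one_le_pow _ _ (by positivity)
    have hsq : (2 ^ (2 * k + 1)) ^ 2 % 5 = 4 := by
      rw [Nat.pow_mod]; rcases h4 with h | h <;> rw [h] <;> norm_num
    rw [show ((2 ^ (2 * k + 1)) ^ 2 - 1) % 5 = 3 by omega] at h5
    rcases h4 with h | h <;> rw [h] at h5 <;> norm_num at h5

end Cfsg.Agent.S0804
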