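import Cfsg.Statements.S4037
import Cfsg.Agent.Lib.CharBurnside
import Cfsg.Agent.Lib.BlockOrth
import Cfsg.Agent.Lib.BlockPrincipal
import Cfsg.Agent.Lib.BlockRegular
import Cfsg.Agent.Lib.CoreBasic

set_option autoImplicit false
open Cfsg

namespace Cfsg.Agent.S4037

open CfsgLib.Char CfsgLib.Block
open scoped ComplexConjugate commutatorElement IsMulCommutative

universe u

theorem index_centralizer_eq {G : Type u} [Group G] [Finite G] (x : G) :
    (Subgroup.centralizer ({x} : Set G)).index = (ConjClasses.mk x).carrier.ncard := by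
  obtain ⟨f, hf, hfx⟩ : ∃ f : G →* ConjAct G, Function.Surjective f ∧
      ∀ g, f g • x = g * x * g⁻¹ :=
    ⟨ConjAct.toConjAct.toMonoidHom, ConjAct.toConjAct.surjective, fun g => rfl⟩
  have h : Subgroup.centralizer ({x} : Set G) = (MulAction.stabilizer (ConjAct G) x).comap f := by
    ext g
    rw [Subgroup.mem_centralizer_singleton_iff, Subgroup.mem_comap, MulAction.mem_stabilizer_iff,
      hfx, mul_inv_eq_iff_eq_mul]
  rw [h, Subgroup.index_comap_of_surjective _ hf,
    MulAction.index_stabilizer, ConjAct.orbit_eq_carrier_conjClasses]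

/-- Extensions of solvable by solvable. -/
theorem isSolvable_comap {G : Type u} [Group G] (R : Subgroup G) [R.Normal]
    (hR : Group.IsSolvable R) (M : Subgroup (G ⧸ R)) (hM : Group.IsSolvable M) :
    Group.IsSolvable (M.comap (QuotientGroup.mk' R)) := by
  haveI := hR
  haveI := hM
  have hle : R ≤ M.comap (QuotientGroup.mk' R) := fun r hr => by
    rw [Subgroup.mem_comap, show QuotientGroup.mk' R r = 1 from (QuotientGroup.eq_one_iff r).2 hr]
    exact one_mem M
  refine Group.isSolvable_of_ker_le_range (Subgroup.inclusion hle)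
    ((QuotientGroup.mk' R).subgroupComap M) fun z hz => ?_
  exact ⟨⟨z, (QuotientGroup.eq_one_iff _).1 (congrArg Subtype.val (MonoidHom.mem_ker.1 hz))⟩, rfl⟩

/-- The greatest solvable normal subgroup. -/
theorem exists_greatest {G : Type u} [Group G] [Finite G] :
    ∃ R : Subgroup G, R.Normal ∧ Group.IsSolvable R ∧
      ∀ M : Subgroup G, M.Normal → Group.IsSolvable M → M ≤ R := by
  obtain ⟨R, ⟨hRn, hRs⟩, hmax⟩ := (Set.toFinite {M : Subgroup G | M.Normal ∧ Group.IsSolvable M}).exists_maximal
    ⟨⊥, inferInstance, inferInstance⟩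
  haveI := hRn
  refine ⟨R, hRn, hRs, fun M hMn hMs => ?_⟩
  haveI := hMn
  haveI := hMs
  set K := (M.map (QuotientGroup.mk' R)).comap (QuotientGroup.mk' R) with hK
  have hRK : R ≤ K := fun r hr => by
    rw [hK, Subgroup.mem_comap, show QuotientGroup.mk' R r = 1 from (QuotientGroup.eq_one_iff r).2 hr]
    exact one_mem _
  have hs : Group.IsSolvable (M.map (QuotientGroup.mk' R)) :=
    Group.isSolvable_of_surjective ((QuotientGroup.mk' R).subgroupMap_surjective M)
  have hKR : K ≤ R := hmax (y := K)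
    ⟨(hMn.map _ (QuotientGroup.mk'_surjective R)).comap _, isSolvable_comap R hRs _ hs⟩ hRK
  exact fun m hm => hKR (Subgroup.mem_map_of_mem _ hm)

/-- The character-theoretic core: no element of prime order and prime-power class moves all of a
normal subgroup of order divisible by a third prime. -/
theorem core {G : Type u} [Group G] [Finite G] (N : Subgroup G) [N.Normal] {p k q r : ℕ}
    (hp : p.Prime) (hq : q.Prime) (hr : r.Prime) (hrp : r ≠ p) (hrq : r ≠ q) (hrN : r ∣ Nat.card N)
    (x : G) (hx : x ^ q = 1) (hxk : (Subgroup.centralizer ({x} : Set G)).index ∣ p ^ k)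
    (hgen : ∀ g, ∃ n ∈ N, ∃ i : ℕ, g = n * x ^ i)
    (hNx : ∀ K : Subgroup G, K.Normal → (∀ n ∈ N, n * x * n⁻¹ * x⁻¹ ∈ K) → N ≤ K) : False := by
  classical
  haveI := Fintype.ofFinite G
  haveI := Fact.mk hr
  obtain ⟨M, hM⟩ := exists_isPModular hr
  obtain ⟨y, hy⟩ := exists_prime_orderOf_dvd_card' (G := N) r hrN
  have hyo : r ∣ orderOf (y : G) := by rw [Subgroup.orderOf_coe, hy]
  have hsum := block_sum_regular_singular hM (isPBlock_principal (G := G) M) (x := (1 : G)) (y := y)
    (by rw [orderOf_one]; exact hr.not_dvd_one) hyo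
  set c := (Subgroup.centralizer ({x} : Set G)).index with hc
  have hpM : ∀ s : ℕ, s.Prime → s ≠ r → (s : AlgInt) ∉ M := by
    intro s hs hsr hmem
    obtain ⟨a, b, hab⟩ := Int.isCoprime_iff_nat_coprime.2
      (show Nat.Coprime (s : ℤ).natAbs (r : ℤ).natAbs by
        simpa using (Nat.coprime_primes hs hr).2 hsr)
    refine one_not_mem hM ?_
    have h : ((a : AlgInt)) * (s : AlgInt) + (b : AlgInt) * (r : AlgInt) = 1 := by exact_mod_cast hab
    rw [← h]
    exact add_mem (M.mul_mem_left _ hmem) (M.mul_mem_left _ hM.2.2)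
  have hcM : (c : AlgInt) ∉ M := by
    obtain ⟨i, -, hi⟩ := (Nat.dvd_prime_pow hp).1 hxk
    rw [hi, Nat.cast_pow]
    exact fun h => hpM p hp (Ne.symm hrp) (hM.2.1.isPrime.mem_of_pow_mem _ h)
  have hterm : ∀ χ : IrrCharacter G, χ ∈ principalBlock M G → χ ≠ trivIrr G →
      ∃ w : ℂ, IsIntegral ℤ w ∧ (χ : G → ℂ) 1 * conj ((χ : G → ℂ) y) = (p : ℂ) * w := by
    intro χ hχB hχ
    obtain ⟨d, ρ, hρ, he⟩ := χ.2
    haveI := hρ
    set dd := Module.finrank ℂ (Fin d → ℂ) with hdd
    by_cases hpd : p ∣ dd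
    · obtain ⟨m, hm⟩ := hpd
      refine ⟨(m : ℂ) * conj (ρ.character y), (isIntegral_natCast m).mul
        ((isIntegral_rep_char ρ (y : G)).map (Complex.conjAe.toAlgHom.restrictScalars ℤ)), ?_⟩
      rw [← he, ρ.char_one, ← hdd, hm, Nat.cast_mul, mul_assoc]
    exfalso
    have hcop : Nat.Coprime dd c := by
      obtain ⟨i, -, hi⟩ := (Nat.dvd_prime_pow hp).1 hxk
      rw [hi]
      exact (Nat.Coprime.pow_left i ((hp.coprime_iff_not_dvd).mpr hpd)).symm
    obtain ⟨a, b, ha, hb, hab⟩ := hχB x
    rcases burnside_zero_or_scalar ρ x hcop with h0 | h0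
    · -- the central character would vanish
      rw [he] at h0
      have e : (a : ℂ) / (b : ℂ) = (c : ℂ) := by
        rw [hab]; simp [centralChar, h0, hc]
      rw [div_eq_iff (not_mem_ne_zero hb)] at e
      have e' : a = (c : AlgInt) * b := Subtype.ext (by push_cast; exact e)
      exact mul_not_mem hM hcM hb (e' ▸ ha)
    · obtain ⟨ω, hω⟩ := (norm_rep_char_eq_iff ρ x).mp h0
      have hω' : ρ x = ω • (1 : Module.End ℂ (Fin d → ℂ)) := hω
      have hkerN : ∀ n ∈ N, ρ n = 1 := by
        have h := hNx ρ.asGroupHom.ker inferInstance (fun n _ => ?_)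
        · intro n hn
          have h' := MonoidHom.mem_ker.1 (h hn)
          rw [← Representation.asGroupHom_apply, h', Units.val_one]
        · refine MonoidHom.mem_ker.2 (Units.ext ?_)
          rw [Representation.asGroupHom_apply, Units.val_one, map_mul, map_mul, map_mul, hω',
            mul_smul_comm, mul_one, smul_mul_assoc, ← map_mul, mul_inv_cancel, map_one, ← hω',
            ← map_mul, mul_inv_cancel, map_one]
      have hall : ∀ g, ∃ i : ℕ, ρ g = ω ^ i • (1 : Module.End ℂ (Fin d → ℂ)) := by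
        intro g
        obtain ⟨n, hn, i, rfl⟩ := hgen g
        exact ⟨i, by rw [map_mul, hkerN n hn, one_mul, map_pow, hω', smul_pow, one_pow]⟩
      haveI := nontrivial_of_irreducible ρ
      have hωq : ω ^ q = 1 := by
        have h : ρ (x ^ q) = 1 := by rw [hx, map_one]
        rw [map_pow, hω', smul_pow, one_pow] at h
        exact smul_left_injective ℂ (one_ne_zero (α := Module.End ℂ (Fin d → ℂ)))
          (h.trans (one_smul ℂ _).symm)
      have hω0 : ω ≠ 0 := fun e => by rw [e, zero_pow hq.ne_zero] at hωq; exact zero_ne_one hωq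
      have hval : ∀ g, ∃ i : ℕ, ρ.character g = ω ^ i * dd := fun g => by
        obtain ⟨i, hi⟩ := hall g
        exact ⟨i, by
          show LinearMap.trace ℂ _ (ρ g) = _
          rw [hi, map_smul, LinearMap.trace_one, smul_eq_mul]⟩
      have hnormω : ‖ω‖ = 1 :=
        (pow_eq_one_iff_of_nonneg (norm_nonneg ω) hq.ne_zero).1 (by rw [← norm_pow, hωq, norm_one])
      have hd1 : dd = 1 := by
        have h2 := inner_char_self_sum ρ
        rw [Finset.sum_congr rfl (g := fun _ => ((dd * dd : ℕ) : ℂ)) fun g _ => ?_] at h2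
        · simp only [Finset.sum_const, nsmul_eq_mul, Finset.card_univ,
            ← Nat.card_eq_fintype_card] at h2
          exact Nat.eq_one_of_mul_eq_one_left
            (by exact_mod_cast mul_left_cancel₀ (natCard_ne_zero G) (h2.trans (mul_one _).symm))
        · obtain ⟨i, hi⟩ := hval g
          rw [hi, Complex.mul_conj, Complex.normSq_eq_norm_sq, norm_mul, norm_pow, hnormω, one_pow,
            one_mul, Complex.norm_natCast]
          push_cast
          ring
      have hxval : (χ : G → ℂ) x = ω := by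
        rw [← he]
        show LinearMap.trace ℂ _ (ρ x) = _
        rw [hω', map_smul, LinearMap.trace_one, ← hdd, hd1, Nat.cast_one, smul_eq_mul, mul_one]
      have hone : (χ : G → ℂ) 1 = 1 := by rw [← he, ρ.char_one, ← hdd, hd1, Nat.cast_one]
      -- `ω` is congruent to one
      have hω1 : ω = 1 := by
        have e : (a : ℂ) / (b : ℂ) = (c : ℂ) * (1 - ω) := by
          rw [hab]
          simp only [centralChar, hxval, hone, div_one, ← hc]
          ring
        by_contra hne
        have hωint : IsIntegral ℤ ω := IsIntegral.of_pow hq.pos (by rw [hωq]; exact isIntegral_one)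
        set w : AlgInt := ⟨ω, hωint⟩ with hw
        rw [div_eq_iff (not_mem_ne_zero hb)] at e
        have e' : a = (c : AlgInt) * (1 - w) * b := Subtype.ext (by push_cast; exact e)
        have hwM : 1 - w ∈ M := by
          by_contra hn
          exact mul_not_mem hM (mul_not_mem hM hcM hn) hb (e' ▸ ha)
        have hgeom : ∑ i ∈ Finset.range q, w ^ i = 0 := Subtype.ext (by
          push_cast
          rw [geom_sum_eq hne, hωq, sub_self, zero_div])
        refine hpM q hq (Ne.symm hrq) ?_
        have hd2 : ∀ i : ℕ, 1 - w ^ i ∈ M := fun i => by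
          rw [show 1 - w ^ i = (∑ j ∈ Finset.range i, w ^ j) * (1 - w) from (geom_sum_mul_neg w i).symm]
          exact M.mul_mem_left _ hwM
        have h := sum_mem (t := Finset.range q) (f := fun i => 1 - w ^ i) fun i _ => hd2 i
        rwa [Finset.sum_sub_distrib, hgeom, sub_zero, Finset.sum_const, Finset.card_range,
          nsmul_one] at h
      refine hχ (Subtype.ext (funext fun g => ?_))
      obtain ⟨i, hi⟩ := hval g
      rw [← he, hi, hd1, hω1, one_pow, Nat.cast_one, one_mul]
      rfl
  choose! w hw1 hw2 using hterm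
  set B := principalBlock (G := G) M with hB
  set T := (Finset.univ.erase (trivIrr G)).filter (· ∈ principalBlock M G) with hT
  have hsplit : (1 : ℂ) + (p : ℂ) * ∑ χ ∈ T, w χ = 0 := by
    rw [Finset.mul_sum, ← hsum,
      ← Finset.add_sum_erase Finset.univ _ (Finset.mem_univ (trivIrr G)), hT, Finset.sum_filter]
    refine congrArg₂ _ (by rw [indVal, if_pos (trivIrr_mem_principal hM)]; simp [trivIrr]) ?_
    refine Finset.sum_congr rfl fun χ hχ => ?_
    by_cases hχB : χ ∈ principalBlock M G
    · rw [if_pos hχB, indVal, if_pos hχB, one_mul, hw2 χ hχB (Finset.ne_of_mem_erase hχ)]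
    · rw [if_neg hχB, indVal, if_neg hχB, zero_mul, zero_mul]
  have hint : IsIntegral ℤ ((((-1 : ℤ)) : ℂ) / (((p : ℤ)) : ℂ)) := by
    have h1 : (((-1 : ℤ)) : ℂ) / (((p : ℤ)) : ℂ) = ∑ χ ∈ T, w χ := by
      rw [div_eq_iff (by exact_mod_cast hp.ne_zero)]
      push_cast
      linear_combination -hsplit
    rw [h1]
    exact IsIntegral.sum _ fun χ hχ => hw1 χ (Finset.mem_filter.1 hχ).2
      (Finset.ne_of_mem_erase (Finset.mem_filter.1 hχ).1)
  have h2 := intCast_dvd_of_isIntegral_div (by exact_mod_cast hp.ne_zero) hint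
  rw [dvd_neg] at h2
  exact hp.ne_one (Nat.dvd_one.mp (Int.natCast_dvd_natCast.mp h2))

/-- Without solvable normal subgroups only the identity has class of prime-power size. -/
theorem eq_one_of_no_solvable {G : Type u} [Group G] [Finite G] {p k : ℕ} (hp : p.Prime)
    (hG : ∀ M : Subgroup G, M.Normal → Group.IsSolvable M → M = ⊥) {x : G}
    (hx : (Subgroup.centralizer ({x} : Set G)).index ∣ p ^ k) : x = 1 := by
  classical
  by_contra hx1
  have ho : orderOf x ≠ 1 := fun h => hx1 (orderOf_eq_one_iff.1 h)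
  obtain ⟨q, hq, hqo⟩ := Nat.exists_prime_and_dvd ho
  set y := x ^ (orderOf x / q) with hy
  have hyo : orderOf y = q := orderOf_pow_orderOf_div (orderOf_pos x).ne' hqo
  have hyk : (Subgroup.centralizer ({y} : Set G)).index ∣ p ^ k :=
    (Subgroup.index_dvd_of_le (fun g hg => Subgroup.mem_centralizer_singleton_iff.2
      ((show Commute g x from Subgroup.mem_centralizer_singleton_iff.1 hg).pow_right _).eq)).trans hx
  set C := Subgroup.centralizer ({y} : Set G) with hC
  let P : Subgroup G → Prop := fun T => (∀ t ∈ T, y * t * y⁻¹ ∈ T) ∧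
    (∀ M : Subgroup T, M.Normal → Group.IsSolvable M → M = ⊥) ∧ ¬ T ≤ C ∧ C.relIndex T ∣ p ^ k
  have hPtop : P ⊤ := by
    refine ⟨fun t _ => Subgroup.mem_top _, fun M hM hMs => ?_, fun h => ?_, by
      rw [Subgroup.relIndex_top_right]; exact hyk⟩
    · haveI := hMs
      have := hG (M.map (⊤ : Subgroup G).subtype)
        (hM.map _ fun g => ⟨⟨g, Subgroup.mem_top g⟩, rfl⟩)
        (Group.isSolvable_of_surjective ((⊤ : Subgroup G).subtype.subgroupMap_surjective M))
      exact (Subgroup.map_eq_bot_iff_of_injective _ (⊤ : Subgroup G).subtype_injective).1 this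
    · have hyc : y ∈ Subgroup.center G := Subgroup.mem_center_iff.2 fun g =>
        Subgroup.mem_centralizer_singleton_iff.1 (h (Subgroup.mem_top g))
      rw [hG (Subgroup.center G) inferInstance (Group.isSolvable_of_comm mul_comm), Subgroup.mem_bot] at hyc
      rw [hyc, orderOf_one] at hyo
      exact hq.ne_one hyo.symm
  obtain ⟨T, ⟨hTy, hTs, hTC, hTk⟩, hTmin⟩ :=
    (Set.toFinite {T : Subgroup G | P T}).exists_minimal ⟨⊤, hPtop⟩
  set T' := Subgroup.closure {z : G | ∃ t ∈ T, t * y * t⁻¹ * y⁻¹ = z} with hT'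
  have hgenT : ∀ t ∈ T, t * y * t⁻¹ * y⁻¹ ∈ T := fun t ht => by
    rw [show t * y * t⁻¹ * y⁻¹ = t * (y * t⁻¹ * y⁻¹) by group]
    exact mul_mem ht (hTy _ (inv_mem ht))
  have hT'T : T' ≤ T := by
    rw [hT', Subgroup.closure_le]
    rintro _ ⟨t, ht, rfl⟩
    exact hgenT t ht
  have hT'n : ∀ t ∈ T, ∀ z ∈ T', t * z * t⁻¹ ∈ T' := by
    intro t ht z hz
    refine (show T' ≤ T'.comap (MulAut.conj t).toMonoidHom by
      conv_lhs => rw [hT']
      rw [Subgroup.closure_le]
      rintro _ ⟨u, hu, rfl⟩
      show t * (u * y * u⁻¹ * y⁻¹) * t⁻¹ ∈ T'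
      rw [show t * (u * y * u⁻¹ * y⁻¹) * t⁻¹ =
        (t * u * y * (t * u)⁻¹ * y⁻¹) * (t * y * t⁻¹ * y⁻¹)⁻¹ by group]
      exact mul_mem (Subgroup.subset_closure ⟨t * u, mul_mem ht hu, rfl⟩)
        (inv_mem (Subgroup.subset_closure ⟨t, ht, rfl⟩))) hz
  have hT'y : ∀ z ∈ T', y * z * y⁻¹ ∈ T' := by
    intro z hz
    refine (show T' ≤ T'.comap (MulAut.conj y).toMonoidHom by
      conv_lhs => rw [hT']
      rw [Subgroup.closure_le]
      rintro _ ⟨u, hu, rfl⟩
      show y * (u * y * u⁻¹ * y⁻¹) * y⁻¹ ∈ T'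
      exact Subgroup.subset_closure ⟨y * u * y⁻¹, hTy u hu, by group⟩) hz
  -- no solvable normal subgroups in `T'`
  obtain ⟨R, hRn, hRs, hRmax⟩ := exists_greatest (G := T')
  have hR : R = ⊥ := by
    haveI := hRs
    have hn : ((R.map T'.subtype).subgroupOf T).Normal := ⟨fun a ha t => by
      obtain ⟨r, hr, hre⟩ := Subgroup.mem_subgroupOf.1 ha
      let e : MulAut T' := MulEquiv.mk'
        { toFun := fun z => ⟨(t : G) * z * (t : G)⁻¹, hT'n t t.2 z z.2⟩
          invFun := fun z => ⟨(t : G)⁻¹ * z * (t : G), by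
            simpa using hT'n (t : G)⁻¹ (inv_mem t.2) z z.2⟩
          left_inv := fun z => Subtype.ext (by simp [mul_assoc])
          right_inv := fun z => Subtype.ext (by simp [mul_assoc]) }
        (fun z z' => Subtype.ext (by simp [mul_assoc]))
      haveI : Group.IsSolvable (R.map e.toMonoidHom) :=
        Group.isSolvable_of_surjective (e.toMonoidHom.subgroupMap_surjective R)
      have hle := hRmax (R.map e.toMonoidHom) (hRn.map _ e.surjective) inferInstance
      rw [Subgroup.mem_subgroupOf]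
      refine ⟨e r, hle (Subgroup.mem_map_of_mem _ hr), ?_⟩
      show (t : G) * (r : G) * (t : G)⁻¹ = _
      rw [show (r : G) = (a : G) from hre]
      rfl⟩
    have hs : Group.IsSolvable ((R.map T'.subtype).subgroupOf T) := by
      haveI : Group.IsSolvable (R.map T'.subtype) :=
        Group.isSolvable_of_surjective (T'.subtype.subgroupMap_surjective R)
      exact Group.isSolvable_of_surjective (f := (Subgroup.subgroupOfEquivOfLe
        ((Subgroup.map_subtype_le R).trans hT'T)).symm.toMonoidHom) (MulEquiv.surjective _)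
    have h := hTs _ hn hs
    rw [Subgroup.subgroupOf_eq_bot, disjoint_iff,
      inf_eq_left.2 ((Subgroup.map_subtype_le R).trans hT'T)] at h
    exact (Subgroup.map_eq_bot_iff_of_injective _ T'.subtype_injective).1 h
  have hT's : ∀ M : Subgroup T', M.Normal → Group.IsSolvable M → M = ⊥ :=
    fun M h1 h2 => le_bot_iff.1 (hR ▸ hRmax M h1 h2)
  have hT'C : ¬ T' ≤ C := by
    intro h
    refine hTC fun t ht => Subgroup.mem_centralizer_singleton_iff.2 ?_
    set z := t⁻¹ * y * t * y⁻¹ with hz
    have hzT : z ∈ T' := Subgroup.subset_closure ⟨t⁻¹, inv_mem ht, by rw [inv_inv]⟩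
    have hzc : (⟨z, hzT⟩ : T') ∈ Subgroup.center T' := by
      refine Subgroup.mem_center_iff.2 fun n => Subtype.ext ?_
      have h1 : y * (t * (n : G) * t⁻¹) = t * (n : G) * t⁻¹ * y :=
        (Subgroup.mem_centralizer_singleton_iff.1 (h (hT'n t ht n n.2))).symm
      have h2 : y * (n : G) = (n : G) * y :=
        (Subgroup.mem_centralizer_singleton_iff.1 (h n.2)).symm
      show (n : G) * z = z * (n : G)
      calc (n : G) * z = t⁻¹ * (t * (n : G) * t⁻¹ * y) * t * y⁻¹ := by rw [hz]; group
        _ = t⁻¹ * (y * (t * (n : G) * t⁻¹)) * t * y⁻¹ := by rw [h1]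
        _ = t⁻¹ * y * t * ((n : G) * y⁻¹) := by group
        _ = t⁻¹ * y * t * (y⁻¹ * (n : G)) := by
          rw [(show Commute y (n : G) from h2).inv_left.eq]
        _ = z * (n : G) := by rw [hz]; group
    rw [hT's (Subgroup.center T') inferInstance (Group.isSolvable_of_comm mul_comm), Subgroup.mem_bot] at hzc
    have hz1 : t⁻¹ * y * t * y⁻¹ = 1 := congrArg Subtype.val hzc
    rw [mul_inv_eq_one, mul_assoc, inv_mul_eq_iff_eq_mul] at hz1
    exact hz1.symm
  have hT'k : C.relIndex T' ∣ p ^ k := by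
    haveI : (T'.subgroupOf T).Normal := ⟨fun a ha t => hT'n t t.2 _ ha⟩
    refine dvd_trans ?_ hTk
    rw [← Subgroup.relIndex_subgroupOf hT'T]
    show (C.subgroupOf T).relIndex (T'.subgroupOf T) ∣ (C.subgroupOf T).index
    have hCn : C.subgroupOf T ≤ Subgroup.normalizer (T'.subgroupOf T : Set T) := by
      rw [Subgroup.normalizer_eq_top]; exact le_top
    have h1 := CfsgLib.Core.card_sup_mul_card_inf hCn
    rw [← CfsgLib.Core.card_inf_mul_relIndex (C.subgroupOf T) (T'.subgroupOf T)] at h1
    have h2 : Nat.card ↥(C.subgroupOf T ⊔ T'.subgroupOf T) =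
        Nat.card ↥(C.subgroupOf T) * (C.subgroupOf T).relIndex (T'.subgroupOf T) := by
      refine Nat.eq_of_mul_eq_mul_right
        (Nat.card_pos : 0 < Nat.card ↥(C.subgroupOf T ⊓ T'.subgroupOf T)) ?_
      rw [h1]; ring
    refine Nat.dvd_of_mul_dvd_mul_left (Nat.card_pos : 0 < Nat.card ↥(C.subgroupOf T)) ?_
    rw [← h2, Subgroup.card_mul_index]
    exact Subgroup.card_subgroup_dvd_card _
  have hTT' : T' = T := le_antisymm hT'T (hTmin (y := T') ⟨hT'y, hT's, hT'C, hT'k⟩ hT'T)
  -- the group `T ⟨y⟩`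
  have hnorm : Subgroup.zpowers y ≤ Subgroup.normalizer (T : Set G) :=
    Subgroup.zpowers_le.2 (Subgroup.mem_normalizer_fintype fun t ht => hTy t ht)
  set H := T ⊔ Subgroup.zpowers y with hH
  have hyH : y ∈ H := Subgroup.mem_sup_right (Subgroup.mem_zpowers y)
  set N := T.subgroupOf H with hN
  haveI hNn : N.Normal := Subgroup.normal_subgroupOf_iff_le_normalizer le_sup_left |>.2
    (sup_le Subgroup.le_normalizer hnorm)
  obtain ⟨r, hr, hrp, hrq, hrN⟩ : ∃ r, r.Prime ∧ r ≠ p ∧ r ≠ q ∧ r ∣ Nat.card T := by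
    by_contra hcon
    push Not at hcon
    have hsolv : Group.IsSolvable T := by
      by_cases hpq : p = q
      · refine burnside_pq hp hp _ T (Nat.card T).primeFactorsList.length 0 rfl ?_
        rw [pow_zero, mul_one]
        exact Nat.eq_prime_pow_of_unique_prime_dvd Nat.card_pos.ne' fun {d} hd hdvd => by
          by_contra hne
          exact hcon d hd hne (hpq ▸ hne) hdvd
      · refine burnside_pq hp hq _ T ((Nat.card T).factorization p) ((Nat.card T).factorization q) rfl ?_
        conv_lhs => rw [Nat.prod_primeFactors_pow_factorization Nat.card_pos.ne']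
        have hsub : (Nat.card T).primeFactors ⊆ {p, q} := fun d hd => by
          obtain ⟨hd, hdvd, -⟩ := Nat.mem_primeFactors.1 hd
          rw [Finset.mem_insert, Finset.mem_singleton]
          by_contra hne
          rw [not_or] at hne
          exact hcon d hd hne.1 hne.2 hdvd
        rw [Finset.prod_subset hsub (fun d _ hd => by
          rw [← Nat.support_factorization, Finsupp.notMem_support_iff] at hd
          rw [hd, pow_zero]), Finset.prod_pair hpq]
    have h := hTs ⊤ inferInstance (Group.isSolvable_of_surjective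
      (f := (Subgroup.topEquiv (G := T)).symm.toMonoidHom) (MulEquiv.surjective _))
    refine hTC fun t ht => ?_
    have : (⟨t, ht⟩ : T) ∈ (⊥ : Subgroup T) := h ▸ Subgroup.mem_top _
    rw [Subgroup.mem_bot] at this
    rw [show t = 1 from congrArg Subtype.val this]
    exact one_mem C
  refine core (G := H) N (k := k) hp hq hr hrp hrq ?_ ⟨y, hyH⟩ ?_ ?_ ?_ ?_
  · rwa [hN, Nat.card_congr (Subgroup.subgroupOfEquivOfLe (le_sup_left : T ≤ H)).toEquiv]
  · exact Subtype.ext (show y ^ q = 1 by rw [← hyo, pow_orderOf_eq_one])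
  · have e : Subgroup.centralizer ({⟨y, hyH⟩} : Set H) = C.subgroupOf H := by
      ext g
      rw [Subgroup.mem_subgroupOf, Subgroup.mem_centralizer_singleton_iff, hC,
        Subgroup.mem_centralizer_singleton_iff, Subtype.ext_iff]
      rfl
    rw [e]
    show C.relIndex H ∣ p ^ k
    have hz : Subgroup.zpowers y ≤ C := Subgroup.zpowers_le.2
      (Subgroup.mem_centralizer_singleton_iff.2 rfl)
    refine dvd_trans (dvd_of_eq ?_) hTk
    have hAN : C ⊓ H ≤ Subgroup.normalizer (T : Set G) :=
      inf_le_right.trans (sup_le Subgroup.le_normalizer hnorm)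
    have hsup : (C ⊓ H) ⊔ T = H := le_antisymm (sup_le inf_le_right le_sup_left)
      (sup_le le_sup_right (le_sup_of_le_left (le_inf hz le_sup_right)))
    have hcs := CfsgLib.Core.card_sup_mul_card_inf hAN
    rw [hsup, inf_assoc, inf_eq_right.2 (le_sup_left : T ≤ H)] at hcs
    have h1 := CfsgLib.Core.card_inf_mul_relIndex C H
    have h2 := CfsgLib.Core.card_inf_mul_relIndex C T
    rw [← h1, ← h2] at hcs
    have hpos : 0 < Nat.card ↥(C ⊓ H) * Nat.card ↥(C ⊓ T) := Nat.mul_pos Nat.card_pos Nat.card_pos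
    refine Nat.eq_of_mul_eq_mul_left hpos ?_
    linarith
  · rintro ⟨g, hg⟩
    obtain ⟨t, ht, z, hz, rfl⟩ := (CfsgLib.Core.mem_sup_iff_of_le_normalizer' hnorm).1 (by rwa [hH, sup_comm] at hg)
    obtain ⟨i, hi⟩ := (mem_powers_iff_mem_zpowers (x := y) (y := z)).2 hz
    obtain rfl : y ^ i = z := hi
    exact ⟨⟨t, Subgroup.mem_sup_left ht⟩, ht, i, Subtype.ext rfl⟩
  · intro K hK hcom z hz
    have hle : T' ≤ K.map H.subtype := by
      rw [hT', Subgroup.closure_le]
      rintro _ ⟨t, ht, rfl⟩
      exact ⟨_, hcom ⟨t, Subgroup.mem_sup_left ht⟩ ht, rfl⟩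
    obtain ⟨z', hz', he⟩ := hle (hTT'.ge hz)
    exact Subtype.ext he ▸ hz'

/-- If an element x of a finite group G has a conjugacy class of prime-power size, then the normal closure of x in G (the subgroup generated by the conjugacy class of x) is solvable. -/
theorem result {G : Type*} [Group G] [Finite G]
    (x : G) {p : ℕ} (hp : p.Prime) (k : ℕ) (hx : (ConjClasses.mk x).carrier.ncard = p ^ k) :
    Group.IsSolvable ↥(Subgroup.normalClosure ({x} : Set G)) := by
  haveI := Fact.mk hp
  classical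
  obtain ⟨R, hRn, hRs, hRmax⟩ := exists_greatest (G := G)
  haveI := hRn
  suffices hxR : x ∈ R by
    haveI := hRs
    exact solvable_of_solvable_injective (f := Subgroup.inclusion
      (Subgroup.normalClosure_le_normal (Set.singleton_subset_iff.2 hxR)))
      (Subgroup.inclusion_injective _)
  by_contra hxR
  refine hxR ((QuotientGroup.eq_one_iff x).1 (eq_one_of_no_solvable (k := k) hp ?_ ?_))
  · intro M hMn hMs
    have hle : M.comap (QuotientGroup.mk' R) ≤ R := by
      refine hRmax _ (hMn.comap _) ?_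
      exact isSolvable_comap R hRs M hMs
    rw [← Subgroup.map_comap_eq_self_of_surjective (QuotientGroup.mk'_surjective R) M,
      Subgroup.map_eq_bot_iff, QuotientGroup.ker_mk']
    exact hle
  · have hidx : (Subgroup.centralizer ({x} : Set G)).index = p ^ k := by
      rw [← hx, index_centralizer_eq]
    refine (Subgroup.index_dvd_of_le ?_).trans
      ((Subgroup.index_map_dvd _ (QuotientGroup.mk'_surjective R)).trans hidx.dvd)
    rintro _ ⟨g, hg, rfl⟩
    refine Subgroup.mem_centralizer_singleton_iff.2 ?_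
    show (g : G ⧸ R) * (x : G ⧸ R) = (x : G ⧸ R) * (g : G ⧸ R)
    rw [← QuotientGroup.mk_mul, ← QuotientGroup.mk_mul, Subgroup.mem_centralizer_singleton_iff.1 hg]

end Cfsg.Agent.S4037
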