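import Cfsg.Statements.S0320
import Cfsg.Agent.Lib.LieCoxeter

set_option autoImplicit false
open Cfsg

namespace Cfsg.Agent.S0320

/-- The Weyl group `W = N / (B ⊓ N)` of a (B,N)-pair, with its distinguished involutions, is a Coxeter system. -/
theorem result {G : Type*} [Group G] (P : Cfsg.BNPair G)
    [hN : ((P.B ⊓ P.N).subgroupOf P.N).Normal] :
    ∃ (M : CoxeterMatrix P.S) (cs : CoxeterSystem M (P.N ⧸ (P.B ⊓ P.N).subgroupOf P.N)),
      ∀ s : P.S, cs.simple s = QuotientGroup.mk (⟨(s : G), P.subset s.2⟩ : P.N) := by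
  classical
  set T := (P.B ⊓ P.N).subgroupOf P.N with hT
  let gs : P.S → P.N ⧸ T := fun s => QuotientGroup.mk (⟨(s : G), P.subset s.2⟩ : P.N)
  have hsim : ∀ a b : P.N, (QuotientGroup.mk a : P.N ⧸ T) = QuotientGroup.mk b ↔
      CfsgLib.BN.Sim P (a : G) (b : G) := by
    intro a b
    rw [QuotientGroup.eq, hT, Subgroup.mem_subgroupOf]
    rfl
  have hone : ∀ a : P.N, (QuotientGroup.mk a : P.N ⧸ T) = 1 ↔ CfsgLib.BN.Sim P (a : G) 1 := by
    intro a; rw [← QuotientGroup.mk_one, hsim]; rfl
  have hsq : ∀ s : P.S, gs s * gs s = 1 := by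
    intro s
    rw [← QuotientGroup.mk_mul, hone]
    exact CfsgLib.BN.sq_sim P s.2
  have hne : ∀ s t : P.S, gs s * gs t = 1 → s = t := by
    intro s t h
    rw [← QuotientGroup.mk_mul, hone] at h
    refine CfsgLib.BN.sim_gen_eq P ?_
    exact CfsgLib.BN.sim_symm P (CfsgLib.BN.sim_trans P
      (CfsgLib.BN.sim_symm P (CfsgLib.BN.sim_cancel P s.2 (CfsgLib.BN.mem_N P t.2)))
      (by simpa using CfsgLib.BN.sim_mul_left P (s : G) h))
  have hinv : ∀ s : P.S, (gs s)⁻¹ = gs s := fun s => inv_eq_of_mul_eq_one_right (hsq s)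
  let M : CoxeterMatrix P.S :=
    { M := Matrix.of fun s t => orderOf (gs s * gs t)
      isSymm := by
        refine Matrix.ext fun s t => ?_
        simp only [Matrix.transpose_apply, Matrix.of_apply]
        conv_lhs => rw [← orderOf_inv, mul_inv_rev, hinv, hinv]
      diagonal := fun s => by
        simp only [Matrix.of_apply, hsq, orderOf_one]
      off_diagonal := fun s t hst h => by
        simp only [Matrix.of_apply, orderOf_eq_one_iff] at h
        exact hst (hne s t h) }
  have hM : CfsgLib.BN.IsWeylMatrix P M := by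
    intro s t i
    show _ ↔ orderOf (gs s * gs t) ∣ i
    rw [orderOf_dvd_iff_pow_eq_one, ← QuotientGroup.mk_mul, ← QuotientGroup.mk_pow, hone]
    rfl
  have hlift : M.IsLiftable gs := fun s t => pow_orderOf_eq_one _
  let φ : M.Group →* P.N ⧸ T := (M.toCoxeterSystem.lift ⟨gs, hlift⟩)
  have hφ : ∀ s, φ (M.simple s) = gs s := fun s => M.toCoxeterSystem.lift_apply_simple hlift s
  have hφl : ∀ l : List P.S, φ ((l.map M.simple).prod) =
      QuotientGroup.mk (⟨CfsgLib.BN.wordVal P l, CfsgLib.BN.wordVal_mem P l⟩ : P.N) := by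
    intro l
    induction l with
    | nil => simp only [List.map_nil, List.prod_nil, map_one]; rfl
    | cons s l ih =>
      rw [List.map_cons, List.prod_cons, map_mul, hφ, ih, ← QuotientGroup.mk_mul]
      congr 1
  have hf : CfsgLib.BN.IsLiftable P M.simple M := fun s t => by
    have := M.toCoxeterSystem.simple_mul_simple_pow s t
    simpa [CoxeterMatrix.toCoxeterSystem_simple] using this
  have hinj : Function.Injective φ := by
    rw [injective_iff_map_eq_one]
    intro x hx
    obtain ⟨l, rfl⟩ := M.toCoxeterSystem.wordProd_surjective x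
    have hl : M.toCoxeterSystem.wordProd l = (l.map M.simple).prod := by
      simp [CoxeterSystem.wordProd, CoxeterMatrix.toCoxeterSystem_simple]
    rw [hl] at hx ⊢
    rw [hφl, hone] at hx
    obtain ⟨l', hlen, hs, he⟩ := CfsgLib.BN.exists_reduced_image P M.simple hM hf l
    rw [CfsgLib.BN.len_congr P (CfsgLib.BN.sim_trans P hs hx), CfsgLib.BN.len_one,
      List.length_eq_zero_iff] at hlen
    rw [← he, hlen, List.map_nil, List.prod_nil]
  have hsurj : Function.Surjective φ := by
    intro q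
    obtain ⟨⟨n, hn⟩, rfl⟩ := QuotientGroup.mk_surjective q
    obtain ⟨l, -, hs⟩ := CfsgLib.BN.exists_reduced_sub' P hn
    exact ⟨(l.map M.simple).prod, by rw [hφl, hsim]; exact hs⟩
  refine ⟨M, ⟨(MulEquiv.ofBijective φ ⟨hinj, hsurj⟩).symm⟩, fun s => ?_⟩
  show (MulEquiv.ofBijective φ ⟨hinj, hsurj⟩).symm.symm (M.simple s) = _
  exact hφ s

end Cfsg.Agent.S0320
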