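import Cfsg.Statements.S0319
import Cfsg.Agent.Lib.LieBN

set_option autoImplicit false
open Cfsg

namespace Cfsg.Agent.S0319

/-- Simplicity criterion for groups with a (B,N)-pair: if the distinguished generators admit no
splitting into two non-empty mutually commuting parts, `B` is solvable, `G` is perfect and the intersection
of all conjugates of `B` is trivial, then `G` is simple. -/
theorem result {G : Type*} [Group G] [Nontrivial G]
    (P : Cfsg.BNPair G) (hirr : P.Irreducible) (hsolv : Group.IsSolvable P.B) (hperf : commutator G = ⊤)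
    (hcore : P.B.normalCore = ⊥) : IsSimpleGroup G := by
  open CfsgLib.BN in
  refine { exists_pair_ne := exists_pair_ne G, eq_bot_or_eq_top_of_normal := fun K hK => ?_ }
  have hmem : ∀ g : G, g ∈ P.B ⊔ K ↔ ∃ b ∈ P.B, ∃ k ∈ K, b * k = g := fun g => by
    rw [← SetLike.mem_coe, Subgroup.mul_normal, Set.mem_mul]
    simp
  have hP := CfsgLib.BN.eq_parabolic P (le_sup_left : P.B ≤ P.B ⊔ K)
  set J : Set G := {s | s ∈ P.S ∧ s ∈ P.B ⊔ K} with hJdef
  by_cases hne : J.Nonempty
  · by_cases hne' : (P.S \ J).Nonempty
    · obtain ⟨s, hs, r, hr, hcomm⟩ := hirr J (fun s hs => hs.1) hne hne'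
      refine absurd ?_ hcomm
      have hsS : s ∈ P.S := hs.1
      have hrS : r ∈ P.S := hr.1
      obtain ⟨b, hb, k, hk, hbk⟩ := (hmem s).1 hs.2
      have hkd : k ∈ CfsgLib.BN.dc P s := by
        have : k = b⁻¹ * s := by rw [← hbk]; group
        rw [this]
        exact CfsgLib.BN.mul_mem_dc_left P (inv_mem hb) (CfsgLib.BN.mem_dc_self P s)
      have hsN := CfsgLib.BN.mem_N P hsS
      have hrN := CfsgLib.BN.mem_N P hrS
      have hne1 : len P (r * s) ≠ len P s := len_gen_mul_ne P hrS hsN
      have hrs2 : len P (r * s) = 2 := by
        have h1 := len_gen_mul_le P hrS hsN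
        rw [len_gen P hsS] at h1 hne1
        by_contra hcon
        have h0 : len P (r * s) = 0 := by omega
        have hT := mem_torus_of_len P (mul_mem hrN hsN) h0
        have h2 : r⁻¹ * s ∈ P.B := by
          have hsq : r⁻¹ * r⁻¹ ∈ P.B := by
            rw [← mul_inv_rev]; exact inv_mem (P.sq_mem r hrS)
          have := mul_mem hsq hT.1
          simpa [mul_assoc] using this
        exact hr.2 (P.inj r hrS s hsS h2 ▸ hs)
      -- the conjugate of `k` by `r`
      have hrk : r * k ∈ dc P (r * s) :=
        gen_mul_of_len P hrS hsN (by rw [len_gen P hsS]; omega) (mem_dc_self P r) hkd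
      by_cases hlt : len P (r * s * r) < len P (r * s)
      · -- `r s r` has length one
        have hs' : len P (r * (s * r)) < len P (s * r) := by
          have hsr : len P (s * r) = 2 := by
            rw [← hrs2, ← len_inv P (mul_mem hrN hsN), mul_inv_rev]
            exact (len_congr P (sim_mul P (inv_mem hrN) (inv_sim P hsS) (inv_sim P hrS))).symm
          rw [hsr, ← mul_assoc]; omega
        obtain ⟨i, hi, hsim⟩ := exchange P hrS (l := [s, r]) (by simp [Over, hsS, hrS]) (by simpa using hs')
        simp only [List.length_cons, List.length_nil] at hi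
        interval_cases i
        · -- `r s r ~ r`, impossible
          simp only [List.prod_cons, List.prod_nil, mul_one, List.eraseIdx_cons_zero] at hsim
          have h1 := sim_trans P (sim_symm P (sim_cancel P hrS (mul_mem hsN hrN)))
            (sim_trans P (sim_mul_left P r hsim) (sq_sim P hrS))
          exfalso
          have h2 : r⁻¹ * s ∈ P.B := by
            have h3 : Sim P s r := by
              have := sim_mul_right P (inv_mem hrN) h1
              simp only [mul_inv_cancel_right, one_mul] at this
              exact sim_trans P this (inv_sim P hrS)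
            exact (sim_symm P h3).1
          exact hr.2 (P.inj r hrS s hsS h2 ▸ hs)
        · simp only [List.eraseIdx_cons_succ, List.eraseIdx_cons_zero, List.prod_cons, List.prod_nil,
            mul_one] at hsim
          have h1 : Sim P (s * r) (r * s) :=
            sim_trans P (sim_symm P (sim_cancel P hrS (mul_mem hsN hrN))) (sim_mul_left P r hsim)
          have h2 := sim_mul_right P (inv_mem hsN) (sim_mul_right P (inv_mem hrN)
            (sim_refl P (s * r)))
          have h3 : Sim P (s * r) (r * s) := h1
          have h4 := (sim_mul_right P (mul_mem (inv_mem hsN) (inv_mem hrN))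
            (sim_symm P h3)).1
          have h5 : (r * s * (s⁻¹ * r⁻¹))⁻¹ * (s * r * (s⁻¹ * r⁻¹)) = s * r * s⁻¹ * r⁻¹ := by group
          rwa [h5] at h4
      · exfalso
        have hmem3 : r * k * r⁻¹ ∈ dc P (r * s * r) :=
          mul_gen_of_len P hrS (mul_mem hrN hsN) (by omega) hrk
            (by rw [← dc_inv_gen P hrS]; exact mem_dc_self P _)
        have hin : r * k * r⁻¹ ∈ P.B ⊔ K := Subgroup.mem_sup_right (hK.conj_mem k hk r)
        obtain ⟨c, hc, c', hc', he⟩ := (mem_dc P).1 hmem3
        have hB : P.B ≤ P.B ⊔ K := le_sup_left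
        have hrsr : r * s * r ∈ P.B ⊔ K := by
          have := mul_mem (mul_mem (inv_mem (hB hc)) hin) (inv_mem (hB hc'))
          rw [he] at this
          simpa [mul_assoc] using this
        have hN : r * s * r ∈ P.N := mul_mem (mul_mem hrN hsN) hrN
        have hlen : [r, s, r].length = len P (r * s * r) := by
          have h1 : len P (r * s * r) ≤ 3 :=
            len_le P (l := [r, s, r]) (by simp [Over, hsS, hrS]) (sim_of_eq P (by simp [mul_assoc]))
          have h2 : len P (r * s * r) ≠ len P (r * s) := by
            have h3 := len_gen_mul_ne P hrS (inv_mem (mul_mem hrN hsN))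
            rw [len_inv P (mul_mem hrN hsN)] at h3
            rw [← len_inv P hN]
            intro h4
            apply h3
            rw [← h4]
            refine len_congr P ?_
            rw [mul_inv_rev (r * s)]
            exact sim_mul_right P (inv_mem (mul_mem hrN hsN)) (sim_symm P (inv_sim P hrS))
          simp only [List.length_cons, List.length_nil]
          omega
        exact hr.2 ⟨hrS, mem_of_conj_le P (P.B ⊔ K) le_sup_left _ hN
          (fun x hx => mul_mem (mul_mem hrsr (hB hx)) (inv_mem hrsr)) [r, s, r]
          (by simp [Over, hsS, hrS]) hlen (sim_of_eq P (by simp [mul_assoc])) r (by simp)⟩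
    · -- `B K = G`
      rw [Set.not_nonempty_iff_eq_empty, Set.sdiff_eq_empty] at hne'
      right
      have htop : P.B ⊔ K = ⊤ := by
        rw [hP, eq_top_iff, ← P.sup_eq_top]
        refine sup_le le_sup_left ?_
        rw [← P.closure_sup]
        exact sup_le ((Subgroup.closure_mono hne').trans le_sup_right) (inf_le_left.trans le_sup_left)
      have hsurj : Function.Surjective ((QuotientGroup.mk' K).comp P.B.subtype) := by
        intro q
        obtain ⟨g, rfl⟩ := QuotientGroup.mk'_surjective K q
        obtain ⟨b, hb, k, hk, rfl⟩ := (hmem g).1 (htop ▸ Subgroup.mem_top g)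
        exact ⟨⟨b, hb⟩, by simp [hk]⟩
      have hsol : Group.IsSolvable (G ⧸ K) := Group.isSolvable_of_surjective hsurj
      have hperf' : commutator (G ⧸ K) = ⊤ := by
        rw [← (derivedSeries_one (G ⧸ K)),
          ← map_derivedSeries_eq (QuotientGroup.mk'_surjective K) 1, derivedSeries_one, hperf,
          Subgroup.map_top_of_surjective _ (QuotientGroup.mk'_surjective K)]
      obtain ⟨n, hn⟩ := hsol.solvable
      have hall : ∀ n, derivedSeries (G ⧸ K) n = ⊤ := by
        intro n
        induction n with
        | zero => exact derivedSeries_zero _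
        | succ n ih => rw [derivedSeries_succ, ih, ← commutator_def, hperf']
      rw [hall n] at hn
      rw [eq_top_iff]
      intro g _
      have hg1 : (QuotientGroup.mk' K g) ∈ (⊥ : Subgroup (G ⧸ K)) := hn ▸ Subgroup.mem_top _
      simpa using hg1
  · -- `K ≤ B`
    left
    rw [Set.not_nonempty_iff_eq_empty] at hne
    have hKB : K ≤ P.B := by
      refine (le_sup_right : K ≤ P.B ⊔ K).trans ?_
      rw [hP, hne]
      simp [Cfsg.BNPair.parabolic]
    rw [eq_bot_iff, ← hcore]
    exact fun k hk g => hKB (hK.conj_mem k hk g)

end Cfsg.Agent.S0319
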