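import Cfsg.Statements.S2814
import Cfsg.Agent.Lib.CoreSubnormal
import Cfsg.Agent.Lib.LocalChain
import Cfsg.Agent.Lib.CoreCoprime

set_option autoImplicit false
open Cfsg
open scoped commutatorElement

namespace Cfsg.Agent.S2814

/-- Let A be a subgroup of the finite group H and K the subnormal closure of A (intersection of the subnormal subgroups containing A). Then K is the normal closure of A inside K and N_H(A) ≤ N_H(K); K = A·O^p(K), O^p(K) being generated by the elements of K of order prime to p; and if A is a p-group, O^p(K) = [O^p(K), A]. -/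
theorem result {H : Type*} [Group H] [Finite H] {p : ℕ} [Fact p.Prime] (A : Subgroup H) (K : Subgroup H) (hK : K = Cfsg.subnormalClosure A) : (Subgroup.normalClosure ((A.subgroupOf K : Subgroup ↥K) : Set ↥K)).map K.subtype = K ∧ Subgroup.normalizer (A : Set H) ≤ Subgroup.normalizer (K : Set H) ∧ A ⊔ (Cfsg.pResidual p ↥K).map K.subtype = K ∧ (IsPGroup p ↥A → ⁅(Cfsg.pResidual p ↥K).map K.subtype, A⁆ = (Cfsg.pResidual p ↥K).map K.subtype) := by
  classical
  set S := {M : Subgroup H | A ≤ M ∧ M.IsSubnormal} with hS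
  have hKS : A ≤ K ∧ K.IsSubnormal := by
    obtain ⟨M, ⟨hM1, hM2⟩, hmin⟩ := (Set.toFinite S).exists_minimal
      ⟨⊤, le_top, Subgroup.IsSubnormal.top⟩
    have hle : ∀ N ∈ S, M ≤ N := fun N hN =>
      (hmin (⟨le_inf hM1 hN.1, hM2.inf hN.2⟩ : M ⊓ N ∈ S) inf_le_left).trans inf_le_right
    have he : K = M := by
      rw [hK]
      exact le_antisymm (sInf_le ⟨hM1, hM2⟩) (le_sInf fun N hN => hle N hN)
    rw [he]; exact ⟨hM1, hM2⟩
  obtain ⟨hAK, hKsn⟩ := hKS
  have hmin : ∀ N : Subgroup ↥K, A.subgroupOf K ≤ N → N.IsSubnormal → N = ⊤ := by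
    intro N hAN hN
    have h1 : K ≤ N.map K.subtype := by
      conv_lhs => rw [hK]
      exact sInf_le ⟨fun a ha => ⟨⟨a, hAK ha⟩, hAN (Subgroup.mem_subgroupOf.mpr ha), rfl⟩, hN.trans' hKsn⟩
    rw [eq_top_iff]
    rintro ⟨k, hk⟩ -
    obtain ⟨n, hn, he⟩ := h1 hk
    rwa [← show n = ⟨k, hk⟩ from Subtype.ext he]
  haveI := CfsgLib.Local.pResidual_normal' p ↥K
  set A' := A.subgroupOf K with hA'
  set R := Cfsg.pResidual p ↥K with hR
  have hquot : IsPGroup p (↥K ⧸ R) := by
    let T : Sylow p ↥K := default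
    refine IsPGroup.of_surjective T.isPGroup' ((QuotientGroup.mk' R).comp (T : Subgroup ↥K).subtype) ?_
    intro q
    obtain ⟨k, rfl⟩ := QuotientGroup.mk'_surjective R q
    have hk : k ∈ (T : Subgroup ↥K) ⊔ R := by
      rw [CfsgLib.Local.sylow_sup_pResidual T]; exact Subgroup.mem_top k
    obtain ⟨t, ht, r, hr, rfl⟩ := Subgroup.mem_sup_of_normal_right.mp hk
    refine ⟨⟨t, ht⟩, ?_⟩
    show QuotientGroup.mk' R t = QuotientGroup.mk' R (t * r)
    rw [map_mul, show QuotientGroup.mk' R r = 1 from (QuotientGroup.eq_one_iff r).mpr hr, mul_one]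
  have htop : A' ⊔ R = ⊤ := by
    refine hmin _ le_sup_left ?_
    haveI := hquot.isNilpotent
    have h := (CfsgLib.Core.isSubnormal_of_isNilpotent (A'.map (QuotientGroup.mk' R))).comap
      (QuotientGroup.mk' R)
    rwa [Subgroup.comap_map_eq, QuotientGroup.ker_mk'] at h
  refine ⟨?_, ?_, ?_, fun hAp => ?_⟩
  · rw [hmin _ Subgroup.le_normalClosure Subgroup.normalClosure_normal.isSubnormal,
      ← MonoidHom.range_eq_map, Subgroup.range_subtype]
  · intro g hg
    have key : ∀ g ∈ Subgroup.normalizer (A : Set H), K.map (MulAut.conj g).toMonoidHom ≥ K := by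
      intro g hg
      show K ≤ K.map (MulAut.conj g).toMonoidHom
      conv_lhs => rw [hK]
      refine sInf_le ⟨fun a ha => ⟨g⁻¹ * a * g, ?_, ?_⟩, hKsn.map (MulAut.conj g).surjective⟩
      · have := (Subgroup.mem_normalizer_iff.mp (inv_mem hg) a).mp ha
        rw [inv_inv] at this
        exact hAK this
      · show g * (g⁻¹ * a * g) * g⁻¹ = a
        group
    rw [Subgroup.mem_normalizer_iff]
    refine fun k => ⟨fun hk => ?_, fun hk => ?_⟩
    · obtain ⟨w, hw, he⟩ := key g⁻¹ (inv_mem hg) hk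
      change g⁻¹ * w * g⁻¹⁻¹ = k at he
      rw [← he]
      simpa [mul_assoc] using hw
    · obtain ⟨w, hw, he⟩ := key g hg hk
      change g * w * g⁻¹ = g * k * g⁻¹ at he
      rwa [← mul_left_cancel (mul_right_cancel he)]
  · calc A ⊔ R.map K.subtype = A'.map K.subtype ⊔ R.map K.subtype := by
          rw [hA', Subgroup.subgroupOf_map_subtype, inf_eq_left.mpr hAK]
      _ = K := by rw [← Subgroup.map_sup, htop, ← MonoidHom.range_eq_map, Subgroup.range_subtype]
  · set L := ⁅R, A'⁆ with hL
    have hLR : L ≤ R := Subgroup.commutator_le_left _ _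
    haveI hLn : L.Normal := by
      refine Subgroup.normalizer_eq_top_iff.mp (top_le_iff.mp ?_)
      rw [← htop]
      exact sup_le (CfsgLib.Core.le_normalizer_commutator_right R A')
        (CfsgLib.Core.le_normalizer_commutator_left R A')
    have hALn : (A' ⊔ L).Normal := by
      refine Subgroup.normalizer_eq_top_iff.mp (top_le_iff.mp ?_)
      rw [← htop]
      refine sup_le (le_trans le_sup_left Subgroup.le_normalizer) fun r hr => ?_
      refine CfsgLib.Core.le_normalizer_iff_forall.mpr (fun x hx y hy => ?_) (show r ∈ R from hr)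
      have hle : A' ⊔ L ≤ (A' ⊔ L).comap (MulAut.conj x).toMonoidHom := by
        refine sup_le (fun a ha => ?_) fun l hl => Subgroup.mem_sup_right (hLn.conj_mem l hl x)
        show x * a * x⁻¹ ∈ A' ⊔ L
        have h1 := Subgroup.commutator_mem_commutator hx ha
        rw [commutatorElement_def] at h1
        have := mul_mem (Subgroup.mem_sup_right (S := A') h1) (Subgroup.mem_sup_left (T := L) ha)
        rwa [inv_mul_cancel_right] at this
      exact hle hy
    have hAL : A' ⊔ L = ⊤ := hmin _ le_sup_left hALn.isSubnormal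
    have hKL : IsPGroup p (↥K ⧸ L) := by
      refine IsPGroup.of_surjective (hAp.of_equiv (Subgroup.subgroupOfEquivOfLe hAK).symm)
        ((QuotientGroup.mk' L).comp A'.subtype) ?_
      intro q
      obtain ⟨k, rfl⟩ := QuotientGroup.mk'_surjective L q
      obtain ⟨a, ha, l, hl, rfl⟩ := Subgroup.mem_sup_of_normal_right.mp (hAL.ge (Subgroup.mem_top k))
      refine ⟨⟨a, ha⟩, ?_⟩
      show QuotientGroup.mk' L a = QuotientGroup.mk' L (a * l)
      rw [map_mul, show QuotientGroup.mk' L l = 1 from (QuotientGroup.eq_one_iff l).mpr hl, mul_one]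
    have hRL : R ≤ L := by
      rw [hR, Cfsg.pResidual, Subgroup.closure_le]
      intro x hx
      rw [SetLike.mem_coe, ← QuotientGroup.eq_one_iff]
      obtain ⟨k, hk⟩ := hKL (x : ↥K ⧸ L)
      exact orderOf_eq_one_iff.mp (Nat.eq_one_of_dvd_coprimes ((Nat.Coprime.pow_right k hx).symm)
        (orderOf_dvd_of_pow_eq_one hk) (orderOf_map_dvd (QuotientGroup.mk' L) x))
    have he : L = R := le_antisymm hLR hRL
    conv_rhs => rw [← he, hL, Subgroup.map_commutator]
    rw [hA', Subgroup.subgroupOf_map_subtype, inf_eq_left.mpr hAK]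


end Cfsg.Agent.S2814
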