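import Cfsg.Statements.S1967


set_option autoImplicit false
open Cfsg
open scoped Pointwise commutatorElement
set_option maxHeartbeats 800000

namespace Cfsg.Agent.S1967

/-- Let p be a prime, G a finite group with Sylow p-subgroup S and W a conjugacy functor for p on G. Then W controls strong fusion in G if and only if, whenever T ≤ S and g ∈ G satisfy gTg⁻¹ ≤ S, one can write g = n c with n ∈ N_G(W(S)) and c ∈ C_G(T). -/
theorem result {G : Type*} [Group G] [Finite G] {p : ℕ} [Fact p.Prime] (S : Sylow p G) (W : Subgroup G → Subgroup G) (hW : Cfsg.IsConjugacyFunctor p W) : Cfsg.ControlsStrongFusionIn p W ⊤ ↔ ∀ (T : Subgroup G) (g : G), T ≤ (S : Subgroup G) → T.map (MulAut.conj g).toMonoidHom ≤ (S : Subgroup G) → ∃ n ∈ Subgroup.normalizer ((W (S : Subgroup G) : Subgroup G) : Set G), ∃ c ∈ Subgroup.centralizer (T : Set G), g = n * c := by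
  constructor
  · rintro ⟨T₀, -, hT₀p, hT₀i, hfus⟩ T g hTS hgS
    rw [Subgroup.relIndex_top_right] at hT₀i
    obtain ⟨k, hk⟩ := MulAction.exists_smul_eq G (hT₀p.toSylow hT₀i) S
    have hk' : (S : Subgroup G) = T₀.map (MulAut.conj k).toMonoidHom := by
      rw [← hk]; rfl
    have mem : ∀ x, x ∈ (S : Subgroup G) ↔ k⁻¹ * x * k ∈ T₀ := by
      intro x
      rw [hk', Subgroup.mem_map_equiv]
      simp [mul_assoc]
    obtain ⟨y, hy, hyA⟩ := hfus ((fun a => k⁻¹ * a * k) '' (T : Set G)) (k⁻¹ * g * k)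
      (Subgroup.mem_top _) (by rintro _ ⟨a, ha, rfl⟩; exact (mem a).1 (hTS ha))
      (by
        rintro _ ⟨_, ⟨a, ha, rfl⟩, rfl⟩
        have h1 := (mem _).1 (hgS ⟨a, ha, rfl⟩)
        simpa [mul_assoc] using h1)
    have hn : k * y * k⁻¹ ∈ Subgroup.normalizer ((W (S : Subgroup G) : Subgroup G) : Set G) := by
      rw [hk', (hW T₀ hT₀p).2.2 k, ← Subgroup.map_equiv_normalizer_eq]
      exact ⟨y, hy.2, by simp⟩
    refine ⟨k * y * k⁻¹, hn, (k * y * k⁻¹)⁻¹ * g, Subgroup.mem_centralizer_iff.2 fun t ht => ?_,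
      by group⟩
    have h1 := hyA _ ⟨t, ht, rfl⟩
    have h2 : (k * y * k⁻¹) * t * (k * y * k⁻¹)⁻¹ = g * t * g⁻¹ := by
      calc (k * y * k⁻¹) * t * (k * y * k⁻¹)⁻¹ = k * (y * (k⁻¹ * t * k) * y⁻¹) * k⁻¹ := by group
        _ = k * ((k⁻¹ * g * k) * (k⁻¹ * t * k) * (k⁻¹ * g * k)⁻¹) * k⁻¹ := by rw [h1]
        _ = _ := by group
    calc t * ((k * y * k⁻¹)⁻¹ * g)
        = (k * y * k⁻¹)⁻¹ * ((k * y * k⁻¹) * t * (k * y * k⁻¹)⁻¹) * g := by group
      _ = (k * y * k⁻¹)⁻¹ * (g * t * g⁻¹) * g := by rw [h2]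
      _ = _ := by group
  · intro h
    refine ⟨S, le_top, S.isPGroup', by rw [Subgroup.relIndex_top_right]; exact S.not_dvd_index,
      fun A g _ hA hgA => ?_⟩
    obtain ⟨n, hn, c, hc, rfl⟩ := h (Subgroup.closure A) g ((Subgroup.closure_le _).2 hA) (by
      rw [MonoidHom.map_closure, Subgroup.closure_le]
      exact hgA)
    refine ⟨n, ⟨Subgroup.mem_top _, hn⟩, fun a ha => ?_⟩
    have := Subgroup.mem_centralizer_iff.1 hc a (Subgroup.subset_closure ha)
    calc n * a * n⁻¹ = n * (a * c) * c⁻¹ * n⁻¹ := by group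
      _ = n * (c * a) * c⁻¹ * n⁻¹ := by rw [this]
      _ = _ := by group

end Cfsg.Agent.S1967
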