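import Cfsg.Statements.S0214
import Mathlib
import Cfsg.Agent.Lib.InvolSylow

set_option autoImplicit false
open Cfsg

namespace Cfsg.Agent.S0214

/-- Let H be a proper subgroup of the finite group G and P a nontrivial Sylow 2-subgroup of H. Then H is strongly embedded in G if and only if N_G(X) ≤ H for every nontrivial subgroup X of P. -/
theorem result {G : Type*} [Group G] [Finite G] (H : Subgroup G) (hH : H ≠ ⊤) (P : Sylow 2 ↥H) (hP : (P : Subgroup ↥H) ≠ ⊥) : Cfsg.IsStronglyEmbedded H ↔ (∀ X : Subgroup ↥H, X ≤ (P : Subgroup ↥H) → X ≠ ⊥ → Subgroup.normalizer ((X.map H.subtype : Subgroup G) : Set G) ≤ H) := by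
  classical
  haveI : Fact (Nat.Prime 2) := ⟨Nat.prime_two⟩
  set PG : Subgroup G := (P : Subgroup H).map H.subtype with hPG
  have hPGH : PG ≤ H := Subgroup.map_subtype_le _
  have hPG1 : PG ≠ ⊥ := fun h => hP ((Subgroup.map_eq_bot_iff_of_injective _ H.subtype_injective).mp h)
  have hPGp : IsPGroup 2 PG := P.isPGroup'.map _
  have heven : Even (Nat.card H) := by
    obtain ⟨t, ht, ho⟩ := CfsgLib.Invol.exists_involution_mem_of_isPGroup hPGp hPG1
    have := orderOf_dvd_natCard (⟨t, hPGH ht⟩ : H)
    rw [Subgroup.orderOf_mk, ho] at this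
    exact even_iff_two_dvd.mpr this
  unfold Cfsg.IsStronglyEmbedded
  rw [CfsgLib.Invol.embedded_iff H]
  constructor
  · rintro ⟨-, -, h⟩ X hXP hX g hg
    have hXG : IsPGroup 2 (X.map H.subtype) := (P.isPGroup'.to_le hXP).map _
    obtain ⟨t, ht, ho⟩ := CfsgLib.Invol.exists_involution_mem_of_isPGroup hXG
      (fun h' => hX ((Subgroup.map_eq_bot_iff_of_injective _ H.subtype_injective).mp h'))
    exact h t (Subgroup.map_subtype_le _ ht) ho g (Subgroup.map_subtype_le _ (CfsgLib.Invol.le_normalizer_conj hg ht))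
  · intro hN
    -- normalizers of all nontrivial 2-subgroups of H lie in H
    have hall : ∀ T : Subgroup G, T ≤ H → T ≠ ⊥ → IsPGroup 2 T → Subgroup.normalizer (T : Set G) ≤ H := by
      intro T hT hT1 hTp g hg
      obtain ⟨Q, hQ⟩ := (hTp.comap_subtype (K := H)).exists_le_sylow
      obtain ⟨k, hk⟩ := MulAction.exists_smul_eq H Q P
      set X : Subgroup H := (T.subgroupOf H).map (MulAut.conj k).toMonoidHom with hXdef
      have hXP : X ≤ (P : Subgroup H) := by
        rintro _ ⟨z, hz, rfl⟩
        exact CfsgLib.Invol.conj_mem_of_smul_eq hk (hQ hz)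
      have hX1 : X ≠ ⊥ := fun h => hT1 (by
        rw [Subgroup.map_eq_bot_iff_of_injective _ (MulAut.conj k).injective,
          Subgroup.subgroupOf_eq_bot] at h
        exact (disjoint_of_le_iff_left_eq_bot hT).mp h)
      have hmem : ∀ z : G, z ∈ X.map H.subtype ↔ (k : G)⁻¹ * z * k ∈ T := by
        intro z
        constructor
        · rintro ⟨_, ⟨w, hw, rfl⟩, rfl⟩
          have : (k : G)⁻¹ * ((H.subtype) ((MulAut.conj k).toMonoidHom w)) * k = (w : G) := by
            simp [mul_assoc]
          rw [this]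
          exact hw
        · intro hz
          exact ⟨_, ⟨⟨_, hT hz⟩, hz, rfl⟩, by simp [mul_assoc]⟩
      have hg' : (k : G) * g * (k : G)⁻¹ ∈ Subgroup.normalizer (X.map H.subtype : Set G) := by
        rw [Subgroup.mem_normalizer_iff]
        intro z
        rw [hmem, hmem, Subgroup.mem_normalizer_iff.mp hg]
        constructor <;> intro h <;> convert h using 1 <;> group
      have := mul_mem (mul_mem (inv_mem k.2) (hN X hXP hX1 hg')) k.2
      convert this using 1
      group
    refine ⟨hH, heven, fun t ht ho g hg => ?_⟩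
    let D : Subgroup G := H ⊓ H.map (MulAut.conj g).toMonoidHom
    have htD : t ∈ D := ⟨ht, CfsgLib.Invol.conj_mem_map_iff.mpr hg⟩
    have hzp : IsPGroup 2 (Subgroup.zpowers t) := IsPGroup.of_card (n := 1) (by rw [Nat.card_zpowers, ho, pow_one])
    obtain ⟨T₀, hT₀⟩ := (hzp.comap_subtype (K := D)).exists_le_sylow
    set T : Subgroup G := (T₀ : Subgroup D).map D.subtype with hTdef
    have hTD : T ≤ D := Subgroup.map_subtype_le _
    have htT : t ∈ T := ⟨⟨t, htD⟩, hT₀ (Subgroup.mem_zpowers t), rfl⟩
    have hT1 : T ≠ ⊥ := fun h => CfsgLib.Invol.ne_one_of_orderOf_two ho (Subgroup.mem_bot.mp (h ▸ htT))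
    have hTp : IsPGroup 2 T := T₀.isPGroup'.map _
    set T' : Subgroup G := T.map (MulAut.conj g⁻¹).toMonoidHom with hT'def
    have hT'p : IsPGroup 2 T' := hTp.map _
    have hT'H : T' ≤ H := by
      rintro _ ⟨z, hz, rfl⟩
      simpa using CfsgLib.Invol.conj_mem_map_iff.mp (hTD hz).2
    have hT'1 : T' ≠ ⊥ := fun h => hT1 ((Subgroup.map_eq_bot_iff_of_injective _ (MulAut.conj g⁻¹).injective).mp h)
    have hNT : Subgroup.normalizer (T : Set G) ≤ D := by
      intro y hy
      refine ⟨hall T (hTD.trans inf_le_left) hT1 hTp hy, CfsgLib.Invol.conj_mem_map_iff.mpr ?_⟩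
      refine hall T' hT'H hT'1 hT'p ?_
      rw [Subgroup.mem_normalizer_iff]
      intro z
      rw [hT'def, CfsgLib.Invol.conj_mem_map_iff, CfsgLib.Invol.conj_mem_map_iff,
        Subgroup.mem_normalizer_iff.mp hy]
      constructor <;> intro h <;> convert h using 1 <;> group
    -- T is a Sylow subgroup of G
    obtain ⟨S, hS⟩ := hTp.exists_le_sylow
    have hTS : T = (S : Subgroup G) := by
      by_contra hne
      have hlt : T.subgroupOf S < ⊤ := by
        refine lt_top_iff_ne_top.mpr fun h => hne (le_antisymm hS ?_)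
        rwa [Subgroup.subgroupOf_eq_top] at h
      haveI : Group.IsNilpotent (S : Subgroup G) := S.isPGroup'.isNilpotent
      obtain ⟨y, hy1, hy2⟩ := SetLike.exists_of_lt
        ((Group.normalizerCondition_of_isNilpotent (G := (S : Subgroup G))) _ hlt)
      have hnorm : (y : G) ∈ Subgroup.normalizer (T : Set G) := by
        rw [Subgroup.mem_normalizer_iff]
        intro z
        constructor
        · intro hz
          exact (Subgroup.mem_normalizer_iff.mp hy1 ⟨z, hS hz⟩).mp hz
        · intro hz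
          have hzS : z ∈ (S : Subgroup G) := by
            have := mul_mem (mul_mem (inv_mem y.2) (hS hz)) y.2
            simpa [mul_assoc] using this
          exact (Subgroup.mem_normalizer_iff.mp hy1 ⟨z, hzS⟩).mpr hz
      have hK : IsPGroup 2 ((S : Subgroup G).subgroupOf D) := S.isPGroup'.comap_subtype
      have := T₀.3 hK (fun z hz => hS ⟨z, hz, rfl⟩)
      exact hy2 (show (y : G) ∈ T from ⟨⟨y, hNT hnorm⟩, this ▸ (show (⟨y, hNT hnorm⟩ : D) ∈ (S : Subgroup G).subgroupOf D from y.2), rfl⟩)
    -- both T and its conjugate are Sylow subgroups of H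
    have hS' : (S : Subgroup G) ≤ H := hTS ▸ hTD.trans inf_le_left
    have hgS : ((g⁻¹ • S : Sylow 2 G) : Subgroup G) ≤ H := by
      change T.map (MulAut.conj g⁻¹).toMonoidHom ≤ H at hT'H
      rw [hTS] at hT'H
      exact hT'H
    obtain ⟨h, hh⟩ := MulAction.exists_smul_eq H (S.subtype hS') ((g⁻¹ • S).subtype hgS)
    rw [Sylow.smul_subtype hS' h] at hh
    have he := Sylow.subtype_injective hh
    have : (h : G)⁻¹ * g⁻¹ ∈ Subgroup.normalizer (S : Set G) := by
      refine Sylow.smul_eq_iff_mem_normalizer.mp ?_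
      rw [mul_smul, ← he]
      exact inv_smul_smul (h : G) S
    rw [show (S : Set G) = (T : Set G) by rw [hTS]; rfl] at this
    have h2 := mul_mem h.2 (hNT this).1
    rw [mul_inv_cancel_left] at h2
    exact inv_mem_iff.mp h2

end Cfsg.Agent.S0214
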