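import Cfsg.Statements.S0223
import Mathlib
import Cfsg.Agent.Lib.InvolSylow

set_option autoImplicit false
open Cfsg

namespace Cfsg.Agent.S0223

/-- Let H be a proper subgroup of even order of the finite group G. Then H is strongly embedded if and only if (i) C_G(t) ≤ H for every involution t of H and (ii) H controls fusion of its involutions: involutions of H conjugate in G are conjugate in H. -/
theorem result {G : Type*} [Group G] [Finite G] (H : Subgroup G) (hH : H ≠ ⊤) (heven : Even (Nat.card H)) : Cfsg.IsStronglyEmbedded H ↔ ((∀ t ∈ H, orderOf t = 2 → Subgroup.centralizer ({t} : Set G) ≤ H) ∧ (∀ t ∈ H, ∀ s ∈ H, orderOf t = 2 → orderOf s = 2 → IsConj t s → ∃ h ∈ H, h * t * h⁻¹ = s)) := by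
  unfold Cfsg.IsStronglyEmbedded
  rw [CfsgLib.Invol.embedded_iff H]
  constructor
  · rintro ⟨-, -, h⟩
    refine ⟨fun t ht ho g hg => h t ht ho g ?_, fun t ht s hs ho _ hc => ?_⟩
    · rw [mul_assoc, ← CfsgLib.Invol.mem_centralizer_singleton.mp hg, ← mul_assoc, inv_mul_cancel, one_mul]
      exact ht
    · obtain ⟨g, hg⟩ := isConj_iff.mp hc
      refine ⟨g, ?_, hg⟩
      have := h t ht ho g⁻¹ (by rw [inv_inv, hg]; exact hs)
      exact inv_mem_iff.mp this
  · rintro ⟨h1, h2⟩
    refine ⟨hH, heven, fun t ht ho g hg => ?_⟩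
    obtain ⟨h, hh, he⟩ := h2 t ht _ hg ho
      (by have := CfsgLib.Invol.orderOf_conj g⁻¹ t; rw [inv_inv] at this; rw [this, ho])
      (isConj_iff.mpr ⟨g⁻¹, by rw [inv_inv]⟩)
    have hc : g * h ∈ Subgroup.centralizer ({t} : Set G) := by
      rw [CfsgLib.Invol.mem_centralizer_singleton_conj,
        show g * h * t * (g * h)⁻¹ = g * (h * t * h⁻¹) * g⁻¹ by group, he]
      group
    have := mul_mem (h1 t ht ho hc) (inv_mem hh)
    rwa [mul_inv_cancel_right] at this

end Cfsg.Agent.S0223
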