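import Cfsg.Statements.S0224
import Mathlib
import Cfsg.Agent.Lib.InvolSylow

set_option autoImplicit false
open Cfsg

namespace Cfsg.Agent.S0224

/-- Let H be a proper subgroup of even order of the finite group G. Then H is strongly embedded if and only if each involution of H fixes exactly one point (namely the coset H) in the action of G on the cosets of H. -/
theorem result {G : Type*} [Group G] [Finite G] (H : Subgroup G) (hH : H ≠ ⊤) (heven : Even (Nat.card H)) : Cfsg.IsStronglyEmbedded H ↔ ∀ t ∈ H, orderOf t = 2 → Nat.card {c : G ⧸ H // t • c = c} = 1 := by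
  have key : ∀ t ∈ H, (Nat.card {c : G ⧸ H // t • c = c} = 1 ↔ ∀ g : G, g⁻¹ * t * g ∈ H → g ∈ H) := by
    intro t ht
    have h0 : t • ((1 : G) : G ⧸ H) = ((1 : G) : G ⧸ H) := by
      rw [MulAction.Quotient.smul_coe, eq_comm, QuotientGroup.eq]; simpa using ht
    have hfix : ∀ g : G, t • (g : G ⧸ H) = g ↔ g⁻¹ * t * g ∈ H := fun g => by
      rw [MulAction.Quotient.smul_coe, eq_comm, QuotientGroup.eq, smul_eq_mul, mul_assoc]
    rw [Nat.card_eq_one_iff_unique]
    constructor
    · rintro ⟨⟨h⟩, -⟩ g hg
      have := congrArg Subtype.val (h ⟨(g : G ⧸ H), (hfix g).mpr hg⟩ ⟨((1 : G) : G ⧸ H), h0⟩)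
      simp only at this
      rw [QuotientGroup.eq, mul_one] at this
      exact inv_mem_iff.mp this
    · intro h
      refine ⟨⟨fun a b => ?_⟩, ⟨⟨_, h0⟩⟩⟩
      obtain ⟨a, ha⟩ := a; obtain ⟨b, hb⟩ := b
      induction a using QuotientGroup.induction_on with
      | H g =>
        induction b using QuotientGroup.induction_on with
        | H g' =>
          apply Subtype.ext
          change (g : G ⧸ H) = g'
          rw [QuotientGroup.eq]
          exact mul_mem (inv_mem (h g ((hfix g).mp ha))) (h g' ((hfix g').mp hb))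
  unfold Cfsg.IsStronglyEmbedded
  rw [CfsgLib.Invol.embedded_iff H]
  exact ⟨fun ⟨_, _, h⟩ t ht ho => (key t ht).mpr (h t ht ho),
    fun h => ⟨hH, heven, fun t ht ho => (key t ht).mp (h t ht ho)⟩⟩

end Cfsg.Agent.S0224
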