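import Cfsg.Statements.S5914
import Mathlib

set_option autoImplicit false
open Cfsg

namespace Cfsg.Agent.S5914

/-- A non-trivial finite group G is characteristically simple (its only characteristic subgroups are 1 and G) if and only if G is isomorphic to a direct power S^n (n ≥ 1) of some simple group S (possibly cyclic of prime order). -/
theorem result {G : Type*} [Group G] [Finite G] [Nontrivial G] :
    (∀ H : Subgroup G, H.Characteristic → H = ⊥ ∨ H = ⊤) ↔
    ∃ (S : Type) (_ : Group S) (_ : IsSimpleGroup S) (n : ℕ), 1 ≤ n ∧ Nonempty (G ≃* (Fin n → S)) := by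
  classical
  constructor
  · intro hchar
    obtain ⟨c, ⟨N, hN, hNne, hNc⟩, hmin⟩ : ∃ c, (∃ N : Subgroup G, N.Normal ∧ N ≠ ⊥ ∧ Nat.card N = c) ∧
        ∀ d, d < c → ¬ ∃ N : Subgroup G, N.Normal ∧ N ≠ ⊥ ∧ Nat.card N = d := by
      have h : ∃ c, ∃ N : Subgroup G, N.Normal ∧ N ≠ ⊥ ∧ Nat.card N = c :=
        ⟨_, ⊤, inferInstance, top_ne_bot, rfl⟩
      exact ⟨Nat.find h, Nat.find_spec h, fun d hd => Nat.find_min h hd⟩
    have hsmall : ∀ M : Subgroup G, M.Normal → Nat.card M < Nat.card N → M = ⊥ := fun M hM hlt => by
      by_contra h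
      exact hmin _ (hNc ▸ hlt) ⟨M, hM, h, rfl⟩
    have key : ∀ k : ℕ, (∃ j, Nonempty (G ≃* (Fin j → N))) ∨
        ∃ f : (Fin k → N) →* G, Function.Injective f ∧ f.range.Normal := by
      intro k
      induction k with
      | zero =>
        refine Or.inr ⟨1, fun a b _ => Subsingleton.elim a b, ?_⟩
        rw [MonoidHom.range_eq_bot_iff.mpr rfl]
        infer_instance
      | succ k ih =>
        rcases ih with ih | ⟨f, hf, hnorm⟩
        · exact Or.inl ih
        by_cases htop : f.range = ⊤
        · exact Or.inl ⟨k, ⟨(MulEquiv.ofBijective f ⟨hf, MonoidHom.range_eq_top.mp htop⟩).symm⟩⟩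
        refine Or.inr ?_
        obtain ⟨φ, hφ⟩ : ∃ φ : G ≃* G, ¬ N.map φ.toMonoidHom ≤ f.range := by
          by_contra! hall
          have hC : (⨆ φ : G ≃* G, N.map φ.toMonoidHom).Characteristic := by
            rw [Subgroup.characteristic_iff_map_le]
            intro ψ
            rw [Subgroup.map_iSup]
            refine iSup_le fun φ => le_trans (le_of_eq ?_) (le_iSup (fun χ : G ≃* G => N.map χ.toMonoidHom) (φ.trans ψ))
            rw [Subgroup.map_map]
            rfl
          rcases hchar _ hC with h | h
          · refine hNne (le_bot_iff.mp ?_)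
            rw [← h]
            refine le_trans (le_of_eq ?_) (le_iSup (fun χ : G ≃* G => N.map χ.toMonoidHom) (MulEquiv.refl G))
            exact (Subgroup.map_id N).symm
          · exact htop (eq_top_iff.mpr (h ▸ iSup_le hall))
        obtain ⟨N', hN'⟩ : ∃ N', N' = N.map φ.toMonoidHom := ⟨_, rfl⟩
        rw [← hN'] at hφ
        have hN'n : N'.Normal := hN' ▸ Subgroup.Normal.map hN _ φ.surjective
        have hcard : Nat.card N' = Nat.card N := by
          rw [hN']; exact (Nat.card_congr (φ.subgroupMap N).toEquiv).symm
        have hdisj : N' ⊓ f.range = ⊥ := by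
          refine hsmall _ inferInstance ?_
          rw [← hcard]
          refine lt_of_le_of_ne (Subgroup.card_le_of_le inf_le_left) fun h => hφ ?_
          exact le_trans (ge_of_eq (Subgroup.eq_of_le_of_card_ge inf_le_left h.ge)) inf_le_right
        let g : N →* G := φ.toMonoidHom.comp N.subtype
        have hg : Function.Injective g := φ.injective.comp Subtype.val_injective
        have hgr : g.range = N' := by rw [hN', MonoidHom.range_comp, Subgroup.range_subtype]
        have hcomm : ∀ a b, Commute (g a) (f b) := fun a b =>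
          Subgroup.commute_of_normal_of_disjoint N' f.range hN'n hnorm (disjoint_iff.mpr hdisj) _ _
            (hgr ▸ ⟨a, rfl⟩) ⟨b, rfl⟩
        let sp : (Fin (k + 1) → N) ≃* N × (Fin k → N) :=
          { toFun := fun x => (x 0, fun i => x i.succ)
            invFun := fun t => Fin.cons t.1 t.2
            left_inv := fun x => Fin.cons_self_tail x
            right_inv := fun t => by simp
            map_mul' := fun x y => rfl }
        refine ⟨(g.noncommCoprod f hcomm).comp sp.toMonoidHom, ?_, ?_⟩
        · rw [MonoidHom.coe_comp]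
          refine Function.Injective.comp ?_ sp.injective
          rw [MonoidHom.noncommCoprod_injective, hgr]
          exact ⟨hg, hf, disjoint_iff.mpr hdisj⟩
        · rw [MonoidHom.range_comp, MonoidHom.range_eq_top.mpr sp.surjective, ← MonoidHom.range_eq_map,
            MonoidHom.noncommCoprod_range, hgr]
          exact Subgroup.sup_normal _ _
    have hN1 : 1 < Nat.card N := Finite.one_lt_card_iff_nontrivial.mpr ((Subgroup.nontrivial_iff_ne_bot N).mpr hNne)
    rcases key (Nat.card G) with ⟨n, ⟨e⟩⟩ | ⟨f, hf, -⟩
    swap
    · have h1 := Nat.card_le_card_of_injective f hf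
      rw [Nat.card_fun, Nat.card_fin] at h1
      have h2 := Nat.lt_two_pow_self (n := Nat.card G)
      have h3 : 2 ^ Nat.card G ≤ Nat.card N ^ Nat.card G := Nat.pow_le_pow_left hN1 _
      omega
    have hn : 1 ≤ n := by
      rcases Nat.eq_zero_or_pos n with rfl | h
      · exact absurd e.toEquiv.subsingleton (not_subsingleton G)
      · exact h
    have hsimple : IsSimpleGroup N := by
      have : Nontrivial N := Finite.one_lt_card_iff_nontrivial.mp hN1
      refine ⟨fun M hM => ?_⟩
      by_contra! h
      let s : N →* (Fin n → N) := MonoidHom.mulSingle (fun _ : Fin n => N) ⟨0, hn⟩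
      have hnormal : ((M.map s).map e.symm.toMonoidHom).Normal := by
        refine Subgroup.Normal.map ?_ _ e.symm.surjective
        refine ⟨?_⟩
        rintro _ ⟨m, hm, rfl⟩ y
        refine ⟨y ⟨0, hn⟩ * m * (y ⟨0, hn⟩)⁻¹, hM.conj_mem m hm _, ?_⟩
        funext j
        by_cases hj : j = ⟨0, hn⟩
        · subst hj; simp [s]
        · simp [s, Pi.mulSingle_eq_of_ne hj]
      have hinj : Function.Injective (e.symm.toMonoidHom.comp s) := e.symm.injective.comp (Pi.mulSingle_injective (M := fun _ : Fin n => N) _)
      have hcardM : Nat.card ((M.map s).map e.symm.toMonoidHom) = Nat.card M := by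
        rw [Subgroup.map_map]
        exact (Nat.card_congr (M.equivMapOfInjective _ hinj).toEquiv).symm
      have hlt : Nat.card M < Nat.card N := by
        rw [← Subgroup.card_top (G := N)]
        exact lt_of_le_of_ne (Subgroup.card_le_of_le le_top) fun he => h.2 (Subgroup.eq_of_le_of_card_ge le_top he.ge)
      have := hsmall _ hnormal (hcardM ▸ hlt)
      rw [this, Subgroup.card_bot] at hcardM
      exact h.1 (Subgroup.card_eq_one.mp hcardM.symm)
    let t : Shrink.{0} N ≃* N := Shrink.mulEquiv
    have : Nontrivial (Shrink.{0} N) := t.toEquiv.nontrivial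
    exact ⟨Shrink.{0} N, inferInstance, IsSimpleGroup.isSimpleGroup_of_surjective t.symm.toMonoidHom t.symm.surjective, n, hn,
      ⟨e.trans (MulEquiv.piCongrRight fun _ => t.symm)⟩⟩
  · rintro ⟨S, _, hS, n, hn, ⟨e⟩⟩ H hH
    refine or_iff_not_imp_left.mpr fun hbot => ?_
    obtain ⟨K, hK⟩ : ∃ K, K = H.map e.toMonoidHom := ⟨_, rfl⟩
    have hKn : K.Normal := hK ▸ Subgroup.Normal.map inferInstance _ e.surjective
    have hinv : ∀ (ψ : (Fin n → S) ≃* (Fin n → S)), ∀ x ∈ K, ψ x ∈ K := by
      rintro ψ x hx
      rw [hK] at hx ⊢
      obtain ⟨y, hy, rfl⟩ := hx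
      refine ⟨(e.trans (ψ.trans e.symm)) y, ?_, by simp⟩
      exact Subgroup.characteristic_iff_map_le.mp hH _ ⟨y, hy, rfl⟩
    have hperm : ∀ (i j : Fin n) (s : S), Pi.mulSingle i s ∈ K → Pi.mulSingle j s ∈ K := fun i j s hs => by
      let ψ : (Fin n → S) ≃* (Fin n → S) :=
        { toFun := fun x a => x (Equiv.swap i j a)
          invFun := fun x a => x (Equiv.swap i j a)
          left_inv := fun x => funext fun a => congrArg x (Equiv.swap_apply_self i j a)
          right_inv := fun x => funext fun a => congrArg x (Equiv.swap_apply_self i j a)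
          map_mul' := fun x y => rfl }
      convert hinv ψ _ hs using 1
      funext a
      show _ = Pi.mulSingle (M := fun _ => S) i s (Equiv.swap i j a)
      simp only [Pi.mulSingle_apply, Equiv.swap_apply_def]
      split_ifs <;> simp_all
    obtain ⟨x, hx, i, hi⟩ : ∃ x ∈ K, ∃ i, x i ≠ 1 := by
      obtain ⟨y, hy, hy1⟩ := H.bot_or_exists_ne_one.resolve_left hbot
      refine ⟨e y, hK ▸ ⟨y, hy, rfl⟩, Function.ne_iff.mp fun h => hy1 (e.injective (by rw [map_one]; exact h))⟩
    have hsingle : ∃ s : S, s ≠ 1 ∧ Pi.mulSingle i s ∈ K := by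
      by_cases hab : ∀ a b : S, a * b = b * a
      · by_cases hone : ∀ j, j = i
        · refine ⟨x i, hi, ?_⟩
          convert hx using 1
          funext a
          rw [hone a, Pi.mulSingle_eq_same]
        obtain ⟨j, hj⟩ := not_forall.mp hone
        let ψ : (Fin n → S) ≃* (Fin n → S) :=
          { toFun := fun y => y * Pi.mulSingle j (y i)
            invFun := fun y => y * Pi.mulSingle j (y i)⁻¹
            left_inv := fun y => by
              funext a
              by_cases ha : a = j
              · subst ha; simp [Pi.mulSingle_eq_of_ne (Ne.symm hj)]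
              · simp [Pi.mulSingle_eq_of_ne ha]
            right_inv := fun y => by
              funext a
              by_cases ha : a = j
              · subst ha; simp [Pi.mulSingle_eq_of_ne (Ne.symm hj)]
              · simp [Pi.mulSingle_eq_of_ne ha]
            map_mul' := fun y z => by
              funext a
              by_cases ha : a = j
              · subst ha
                simp only [Pi.mul_apply, Pi.mulSingle_eq_same]
                rw [mul_assoc, ← mul_assoc (z a), hab (z a) (y i)]
                simp only [mul_assoc]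
              · simp [Pi.mulSingle_eq_of_ne ha] }
        have h1 := K.mul_mem (K.inv_mem hx) (hinv ψ x hx)
        rw [show ψ x = x * Pi.mulSingle j (x i) from rfl, inv_mul_cancel_left] at h1
        exact ⟨x i, hi, hperm j i _ h1⟩
      · obtain ⟨s, hs⟩ : ∃ s, x i * s ≠ s * x i := by
          by_contra! hall
          have hc : x i ∈ Subgroup.center S := Subgroup.mem_center_iff.mpr fun g => (hall g).symm
          rcases (inferInstance : (Subgroup.center S).Normal).eq_bot_or_eq_top with h | h
          · exact hi (Subgroup.mem_bot.mp (h ▸ hc))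
          · exact hab fun a b => (Subgroup.mem_center_iff.mp (h ▸ Subgroup.mem_top b : b ∈ Subgroup.center S) a)
        refine ⟨x i * s * (x i)⁻¹ * s⁻¹, fun h => hs ?_, ?_⟩
        · rw [mul_inv_eq_one, mul_inv_eq_iff_eq_mul] at h
          exact h
        · have h1 := K.mul_mem hx (hKn.conj_mem _ (K.inv_mem hx) (Pi.mulSingle i s))
          convert h1 using 1
          funext a
          by_cases ha : a = i
          · subst ha; simp [mul_assoc]
          · simp [Pi.mulSingle_eq_of_ne ha]
    obtain ⟨s, hs1, hsK⟩ := hsingle
    have hall : ∀ j t, Pi.mulSingle j t ∈ K := fun j t => by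
      refine hperm i j t ?_
      have hn' : (K.comap (MonoidHom.mulSingle (fun _ : Fin n => S) i)).Normal := Subgroup.Normal.comap hKn _
      rcases hn'.eq_bot_or_eq_top with h | h
      · exact absurd (Subgroup.mem_bot.mp (h ▸ (show s ∈ K.comap _ from hsK))) hs1
      · exact (h ▸ Subgroup.mem_top t : t ∈ K.comap (MonoidHom.mulSingle (fun _ : Fin n => S) i))
    have htop : K = ⊤ := eq_top_iff.mpr fun y _ =>
      Subgroup.pi_mem_of_mulSingle_mem y fun j => hall j (y j)
    refine eq_top_iff.mpr fun g _ => ?_
    have := htop ▸ Subgroup.mem_top (e g)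
    rw [hK, Subgroup.mem_map_equiv, MulEquiv.symm_apply_apply] at this
    exact this

end Cfsg.Agent.S5914
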