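import Cfsg.Statements.S1154
import Cfsg.Agent.Lib.LieTwistG2Small

set_option autoImplicit false
open Cfsg

namespace Cfsg.Agent.S1154

/-- In the small Ree group ²G₂(q), q = 3^(2m+1) with m ≥ 1, realised as G¹ inside the Chevalley group G₂ over the field with q elements (θ the 3^m-th power map), with `U¹ = G¹ ∩ U` (U the positive unipotent subgroup of the ambient G₂): `U¹` has exactly `q² - 1` elements of order 3. -/
theorem result {K : Type*} [Field K] [Fintype K] {m : ℕ} (hm : 1 ≤ m) (hK : Fintype.card K = 3 ^ (2 * m + 1)) :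
    Nat.card {u : ↥(Cfsg.Lie.chevG2.posUnipotent K ⊓ Cfsg.Lie.twistedG2 K (3 ^ m)) // orderOf u = 3} = (3 ^ (2 * m + 1)) ^ 2 - 1 := by
  classical
  obtain ⟨_, _, θ, P, h3⟩ := CfsgLib.Lie.ree_setup hK
  haveI : Fact (Nat.Prime 3) := ⟨Nat.prime_three⟩
  let w : K × K → ↥(Cfsg.Lie.chevG2.posUnipotent K ⊓ Cfsg.Lie.twistedG2 K (3 ^ m)) :=
    fun p => ⟨CfsgLib.Lie.wordU (3 ^ m) 0 p.1 p.2, CfsgLib.Lie.wordU_pos P _ _ _⟩
  have h1 : ∀ p, orderOf (w p) = 3 ↔ p ≠ 0 := fun p => by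
    have hc : w p ^ 3 = 1 := Subtype.ext ((CfsgLib.Lie.G2_cube P 0 p.1 p.2).2 rfl)
    have hz : (CfsgLib.Lie.wordU (3 ^ m) (0 : K) p.1 p.2 = 1) ↔ p = 0 := by
      have hE0 : (3 : ℕ) ^ m ≠ 0 := pow_ne_zero _ three_ne_zero
      rw [CfsgLib.Lie.wordU_std]
      constructor
      · intro h
        have e := CfsgLib.Lie.std6_inj (h.trans (show (1 : GL Cfsg.Lie.chevG2.Idx K) =
          CfsgLib.Lie.std6 (0, 0, 0, 0, 0, 0) by simp [CfsgLib.Lie.std6, CfsgLib.Lie.Tab.u_zero]))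
        simp only [Prod.mk.injEq, zero_pow hE0, zero_pow three_ne_zero, zero_mul, add_zero] at e
        exact Prod.ext e.2.2.2.2.1 e.2.2.2.2.2
      · rintro rfl
        simp [CfsgLib.Lie.std6, zero_pow hE0, CfsgLib.Lie.Tab.u_zero]
    constructor
    · rintro ho rfl
      rw [show w 0 = 1 from Subtype.ext (hz.2 rfl), orderOf_one] at ho
      exact absurd ho (by norm_num)
    · intro hp
      exact orderOf_eq_prime hc fun e => hp (hz.1 (Subtype.ext_iff.1 e))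
  have hb : Function.Bijective fun p : {p : K × K // p ≠ 0} =>
      (⟨w p.1, (h1 p.1).2 p.2⟩ : {u : ↥(Cfsg.Lie.chevG2.posUnipotent K ⊓ Cfsg.Lie.twistedG2 K (3 ^ m)) // orderOf u = 3}) := by
    refine ⟨fun a b e => ?_, fun u => ?_⟩
    · have e' : CfsgLib.Lie.wordU (3 ^ m) (0 : K) a.1.1 a.1.2 = CfsgLib.Lie.wordU (3 ^ m) (0 : K) b.1.1 b.1.2 :=
        congrArg (fun u : {u : ↥(Cfsg.Lie.chevG2.posUnipotent K ⊓ Cfsg.Lie.twistedG2 K (3 ^ m)) // orderOf u = 3} => (u.1 : GL Cfsg.Lie.chevG2.Idx K)) e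
      rw [CfsgLib.Lie.wordU_std, CfsgLib.Lie.wordU_std] at e'
      have h := CfsgLib.Lie.std6_inj e'
      simp only [Prod.mk.injEq] at h
      exact Subtype.ext (Prod.ext (add_right_cancel h.2.2.2.2.1) (add_right_cancel h.2.2.2.2.2))
    · obtain ⟨t, x, y, e⟩ := CfsgLib.Lie.G2_fix_coords P u.1.2
      have hu : (u.1 : GL Cfsg.Lie.chevG2.Idx K) ^ 3 = 1 := by
        have := pow_orderOf_eq_one u.1
        rw [u.2] at this
        exact congrArg Subtype.val this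
      rw [e, CfsgLib.Lie.G2_cube P] at hu
      subst hu
      have eu : w (x, y) = u.1 := Subtype.ext e.symm
      exact ⟨⟨(x, y), (h1 (x, y)).1 (by rw [eu]; exact u.2)⟩, Subtype.ext eu⟩
  rw [← Nat.card_eq_of_bijective _ hb, Nat.card_eq_fintype_card, Fintype.card_subtype_compl,
    Fintype.card_subtype_eq, Fintype.card_prod, hK, sq]

end Cfsg.Agent.S1154
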