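import Cfsg.Statements.S1155
import Cfsg.Agent.Lib.LieTwistG2Small

set_option autoImplicit false
open Cfsg

namespace Cfsg.Agent.S1155

/-- In the small Ree group ²G₂(q), q = 3^(2m+1) with m ≥ 1, realised as G¹ inside the Chevalley group G₂ over the field with q elements (θ the 3^m-th power map): distinct Sylow 3-subgroups of `G¹` meet trivially. -/
theorem result {K : Type*} [Field K] [Fintype K] {m : ℕ} (hm : 1 ≤ m) (hK : Fintype.card K = 3 ^ (2 * m + 1))
    (P Q : Sylow 3 ↥(Cfsg.Lie.twistedG2 K (3 ^ m))) (hPQ : P ≠ Q) : (P : Subgroup ↥(Cfsg.Lie.twistedG2 K (3 ^ m))) ⊓ (Q : Subgroup ↥(Cfsg.Lie.twistedG2 K (3 ^ m))) = ⊥ := by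
  classical
  obtain ⟨_, _, θ, R, h3⟩ := CfsgLib.Lie.ree_setup hK
  haveI : Fact (Nat.Prime 3) := ⟨Nat.prime_three⟩
  haveI : Finite ↥(Cfsg.Lie.twistedG2 K (3 ^ m)) := inferInstance
  have hG := CfsgLib.Lie.genG2 R h3
  revert P Q
  set G := Cfsg.Lie.twistedG2 K (3 ^ m)
  intro P Q hPQ
  set U : Subgroup ↥G := (Cfsg.Lie.chevG2.posUnipotent K ⊓ G).subgroupOf G
  have hcU : Nat.card ↥U = Fintype.card K ^ 3 := by
    rw [Nat.card_congr (Subgroup.subgroupOfEquivOfLe inf_le_right).toEquiv, hG.pos_inf, CfsgLib.Lie.card_pos_fixed R]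
  have hcG : Nat.card ↥G = Fintype.card K ^ 3 * ((Fintype.card K - 1) * (Fintype.card K ^ 3 + 1)) := by
    rw [CfsgLib.Lie.G2_card R h3, mul_assoc]
  have hv : Nat.card ↥U = 3 ^ (Nat.card ↥G).factorization 3 := by
    have hn : ¬ (3 : ℕ) ∣ (Fintype.card K - 1) * (Fintype.card K ^ 3 + 1) := by
      have h0 : (3 : ℕ) ∣ Fintype.card K := hK ▸ dvd_pow_self 3 (Nat.succ_ne_zero _)
      have h1 : (3 : ℕ) ∣ Fintype.card K ^ 3 := dvd_pow h0 three_ne_zero
      have h2 : 0 < Fintype.card K := Fintype.card_pos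
      rw [Nat.prime_three.dvd_mul]
      omega
    have hm0 : (Fintype.card K - 1) * (Fintype.card K ^ 3 + 1) ≠ 0 := fun e => hn (e ▸ dvd_zero 3)
    rw [hcU, hcG, hK, ← pow_mul, Nat.factorization_mul (pow_ne_zero _ three_ne_zero) (by rw [hK, ← pow_mul] at hm0; exact hm0),
      Finsupp.add_apply, Nat.prime_three.factorization_pow, Finsupp.single_eq_same,
      Nat.factorization_eq_zero_of_not_dvd (by rw [hK, ← pow_mul] at hn; exact hn), add_zero]
  let S : Sylow 3 ↥G := Sylow.ofCard U hv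
  obtain ⟨g, hg⟩ := MulAction.exists_smul_eq ↥G S P
  obtain ⟨g', hg'⟩ := MulAction.exists_smul_eq ↥G S Q
  rw [eq_bot_iff]
  intro x hx
  obtain ⟨hxP, hxQ⟩ := Subgroup.mem_inf.1 hx
  rw [← hg] at hxP
  rw [← hg'] at hxQ
  rw [Sylow.coe_subgroup_smul, Subgroup.mem_pointwise_smul_iff_inv_smul_mem, show (S : Subgroup ↥G) = U from rfl] at hxP hxQ
  simp only [MulAut.smul_def, MulAut.conj_inv_apply, U, Subgroup.mem_subgroupOf, Subgroup.coe_mul, Subgroup.coe_inv,
    Subgroup.mem_inf] at hxP hxQ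
  rw [Subgroup.mem_bot]
  by_contra hne
  by_cases hB : ((g'⁻¹ * g : ↥G) : GL Cfsg.Lie.chevG2.Idx K) ∈ Cfsg.Lie.chevG2.borelSubgroup K
  · apply hPQ
    rw [← hg, ← hg']
    obtain ⟨v, hv1, d, hd, e⟩ := (CfsgLib.Lie.Tab.mem_borel CfsgLib.Lie.checkedG2).1 hB
    have hn : g'⁻¹ * g ∈ Subgroup.normalizer (U : Set ↥G) := by
      rw [Subgroup.mem_normalizer_iff]
      intro z
      have hnz : ((g'⁻¹ * g : ↥G) : GL Cfsg.Lie.chevG2.Idx K) ∈
          Subgroup.normalizer (Cfsg.Lie.chevG2.posUnipotent K : Set (GL Cfsg.Lie.chevG2.Idx K)) := by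
        rw [e]
        exact mul_mem (Subgroup.le_normalizer hv1) (CfsgLib.Lie.Tab.diagonal_le_normalizer_pos CfsgLib.Lie.checkedG2 hd)
      simp only [U, Subgroup.mem_subgroupOf, Subgroup.mem_inf, Subgroup.coe_mul, Subgroup.coe_inv]
      have := Subgroup.mem_normalizer_iff.1 hnz (z : GL Cfsg.Lie.chevG2.Idx K)
      simp only [Subgroup.coe_mul, Subgroup.coe_inv] at this
      exact and_congr this (iff_of_true z.2 (mul_mem (mul_mem (mul_mem (inv_mem g'.2) g.2) z.2)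
        (inv_mem (mul_mem (inv_mem g'.2) g.2))))
    have hs : (g'⁻¹ * g) • S = S := Sylow.smul_eq_iff_mem_normalizer.2 (by exact hn)
    calc g • S = g' • ((g'⁻¹ * g) • S) := by rw [smul_smul, mul_inv_cancel_left]
      _ = g' • S := by rw [hs]
  · have h := CfsgLib.Lie.G2_TI R h3 (SetLike.coe_mem _) hB (Subgroup.mem_inf.2 hxP) (by
      convert hxQ.1 using 1
      simp only [Subgroup.coe_mul, Subgroup.coe_inv]
      group)
    apply hne
    apply Subtype.ext
    simpa [mul_assoc, inv_mul_eq_iff_eq_mul] using h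

end Cfsg.Agent.S1155
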