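import Cfsg.Statements.S1293
import Cfsg.Agent.Lib.LocalPComponent

set_option autoImplicit false
open Cfsg

namespace Cfsg.Agent.S1293

open scoped Pointwise

universe u

theorem charP_bar {X : Type u} [Group X] [Finite X] {p : ℕ} [hp : Fact p.Prime]
    [(Cfsg.pPrimeCore p X).Normal] :
    Cfsg.pLayer p X = ⊥ ↔ Cfsg.generalizedFittingSubgroup (X ⧸ Cfsg.pPrimeCore p X) =
      Cfsg.pCore p (X ⧸ Cfsg.pPrimeCore p X) := by
  rw [CfsgLib.Local.Comp.charP_iff]
  constructor
  · intro h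
    refine ⟨fun K hK => ?_, fun q hq hqp => ?_⟩
    · obtain ⟨L, hL, hLK⟩ := CfsgLib.Local.PComp.exists_pComponent hK
      refine CfsgLib.Core.component_ne_bot hK ?_
      rw [← hLK, show L = ⊥ from le_bot_iff.mp (h ▸ le_sSup hL), Subgroup.map_bot]
    · haveI := Fact.mk hq
      refine le_bot_iff.mp (le_of_le_of_eq ?_ (CfsgLib.Core.pPrimeCore_quotient_pPrimeCore p))
      refine CfsgLib.Core.le_pPrimeCore (CfsgLib.Core.normal_pCore q) ?_
      obtain ⟨k, hk⟩ := IsPGroup.iff_card.mp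
        (CfsgLib.Core.isPGroup_pCore (G := X ⧸ Cfsg.pPrimeCore p X) q)
      rw [hk]
      exact ((Nat.coprime_primes hq hp.out).mpr hqp).pow_left k
  · rintro ⟨h, -⟩
    exact le_bot_iff.mp (sSup_le fun L hL => absurd hL.2.1 (h _))


/-- Let G be finite with L_{p'}(G) = 1, and H = N_G(P) for a nontrivial p-subgroup P. Then L_{p'}(H) = 1 and O_{p'}(H) ≤ O_{p'}(G). -/
theorem result {G : Type*} [Group G] [Finite G] (p : ℕ) [Fact p.Prime] (hL : Cfsg.pLayer p G = ⊥) (P : Subgroup G) (hP : IsPGroup p ↥P) (hP1 : P ≠ ⊥) : Cfsg.pLayer p ↥(Subgroup.normalizer (P : Set G)) = ⊥ ∧ (Cfsg.pPrimeCore p ↥(Subgroup.normalizer (P : Set G))).map (Subgroup.normalizer (P : Set G)).subtype ≤ Cfsg.pPrimeCore p G := by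
  haveI := CfsgLib.Core.normal_pPrimeCore (G := G) p
  set N := Subgroup.normalizer (P : Set G) with hN
  haveI := CfsgLib.Core.normal_pPrimeCore (G := ↥N) p
  set f := (QuotientGroup.mk' (Cfsg.pPrimeCore p G)).comp N.subtype with hf
  set Nb := Subgroup.normalizer ((P.map (QuotientGroup.mk' (Cfsg.pPrimeCore p G)) :
    Subgroup (G ⧸ Cfsg.pPrimeCore p G)) : Set (G ⧸ Cfsg.pPrimeCore p G)) with hNb
  have hrange : f.range = Nb := by
    rw [hf, MonoidHom.range_comp, Subgroup.range_subtype, hNb,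
      CfsgLib.Local.PComp.normalizer_map_mk hP]
  have hNbP := CfsgLib.Local.Comp.charP_normalizer (charP_bar.mp hL)
    (hP.map (QuotientGroup.mk' (Cfsg.pPrimeCore p G)))
  have hr : Cfsg.generalizedFittingSubgroup ↥f.range = Cfsg.pCore p ↥f.range :=
    CfsgLib.Local.Comp.charP_congr p (MulEquiv.subgroupCongr hrange.symm) hNbP
  have hcore : Cfsg.pPrimeCore p ↥f.range = ⊥ := by
    haveI := CfsgLib.Core.normal_pPrimeCore (G := ↥f.range) p
    haveI := CfsgLib.Core.normal_pCore (G := ↥f.range) p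
    rw [eq_bot_iff, ← CfsgLib.Core.pCore_inf_pPrimeCore (G := ↥f.range) p]
    refine le_inf ?_ le_rfl
    refine le_trans (fun y hy => ?_) ((CfsgLib.Local.Comp.charP_iff_centralizer p).mp hr)
    rw [Subgroup.mem_centralizer_iff]
    intro s hs
    exact Subgroup.commute_of_normal_of_disjoint _ _ inferInstance inferInstance
      (disjoint_iff.mpr (CfsgLib.Core.pCore_inf_pPrimeCore p)) s y hs hy
  have hle : Cfsg.pPrimeCore p ↥N ≤ f.ker := fun x hx => by
    have h1 : f.rangeRestrict x ∈ Cfsg.pPrimeCore p ↥f.range :=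
      CfsgLib.Core.map_pPrimeCore_le_of_surjective p _ f.rangeRestrict_surjective ⟨x, hx, rfl⟩
    rw [hcore, Subgroup.mem_bot] at h1
    exact congrArg Subtype.val h1
  have hker : f.ker = Cfsg.pPrimeCore p ↥N := by
    refine le_antisymm ?_ hle
    refine CfsgLib.Core.le_pPrimeCore (MonoidHom.normal_ker f) ?_
    refine Nat.Coprime.coprime_dvd_left ?_ (CfsgLib.Core.coprime_card_pPrimeCore (G := G) p)
    have : f.ker = (Cfsg.pPrimeCore p G).subgroupOf N := by
      ext x
      exact QuotientGroup.eq_one_iff _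
    rw [this]
    exact Subgroup.card_comap_dvd_of_injective _ N.subtype N.subtype_injective
  refine ⟨charP_bar.mpr (CfsgLib.Local.Comp.charP_congr p
    ((QuotientGroup.quotientKerEquivRange f).symm.trans (QuotientGroup.quotientMulEquivOfEq hker)) hr),
    ?_⟩
  rintro _ ⟨x, hx, rfl⟩
  exact (QuotientGroup.eq_one_iff _).mp (hle hx)

end Cfsg.Agent.S1293
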