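import Cfsg.Statements.S1323
import Mathlib
import Cfsg.Agent.Lib.CoreLayer

set_option autoImplicit false
open Cfsg

namespace Cfsg.Agent.S1323

open Equiv
open scoped commutatorElement

theorem quasisimple_of_simple {H : Type*} [Group H] [IsSimpleGroup H] (a b : H) (hab : a * b ≠ b * a) :
    Cfsg.IsQuasisimple H := by
  have hz : Subgroup.center H = ⊥ := (IsSimpleGroup.eq_bot_or_eq_top_of_normal _ inferInstance).resolve_right
    fun h => hab (Subgroup.mem_center_iff.mp (h ▸ Subgroup.mem_top b : b ∈ Subgroup.center H) a)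
  have hc : commutator H = ⊤ := (IsSimpleGroup.eq_bot_or_eq_top_of_normal _ inferInstance).resolve_left fun h => by
    have h' : ⁅a, b⁆ ∈ commutator H := by
      rw [commutator_def]; exact Subgroup.commutator_mem_commutator (Subgroup.mem_top a) (Subgroup.mem_top b)
    rw [h, Subgroup.mem_bot, commutatorElement_eq_one_iff_mul_comm] at h'
    exact hab h'
  refine ⟨⟨hc⟩, ?_⟩
  haveI := ((QuotientGroup.quotientMulEquivOfEq hz).trans QuotientGroup.quotientBot).toEquiv.nontrivial
  exact IsSimpleGroup.isSimpleGroup_of_surjective (QuotientGroup.mk' (Subgroup.center H)) (QuotientGroup.mk'_surjective _)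

/-- For n ≥ 9, the subgroup of the alternating group on Fin n fixing each of the points 0, 1, 2, 3 is a standard subgroup. -/
theorem result (n : ℕ) (h4 : 4 ≤ n) (hn : 9 ≤ n) : Cfsg.IsStandardSubgroup (⨅ i : Fin 4, MulAction.stabilizer ↥(alternatingGroup (Fin n)) (Fin.castLE h4 i : Fin n)) := by
  classical
  set L := ⨅ i : Fin 4, MulAction.stabilizer ↥(alternatingGroup (Fin n)) (Fin.castLE h4 i : Fin n) with hL
  have memL : ∀ σ : ↥(alternatingGroup (Fin n)), σ ∈ L ↔ ∀ z : Fin n, z.val < 4 → σ.1 z = z := by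
    intro σ
    rw [hL, Subgroup.mem_iInf]
    exact ⟨fun h z hz => h ⟨z.val, hz⟩, fun h i => h (Fin.castLE h4 i) i.2⟩
  -- three-cycles inside `L`
  have three : ∀ x u v : Fin n, 4 ≤ x.val → 4 ≤ u.val → 4 ≤ v.val → x ≠ u → x ≠ v → u ≠ v →
      ∃ a ∈ L, (∀ z, z ≠ x → z ≠ u → z ≠ v → a.1 z = z) ∧ a.1 x ≠ x := by
    intro x u v hx hu hv hxu hxv huv
    refine ⟨⟨swap x u * swap x v, (Perm.isThreeCycle_swap_mul_swap_same hxu hxv huv).mem_alternatingGroup⟩,
      ?_, ?_, ?_⟩
    · rw [memL]
      intro z hz
      have e1 : z ≠ x := fun e => absurd (e ▸ hz) (not_lt.mpr hx)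
      have e2 : z ≠ u := fun e => absurd (e ▸ hz) (not_lt.mpr hu)
      have e3 : z ≠ v := fun e => absurd (e ▸ hz) (not_lt.mpr hv)
      simp [swap_apply_of_ne_of_ne e1 e3, swap_apply_of_ne_of_ne e1 e2]
    · intro z e1 e2 e3
      simp [swap_apply_of_ne_of_ne e1 e3, swap_apply_of_ne_of_ne e1 e2]
    · simp [swap_apply_of_ne_of_ne hxv.symm huv.symm, hxv.symm]
  have pick : ∀ a b : Fin n, ∃ u v : Fin n, 4 ≤ u.val ∧ 4 ≤ v.val ∧ u ≠ v ∧ u ≠ a ∧ u ≠ b ∧ v ≠ a ∧ v ≠ b := by
    intro a b
    let T := ((Finset.univ : Finset (Fin n)).filter fun z => 4 ≤ z.val) \ {a, b}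
    have hT : 1 < T.card := by
      have h1 : ((Finset.univ : Finset (Fin n)).filter fun z => 4 ≤ z.val).card = n - 4 := by
        have e : (Finset.univ : Finset (Fin n)).filter (fun z => 4 ≤ z.val) = Finset.Ici (⟨4, by omega⟩ : Fin n) := by
          ext z; simp [Fin.le_def]
        rw [e, Fin.card_Ici]
      have h2 := Finset.le_card_sdiff ({a, b} : Finset (Fin n)) ((Finset.univ : Finset (Fin n)).filter fun z => 4 ≤ z.val)
      have h3 : ({a, b} : Finset (Fin n)).card ≤ 2 := Finset.card_le_two
      show 1 < (((Finset.univ : Finset (Fin n)).filter fun z => 4 ≤ z.val) \ {a, b}).card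
      omega
    obtain ⟨u, hu, v, hv, huv⟩ := Finset.one_lt_card.mp hT
    simp only [T, Finset.mem_sdiff, Finset.mem_filter, Finset.mem_univ, true_and, Finset.mem_insert,
      Finset.mem_singleton, not_or] at hu hv
    exact ⟨u, v, hu.1, hv.1, huv, hu.2.1, hu.2.2, hv.2.1, hv.2.2⟩
  -- the centraliser
  have memK : ∀ σ : ↥(alternatingGroup (Fin n)),
      σ ∈ Subgroup.centralizer (L : Set ↥(alternatingGroup (Fin n))) ↔ ∀ z : Fin n, 4 ≤ z.val → σ.1 z = z := by
    intro σ
    constructor
    · intro h z hz
      by_contra hne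
      have key : ∀ a ∈ L, ∀ w, a.1 (σ.1 w) = σ.1 (a.1 w) := fun a ha w =>
        congrArg (fun τ : ↥(alternatingGroup (Fin n)) => τ.1 w) (Subgroup.mem_centralizer_iff.mp h a ha)
      obtain ⟨u, v, hu, hv, huv, hua, hub, hva, hvb⟩ := pick z (σ.1 z)
      by_cases hs : 4 ≤ (σ.1 z).val
      · obtain ⟨a, ha, hfix, hmov⟩ := three (σ.1 z) u v hs hu hv hub.symm hvb.symm huv
        refine hmov ?_
        rw [key a ha, hfix z (fun e => hne e.symm) hua.symm hva.symm]
      · obtain ⟨a, ha, hfix, hmov⟩ := three z u v hz hu hv hua.symm hva.symm huv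
        have h1 := key a ha z
        rw [(memL a).mp ha _ (not_le.mp hs)] at h1
        exact hmov (σ.1.injective h1).symm
    · intro h
      rw [Subgroup.mem_centralizer_iff]
      intro a ha
      apply Subtype.ext
      ext z : 1
      show a.1 (σ.1 z) = σ.1 (a.1 z)
      have ha' := (memL a).mp ha
      by_cases hz : 4 ≤ z.val
      · rw [h z hz]
        have : 4 ≤ (a.1 z).val := by
          by_contra hlt
          have := a.1.injective (ha' _ (not_le.mp hlt))
          rw [this] at hlt
          exact hlt hz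
        rw [h _ this]
      · rw [ha' z (not_le.mp hz)]
        have : (σ.1 z).val < 4 := by
          by_contra hle
          have := σ.1.injective (h _ (not_lt.mp hle))
          rw [this] at hle
          exact hle (not_le.mp hz)
        rw [ha' _ this]
  -- stabilisers of the two subgroups
  let Stab : ↥(alternatingGroup (Fin n)) → Prop := fun g => ∀ z : Fin n, z.val < 4 ↔ (g.1 z).val < 4
  have ev : ∀ (g s : ↥(alternatingGroup (Fin n))) (z : Fin n), (g * s * g⁻¹).1 (g.1 z) = g.1 (s.1 z) :=
    fun g s z => by simp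
  have stabL : ∀ g, Stab g → g ∈ Subgroup.normalizer (L : Set ↥(alternatingGroup (Fin n))) := by
    intro g hg
    rw [Subgroup.mem_normalizer_iff]
    intro s
    rw [memL, memL]
    constructor
    · intro h z hz
      obtain ⟨w, rfl⟩ := g.1.surjective z
      rw [ev, h w ((hg w).mpr hz)]
    · intro h z hz
      have := h _ ((hg z).mp hz)
      rw [ev] at this
      exact g.1.injective this
  have hnormK : ∀ g, g ∈ Subgroup.normalizer (L : Set ↥(alternatingGroup (Fin n))) →
      g ∈ Subgroup.normalizer (Subgroup.centralizer (L : Set ↥(alternatingGroup (Fin n))) : Set ↥(alternatingGroup (Fin n))) := by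
    intro g hg
    rw [Subgroup.mem_normalizer_iff]
    intro s
    rw [Subgroup.mem_centralizer_iff, Subgroup.mem_centralizer_iff]
    constructor
    · intro h a ha
      have h1 := h (g⁻¹ * a * g) ((Subgroup.mem_normalizer_iff.mp hg _).mpr (by simpa [mul_assoc] using ha))
      calc a * (g * s * g⁻¹) = g * ((g⁻¹ * a * g) * s) * g⁻¹ := by group
        _ = g * (s * (g⁻¹ * a * g)) * g⁻¹ := by rw [h1]
        _ = g * s * g⁻¹ * a := by group
    · intro h a ha
      have h1 := h _ ((Subgroup.mem_normalizer_iff.mp hg a).mp ha)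
      calc a * s = g⁻¹ * ((g * a * g⁻¹) * (g * s * g⁻¹)) * g := by group
        _ = g⁻¹ * ((g * s * g⁻¹) * (g * a * g⁻¹)) * g := by rw [h1]
        _ = s * a := by group
  -- the double transposition
  let q : Fin 4 → Fin n := Fin.castLE h4
  have qlt : ∀ i, (q i).val < 4 := fun i => i.2
  have hq : ∀ i j : Fin 4, i ≠ j → q i ≠ q j := fun i j h e => h (Fin.castLE_injective h4 e)
  let x : ↥(alternatingGroup (Fin n)) := ⟨swap (q 0) (q 1) * swap (q 2) (q 3), by
    rw [Perm.mem_alternatingGroup, map_mul, Perm.sign_swap (hq _ _ (by decide)), Perm.sign_swap (hq _ _ (by decide))]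
    simp⟩
  have hxK : x ∈ Subgroup.centralizer (L : Set ↥(alternatingGroup (Fin n))) := by
    rw [memK]
    intro z hz
    have hne : ∀ i, z ≠ q i := fun i e => by have := qlt i; rw [← e] at this; omega
    simp [x, swap_apply_of_ne_of_ne (hne 0) (hne 1), swap_apply_of_ne_of_ne (hne 2) (hne 3)]
  have hxm : ∀ z : Fin n, z.val < 4 → x.1 z ≠ z := by
    intro z hz
    obtain ⟨i, rfl⟩ : ∃ i, q i = z := ⟨⟨z.val, hz⟩, rfl⟩
    fin_cases i <;> simp [x, swap_apply_of_ne_of_ne, hq _ _ (show (0 : Fin 4) ≠ 2 by decide),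
      hq _ _ (show (0 : Fin 4) ≠ 3 by decide), hq _ _ (show (1 : Fin 4) ≠ 2 by decide),
      hq _ _ (show (1 : Fin 4) ≠ 3 by decide), hq _ _ (show (2 : Fin 4) ≠ 0 by decide),
      hq _ _ (show (2 : Fin 4) ≠ 1 by decide), hq _ _ (show (3 : Fin 4) ≠ 0 by decide),
      hq _ _ (show (3 : Fin 4) ≠ 1 by decide), hq _ _ (show (1 : Fin 4) ≠ 0 by decide),
      hq _ _ (show (3 : Fin 4) ≠ 2 by decide), hq _ _ (show (0 : Fin 4) ≠ 1 by decide),
      hq _ _ (show (2 : Fin 4) ≠ 3 by decide)]
  have ofNK : ∀ g, g ∈ Subgroup.normalizer (Subgroup.centralizer (L : Set ↥(alternatingGroup (Fin n))) : Set ↥(alternatingGroup (Fin n))) → Stab g := by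
    intro g hg z
    have hK := (memK _).mp ((Subgroup.mem_normalizer_iff.mp hg x).mp hxK)
    have back : ∀ w : Fin n, 4 ≤ (g.1 w).val → 4 ≤ w.val := by
      intro w hw
      by_contra hlt
      have := hK _ hw
      rw [ev] at this
      exact hxm w (not_le.mp hlt) (g.1.injective this)
    have fin : ((Finset.univ : Finset (Fin n)).filter fun w => w.val < 4).image g.1 =
        (Finset.univ : Finset (Fin n)).filter fun w => w.val < 4 := by
      refine Finset.eq_of_subset_of_card_le ?_ (Finset.card_image_of_injective _ g.1.injective).ge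
      intro w hw
      simp only [Finset.mem_image, Finset.mem_filter, Finset.mem_univ, true_and] at hw ⊢
      obtain ⟨y, hy, rfl⟩ := hw
      exact not_le.mp fun h => absurd hy (not_lt.mpr (back y h))
    constructor
    · intro hz
      exact not_le.mp fun h => absurd hz (not_lt.mpr (back z h))
    · intro hz
      have hz' : g.1 z ∈ ((Finset.univ : Finset (Fin n)).filter fun w => w.val < 4).image g.1 := by
        rw [fin]; simp [hz]
      simp only [Finset.mem_image, Finset.mem_filter, Finset.mem_univ, true_and] at hz'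
      obtain ⟨y, hy, e⟩ := hz'
      exact g.1.injective e ▸ hy
  refine ⟨?_, ⟨?_, ?_⟩, ?_, ?_⟩
  · -- quasisimple
    let P : Fin n → Prop := fun z => 4 ≤ z.val
    let f : ↥(alternatingGroup {z // P z}) →* ↥L :=
      ((((Perm.ofSubtype (p := P)).comp (alternatingGroup {z // P z}).subtype).codRestrict (alternatingGroup (Fin n))
        fun σ => by
          rw [MonoidHom.comp_apply, Perm.mem_alternatingGroup, Perm.sign_ofSubtype]
          exact σ.2).codRestrict L fun σ => by
        rw [memL]
        intro z hz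
        exact Perm.ofSubtype_apply_of_not_mem _ (not_le.mpr hz))
    have hfi : Function.Injective f := fun a b h => Subtype.ext (Perm.ofSubtype_injective
      (congrArg (fun u : ↥L => (u : ↥(alternatingGroup (Fin n))).1) h))
    have hfs : Function.Surjective f := by
      intro u
      have hu := (memL u.1).mp u.2
      have hP : ∀ z, P z ↔ P (u.1.1 z) := by
        intro z
        constructor
        · intro hz
          by_contra h
          have := u.1.1.injective (hu _ (not_le.mp h))
          rw [this] at h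
          exact h hz
        · intro hz
          by_contra h
          rw [hu z (not_le.mp h)] at hz
          exact h hz
      have e : Perm.ofSubtype (Perm.subtypePerm u.1.1 fun z => (hP z).symm) = u.1.1 :=
        Perm.ofSubtype_subtypePerm _ (fun z hz => by
          by_contra h; exact hz (hu z (not_le.mp h)))
      refine ⟨⟨Perm.subtypePerm u.1.1 fun z => (hP z).symm, ?_⟩, Subtype.ext (Subtype.ext e)⟩
      rw [Perm.mem_alternatingGroup, ← Perm.sign_ofSubtype, e]
      exact u.1.2
    have hcard : 5 ≤ Nat.card {z // P z} := by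
      let i : Fin 5 → {z // P z} := fun i => ⟨⟨i.val + 4, by omega⟩, Nat.le_add_left _ _⟩
      have := Nat.card_le_card_of_injective i (fun a b h => Fin.ext (by
        have := congrArg (fun w : {z // P z} => w.1.val) h
        simp only [i] at this; omega))
      simpa using this
    haveI := alternatingGroup.isSimpleGroup hcard
    refine CfsgLib.Core.quasisimple_congr (MulEquiv.ofBijective f ⟨hfi, hfs⟩) ?_
    let r : Fin 5 → {z // P z} := fun i => ⟨⟨i.val + 4, by omega⟩, Nat.le_add_left _ _⟩
    have hr : ∀ i j : Fin 5, i ≠ j → r i ≠ r j := fun i j h e => h (Fin.ext (by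
      have := congrArg (fun w : {z // P z} => w.1.val) e
      simp only [r] at this; omega))
    refine quasisimple_of_simple
      ⟨swap (r 0) (r 1) * swap (r 0) (r 2), (Perm.isThreeCycle_swap_mul_swap_same (hr _ _ (by decide))
        (hr _ _ (by decide)) (hr _ _ (by decide))).mem_alternatingGroup⟩
      ⟨swap (r 0) (r 3) * swap (r 0) (r 4), (Perm.isThreeCycle_swap_mul_swap_same (hr _ _ (by decide))
        (hr _ _ (by decide)) (hr _ _ (by decide))).mem_alternatingGroup⟩ ?_
    intro h
    have := congrArg (fun σ : ↥(alternatingGroup {z // P z}) => σ.1 (r 3)) h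
    simp [swap_apply_of_ne_of_ne, swap_apply_left, hr _ _ (show (2 : Fin 5) ≠ 0 by decide),
      hr _ _ (show (2 : Fin 5) ≠ 3 by decide), hr _ _ (show (2 : Fin 5) ≠ 4 by decide),
      hr _ _ (show (1 : Fin 5) ≠ 0 by decide), hr _ _ (show (1 : Fin 5) ≠ 3 by decide),
      hr _ _ (show (1 : Fin 5) ≠ 4 by decide), hr _ _ (show (0 : Fin 5) ≠ 2 by decide),
      hr _ _ (show (0 : Fin 5) ≠ 4 by decide), hr _ _ (show (4 : Fin 5) ≠ 0 by decide),
      hr _ _ (show (3 : Fin 5) ≠ 0 by decide), hr _ _ (show (0 : Fin 5) ≠ 1 by decide),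
      hr _ _ (show (0 : Fin 5) ≠ 3 by decide), hr _ _ (show (3 : Fin 5) ≠ 4 by decide),
      hr _ _ (show (3 : Fin 5) ≠ 1 by decide), hr _ _ (show (3 : Fin 5) ≠ 2 by decide), hr _ _ (show (2 : Fin 5) ≠ 1 by decide)] at this
  · -- even order
    rw [even_iff_two_dvd]
    have ho : orderOf x = 2 := by
      refine orderOf_eq_prime ?_ fun e => ?_
      · apply Subtype.ext
        ext z : 1
        by_cases hz : z.val < 4
        · obtain ⟨i, rfl⟩ : ∃ i, q i = z := ⟨⟨z.val, hz⟩, rfl⟩
          fin_cases i <;> simp [x, pow_two, swap_apply_of_ne_of_ne, hq _ _ (show (0 : Fin 4) ≠ 2 by decide),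
            hq _ _ (show (0 : Fin 4) ≠ 3 by decide), hq _ _ (show (1 : Fin 4) ≠ 2 by decide),
            hq _ _ (show (1 : Fin 4) ≠ 3 by decide), hq _ _ (show (2 : Fin 4) ≠ 0 by decide),
            hq _ _ (show (2 : Fin 4) ≠ 1 by decide), hq _ _ (show (3 : Fin 4) ≠ 0 by decide),
            hq _ _ (show (3 : Fin 4) ≠ 1 by decide)]
        · have hf := (memK x).mp hxK z (not_lt.mp hz)
          simp only [pow_two]
          show x.1 (x.1 z) = z
          rw [hf, hf]
      · exact hxm (q 0) (qlt 0) (by rw [e]; rfl)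
    rw [← ho, ← Subgroup.orderOf_mk (H := Subgroup.centralizer (L : Set ↥(alternatingGroup (Fin n)))) x hxK]
    exact orderOf_dvd_natCard _
  · intro g hg
    rw [← Nat.not_even_iff_odd, even_iff_two_dvd]
    intro h2
    obtain ⟨⟨y, hy⟩, hy2⟩ := exists_prime_orderOf_dvd_card' 2 h2
    rw [Subgroup.orderOf_mk] at hy2
    obtain ⟨hyK, y', hy'K, hyy'⟩ := hy
    have hy4 : ∀ z : Fin n, z.val < 4 → y.1 z ≠ z := by
      intro z hz hfix
      have hsupp : y.1.support ⊆ ((Finset.univ : Finset (Fin n)).filter fun w => w.val < 4).erase z := by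
        intro w hw
        rw [Perm.mem_support] at hw
        simp only [Finset.mem_erase, Finset.mem_filter, Finset.mem_univ, true_and]
        exact ⟨fun e => hw (e ▸ hfix), not_le.mp fun h => hw ((memK y).mp hyK w h)⟩
      have hc : (((Finset.univ : Finset (Fin n)).filter fun w => w.val < 4).erase z).card ≤ 3 := by
        have e : (Finset.univ : Finset (Fin n)).filter (fun w => w.val < 4) = Finset.univ.image q := by
          ext w
          simp only [Finset.mem_filter, Finset.mem_univ, true_and, Finset.mem_image]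
          exact ⟨fun h => ⟨⟨w.val, h⟩, rfl⟩, fun ⟨i, hi⟩ => hi ▸ qlt i⟩
        rw [Finset.card_erase_of_mem (by simp [hz]), e]
        have := Finset.card_image_le (s := (Finset.univ : Finset (Fin 4))) (f := q)
        simp only [Finset.card_univ, Fintype.card_fin] at this
        omega
      have hord : orderOf y.1 = 2 := by rw [Subgroup.orderOf_coe]; exact hy2
      obtain ⟨m, hm⟩ := Perm.cycleType_prime_order (σ := y.1) (hord ▸ Nat.prime_two)
      rw [hord] at hm
      have hsum := Perm.sum_cycleType y.1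
      rw [hm, Multiset.sum_replicate, smul_eq_mul] at hsum
      have := (Finset.card_le_card hsupp).trans hc
      have hm0 : m = 0 := by omega
      have hsgn : Perm.sign y.1 = 1 := y.2
      rw [Perm.sign_of_cycleType, hm, hm0] at hsgn
      simp at hsgn
      exact absurd hsgn (by decide)
    apply hg
    refine hnormK g (stabL g fun z => ?_)
    have hy'' : ∀ w : Fin n, 4 ≤ w.val → y.1 (g.1 w) = g.1 w := by
      intro w hw
      rw [← hyy']
      show (g * y' * g⁻¹).1 (g.1 w) = g.1 w
      rw [ev, (memK y').mp hy'K w hw]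
    have fwd : ∀ w : Fin n, 4 ≤ w.val → 4 ≤ (g.1 w).val := fun w hw => by
      by_contra h
      exact hy4 _ (not_le.mp h) (hy'' w hw)
    have fin : ((Finset.univ : Finset (Fin n)).filter fun w => 4 ≤ w.val).image g.1 =
        (Finset.univ : Finset (Fin n)).filter fun w => 4 ≤ w.val := by
      refine Finset.eq_of_subset_of_card_le ?_ (Finset.card_image_of_injective _ g.1.injective).ge
      intro w hw
      simp only [Finset.mem_image, Finset.mem_filter, Finset.mem_univ, true_and] at hw ⊢
      obtain ⟨u, hu, rfl⟩ := hw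
      exact fwd u hu
    constructor
    · intro hz
      by_contra h
      have hz' : g.1 z ∈ ((Finset.univ : Finset (Fin n)).filter fun w => 4 ≤ w.val).image g.1 := by
        rw [fin]; simp [not_lt.mp h]
      simp only [Finset.mem_image, Finset.mem_filter, Finset.mem_univ, true_and] at hz'
      obtain ⟨u, hu, e⟩ := hz'
      rw [g.1.injective e] at hu
      omega
    · intro hz
      exact not_le.mp fun h => absurd hz (not_lt.mpr (fwd z h))
  · intro g hg hcomm
    rw [Subgroup.commutator_eq_bot_iff_le_centralizer] at hcomm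
    -- each point moved by `L` is sent among the first four
    have small : ∀ z : Fin n, 4 ≤ z.val → (g.1 z).val < 4 := by
      intro z hz
      obtain ⟨u, v, hu, hv, huv, hua, -, hva, -⟩ := pick z z
      obtain ⟨a, ha, -, hmov⟩ := three z u v hz hu hv hua.symm hva.symm huv
      by_contra h
      have hmem : g * a * g⁻¹ ∈ Subgroup.centralizer (L : Set ↥(alternatingGroup (Fin n))) := by
        rw [Subgroup.mem_centralizer_iff]
        intro b hb
        exact (Subgroup.mem_centralizer_iff.mp (hcomm hb) (g * a * g⁻¹) ⟨a, ha, rfl⟩).symm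
      have := (memK _).mp hmem _ (not_lt.mp h)
      rw [ev] at this
      exact hmov (g.1.injective this)
    let i : Fin 5 → Fin 4 := fun i => ⟨(g.1 ⟨i.val + 4, by omega⟩).val, small _ (Nat.le_add_left _ _)⟩
    have hi : Function.Injective i := fun a b h => Fin.ext (by
      have h' : (g.1 ⟨a.val + 4, by omega⟩).val = (g.1 ⟨b.val + 4, by omega⟩).val := congrArg (fun w : Fin 4 => w.val) h
      have := congrArg Fin.val (g.1.injective (Fin.ext h'))
      simp only at this; omega)
    exact absurd (Fintype.card_le_of_injective i hi) (by simp)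
  · exact le_antisymm hnormK fun g hg => stabL g (ofNK g hg)

end Cfsg.Agent.S1323
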