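import Cfsg.Statements.S1339
import Mathlib
import Cfsg.Agent.Lib.CoreBasic
import Cfsg.Agent.Lib.CoreLayer

set_option autoImplicit false
open Cfsg

namespace Cfsg.Agent.S1339

open scoped commutatorElement

theorem generalizedFitting_eq_of_pGroup {X : Type*} [Group X] [Finite X] {p : ℕ} [hp : Fact p.Prime]
    (R : Subgroup X) [hR : R.Normal] (hRp : IsPGroup p R) (hc : Subgroup.centralizer (R : Set X) ≤ R)
    (hmax : ∀ N : Subgroup X, N.Normal → IsPGroup p N → N ≤ R) :
    Cfsg.generalizedFittingSubgroup X = R := by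
  haveI : Group.IsNilpotent R := hRp.isNilpotent
  have hRs : Group.IsSolvable R := inferInstance
  have hlay : Cfsg.layer X = ⊥ := by
    have h1 : Cfsg.layer X ≤ R := le_trans (Subgroup.commutator_eq_bot_iff_le_centralizer.1
      (CfsgLib.Core.commutator_layer_of_subnormal_solvable hR.isSubnormal hRs)) hc
    have h2 := CfsgLib.Core.commutator_layer_of_subnormal_solvable hR.isSubnormal hRs
    rw [eq_bot_iff, ← CfsgLib.Core.layer_perfect, ← h2]
    exact Subgroup.commutator_mono le_rfl h1
  have hcore : Cfsg.pPrimeCore p X = ⊥ := by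
    haveI hn := CfsgLib.Core.normal_pPrimeCore (G := X) p
    obtain ⟨k, hk⟩ := IsPGroup.iff_card.1 hRp
    have hcop : (Nat.card R).Coprime (Nat.card (Cfsg.pPrimeCore p X)) := by
      rw [hk]; exact (CfsgLib.Core.coprime_card_pPrimeCore p).symm.pow_left k
    have hdis : R ⊓ Cfsg.pPrimeCore p X = ⊥ := Subgroup.inf_eq_bot_of_coprime hcop
    have h1 : Cfsg.pPrimeCore p X ≤ R := fun x hx => hc (Subgroup.mem_centralizer_iff.2 fun r hr =>
      Subgroup.commute_of_normal_of_disjoint _ _ hR hn (disjoint_iff.2 hdis) r x hr hx)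
    rw [← hdis, inf_eq_right.2 h1]
  rw [Cfsg.generalizedFittingSubgroup, hlay, bot_sup_eq,
    CfsgLib.Core.fittingSubgroup_eq_pCore_of_pPrimeCore_eq_bot hcore]
  exact le_antisymm (sSup_le fun N hN => hmax N hN.1 hN.2) (CfsgLib.Core.le_pCore hR hRp)

/-- Let F be a field with 2 elements, n ≥ 3, and t ∈ SL(n, F) a transvection (t = 1 + E_{ij}, i ≠ j). Then the generalized Fitting subgroup of C(t) is O_2(C(t)). -/
theorem result {F : Type*} [Field F] [Fintype F] [DecidableEq F] (hF : Fintype.card F = 2) (n : ℕ) (hn : 3 ≤ n) (i j : Fin n) (hij : i ≠ j) (t : Matrix.SpecialLinearGroup (Fin n) F) (ht : (t : Matrix (Fin n) (Fin n) F) = Matrix.transvection i j 1) : Cfsg.generalizedFittingSubgroup ↥(Subgroup.centralizer ({t} : Set (Matrix.SpecialLinearGroup (Fin n) F))) = Cfsg.pCore 2 ↥(Subgroup.centralizer ({t} : Set (Matrix.SpecialLinearGroup (Fin n) F))) := by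
  classical
  haveI : Fact (Nat.Prime 2) := ⟨Nat.prime_two⟩
  haveI : CharP F 2 := by
    obtain ⟨p, hp⟩ := CharP.exists F
    obtain ⟨k, hpp, hk⟩ := FiniteField.card F p
    have : p = 2 := (Nat.prime_dvd_prime_iff_eq hpp Nat.prime_two).mp (hF ▸ hk ▸ dvd_pow_self p k.ne_zero)
    exact this ▸ hp
  have f2 : ∀ x : F, x = 0 ∨ x = 1 := by
    intro x
    by_contra hx
    push Not at hx
    have h3 : ({0, 1, x} : Finset F).card = 3 := by
      rw [Finset.card_insert_of_notMem (by simp [hx.1.symm]), Finset.card_insert_of_notMem (by simp [hx.2.symm]),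
        Finset.card_singleton]
    have := Finset.card_le_univ ({0, 1, x} : Finset F)
    omega
  set C := Subgroup.centralizer ({t} : Set (Matrix.SpecialLinearGroup (Fin n) F)) with hCdef
  have comm : ∀ h : ↥C, h.1.1 * Matrix.transvection i j 1 = Matrix.transvection i j 1 * h.1.1 := by
    intro h
    rw [← ht]
    exact congrArg Subtype.val (Subgroup.mem_centralizer_iff.mp h.2 t rfl).symm
  have colI : ∀ (h : ↥C) (b : Fin n), b ≠ i → h.1.1 b i = 0 := by
    intro h b hb
    have e := congrFun (congrFun (comm h) b) j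
    rw [Matrix.mul_transvection_apply_same, Matrix.transvection_mul_apply_of_ne _ _ _ _ hb] at e
    simpa using e
  have diag : ∀ h : ↥C, h.1.1 i i = 1 := by
    intro h
    refine (f2 _).resolve_left fun h0 => ?_
    refine one_ne_zero (α := F) (h.1.2.symm.trans (Matrix.det_eq_zero_of_column_eq_zero i fun b => ?_))
    by_cases hb : b = i
    · rw [hb, h0]
    · exact colI h b hb
  let A : Subgroup ↥C :=
    { carrier := {g | ∀ b c, b ≠ i → g.1.1 b c = if b = c then 1 else 0}
      one_mem' := fun b c _ => by simp [Matrix.one_apply]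
      mul_mem' := fun {g h} hg hh b c hb => by
        show (g.1.1 * h.1.1) b c = _
        rw [Matrix.mul_apply, Finset.sum_eq_single b]
        · rw [hg b b hb, hh b c hb, if_pos rfl, one_mul]
        · intro k _ hk
          rw [hg b k hb, if_neg hk.symm, zero_mul]
        · simp
      inv_mem' := fun {g} hg b c hb => by
        have e : (g.1.1 * (g⁻¹).1.1) b c = (1 : Matrix (Fin n) (Fin n) F) b c := by
          have h1 : g * g⁻¹ = 1 := mul_inv_cancel g
          exact congrFun (congrFun (congrArg (fun x : ↥C => x.1.1) h1) b) c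
        rw [Matrix.mul_apply, Finset.sum_eq_single b] at e
        · rw [hg b b hb, if_pos rfl, one_mul] at e
          rw [e, Matrix.one_apply]
        · intro k _ hk
          rw [hg b k hb, if_neg hk.symm, zero_mul]
        · simp }
  have hA2 : IsPGroup 2 ↥A := by
    intro g
    refine ⟨1, Subtype.ext (Subtype.ext (Subtype.ext ?_))⟩
    show ((g.1 : ↥C) ^ 2).1.1 = 1
    rw [pow_two]
    show g.1.1.1 * g.1.1.1 = 1
    ext b c
    rw [Matrix.mul_apply]
    by_cases hb : b = i
    · subst hb
      rw [← Finset.add_sum_erase _ _ (Finset.mem_univ b), diag g.1, one_mul]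
      have e : ∑ k ∈ (Finset.univ : Finset (Fin n)).erase b, g.1.1.1 b k * g.1.1.1 k c =
          ∑ k ∈ (Finset.univ : Finset (Fin n)).erase b, g.1.1.1 b k * (if k = c then 1 else 0) :=
        Finset.sum_congr rfl fun k hk => by rw [g.2 k c (Finset.ne_of_mem_erase hk)]
      rw [e]
      by_cases hc : c = b
      · subst hc
        rw [Finset.sum_eq_zero, add_zero, diag g.1, Matrix.one_apply_eq]
        intro k hk
        rw [if_neg (Finset.ne_of_mem_erase hk), mul_zero]
      · rw [Finset.sum_eq_single c, if_pos rfl, mul_one, CharTwo.add_self_eq_zero, Matrix.one_apply_ne (Ne.symm hc)]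
        · intro k _ hk
          rw [if_neg hk, mul_zero]
        · intro h
          exact absurd (Finset.mem_erase.mpr ⟨hc, Finset.mem_univ c⟩) h
    · rw [Finset.sum_eq_single b, g.2 b b hb, if_pos rfl, one_mul, g.2 b c hb, Matrix.one_apply]
      · intro k _ hk
        rw [g.2 b k hb, if_neg hk.symm, zero_mul]
      · simp
  have hAn : A.Normal := by
    refine ⟨fun g hg h b c hb => ?_⟩
    have e : (h * g * h⁻¹).1.1 = h.1.1 * (g.1.1 - 1) * (h⁻¹).1.1 + 1 := by
      have h1 : h.1.1 * (h⁻¹).1.1 = 1 := congrArg (fun x : ↥C => x.1.1) (mul_inv_cancel h)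
      rw [Matrix.mul_sub, Matrix.sub_mul, mul_one, h1, sub_add_cancel]
      rfl
    rw [e, Matrix.add_apply, Matrix.one_apply, Matrix.mul_apply, Finset.sum_eq_zero, zero_add]
    intro k _
    rw [Matrix.mul_apply, Finset.sum_eq_zero, zero_mul]
    intro l _
    by_cases hl : l = i
    · rw [hl, colI h b hb, zero_mul]
    · rw [Matrix.sub_apply, hg l k hl, Matrix.one_apply, sub_self, mul_zero]
  have hself : Subgroup.centralizer (A : Set ↥C) ≤ A := by
    intro g hg b c hb
    let T : Matrix.SpecialLinearGroup (Fin n) F := Matrix.SpecialLinearGroup.transvection hb.symm (1 : F)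
    have hT : T.1 = Matrix.transvection i b 1 := rfl
    have hTC : T ∈ C := by
      rw [hCdef, Subgroup.mem_centralizer_iff]
      intro y hy
      rw [Set.mem_singleton_iff.mp hy]
      apply Subtype.ext
      show t.1 * T.1 = T.1 * t.1
      rw [hT, ht]
      simp only [Matrix.transvection, Matrix.add_mul, Matrix.mul_add, Matrix.one_mul, Matrix.mul_one]
      rw [Matrix.single_mul_single_of_ne _ _ _ _ hij.symm, Matrix.single_mul_single_of_ne _ _ _ _ hb]
      abel
    have hTA : (⟨T, hTC⟩ : ↥C) ∈ A := by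
      intro u v hu
      show T.1 u v = _
      rw [hT, Matrix.transvection, Matrix.add_apply, Matrix.single_apply, if_neg (fun h => hu h.1.symm), add_zero, Matrix.one_apply]
    have e : T.1 * g.1.1 = g.1.1 * T.1 := congrArg (fun x : ↥C => x.1.1) (Subgroup.mem_centralizer_iff.mp hg _ hTA)
    rw [hT] at e
    have e1 := congrFun (congrFun e i) c
    rw [Matrix.transvection_mul_apply_same] at e1
    by_cases hc : c = b
    · subst hc
      rw [Matrix.mul_transvection_apply_same, diag g, one_mul, one_mul, add_left_cancel_iff] at e1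
      rw [e1, if_pos rfl]
    · rw [Matrix.mul_transvection_apply_of_ne _ _ _ _ hc, one_mul, add_eq_left] at e1
      rw [e1, if_neg (Ne.symm hc)]
  haveI : (Cfsg.pCore 2 ↥C).Normal := CfsgLib.Core.normal_pCore 2
  refine generalizedFitting_eq_of_pGroup (Cfsg.pCore 2 ↥C) (CfsgLib.Core.isPGroup_pCore 2) ?_
    fun N hN hN2 => CfsgLib.Core.le_pCore hN hN2
  have hle : A ≤ Cfsg.pCore 2 ↥C := CfsgLib.Core.le_pCore hAn hA2
  exact ((Subgroup.centralizer_le (SetLike.coe_subset_coe.mpr hle)).trans hself).trans hle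

end Cfsg.Agent.S1339
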