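import Cfsg.Statements.S1910
import Cfsg.Agent.Lib.LocalTightPair

set_option autoImplicit false
open Cfsg
open scoped commutatorElement Pointwise

namespace Cfsg.Agent.S1910

/-- Let Q be a tightly embedded subgroup of a finite group G, g an element outside N_G(Q), T a nontrivial Sylow 2-subgroup of Q^g ∩ N_G(Q), and S a Sylow 2-subgroup of QT containing T. Then T ∩ Q = 1, and N_S(T) is the direct product of T and N_S(T) ∩ Q, with N_S(T) ∩ Q isomorphic to T. -/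
theorem result {G : Type*} [Group G] [Finite G] (Q : Subgroup G) (hQ : Cfsg.IsTightlyEmbedded Q)
    (g : G) (hg : g ∉ Subgroup.normalizer (Q : Set G))
    (T : Subgroup G) (hT1 : T ≠ ⊥) (hT : T ≤ Q.map (MulAut.conj g).toMonoidHom ⊓ Subgroup.normalizer (Q : Set G))
    (hTsyl : IsPGroup 2 T ∧ ¬ 2 ∣ T.relIndex (Q.map (MulAut.conj g).toMonoidHom ⊓ Subgroup.normalizer (Q : Set G)))
    (S : Subgroup G) (hTS : T ≤ S) (hS : S ≤ Q ⊔ T) (hSsyl : IsPGroup 2 S ∧ ¬ 2 ∣ S.relIndex (Q ⊔ T)) :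
    T ⊓ Q = ⊥ ∧
      T ⊓ (S ⊓ Subgroup.normalizer (T : Set G) ⊓ Q) = ⊥ ∧
      ⁅T, S ⊓ Subgroup.normalizer (T : Set G) ⊓ Q⁆ = ⊥ ∧
      T ⊔ (S ⊓ Subgroup.normalizer (T : Set G) ⊓ Q) = S ⊓ Subgroup.normalizer (T : Set G) ∧
      Nonempty (↥(S ⊓ Subgroup.normalizer (T : Set G) ⊓ Q) ≃* T) := by
  obtain ⟨hTle, hTN⟩ := le_inf_iff.mp hT
  set K := Q.map (MulAut.conj g).toMonoidHom with hK
  have hQK : Odd (Nat.card ↥(Q ⊓ K)) := hQ.2 g hg
  have hTQ : T ⊓ Q = ⊥ := (Subgroup.eq_bot_iff_forall _).mpr fun t ht =>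
    CfsgLib.Local.Tight.eq_one_of_odd hQK hTsyl.1
      (Subgroup.mem_inf.mpr ⟨(Subgroup.mem_inf.mp ht).2, hTle (Subgroup.mem_inf.mp ht).1⟩)
      (Subgroup.mem_inf.mp ht).1
  set R := S ⊓ Subgroup.normalizer (T : Set G) ⊓ Q with hR
  have hcomm : ⁅T, R⁆ = ⊥ := le_bot_iff.mp (Subgroup.commutator_le.mpr fun t ht r hr => by
    obtain ⟨hr1, hrQ⟩ := Subgroup.mem_inf.mp hr
    rw [← hTQ, commutatorElement_def]
    refine Subgroup.mem_inf.mpr ⟨?_, ?_⟩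
    · have := T.mul_mem ht
        ((Subgroup.mem_normalizer_iff.mp (Subgroup.mem_inf.mp hr1).2 t⁻¹).mp (T.inv_mem ht))
      simpa [mul_assoc] using this
    · exact Q.mul_mem ((Subgroup.mem_normalizer_iff.mp (hTN ht) r).mp hrQ) (Q.inv_mem hrQ))
  refine ⟨hTQ, le_bot_iff.mp ((inf_le_inf_left T inf_le_right).trans hTQ.le), hcomm, ?_,
    CfsgLib.Local.Tight.exists_iso hQ hg hK hT1 hTle hTN hTsyl.1 hTsyl.2 hTS hS hSsyl.1 hSsyl.2⟩
  refine le_antisymm (sup_le (le_inf hTS Subgroup.le_normalizer) inf_le_left) fun x hx => ?_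
  obtain ⟨hxS, hxN⟩ := Subgroup.mem_inf.mp hx
  obtain ⟨t, ht, q, hq, rfl⟩ :=
    (CfsgLib.Core.mem_sup_iff_of_le_normalizer hTN).mp (sup_comm Q T ▸ hS hxS : x ∈ T ⊔ Q)
  refine mul_mem (Subgroup.mem_sup_left ht) (Subgroup.mem_sup_right (Subgroup.mem_inf.mpr
    ⟨Subgroup.mem_inf.mpr ⟨?_, ?_⟩, hq⟩))
  · simpa using S.mul_mem (S.inv_mem (hTS ht)) hxS
  · simpa using mul_mem (inv_mem (Subgroup.le_normalizer ht)) hxN

end Cfsg.Agent.S1910
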