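import Cfsg.Statements.S1921
import Cfsg.Agent.Lib.CoreLayer

set_option autoImplicit false
open Cfsg

namespace Cfsg.Agent.S1921

/-- Let a be an involution of a finite group H and L a component of H with a L a⁻¹ ≠ L; put M = ⟨L, aLa⁻¹⟩ and let J be the subgroup generated by the elements x · a x a⁻¹ with x ∈ L (the diagonal). Then every element of M outside J·Z(M) generates M together with J. -/
theorem result {H : Type*} [Group H] [Finite H] (a : H) (ha : orderOf a = 2) (L : Subgroup H) (hL : Cfsg.IsComponent L)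
    (hLa : L.map (MulAut.conj a).toMonoidHom ≠ L) (x : H) (hxM : x ∈ L ⊔ L.map (MulAut.conj a).toMonoidHom)
    (hxJ : x ∉ Subgroup.closure {y : H | ∃ l ∈ L, y = l * (a * l * a⁻¹)} ⊔
      ((L ⊔ L.map (MulAut.conj a).toMonoidHom) ⊓ Subgroup.centralizer ((L ⊔ L.map (MulAut.conj a).toMonoidHom : Subgroup H) : Set H))) :
    Subgroup.closure {y : H | ∃ l ∈ L, y = l * (a * l * a⁻¹)} ⊔ Subgroup.zpowers x = L ⊔ L.map (MulAut.conj a).toMonoidHom := by
  set L' := L.map (MulAut.conj a).toMonoidHom with hL'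
  set J := Subgroup.closure {y : H | ∃ l ∈ L, y = l * (a * l * a⁻¹)} with hJ
  have hL'c : Cfsg.IsComponent L' := CfsgLib.Core.isComponent_map_mulEquiv (MulAut.conj a) hL
  have hcom : ∀ u ∈ L, ∀ v ∈ L', u * v = v * u := by
    have h := CfsgLib.Core.components_commute hL hL'c (Ne.symm hLa)
    rw [Subgroup.commutator_eq_bot_iff_le_centralizer] at h
    exact fun u hu v hv => (Subgroup.mem_centralizer_iff.mp (h hu) v hv).symm
  have hLn : L ≤ Subgroup.normalizer (L' : Set H) := by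
    refine le_trans (fun u hu => ?_) (Subgroup.centralizer_le_normalizer _)
    exact Subgroup.mem_centralizer_iff.mpr fun v hv => (hcom u hu v hv).symm
  have hJM : J ≤ L ⊔ L' := (Subgroup.closure_le _).mpr fun y ⟨l, hl, he⟩ =>
    he ▸ mul_mem (Subgroup.mem_sup_left hl) (Subgroup.mem_sup_right ⟨l, hl, rfl⟩)
  set X := J ⊔ Subgroup.zpowers x with hX
  have hj : ∀ l ∈ L, l * (a * l * a⁻¹) ∈ X := fun l hl =>
    Subgroup.mem_sup_left (Subgroup.subset_closure ⟨l, hl, rfl⟩)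
  refine le_antisymm (sup_le hJM (Subgroup.zpowers_le.mpr hxM)) ?_
  -- decompose `x`
  obtain ⟨l₁, hl₁, _, ⟨l₂, hl₂, rfl⟩, hx⟩ : ∃ l₁ ∈ L, ∃ v ∈ L', x = l₁ * v := by
    have h : x ∈ ((L ⊔ L' : Subgroup H) : Set H) := hxM
    rw [Subgroup.coe_mul_of_left_le_normalizer_right L L' hLn] at h
    obtain ⟨u, hu, v, hv, he⟩ := h
    exact ⟨u, hu, v, hv, he.symm⟩
  change x = l₁ * (a * l₂ * a⁻¹) at hx
  set m := l₁ * l₂⁻¹ with hm
  have hmX : m ∈ X := by
    have e : x * (l₂ * (a * l₂ * a⁻¹))⁻¹ = m := by rw [hx, hm]; group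
    rw [← e]
    exact mul_mem (Subgroup.mem_sup_right (Subgroup.mem_zpowers x)) (inv_mem (hj l₂ hl₂))
  set W := (X ⊓ L).subgroupOf L with hW
  haveI hWn : W.Normal := by
    refine ⟨fun w hw l => Subgroup.mem_subgroupOf.mpr (Subgroup.mem_inf.mpr ⟨?_, (l * w * l⁻¹).2⟩)⟩
    have hw' : (w : H) ∈ X := (Subgroup.mem_inf.mp (Subgroup.mem_subgroupOf.mp hw)).1
    have h := mul_mem (mul_mem (hj l l.2) hw') (inv_mem (hj l l.2))
    have e : (l : H) * (a * l * a⁻¹) * w * ((l : H) * (a * l * a⁻¹))⁻¹ = l * w * (l : H)⁻¹ := by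
      rw [mul_inv_rev, mul_assoc (l : H), ← hcom w w.2 _ (show a * (l : H) * a⁻¹ ∈ L' from ⟨l, l.2, rfl⟩)]
      group
    rw [e] at h
    exact h
  have hmW : (⟨m, mul_mem hl₁ (inv_mem hl₂)⟩ : ↥L) ∈ W :=
    Subgroup.mem_subgroupOf.mpr (Subgroup.mem_inf.mpr ⟨hmX, mul_mem hl₁ (inv_mem hl₂)⟩)
  rcases (CfsgLib.Core.quasisimple_normal_cases hL.2 W).symm with h | h
  · exfalso
    have hmc : ∀ u ∈ L, u * m = m * u := fun u hu =>
      congrArg Subtype.val (Subgroup.mem_center_iff.mp (h hmW) ⟨u, hu⟩)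
    refine hxJ ?_
    have e : x = m * (l₂ * (a * l₂ * a⁻¹)) := by rw [hx, hm]; group
    rw [e]
    refine mul_mem (Subgroup.mem_sup_right (Subgroup.mem_inf.mpr
      ⟨Subgroup.mem_sup_left (mul_mem hl₁ (inv_mem hl₂)), ?_⟩))
      (Subgroup.mem_sup_left (Subgroup.subset_closure ⟨l₂, hl₂, rfl⟩))
    rw [Subgroup.mem_centralizer_iff]
    intro u hu
    have : L ⊔ L' ≤ Subgroup.centralizer ({m} : Set H) := sup_le
      (fun v hv => Subgroup.mem_centralizer_singleton_iff.mpr (hmc v hv))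
      (fun v hv => Subgroup.mem_centralizer_singleton_iff.mpr
        (hcom m (mul_mem hl₁ (inv_mem hl₂)) v hv).symm)
    exact Subgroup.mem_centralizer_singleton_iff.mp (this hu)
  · have hLX : L ≤ X := fun u hu =>
      (Subgroup.mem_inf.mp (Subgroup.mem_subgroupOf.mp (h.ge (Subgroup.mem_top (⟨u, hu⟩ : ↥L))))).1
    refine sup_le hLX ?_
    rintro _ ⟨l, hl, rfl⟩
    show a * l * a⁻¹ ∈ X
    have := mul_mem (inv_mem (hLX hl)) (hj l hl)
    rwa [inv_mul_cancel_left] at this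


end Cfsg.Agent.S1921
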