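import Cfsg.Statements.S1922


set_option autoImplicit false
open Cfsg

namespace Cfsg.Agent.S1922

open Subgroup
open scoped Pointwise

private theorem half_root {G : Type*} [Group G] {a : G} (h : Odd (orderOf a)) :
    ∃ n : ℕ, (a ^ 2) ^ n = a := by
  obtain ⟨k, hk⟩ := h
  refine ⟨k + 1, ?_⟩
  rw [← pow_mul, show 2 * (k + 1) = orderOf a + 1 by omega, pow_succ, pow_orderOf_eq_one, one_mul]

section Pts

variable {G : Type*} [Group G] [Finite G] {z : G} {H : Subgroup G}

private theorem fix_iff (a g : G) :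
    a ∈ H.map (MulAut.conj g).toMonoidHom ↔ a • (g : G ⧸ H) = g := by
  rw [MulAction.Quotient.smul_coe, QuotientGroup.eq, Subgroup.mem_map]
  constructor
  · rintro ⟨x, hx, rfl⟩
    simpa [smul_eq_mul, mul_assoc] using hx
  · intro h
    refine ⟨g⁻¹ * a * g, ?_, by simp [mul_assoc]⟩
    simpa [smul_eq_mul, mul_assoc] using inv_mem h

/-- The two hypotheses, transported to all conjugates of `z`. -/
private theorem odd_class (hz : orderOf z = 2) (hH : H ≠ ⊤)
    (h0 : ∀ g : G, z ∈ H.map (MulAut.conj g).toMonoidHom ↔ g ∈ H)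
    (h1 : ∀ t : G, IsConj z t → t ≠ z → t * z = z * t → ∀ g : G,
      z * t ∈ H.map (MulAut.conj g).toMonoidHom ↔ g ∈ H) :
    ¬ 2 ∣ (Subgroup.centralizer ({z} : Set G)).index := by
  classical
  set pt : G ⧸ H := ((1 : G) : G ⧸ H) with hpt
  have hz2 : z * z = 1 := by rw [← pow_two, ← hz, pow_orderOf_eq_one]
  have hpt' : ∀ g : G, (g : G ⧸ H) = pt ↔ g ∈ H := fun g => by
    rw [hpt, QuotientGroup.eq, mul_one, inv_mem_iff]
  have hzx : ∀ x : G ⧸ H, z • x = x ↔ x = pt := by
    intro x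
    obtain ⟨g, rfl⟩ := QuotientGroup.mk_surjective x
    rw [hpt', ← fix_iff, h0]
  have hzt : ∀ t, IsConj z t → t ≠ z → t * z = z * t → ∀ x : G ⧸ H, (z * t) • x = x ↔ x = pt := by
    intro t a b c x
    obtain ⟨g, rfl⟩ := QuotientGroup.mk_surjective x
    rw [hpt', ← fix_iff, h1 t a b c]
  -- conjugates of `z`
  have hK : ∀ a, IsConj z a → ∃ g : G, g * z * g⁻¹ = a := fun a ha => isConj_iff.mp ha
  have hKc : ∀ a, IsConj z a → ∀ d : G, IsConj z (d * a * d⁻¹) := fun a ha d =>
    ha.trans (isConj_iff.mpr ⟨d, rfl⟩)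
  have hKinv : ∀ a, IsConj z a → a * a = 1 := by
    intro a ha
    obtain ⟨g, rfl⟩ := hK a ha
    calc g * z * g⁻¹ * (g * z * g⁻¹) = g * (z * z) * g⁻¹ := by group
      _ = 1 := by rw [hz2]; group
  have hKpt : ∀ a, IsConj z a → ∃ p : G ⧸ H, ∀ x, a • x = x ↔ x = p := by
    intro a ha
    obtain ⟨g, rfl⟩ := hK a ha
    refine ⟨g • pt, fun x => ?_⟩
    rw [mul_smul, mul_smul, smul_eq_iff_eq_inv_smul g, hzx, inv_smul_eq_iff]
  have hpair : ∀ a b, IsConj z a → IsConj z b → a ≠ b → a * b = b * a → ∀ x y : G ⧸ H,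
      a • x = x → (a * b) • y = y → y = x := by
    intro a b ha hb hab hc x y hx hy
    obtain ⟨g, rfl⟩ := hK a ha
    have h2 := hzt (g⁻¹ * b * g) (by simpa using hKc b hb g⁻¹)
      (fun e => hab (by rw [← e]; group))
      (by
        calc g⁻¹ * b * g * z = g⁻¹ * (b * (g * z * g⁻¹)) * g := by group
          _ = g⁻¹ * ((g * z * g⁻¹) * b) * g := by rw [hc]
          _ = _ := by group)
    have hy' : g⁻¹ • y = pt := by
      rw [← h2, smul_smul]
      rw [show z * (g⁻¹ * b * g) * g⁻¹ = g⁻¹ * (g * z * g⁻¹ * b) by group, mul_smul, hy]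
    have hx' : g⁻¹ • x = pt := by
      rw [← hzx, smul_smul, show z * g⁻¹ = g⁻¹ * (g * z * g⁻¹) by group, mul_smul, hx]
    exact MulAction.injective g⁻¹ (hy'.trans hx'.symm)
  -- products of conjugates with different fixed points have odd order
  have hodd : ∀ a b, IsConj z a → IsConj z b → ∀ x y : G ⧸ H, a • x = x → b • y = y → x ≠ y →
      Odd (orderOf (a * b)) := by
    intro a b ha hb x y hx hy hxy
    by_contra he
    obtain ⟨j, hj⟩ := (Nat.not_odd_iff_even.mp he).two_dvd
    have hpos := orderOf_pos (a * b)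
    set w := (a * b) ^ j with hw
    have hw2 : w * w = 1 := by rw [hw, ← pow_add, ← two_mul, ← hj, pow_orderOf_eq_one]
    have hw1 : w ≠ 1 := fun e => by
      have := Nat.le_of_dvd (by omega) (orderOf_dvd_of_pow_eq_one e); omega
    have hai : a⁻¹ = a := inv_eq_of_mul_eq_one_right (hKinv a ha)
    have hbi : b⁻¹ = b := inv_eq_of_mul_eq_one_right (hKinv b hb)
    have hwi : w⁻¹ = w := inv_eq_of_mul_eq_one_right hw2
    have haw : a * w * a⁻¹ = w := by
      rw [hw, ← conj_pow]
      have : a * (a * b) * a⁻¹ = (a * b)⁻¹ := by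
        rw [mul_inv_rev, hai, hbi]; simp only [← mul_assoc, hKinv a ha, one_mul]
      rw [this, inv_pow, ← hw, hwi]
    have haw' : a * w = w * a := by
      conv_rhs => rw [← haw]
      group
    have hbw : b * w = w * b := by
      have h3 : (a * b) * w = w * (a * b) := by rw [hw, ← pow_succ', pow_succ]
      calc b * w = a⁻¹ * ((a * b) * w) := by group
        _ = a⁻¹ * (w * (a * b)) := by rw [h3]
        _ = a⁻¹ * (w * a) * b := by group
        _ = a⁻¹ * (a * w) * b := by rw [haw']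
        _ = w * b := by group
    obtain ⟨p, hp⟩ := hKpt b hb
    have hwy : w • y = y := by
      have h4 : b • (w • y) = w • y := by rw [smul_smul, hbw, mul_smul, hy]
      exact ((hp _).mp h4).trans ((hp _).mp hy).symm
    have haK : IsConj z (a * w) := by
      rcases Nat.even_or_odd j with ⟨i, hi⟩ | ⟨i, hi⟩
      · have h5 : a * w = ((a * b) ^ i)⁻¹ * a * (((a * b) ^ i)⁻¹)⁻¹ := by
          have h6 : ((a * b) ^ i)⁻¹ = a * (a * b) ^ i * a⁻¹ := by
            rw [← conj_pow, ← inv_pow]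
            congr 1
            rw [mul_inv_rev, hai, hbi]; simp only [← mul_assoc, hKinv a ha, one_mul]
          rw [inv_inv, h6, hw, hi, pow_add]; group
        rw [h5]; exact hKc a ha _
      · have h5 : a * w = ((a * b) ^ i)⁻¹ * b * (((a * b) ^ i)⁻¹)⁻¹ := by
          have h6 : ((a * b) ^ i)⁻¹ = a * (a * b) ^ i * a⁻¹ := by
            rw [← conj_pow, ← inv_pow]
            congr 1
            rw [mul_inv_rev, hai, hbi]; simp only [← mul_assoc, hKinv a ha, one_mul]
          have h7 : (a * b) ^ (i + 1) * (a * b) ^ i = w := by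
            rw [hw, hi, ← pow_add]; congr 1; omega
          rw [inv_inv, h6, ← h7, pow_succ]
          have hab : a⁻¹ * b = a * b := by rw [hai]
          calc a * ((a * b) ^ i * (a * b) * (a * b) ^ i)
              = a * (a * b) ^ i * (a * b) * (a * b) ^ i := by group
            _ = a * (a * b) ^ i * (a⁻¹ * b) * (a * b) ^ i := by rw [hab]
            _ = _ := by group
        rw [h5]; exact hKc b hb _
    have hne : a ≠ a * w := fun e => hw1 (mul_eq_left.mp e.symm)
    refine hxy (hpair a (a * w) ha haK hne ?_ x y hx ?_).symm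
    · rw [mul_assoc a w a, ← haw']
    · rw [← mul_assoc, hKinv a ha, one_mul, hwy]
  obtain ⟨g₀, hg₀⟩ : ∃ g₀ : G, g₀ ∉ H := by
    by_contra! h
    exact hH (eq_top_iff.mpr fun g _ => h g)
  set x₀ : G ⧸ H := (g₀ : G ⧸ H) with hx₀
  have hne : x₀ ≠ pt := fun e => hg₀ ((hpt' g₀).mp e)
  let R := {r : G // IsConj z r ∧ r • pt = x₀}
  let F : G ⧸ H → Type _ := fun x => {a : G // IsConj z a ∧ a • x = x}
  have hFR : Nat.card R = Nat.card (F x₀) := by
    refine Nat.card_congr (Equiv.ofBijective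
      (fun r => ⟨r.1 * z * r.1, by
        have hri : r.1⁻¹ = r.1 := inv_eq_of_mul_eq_one_right (hKinv _ r.2.1)
        have h := hKc z (IsConj.refl z) r.1
        rwa [hri] at h, by
        have hr0 : r.1 • x₀ = pt := by
          calc r.1 • x₀ = r.1 • (r.1 • pt) := by rw [r.2.2]
            _ = pt := by rw [smul_smul, hKinv _ r.2.1, one_smul]
        rw [mul_smul, mul_smul, hr0, (hzx pt).mpr rfl, r.2.2]⟩) ⟨?_, ?_⟩)
    · rintro ⟨r, hr, hrp⟩ ⟨r', hr', hrp'⟩ h
      have h' : r * z * r = r' * z * r' := congrArg Subtype.val h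
      have key : ∀ s, IsConj z s → s • pt = x₀ → Odd (orderOf (s * z)) := by
        intro s hs hsp
        obtain ⟨p, hp⟩ := hKpt s hs
        refine hodd s z hs (IsConj.refl z) p pt ((hp p).mpr rfl) ((hzx pt).mpr rfl) fun e => hne ?_
        rw [← hsp, (hp pt).mpr e.symm]
      obtain ⟨n, hn⟩ := half_root (key r hr hrp)
      obtain ⟨n', hn'⟩ := half_root (key r' hr' hrp')
      have e2 : (r * z) ^ 2 = (r' * z) ^ 2 := by
        rw [pow_two, pow_two, ← mul_assoc, ← mul_assoc, h']
      have hord : orderOf (r * z) = orderOf (r' * z) := by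
        have c1 : orderOf ((r * z) ^ 2) = orderOf (r * z) :=
          (Nat.Coprime.orderOf_pow ((key r hr hrp).coprime_two_right))
        have c2 : orderOf ((r' * z) ^ 2) = orderOf (r' * z) :=
          (Nat.Coprime.orderOf_pow ((key r' hr' hrp').coprime_two_right))
        rw [← c1, e2, c2]
      have : r * z = r' * z := by
        obtain ⟨k, hk⟩ := key r hr hrp
        calc r * z = ((r * z) ^ 2) ^ (k + 1) := by
              rw [← pow_mul, show 2 * (k + 1) = orderOf (r * z) + 1 by omega, pow_succ,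
                pow_orderOf_eq_one, one_mul]
          _ = ((r' * z) ^ 2) ^ (k + 1) := by rw [e2]
          _ = r' * z := by
              rw [← pow_mul, show 2 * (k + 1) = orderOf (r' * z) + 1 by omega, pow_succ,
                pow_orderOf_eq_one, one_mul]
      exact Subtype.ext (mul_right_cancel this)
    · rintro ⟨b, hb, hbx⟩
      have hodd' := hodd b z hb (IsConj.refl z) x₀ pt hbx ((hzx pt).mpr rfl) hne
      obtain ⟨n, hn⟩ := half_root hodd'
      obtain ⟨n', hn'⟩ := half_root (a := (b * z) ^ n) (by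
        obtain ⟨k, hk⟩ := hodd'
        exact (Odd.of_dvd_nat ⟨k, hk⟩ (orderOf_pow_dvd n)))
      set e := ((b * z) ^ n) ^ n' with he
      have hzi : z⁻¹ = z := inv_eq_of_mul_eq_one_right hz2
      have hbi : b⁻¹ = b := inv_eq_of_mul_eq_one_right (hKinv b hb)
      have hze : ∀ m : ℕ, z * (b * z) ^ m = ((b * z) ^ m)⁻¹ * z := by
        intro m
        have h6 : ((b * z) ^ m)⁻¹ = z * (b * z) ^ m * z⁻¹ := by
          rw [← conj_pow, ← inv_pow]
          congr 1
          rw [mul_inv_rev, hzi, hbi, mul_assoc z, mul_assoc, hz2, mul_one]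
        rw [h6]; group
      have hd : e * e = (b * z) ^ n := by
        rw [he, ← pow_add, ← two_mul, pow_mul]; exact hn'
      have hr : IsConj z ((b * z) ^ n * z) := by
        have : (b * z) ^ n * z = e * z * e⁻¹ := by
          rw [mul_assoc e z, ← hd, mul_assoc]
          congr 1
          rw [he, ← pow_mul, ← inv_pow]
          have := hze (n * n')
          have h8 : z * ((b * z)⁻¹) ^ (n * n') = (b * z) ^ (n * n') * z := by
            rw [inv_pow]
            calc z * ((b * z) ^ (n * n'))⁻¹ = z * (((b * z) ^ (n * n'))⁻¹ * z) * z⁻¹ := by group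
              _ = z * (z * (b * z) ^ (n * n')) * z := by rw [← this, hzi]
              _ = _ := by rw [← mul_assoc, hz2, one_mul]
          exact h8.symm
        rw [this]; exact hKc z (IsConj.refl z) e
      have hconj : (b * z) ^ n * z * z * ((b * z) ^ n * z) = b := by
        rw [mul_assoc ((b * z) ^ n) z z, hz2, mul_one, ← mul_assoc, ← pow_add, ← two_mul, pow_mul,
          hn, mul_assoc, hz2, mul_one]
      refine ⟨⟨(b * z) ^ n * z, hr, ?_⟩, Subtype.ext hconj⟩
      obtain ⟨p, hp⟩ := hKpt b hb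
      refine ((hp _).mp ?_).trans ((hp _).mp hbx).symm
      have h9 : ((b * z) ^ n * z)⁻¹ = (b * z) ^ n * z :=
        inv_eq_of_mul_eq_one_right (hKinv _ hr)
      calc b • ((b * z) ^ n * z) • pt
          = ((b * z) ^ n * z * z * ((b * z) ^ n * z)) • ((b * z) ^ n * z) • pt := by rw [hconj]
        _ = ((b * z) ^ n * z) • z • (((b * z) ^ n * z) * ((b * z) ^ n * z)) • pt := by
            simp only [smul_smul, mul_assoc]
        _ = ((b * z) ^ n * z) • pt := by rw [hKinv _ hr, one_smul, (hzx pt).mpr rfl]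
  have hRodd : Odd (Nat.card R) := by
    rw [hFR]
    have hb₀ : IsConj z (g₀ * z * g₀⁻¹) := hKc z (IsConj.refl z) g₀
    by_contra he
    rw [Nat.not_odd_iff_even] at he
    have hR2 : Even (Nat.card R) := hFR ▸ he
    haveI : Nonempty (F x₀) := ⟨⟨g₀ * z * g₀⁻¹, hb₀, by
      rw [mul_smul, mul_smul, hx₀]
      have : g₀⁻¹ • (g₀ : G ⧸ H) = pt := by
        rw [MulAction.Quotient.smul_coe, smul_eq_mul, inv_mul_cancel]
      rw [this, (hzx pt).mpr rfl, hpt, MulAction.Quotient.smul_coe, smul_eq_mul, mul_one]⟩⟩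
    obtain ⟨⟨r₀, hr₀, hrp₀⟩⟩ : Nonempty R := (Nat.card_pos_iff.mp (hFR ▸ Nat.card_pos)).1
    have hri : r₀⁻¹ = r₀ := inv_eq_of_mul_eq_one_right (hKinv _ hr₀)
    have hr0 : r₀ • x₀ = pt := by rw [← hrp₀, smul_smul, hKinv _ hr₀, one_smul]
    have hmem : ∀ r : R, IsConj z (r₀ * r.1 * r₀⁻¹) ∧ (r₀ * r.1 * r₀⁻¹) • pt = x₀ := fun r => by
      refine ⟨hKc _ r.2.1 r₀, ?_⟩
      have hrx : r.1 • x₀ = pt := by
        calc r.1 • x₀ = r.1 • (r.1 • pt) := by rw [r.2.2]
          _ = pt := by rw [smul_smul, hKinv _ r.2.1, one_smul]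
      rw [hri, mul_smul, mul_smul, hrp₀, hrx, hrp₀]
    let σ : R → R := fun r => ⟨r₀ * r.1 * r₀⁻¹, hmem r⟩
    have hσ : Function.Involutive σ := fun r => Subtype.ext (by
      show r₀ * (r₀ * r.1 * r₀⁻¹) * r₀⁻¹ = r.1
      rw [hri]; simp only [← mul_assoc, hKinv _ hr₀, one_mul]
      rw [mul_assoc, hKinv _ hr₀, mul_one])
    have hfix : ∀ r : R, σ r = r → r.1 = r₀ := by
      intro r hr
      have hc : r₀ * r.1 = r.1 * r₀ := by
        have h := congrArg Subtype.val hr
        calc r₀ * r.1 = (r₀ * r.1 * r₀⁻¹) * r₀ := by group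
          _ = r.1 * r₀ := by rw [show r₀ * r.1 * r₀⁻¹ = r.1 from h]
      by_contra hne'
      obtain ⟨p, hp⟩ := hKpt r₀ hr₀
      have h1 : (r₀ * r.1) • pt = pt := by rw [mul_smul, r.2.2, hr0]
      have h2 := hpair r₀ r.1 hr₀ r.2.1 (Ne.symm hne') hc p pt ((hp p).mpr rfl) h1
      exact hne (hrp₀.symm.trans ((hp pt).mpr h2))
    haveI : Fintype R := Fintype.ofFinite R
    have h3 := Equiv.Perm.card_fixedPoints_modEq (p := 2) (n := 1) (f := (σ : Function.End R))
      (funext fun r => hσ r)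
    have h4 : Fintype.card (Function.fixedPoints (σ : Function.End R)) = 1 := by
      rw [Fintype.card_eq_one_iff]
      refine ⟨⟨⟨r₀, hr₀, hrp₀⟩, Subtype.ext (by
        show r₀ * r₀ * r₀⁻¹ = r₀; group)⟩, ?_⟩
      rintro ⟨r, hr⟩
      exact Subtype.ext (Subtype.ext (hfix r hr))
    rw [h4, ← Nat.card_eq_fintype_card] at h3
    obtain ⟨c, hc⟩ := hR2
    rw [Nat.ModEq, hc] at h3
    omega
  have hfib : Nat.card (F pt) = Nat.card (F x₀) := by
    refine Nat.card_congr ((MulAut.conj g₀).toEquiv.subtypeEquiv fun a => ?_)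
    have e : g₀⁻¹ • x₀ = pt := by
      rw [hx₀, MulAction.Quotient.smul_coe, smul_eq_mul, inv_mul_cancel]
    show _ ↔ IsConj z (g₀ * a * g₀⁻¹) ∧ (g₀ * a * g₀⁻¹) • x₀ = x₀
    constructor
    · rintro ⟨ha, hax⟩
      exact ⟨hKc a ha g₀, by rw [mul_smul, mul_smul, e, hax, ← e, smul_inv_smul]⟩
    · rintro ⟨ha, hax⟩
      refine ⟨by simpa [mul_assoc] using hKc _ ha g₀⁻¹, ?_⟩
      rw [mul_smul, mul_smul, e, smul_eq_iff_eq_inv_smul, e] at hax
      exact hax
  set C := Subgroup.centralizer ({z} : Set G) with hC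
  have hCH : C ≤ H := by
    intro c hc
    rw [hC, Subgroup.mem_centralizer_singleton_iff] at hc
    rw [← hpt', ← hzx, MulAction.Quotient.smul_coe, smul_eq_mul, ← hc]
    refine (QuotientGroup.eq).mpr ?_
    have hzH : z ∈ H := by
      rw [← hpt']; simpa [hpt] using (hzx pt).mpr rfl
    simpa [mul_assoc] using inv_mem hzH
  have hrel : C.relIndex H = Nat.card (F pt) := by
    have hzH : z ∈ H := by
      rw [← hpt']; simpa [hpt] using (hzx pt).mpr rfl
    refine (Nat.card_congr (Equiv.ofBijective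
      (Quotient.lift (fun h : H => (⟨h.1 * z * h.1⁻¹, hKc z (IsConj.refl z) h.1, by
        rw [hpt, MulAction.Quotient.smul_coe, smul_eq_mul, mul_one, ← hpt, hpt']
        exact mul_mem (mul_mem h.2 hzH) (inv_mem h.2)⟩ : F pt)) ?_) ⟨?_, ?_⟩))
    · intro a b hab
      have := QuotientGroup.leftRel_apply.mp hab
      rw [Subgroup.mem_subgroupOf, hC, Subgroup.mem_centralizer_singleton_iff] at this
      refine Subtype.ext ?_
      push_cast at this
      calc a.1 * z * a.1⁻¹ = a.1 * (z * ((a.1)⁻¹ * b.1)) * b.1⁻¹ := by group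
        _ = a.1 * (((a.1)⁻¹ * b.1) * z) * b.1⁻¹ := by rw [← this]
        _ = b.1 * z * b.1⁻¹ := by group
    · intro u v huv
      induction u using Quotient.inductionOn with | _ a =>
      induction v using Quotient.inductionOn with | _ b =>
      have h' : a.1 * z * a.1⁻¹ = b.1 * z * b.1⁻¹ := congrArg Subtype.val huv
      refine Quotient.sound (QuotientGroup.leftRel_apply.mpr ?_)
      rw [Subgroup.mem_subgroupOf, hC, Subgroup.mem_centralizer_singleton_iff]
      push_cast
      calc (a.1)⁻¹ * b.1 * z = (a.1)⁻¹ * (b.1 * z * b.1⁻¹) * b.1 := by group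
        _ = (a.1)⁻¹ * (a.1 * z * a.1⁻¹) * b.1 := by rw [h']
        _ = _ := by group
    · rintro ⟨b, hb, hbx⟩
      obtain ⟨g, rfl⟩ := hK b hb
      have hg : g ∈ H := by
        rw [mul_smul, mul_smul, smul_eq_iff_eq_inv_smul g, hzx, hpt, MulAction.Quotient.smul_coe,
          smul_eq_mul, mul_one, ← hpt, hpt', inv_mem_iff] at hbx
        exact hbx
      exact ⟨Quotient.mk _ ⟨g, hg⟩, rfl⟩
  have hidx : Odd H.index := by
    haveI : Fintype (G ⧸ H) := Fintype.ofFinite _
    have h3 := Equiv.Perm.card_fixedPoints_modEq (p := 2) (n := 1) (f := ((fun x => z • x) : Function.End (G ⧸ H)))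
      (funext fun x => show z • (z • x) = x by rw [smul_smul, hz2, one_smul])
    have h4 : Fintype.card (Function.fixedPoints ((fun x => z • x) : Function.End (G ⧸ H))) = 1 := by
      rw [Fintype.card_eq_one_iff]
      exact ⟨⟨pt, (hzx pt).mpr rfl⟩, fun ⟨x, hx⟩ => Subtype.ext ((hzx x).mp hx)⟩
    rw [h4, ← Nat.card_eq_fintype_card] at h3
    rw [Subgroup.index_eq_card, Nat.odd_iff]
    exact h3
  rw [← Subgroup.relIndex_mul_index hCH, hrel, hfib, ← hFR]
  exact Nat.two_dvd_ne_zero.mpr (Nat.odd_iff.mp (hRodd.mul hidx))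

end Pts


/-- Let z be an involution of a finite group G and H a proper subgroup such that z lies in gHg⁻¹ exactly when g ∈ H. Then the following are equivalent: (1) for every conjugate t ≠ z of z commuting with z, the product zt lies in gHg⁻¹ exactly when g ∈ H; (2) z lies in the centre of some Sylow 2-subgroup of G, and for every conjugate t ≠ z of z commuting with z, the centralizer of zt is contained in H. -/
theorem result {G : Type*} [Group G] [Finite G] (z : G) (hz : orderOf z = 2) (H : Subgroup G) (hH : H ≠ ⊤)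
    (h0 : ∀ g : G, z ∈ H.map (MulAut.conj g).toMonoidHom ↔ g ∈ H) :
    (∀ t : G, IsConj z t → t ≠ z → t * z = z * t → ∀ g : G, z * t ∈ H.map (MulAut.conj g).toMonoidHom ↔ g ∈ H) ↔
      ((∃ P : Sylow 2 G, z ∈ (Subgroup.center ↥(P : Subgroup G)).map (P : Subgroup G).subtype) ∧
        ∀ t : G, IsConj z t → t ≠ z → t * z = z * t → Subgroup.centralizer ({z * t} : Set G) ≤ H) := by
  haveI : Fact (Nat.Prime 2) := ⟨Nat.prime_two⟩
  have hzH : z ∈ H := by simpa using (h0 1).mpr (one_mem _)
  have hconj : ∀ a g : G, a ∈ H → g ∈ H → a ∈ H.map (MulAut.conj g).toMonoidHom := by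
    intro a g ha hg
    exact ⟨g⁻¹ * a * g, mul_mem (mul_mem (inv_mem hg) ha) hg, by simp [mul_assoc]⟩
  constructor
  · intro h1
    refine ⟨?_, fun t a b c g hg => ?_⟩
    · obtain ⟨T, hT⟩ : ∃ T : Sylow 2 (Subgroup.centralizer ({z} : Set G)),
          z ∈ (T : Subgroup _).map (Subgroup.centralizer ({z} : Set G)).subtype := by
        have hzC : z ∈ Subgroup.centralizer ({z} : Set G) :=
          Subgroup.mem_centralizer_singleton_iff.mpr rfl
        have h2 : IsPGroup 2 (Subgroup.zpowers (⟨z, hzC⟩ : Subgroup.centralizer ({z} : Set G))) := by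
          refine IsPGroup.of_card (n := 1) ?_
          rw [Nat.card_zpowers, Subgroup.orderOf_mk, hz, pow_one]
        obtain ⟨T, hT⟩ := h2.exists_le_sylow
        exact ⟨T, ⟨⟨z, hzC⟩, hT (Subgroup.mem_zpowers _), rfl⟩⟩
      have hnd : ¬ 2 ∣ ((T : Subgroup _).map (Subgroup.centralizer ({z} : Set G)).subtype).index := by
        rw [Subgroup.index_map_subtype]
        intro h
        rcases Nat.prime_two.dvd_mul.mp h with h | h
        · exact T.not_dvd_index h
        · exact odd_class hz hH h0 h1 h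
      obtain ⟨S, hS⟩ : ∃ S : Sylow 2 G, (S : Subgroup G) = (T : Subgroup _).map (Subgroup.centralizer ({z} : Set G)).subtype :=
        ⟨(T.isPGroup'.map _).toSylow hnd, rfl⟩
      refine ⟨S, ⟨z, hS ▸ hT⟩, Subgroup.mem_center_iff.mpr ?_, rfl⟩
      rintro ⟨g, hg⟩
      have hg' : g ∈ (T : Subgroup _).map (Subgroup.centralizer ({z} : Set G)).subtype := hS ▸ hg
      obtain ⟨g', -, rfl⟩ := hg'
      exact Subtype.ext (Subgroup.mem_centralizer_singleton_iff.mp g'.2)
    · refine (h1 t a b c g).mp ?_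
      rw [Subgroup.mem_centralizer_singleton_iff] at hg
      obtain ⟨x, hx, hxe⟩ := (h1 t a b c 1).mpr (one_mem _)
      refine ⟨z * t, ?_, ?_⟩
      · simp only [MulEquiv.toMonoidHom_eq_coe, MonoidHom.coe_coe, map_one, MulAut.one_apply] at hxe
        exact hxe ▸ hx
      · simp [hg]
  · rintro ⟨⟨P, hP⟩, h2⟩ t a b c g
    have hztH : z * t ∈ H := h2 t a b c (Subgroup.mem_centralizer_singleton_iff.mpr rfl)
    constructor
    · rintro ⟨h, hh, hhe⟩
      have hhe' : g * h * g⁻¹ = z * t := by simpa using hhe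
      obtain ⟨⟨z', hz'P⟩, hzP, hzz⟩ := hP
      obtain rfl : z' = z := hzz
      have hPH : (P : Subgroup G) ≤ H := by
        intro p hp
        refine (h0 p).mp ⟨z', hzH, ?_⟩
        have h3 : p * z' = z' * p := congrArg Subtype.val (Subgroup.mem_center_iff.mp hzP ⟨p, hp⟩)
        simp [h3]
      have hh2 : IsPGroup 2 (Subgroup.zpowers (⟨h, hh⟩ : H)) := by
        have hz1 : z' * z' = 1 := by
          have := pow_orderOf_eq_one z'
          rwa [show orderOf z' = 2 from hz, pow_two] at this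
        have ht1 : t * t = 1 := by
          obtain ⟨k, rfl⟩ := isConj_iff.mp a
          calc k * z' * k⁻¹ * (k * z' * k⁻¹) = k * (z' * z') * k⁻¹ := by group
            _ = 1 := by rw [hz1]; group
        have hsq : (⟨h, hh⟩ : H) ^ 2 = 1 := by
          refine Subtype.ext ?_
          have e : g * h ^ 2 * g⁻¹ = (z' * t) ^ 2 := by rw [← conj_pow, hhe']
          have e2 : (z' * t) ^ 2 = 1 := by
            rw [(show Commute z' t from c.symm).mul_pow, pow_two, pow_two, hz1, ht1, mul_one]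
          rw [e2] at e
          simpa using e
        intro x
        obtain ⟨i, hi⟩ := Subgroup.mem_zpowers_iff.mp x.2
        exact ⟨1, Subtype.ext (by
          rw [Subgroup.coe_pow, ← hi, ← zpow_natCast (_ ^ i), ← zpow_mul, mul_comm, zpow_mul,
            zpow_natCast, pow_one, hsq, one_zpow, Subgroup.coe_one])⟩
      obtain ⟨Q, hQ⟩ := hh2.exists_le_sylow
      obtain ⟨k, hk⟩ := MulAction.exists_smul_eq H (P.subtype hPH) Q
      have h5 : (k⁻¹ * ⟨h, hh⟩ * k : H).1 ∈ (P : Subgroup G) := by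
        have h6 : (⟨h, hh⟩ : H) ∈ (k • (P.subtype hPH) : Sylow 2 H) := hk ▸ hQ (Subgroup.mem_zpowers _)
        rw [Sylow.smul_def] at h6
        obtain ⟨y, hy, hye⟩ := h6
        have hy' : k * y * k⁻¹ = ⟨h, hh⟩ := hye
        rw [← hy', show k⁻¹ * (k * y * k⁻¹) * k = y by group]
        exact hy
      have h7 : z' * ((k : G)⁻¹ * h * k) = ((k : G)⁻¹ * h * k) * z' :=
        (congrArg Subtype.val (Subgroup.mem_center_iff.mp hzP ⟨_, h5⟩)).symm
      have h8 : g * (k * z' * (k : G)⁻¹) * g⁻¹ ∈ Subgroup.centralizer ({z' * t} : Set G) := by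
        have h7' : z' * ((k : G)⁻¹ * h * k) = ((k : G)⁻¹ * h * k) * z' := h7
        rw [Subgroup.mem_centralizer_singleton_iff]
        show g * (k * z' * (k : G)⁻¹) * g⁻¹ * (z' * t) = (z' * t) * (g * (k * z' * (k : G)⁻¹) * g⁻¹)
        rw [← hhe']
        calc g * (k * z' * (k : G)⁻¹) * g⁻¹ * (g * h * g⁻¹)
            = g * k * (z' * ((k : G)⁻¹ * h * k)) * ((k : G)⁻¹ * g⁻¹) := by group
          _ = g * k * (((k : G)⁻¹ * h * k) * z') * ((k : G)⁻¹ * g⁻¹) := by rw [h7']
          _ = _ := by group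
      have h9 : ((g * k : G))⁻¹ ∈ H := by
        refine (h0 _).mp ⟨g * (k * z' * (k : G)⁻¹) * g⁻¹, h2 t a b c h8, ?_⟩
        simp [mul_assoc]
      have h10 := mul_mem (inv_mem h9) (inv_mem k.2)
      simpa using h10
    · intro hg
      exact hconj _ g hztH hg

end Cfsg.Agent.S1922
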