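import Cfsg.Statements.S1946
import Cfsg.Agent.Lib.LocalOmegaFusion

set_option autoImplicit false
open Cfsg

namespace Cfsg.Agent.S1946

/-- Let P be a Sylow p-subgroup of the finite group G. Then G has a normal p-complement if and only if P controls the fusion of its elements of order dividing p (dividing 4 when p = 2): whenever such an element a of P has a G-conjugate g a g⁻¹ in P, that conjugate is already x a x⁻¹ for some x in P. -/
theorem result {G : Type*} [Group G] [Finite G] {p : ℕ} [Fact p.Prime] (P : Sylow p G) :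
    Cfsg.HasNormalPComplement p G ↔
      ∀ a ∈ (P : Subgroup G), (a ^ p = 1 ∨ (p = 2 ∧ a ^ 4 = 1)) → ∀ g : G, g * a * g⁻¹ ∈ (P : Subgroup G) →
        ∃ x ∈ (P : Subgroup G), g * a * g⁻¹ = x * a * x⁻¹ := by
  constructor
  · intro hN a ha _ g hg
    obtain ⟨N, hNn, hcop, k, hk⟩ := CfsgLib.Core.hasNormalPComplement_iff.1 hN
    haveI := hNn
    have hinf : N ⊓ (P : Subgroup G) = ⊥ := by
      refine CfsgLib.Core.inf_eq_bot_of_coprime ?_
      obtain ⟨j, hj⟩ := IsPGroup.iff_card.1 P.2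
      rw [hj]
      exact hcop.pow_right j
    have htop : N ⊔ (P : Subgroup G) = ⊤ := by
      have h1 : (N ⊔ (P : Subgroup G)).index ∣ N.index := Subgroup.index_dvd_of_le le_sup_left
      have h2 : (N ⊔ (P : Subgroup G)).index ∣ (P : Subgroup G).index :=
        Subgroup.index_dvd_of_le le_sup_right
      rw [hk] at h1
      have h3 : (p ^ k).Coprime (P : Subgroup G).index :=
        ((Fact.out : p.Prime).coprime_iff_not_dvd.2 P.not_dvd_index).pow_left k
      exact Subgroup.index_eq_one.1 (Nat.eq_one_of_dvd_coprimes h3 h1 h2)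
    obtain ⟨m, hm, y, hy, rfl⟩ := Subgroup.mem_sup_of_normal_left.1
      (show g ∈ N ⊔ (P : Subgroup G) by rw [htop]; trivial)
    refine ⟨y, hy, ?_⟩
    have hb : y * a * y⁻¹ ∈ (P : Subgroup G) :=
      (P : Subgroup G).mul_mem ((P : Subgroup G).mul_mem hy ha) ((P : Subgroup G).inv_mem hy)
    have h1 : m * y * a * (m * y)⁻¹ * (y * a * y⁻¹)⁻¹ ∈ N ⊓ (P : Subgroup G) := by
      refine ⟨?_, (P : Subgroup G).mul_mem hg ((P : Subgroup G).inv_mem hb)⟩
      rw [show m * y * a * (m * y)⁻¹ * (y * a * y⁻¹)⁻¹ =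
        m * ((y * a * y⁻¹) * m⁻¹ * (y * a * y⁻¹)⁻¹) by group]
      exact mul_mem hm (hNn.conj_mem _ (inv_mem hm) _)
    rw [hinf, Subgroup.mem_bot, mul_inv_eq_one] at h1
    exact h1
  · intro h
    refine CfsgLib.Core.hasNormalPComplement_of_local fun Q hQ g hg hcop => ?_
    refine CfsgLib.Core.mem_centralizer_of_fixes_omega hQ hg hcop fun x hx hx' => ?_
    -- move `Q` into `P`
    obtain ⟨R, hR⟩ := hQ.exists_le_sylow
    obtain ⟨c, hc⟩ := MulAction.exists_smul_eq G R P
    have hcQ : ∀ q ∈ Q, c * q * c⁻¹ ∈ (P : Subgroup G) := by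
      intro q hq
      rw [← hc, Sylow.coe_subgroup_smul]
      exact ⟨q, hR hq, rfl⟩
    set Q' := Q.map (MulAut.conj c).toMonoidHom with hQ'
    set g' := c * g * c⁻¹ with hg'
    have hQ'P : Q' ≤ (P : Subgroup G) := by rintro _ ⟨q, hq, rfl⟩; exact hcQ q hq
    have hgn : g' ∈ Subgroup.normalizer (Q' : Set G) := by
      refine CfsgLib.Stable.mem_normalizer_of_map_eq ?_
      rintro _ ⟨q, hq, rfl⟩
      refine ⟨g * q * g⁻¹, (Subgroup.mem_normalizer_iff.1 hg q).1 hq, ?_⟩
      show c * (g * q * g⁻¹) * c⁻¹ = c * g * c⁻¹ * (c * q * c⁻¹) * (c * g * c⁻¹)⁻¹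
      group
    have hcop' : (orderOf g').Coprime p := by
      rwa [hg', show c * g * c⁻¹ = (MulAut.conj c).toMonoidHom g from rfl,
        orderOf_injective (MulAut.conj c).toMonoidHom (MulAut.conj c).injective g]
    have hnil : Group.IsNilpotent ↥(P : Subgroup G) := P.2.isNilpotent
    obtain ⟨N, hN⟩ := (Subgroup.isNilpotent_iff_lowerCentralSeries (P : Subgroup G)).1 hnil
    have hfix := CfsgLib.Local.OmegaFusion.fixes_of_depth (hQ.map _) hgn hcop'
      (fun i => (P : Subgroup G).lowerCentralSeries i) N hN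
      (fun i => Subgroup.lowerCentralSeries_antitone _ (Nat.le_succ i))
      (fun i => inf_le_left.trans (hQ'P.trans (Subgroup.self_le_normalizer_lowerCentralSeries _ _))) ?_
      (c * x * c⁻¹) ⟨⟨x, hx, rfl⟩, hcQ x hx⟩ (by
        rw [conj_pow, conj_pow]
        rcases hx' with h | ⟨h1, h2⟩
        · left; rw [h, mul_one, mul_inv_cancel]
        · right; exact ⟨h1, by rw [h2, mul_one, mul_inv_cancel]⟩)
    · calc g * x * g⁻¹ = c⁻¹ * (g' * (c * x * c⁻¹) * g'⁻¹) * c := by rw [hg']; group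
        _ = c⁻¹ * (c * x * c⁻¹) * c := by rw [hfix]
        _ = x := by group
    · intro i a ha hsm
      have hga : g' * a * g'⁻¹ ∈ (P : Subgroup G) :=
        hQ'P ((Subgroup.mem_normalizer_iff.1 hgn a).1 ha.1)
      obtain ⟨s, hs, he⟩ := h a (hQ'P ha.1) hsm g' hga
      rw [he]
      show s * a * s⁻¹ * a⁻¹ ∈ (P : Subgroup G).lowerCentralSeries (i + 1)
      have h1 := inv_mem (Subgroup.commutator_mem_commutator ha.2 hs (H₂ := (P : Subgroup G)))
      rwa [commutatorElement_inv, commutatorElement_def] at h1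

end Cfsg.Agent.S1946
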