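import Cfsg.Statements.S1961
import Cfsg.Agent.Lib.LocalWellPlaced

set_option autoImplicit false
open Cfsg

namespace Cfsg.Agent.S1961

/-- Local-to-global control of strong fusion through well-placed subgroups. Let p be a prime, G a finite group with Sylow p-subgroup S, and W a conjugacy functor for p on G. If W controls strong fusion in N_G(T) for every nonidentity subgroup T of S that is well placed in S with respect to W, then W controls strong fusion in G. -/
theorem result {G : Type*} [Group G] [Finite G] {p : ℕ} [Fact p.Prime] (S : Sylow p G) (W : Subgroup G → Subgroup G) (hW : Cfsg.IsConjugacyFunctor p W) (hloc : ∀ T : Subgroup G, T ≠ ⊥ → Cfsg.IsWellPlaced p W (S : Subgroup G) T → Cfsg.ControlsStrongFusionIn p W (Subgroup.normalizer ((T : Subgroup G) : Set G))) : Cfsg.ControlsStrongFusionIn p W ⊤ := by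
  refine ⟨S, le_top, S.isPGroup', by rw [Subgroup.relIndex_top_right]; exact S.not_dvd_index,
    fun A h _ hA hAh => ?_⟩
  have hr := CfsgLib.Local.reach_of_local S {W} (fun W' h' => by rw [Set.mem_singleton_iff.1 h']; exact hW)
    (Cfsg.IsWellPlaced p W (S : Subgroup G))
    (fun T hT => by
      obtain ⟨g, hg⟩ := CfsgLib.Local.exists_wellPlaced S W hW T hT
      exact ⟨g, hg.1, hg⟩)
    (fun U hU => CfsgLib.Local.wellPlaced_fullyNorm hU)
    (fun U hU _ hb => by
      obtain ⟨T₀, h1, h2, h3, h4⟩ := hloc U hb hU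
      refine ⟨T₀, h1, h2, h3, fun B k hk hB hkB => ?_⟩
      obtain ⟨x, hx, hxe⟩ := h4 B k hk hB hkB
      refine ⟨1, ![1, x], rfl, fun i => ?_, fun i => ?_, fun a ha => hxe a ha⟩
      · fin_cases i
        exact ⟨W, rfl, by simpa using hx⟩
      · fin_cases i
        · simpa using hB
        · rintro _ ⟨b, hb', rfl⟩
          have := hkB ⟨b, hb', rfl⟩
          simpa [hxe b hb'] using this)
    A h⁻¹ hA (by simpa [CfsgLib.Local.rc] using hAh)
  obtain ⟨n, c, h0, hc1, -, hc3⟩ := hr.spec hA
  refine ⟨c (Fin.last n), ⟨Subgroup.mem_top _, ?_⟩, fun a ha => by simpa using hc3 a ha⟩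
  suffices ∀ i, c i ∈ Subgroup.normalizer ((W (S : Subgroup G) : Subgroup G) : Set G) from this _
  intro i
  induction i using Fin.induction with
  | zero => rw [h0]; exact Subgroup.one_mem _
  | succ i ih =>
    obtain ⟨W', hW', hmem⟩ := hc1 i
    rw [Set.mem_singleton_iff.1 hW'] at hmem
    simpa using Subgroup.mul_mem _ hmem.2 ih

end Cfsg.Agent.S1961
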