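import Cfsg.Statements.S2247
import Cfsg.Agent.Lib.LieSuzukiSylow

set_option autoImplicit false
open Cfsg

namespace Cfsg.Agent.S2247

/-- In the Suzuki group with q = 2^(2m+1), m ≥ 1 (realised as the stabiliser in SL₄ of the Suzuki–Tits ovoid), the normalizer of a Sylow 2-subgroup P is a maximal subgroup and is the only maximal subgroup containing P. -/
theorem result {F : Type*} [Field F] [Fintype F] {m : ℕ} (hm : 1 ≤ m) (hF : Fintype.card F = 2 ^ (2 * m + 1)) (P : Sylow 2 ↥(Cfsg.Sz F m)) :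
    IsCoatom (Subgroup.normalizer ((P : Subgroup ↥(Cfsg.Sz F m)) : Set ↥(Cfsg.Sz F m))) ∧
    ∀ M : Subgroup ↥(Cfsg.Sz F m), IsCoatom M → (P : Subgroup ↥(Cfsg.Sz F m)) ≤ M → M = Subgroup.normalizer ((P : Subgroup ↥(Cfsg.Sz F m)) : Set ↥(Cfsg.Sz F m)) := by
  classical
  have hp := CfsgLib.Lie.SzOvoid.par_mk hm hF
  haveI : Fact (Nat.Prime 2) := ⟨Nat.prime_two⟩
  obtain ⟨t, ht⟩ := CfsgLib.Lie.SzOvoid.sylow_conj hp P
  set φ := MulAut.conj t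
  have hN : Subgroup.normalizer ((P : Subgroup ↥(Cfsg.Sz F m)) : Set ↥(Cfsg.Sz F m)) =
      (MulAction.stabilizer ↥(Cfsg.Sz F m) (CfsgLib.Lie.SzOvoid.oInf F m)).map φ.toMonoidHom := by
    rw [ht, ← CfsgLib.Lie.SzOvoid.stab_normalizer hp, Subgroup.map_equiv_normalizer_eq]
  rw [hN]
  have hco : ∀ H : Subgroup ↥(Cfsg.Sz F m), IsCoatom H → IsCoatom (H.map φ.toMonoidHom) := fun H hH =>
    ((φ.mapSubgroup).isCoatom_iff H).2 hH
  refine ⟨hco _ (CfsgLib.Lie.SzOvoid.stab_coatom hp), fun M hM hPM => ?_⟩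
  have e : (M.map φ.symm.toMonoidHom).map φ.toMonoidHom = M := by
    ext x
    exact ⟨by rintro ⟨_, ⟨y, hy, rfl⟩, rfl⟩; exact (show φ (φ.symm y) ∈ M by rwa [φ.apply_symm_apply]),
      fun hx => ⟨φ.symm x, ⟨x, hx, rfl⟩, φ.apply_symm_apply x⟩⟩
  have hM' : IsCoatom (M.map φ.symm.toMonoidHom) := ((φ.symm.mapSubgroup).isCoatom_iff M).2 hM
  rw [← e, CfsgLib.Lie.SzOvoid.unique_maximal hp hM' (fun u hu => ⟨φ u, hPM (by rw [ht]; exact ⟨u, hu, rfl⟩), φ.symm_apply_apply u⟩)]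

end Cfsg.Agent.S2247
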