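import Cfsg.Statements.S2364
import Cfsg.Agent.Lib.ClassicalCardLinear

set_option autoImplicit false
open Cfsg

namespace Cfsg.Agent.S2364

section

open Matrix

variable {F : Type*} [Field F] [Fintype F]

theorem dvd_sl {m r : ℕ} (hm : 2 ≤ m) (hr : r.Prime)
    (h : r ∣ Fintype.card F ∨ r ∣ Fintype.card F - 1 ∨ ∃ k, 1 ≤ k ∧ k ≤ m ∧ r ∣ Fintype.card F ^ k - 1) :
    r ∣ Nat.card (SpecialLinearGroup (Fin m) F) := by
  classical
  haveI : Nonempty (Fin m) := ⟨⟨0, by omega⟩⟩
  set q := Fintype.card F with hq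
  have hGL : (q - 1) * Nat.card (SpecialLinearGroup (Fin m) F) = ∏ i : Fin m, (q ^ m - q ^ (i : ℕ)) := by
    rw [hq, CfsgLib.Classical.card_units_mul_card_sl, Matrix.card_GL_field]
  have hfac : ∀ k, k ≤ m → q ^ m - q ^ (m - k) = q ^ (m - k) * (q ^ k - 1) := by
    intro k hk
    rw [Nat.mul_sub, mul_one, ← pow_add, show m - k + k = m by omega]
  have hq1 : 1 < q := Fintype.one_lt_card
  by_cases h1 : r ∣ q - 1
  · have hsq : (q - 1) * (q - 1) ∣ ∏ i : Fin m, (q ^ m - q ^ (i : ℕ)) := by
      have hne : (⟨m - 1, by omega⟩ : Fin m) ≠ ⟨m - 2, by omega⟩ := by simp [Fin.ext_iff]; omega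
      refine dvd_trans ?_ (Finset.prod_dvd_prod_of_subset {⟨m - 1, by omega⟩, ⟨m - 2, by omega⟩} _ _ (Finset.subset_univ _))
      rw [Finset.prod_pair hne]
      refine Nat.mul_dvd_mul ?_ ?_
      · show q - 1 ∣ q ^ m - q ^ (m - 1)
        rw [hfac 1 (by omega), pow_one]
        exact dvd_mul_left _ _
      · show q - 1 ∣ q ^ m - q ^ (m - 2)
        rw [hfac 2 (by omega)]
        refine Dvd.dvd.mul_left ?_ _
        simpa using Nat.sub_dvd_pow_sub_pow q 1 2
    rw [← hGL] at hsq
    exact h1.trans (Nat.dvd_of_mul_dvd_mul_left (by omega) hsq)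
  have hco : ∀ x, r ∣ (q - 1) * x → r ∣ x := fun x hx => (hr.dvd_mul.1 hx).resolve_left h1
  refine hco _ ?_
  rw [hGL]
  rcases h with h | h | ⟨k, hk1, hk2, h⟩
  · refine dvd_trans ?_ (Finset.dvd_prod_of_mem _ (Finset.mem_univ (⟨m - 1, by omega⟩ : Fin m)))
    show r ∣ q ^ m - q ^ (m - 1)
    rw [hfac 1 (by omega)]
    exact Dvd.dvd.mul_right (h.trans (dvd_pow_self q (by omega))) _
  · exact absurd h h1
  · refine dvd_trans ?_ (Finset.dvd_prod_of_mem _ (Finset.mem_univ (⟨m - k, by omega⟩ : Fin m)))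
    show r ∣ q ^ m - q ^ (m - k)
    rw [hfac k hk2]
    exact h.mul_left _

/-- An invariant subspace without fixed points. -/
theorem dvd_card_sub {V : Type*} [AddCommGroup V] [Module F V] [Finite V] {r : ℕ} (hr : r.Prime)
    {f : V →ₗ[F] V} (hf : f ^ r = 1) (W : Submodule F V) (hW : ∀ v ∈ W, f v ∈ W)
    (h0 : ∀ v ∈ W, f v = v → v = 0) : r ∣ Fintype.card F ^ Module.finrank F W - 1 := by
  classical
  haveI := Fact.mk hr
  haveI : Fintype V := Fintype.ofFinite V
  set g : W →ₗ[F] W := f.restrict hW with hg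
  have hgr : g ^ r = 1 := by
    apply LinearMap.ext
    intro w
    apply Subtype.ext
    rw [Module.End.pow_restrict, LinearMap.restrict_apply]
    simp [hf]
  let σ : Equiv.Perm W :=
    { toFun := g
      invFun := fun w => (g ^ (r - 1)) w
      left_inv := fun w => by
        show (g ^ (r - 1)) (g w) = w
        rw [← Module.End.mul_apply, ← pow_succ, Nat.sub_add_cancel hr.one_le, hgr]; rfl
      right_inv := fun w => by
        show g ((g ^ (r - 1)) w) = w
        rw [← Module.End.mul_apply, ← pow_succ', Nat.sub_add_cancel hr.one_le, hgr]; rfl }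
  have hσ : σ ^ (r ^ 1) = 1 := by
    rw [pow_one]
    ext w
    have : ∀ i : ℕ, (σ ^ i) w = (g ^ i) w := by
      intro i
      induction i generalizing w with
      | zero => rfl
      | succ i ih => rw [pow_succ, pow_succ, Equiv.Perm.mul_apply, Module.End.mul_apply, ih]; rfl
    rw [this, hgr]; rfl
  have hfix := Equiv.Perm.card_compl_support_modEq (p := r) (σ := σ) hσ
  have hsupp : σ.supportᶜ = {0} := by
    ext w
    simp only [Finset.mem_compl, Equiv.Perm.mem_support, not_not, Finset.mem_singleton]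
    constructor
    · intro e
      apply Subtype.ext
      exact h0 w.1 w.2 (congrArg Subtype.val e)
    · rintro rfl
      exact map_zero g
  rw [hsupp, Finset.card_singleton] at hfix
  have hc : Fintype.card W = Fintype.card F ^ Module.finrank F W := Module.card_eq_pow_finrank
  rw [← hc]
  exact (Nat.modEq_iff_dvd' Fintype.card_pos).1 hfix

/-- A small centraliser: no unipotent elements commute. -/
theorem no_unipotent {n r k : ℕ} (hr : r.Prime) (hrF : (r : F) ≠ 0)
    (hk : ∀ d, r ∣ Fintype.card F ^ d - 1 → k ∣ d) (hkn : n ≤ k + 1) (hn2 : n < 2 * k)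
    {X N : Matrix (Fin n) (Fin n) F} (hX : X ^ r = 1) (hX1 : X ≠ 1) (hN : IsNilpotent N) (hc : X * N = N * X) :
    N = 0 := by
  classical
  set f := Matrix.toLinAlgEquiv' X with hf
  set g := Matrix.toLinAlgEquiv' N with hg
  have hfr : f ^ r = 1 := by rw [hf, ← map_pow, hX, map_one]
  have hfg : f * g = g * f := by rw [hf, hg, ← map_mul, ← map_mul, hc]
  obtain ⟨m, hm⟩ := hN
  have hgm : g ^ m = 0 := by rw [hg, ← map_pow, hm, map_zero]
  set E : Submodule F (Fin n → F) := LinearMap.ker (f - 1) with hE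
  set W : Submodule F (Fin n → F) := LinearMap.range (f - 1) with hW
  have hdim : Module.finrank F W + Module.finrank F E = n := by
    rw [hW, hE, LinearMap.finrank_range_add_finrank_ker, Module.finrank_fin_fun]
  have hEm : ∀ v, v ∈ E ↔ f v = v := fun v => by simp [hE, LinearMap.mem_ker, sub_eq_zero]
  have hWinv : ∀ v ∈ W, f v ∈ W := by
    rintro _ ⟨u, rfl⟩
    exact ⟨f u, by simp [map_sub]⟩
  have hW0 : ∀ v ∈ W, f v = v → v = 0 := by
    rintro _ ⟨u, rfl⟩ hfix
    set S : Module.End F (Fin n → F) := ∑ i ∈ Finset.range r, f ^ i with hS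
    have h1 : S ((f - 1) u) = 0 := by
      rw [← Module.End.mul_apply, hS, geom_sum_mul, hfr, sub_self]; rfl
    have hfi : ∀ i : ℕ, (f ^ i) ((f - 1) u) = (f - 1) u := by
      intro i
      induction i with
      | zero => rfl
      | succ i ih => rw [pow_succ, Module.End.mul_apply, hfix, ih]
    rw [hS, LinearMap.sum_apply, Finset.sum_congr rfl fun i _ => hfi i, Finset.sum_const, Finset.card_range,
      ← Nat.cast_smul_eq_nsmul F] at h1
    exact (smul_eq_zero.1 h1).resolve_left hrF
  have hsub : ∀ U : Submodule F (Fin n → F), U ≤ W → (∀ v ∈ U, f v ∈ U) → k ∣ Module.finrank F U :=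
    fun U hU hi => hk _ (dvd_card_sub hr hfr U hi fun v hv => hW0 v (hU hv))
  have hWpos : 0 < Module.finrank F W := by
    rw [Module.finrank_pos_iff, Submodule.nontrivial_iff_ne_bot, hW, ne_eq, LinearMap.range_eq_bot, sub_eq_zero]
    intro e
    exact hX1 (Matrix.toLinAlgEquiv'.injective (by rw [← hf, e, map_one]))
  obtain ⟨c, hcW⟩ := hsub W le_rfl hWinv
  have hWk : Module.finrank F W = k := by
    rcases c with _ | _ | c
    · omega
    · omega
    · exfalso; rw [hcW] at hdim; nlinarith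
  have hcomm : ∀ v, f (g v) = g (f v) := fun v => LinearMap.congr_fun hfg v
  -- the map kills the moving part
  have hgW : ∀ v ∈ W, g v = 0 := by
    have hgWin : ∀ v ∈ W, g v ∈ W := by
      rintro _ ⟨u, rfl⟩
      exact ⟨g u, by simp [map_sub, hcomm]⟩
    set U : Submodule F (Fin n → F) := W ⊓ LinearMap.ker g with hU
    have hUinv : ∀ v ∈ U, f v ∈ U := by
      intro v hv
      refine ⟨hWinv v hv.1, ?_⟩
      rw [SetLike.mem_coe, LinearMap.mem_ker, ← hcomm, LinearMap.mem_ker.1 hv.2, map_zero]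
    have hUne : U ≠ ⊥ := by
      intro hbot
      have hinj : ∀ v ∈ W, g v = 0 → v = 0 := fun v hv e => (Submodule.eq_bot_iff _).1 hbot v ⟨hv, e⟩
      have hzero : ∀ j : ℕ, ∀ v ∈ W, (g ^ j) v = 0 → v = 0 := by
        intro j
        induction j with
        | zero => intro v _ e; simpa using e
        | succ j ih =>
          intro v hv e
          rw [pow_succ, Module.End.mul_apply] at e
          exact hinj v hv (ih _ (hgWin v hv) e)
      have : W = ⊥ := (Submodule.eq_bot_iff _).2 fun v hv => hzero m v hv (by rw [hgm]; rfl)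
      rw [this, finrank_bot] at hWpos
      omega
    obtain ⟨c', hc'⟩ := hsub U inf_le_left hUinv
    have hUpos : 0 < Module.finrank F U := by
      rwa [Module.finrank_pos_iff, Submodule.nontrivial_iff_ne_bot]
    have hUle : Module.finrank F U ≤ Module.finrank F W := Submodule.finrank_mono inf_le_left
    have : U = W := Submodule.eq_of_le_of_finrank_le inf_le_left (by
      rw [hWk, hc']
      rcases c' with _ | c'
      · rw [hc'] at hUpos; omega
      · exact Nat.le_mul_of_pos_right _ c'.succ_pos)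
    intro v hv
    rw [← this] at hv
    exact LinearMap.mem_ker.1 hv.2
  have hgE : ∀ v ∈ E, g v = 0 := by
    intro v hv
    have hgEin : ∀ w ∈ E, g w ∈ E := fun w hw => by rw [hEm] at hw ⊢; rw [hcomm, hw]
    by_cases hv0 : v = 0
    · rw [hv0, map_zero]
    have hle : Module.finrank F E ≤ 1 := by omega
    have hspan : E = F ∙ v := by
      refine (Submodule.eq_of_le_of_finrank_le ((Submodule.span_singleton_le_iff_mem _ _).2 hv) ?_).symm
      rwa [finrank_span_singleton hv0]
    obtain ⟨a, ha⟩ := Submodule.mem_span_singleton.1 (hspan ▸ hgEin v hv)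
    have hpow : ∀ j : ℕ, (g ^ j) v = a ^ j • v := by
      intro j
      induction j with
      | zero => simp
      | succ j ih => rw [pow_succ, Module.End.mul_apply, ← ha, map_smul, ih, smul_smul, pow_succ']
    have hz := hpow m
    rw [hgm] at hz
    have : a ^ m = 0 := (smul_eq_zero.1 (by simpa using hz.symm)).resolve_right hv0
    rw [← ha, eq_zero_of_pow_eq_zero this, zero_smul]
  apply Matrix.toLinAlgEquiv'.injective
  rw [← hg, map_zero]
  have hdis : W ⊓ E = ⊥ := (Submodule.eq_bot_iff _).2 fun v hv => hW0 v hv.1 ((hEm v).1 hv.2)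
  have htop : W ⊔ E = ⊤ := by
    apply Submodule.eq_top_of_finrank_eq
    have := Submodule.finrank_sup_add_finrank_inf_eq W E
    rw [hdis, finrank_bot, add_zero] at this
    rw [this, hdim, Module.finrank_fin_fun]
  refine LinearMap.ext fun v => ?_
  obtain ⟨w, hw, e, he, rfl⟩ := Submodule.mem_sup.1 (htop ▸ Submodule.mem_top : v ∈ W ⊔ E)
  rw [map_add, hgW w hw, hgE e he, add_zero]
  rfl

end

/-- Let F be a finite field of characteristic p, n ≥ 4, and let a, b be commuting elements of PSL(n, F) with a of order p. Then every prime divisor of the order of b divides the order of SL(n − 2, F). -/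
theorem result {F : Type*} [Field F] [Fintype F] (p : ℕ) [Fact p.Prime] [CharP F p] (n : ℕ) (hn : 4 ≤ n)
    (a b : Matrix.ProjectiveSpecialLinearGroup (Fin n) F) (ha : orderOf a = p) (hab : Commute a b) :
    (orderOf b).primeFactors ⊆ (Nat.card (Matrix.SpecialLinearGroup (Fin (n - 2)) F)).primeFactors := by
  classical
  intro r hr
  rw [Nat.mem_primeFactors] at hr ⊢
  obtain ⟨hr, hrb, -⟩ := hr
  refine ⟨hr, ?_, Nat.card_pos.ne'⟩
  set q := Fintype.card F with hq
  obtain ⟨e0, hpp, hqe⟩ := FiniteField.card F p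
  by_cases hrq : r ∣ q ∨ r ∣ q - 1
  · exact dvd_sl (by omega) hr (hrq.elim Or.inl fun h => Or.inr (Or.inl h))
  push Not at hrq
  haveI := Fact.mk hr
  have hrp : r ≠ p := fun e => hrq.1 (by rw [e, hq, hqe]; exact dvd_pow_self p e0.ne_zero)
  have hrF : (r : F) ≠ 0 := fun e =>
    hrp ((Nat.prime_dvd_prime_iff_eq hpp hr).1 ((CharP.cast_eq_zero_iff F p r).1 e)).symm
  have hqr : (q : ZMod r) ≠ 0 := fun e => hrq.1 ((ZMod.natCast_eq_zero_iff _ _).1 e)
  set k := orderOf (q : ZMod r) with hk
  have hkd : ∀ d, r ∣ q ^ d - 1 ↔ k ∣ d := by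
    intro d
    rw [hk, orderOf_dvd_iff_pow_eq_one, ← Nat.modEq_iff_dvd' (Nat.one_le_pow _ _ Fintype.card_pos),
      ← ZMod.natCast_eq_natCast_iff, Nat.cast_pow, Nat.cast_one, eq_comm]
  have hkpos : 0 < k := orderOf_pos_iff.2 (isOfFinOrder_iff_pow_eq_one.2 ⟨r - 1, by have := hr.two_le; omega,
    ZMod.pow_card_sub_one_eq_one hqr⟩)
  by_contra hnot
  have hkbig : n - 2 < k := by
    by_contra hle
    exact hnot (dvd_sl (by omega) hr (Or.inr (Or.inr ⟨k, hkpos, by omega, (hkd k).2 dvd_rfl⟩)))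
  -- lifts
  set π := QuotientGroup.mk' (Subgroup.center (Matrix.SpecialLinearGroup (Fin n) F))
  obtain ⟨A, hA⟩ := QuotientGroup.mk'_surjective (Subgroup.center (Matrix.SpecialLinearGroup (Fin n) F)) a
  obtain ⟨B, hB⟩ := QuotientGroup.mk'_surjective (Subgroup.center (Matrix.SpecialLinearGroup (Fin n) F)) b
  have hsc : ∀ z : Matrix.SpecialLinearGroup (Fin n) F, z ∈ Subgroup.center _ →
      ∃ c : F, c ^ n = 1 ∧ (z : Matrix (Fin n) (Fin n) F) = c • 1 := by
    intro z hz
    obtain ⟨c, hc, he⟩ := Matrix.SpecialLinearGroup.mem_center_iff.1 hz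
    exact ⟨c, by simpa using hc, by rw [← he, Matrix.smul_one_eq_diagonal]; rfl⟩
  -- the element of order r
  have hordB : r ∣ orderOf B := hrb.trans (by rw [← hB]; exact orderOf_map_dvd _ _)
  set x := B ^ (orderOf B / r) with hx
  have hxo : orderOf x = r := orderOf_pow_orderOf_div (orderOf_pos B).ne' hordB
  set X := (x : Matrix (Fin n) (Fin n) F) with hXdef
  have hXr : X ^ r = 1 := by
    rw [hXdef, ← Matrix.SpecialLinearGroup.coe_pow, ← hxo, pow_orderOf_eq_one, Matrix.SpecialLinearGroup.coe_one]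
  have hX1 : X ≠ 1 := fun e => by
    have : x = 1 := Subtype.ext e
    rw [this, orderOf_one] at hxo
    exact hr.one_lt.ne hxo
  -- the unipotent element
  have hAp : A ^ p ∈ Subgroup.center (Matrix.SpecialLinearGroup (Fin n) F) := by
    refine (QuotientGroup.eq_one_iff _).1 ?_
    show QuotientGroup.mk' _ (A ^ p) = 1
    rw [map_pow, hA, ← ha, pow_orderOf_eq_one]
  obtain ⟨c, hcn, hcv⟩ := hsc _ hAp
  have hc0 : c ≠ 0 := fun e => by rw [e, zero_pow (by omega)] at hcn; exact zero_ne_one hcn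
  obtain ⟨s, hs⟩ : ∃ s : F, s ^ p = c := (bijective_frobenius F p).2 c
  have hs0 : s ≠ 0 := fun e => hc0 (by rw [← hs, e, zero_pow hpp.ne_zero])
  set N := s⁻¹ • (A : Matrix (Fin n) (Fin n) F) - 1 with hN
  have hnil : IsNilpotent N := by
    refine ⟨p, ?_⟩
    haveI : Nonempty (Fin n) := ⟨⟨0, by omega⟩⟩
    rw [hN, sub_pow_char_of_commute (p := p) (Commute.one_right _), _root_.smul_pow, one_pow,
      ← Matrix.SpecialLinearGroup.coe_pow, hcv, smul_smul, ← hs, inv_pow, inv_mul_cancel₀ (pow_ne_zero _ hs0),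
      one_smul, sub_self]
  have hN0 : N ≠ 0 := by
    intro e
    rw [hN, sub_eq_zero] at e
    have hA2 : (A : Matrix (Fin n) (Fin n) F) = s • 1 := by
      rw [← e, smul_smul, mul_inv_cancel₀ hs0, one_smul]
    have hAc : A ∈ Subgroup.center (Matrix.SpecialLinearGroup (Fin n) F) := by
      rw [Matrix.SpecialLinearGroup.mem_center_iff]
      refine ⟨s, ?_, by rw [hA2, Matrix.smul_one_eq_diagonal]; rfl⟩
      have hd := A.2
      rwa [hA2, Matrix.det_smul, Matrix.det_one, mul_one] at hd
    have : a = 1 := hA ▸ (QuotientGroup.eq_one_iff A).2 hAc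
    rw [this, orderOf_one] at ha
    exact hpp.one_lt.ne ha
  -- they commute
  have hz : x * A * x⁻¹ * A⁻¹ ∈ Subgroup.center (Matrix.SpecialLinearGroup (Fin n) F) := by
    refine (QuotientGroup.eq_one_iff _).1 ?_
    show QuotientGroup.mk' _ _ = 1
    rw [map_mul, map_mul, map_mul, map_inv, map_inv, hx, map_pow, hA, hB, ((hab.symm.pow_left _)).eq]
    group
  obtain ⟨z, hzn, hzv⟩ := hsc _ hz
  have hXA : X * (A : Matrix (Fin n) (Fin n) F) = z • ((A : Matrix (Fin n) (Fin n) F) * X) := by
    rw [hXdef, ← Matrix.SpecialLinearGroup.coe_mul, ← Matrix.SpecialLinearGroup.coe_mul,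
      show x * A = (x * A * x⁻¹ * A⁻¹) * (A * x) by group, Matrix.SpecialLinearGroup.coe_mul, hzv, smul_mul_assoc, one_mul]
  have hz1 : z = 1 := by
    have hit : ∀ j : ℕ, X ^ j * (A : Matrix (Fin n) (Fin n) F) = z ^ j • ((A : Matrix (Fin n) (Fin n) F) * X ^ j) := by
      intro j
      induction j with
      | zero => simp
      | succ j ih => rw [pow_succ, mul_assoc, hXA, mul_smul_comm, ← mul_assoc, ih, smul_mul_assoc, smul_smul, mul_assoc, pow_succ']
    have hAX : (A : Matrix (Fin n) (Fin n) F).det = 1 := A.2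
    have h1 := hit r
    rw [hXr, one_mul, mul_one] at h1
    have h2 : (z ^ r - 1) • (A : Matrix (Fin n) (Fin n) F) = 0 := by rw [sub_smul, one_smul, ← h1, sub_self]
    rcases smul_eq_zero.1 h2 with h | h
    · have hu : IsUnit z := isUnit_iff_ne_zero.2 fun e => by rw [e, zero_pow hr.ne_zero, zero_sub, neg_eq_zero] at h; exact one_ne_zero h
      obtain ⟨u, rfl⟩ := hu
      have h1' : orderOf u ∣ r := orderOf_dvd_of_pow_eq_one (Units.ext (by rw [Units.val_pow_eq_pow_val]; exact sub_eq_zero.1 h))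
      have h2' : orderOf u ∣ q - 1 := by rw [hq, ← Fintype.card_units]; exact orderOf_dvd_card
      rcases (Nat.dvd_prime hr).1 h1' with e | e
      · rw [orderOf_eq_one_iff.1 e, Units.val_one]
      · exact absurd (e ▸ h2') hrq.2
    · haveI : Nonempty (Fin n) := ⟨⟨0, by omega⟩⟩
      rw [h, Matrix.det_zero] at hAX
      exact absurd hAX zero_ne_one
  have hXN : X * N = N * X := by
    rw [hN, mul_sub, sub_mul, mul_smul_comm, smul_mul_assoc, hXA, hz1, one_smul, mul_one, one_mul]
  exact hN0 (no_unipotent (k := k) hr hrF (fun d h => (hkd d).1 h) (by omega) (by omega) hXr hX1 hnil hXN)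

end Cfsg.Agent.S2364
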