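import Cfsg.Statements.S2387
import Cfsg.Agent.Lib.LieGLSemisimple

set_option autoImplicit false
open scoped MatrixGroups
open Cfsg

namespace Cfsg.Agent.S2387

section

open Polynomial CfsgLib.Lie.GLSemisimple

variable {F : Type*} [Field F] [Fintype F]

/-- Monic polynomials of degree `n` with nonzero constant term. -/
abbrev Poly0 (F : Type*) [Field F] (n : ℕ) := {χ : F[X] // χ.Monic ∧ χ.natDegree = n ∧ χ.coeff 0 ≠ 0}

theorem card_poly0 (m : ℕ) : Nat.card (Poly0 F (m + 1)) = (Fintype.card F - 1) * Fintype.card F ^ m := by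
  classical
  let e : {c : Fin (m + 1) → F // c 0 ≠ 0} ≃ Poly0 F (m + 1) :=
    { toFun := fun c => ⟨X ^ (m + 1) + ∑ i, C (c.1 i) * X ^ (i : ℕ), by
        have hd : (∑ i, C (c.1 i) * X ^ (i : ℕ) : F[X]).degree < (m + 1 : ℕ) := degree_sum_fin_lt _
        refine ⟨monic_X_pow_add hd, ?_, ?_⟩
        · rw [natDegree_eq_of_degree_eq_some]
          rw [degree_add_eq_left_of_degree_lt (by rwa [degree_X_pow]), degree_X_pow]
        · have h0 : (X ^ (m + 1) + ∑ i, C (c.1 i) * X ^ (i : ℕ) : F[X]).coeff 0 = c.1 0 := by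
            simp [coeff_add, finset_sum_coeff, coeff_C_mul, coeff_X_pow, eq_comm]
          rw [h0]; exact c.2⟩
      invFun := fun χ => ⟨fun i => χ.1.coeff i, by simpa using χ.2.2.2⟩
      left_inv := fun c => Subtype.ext (funext fun i => by
        simp [coeff_add, finset_sum_coeff, coeff_C_mul, coeff_X_pow, Fin.val_inj, ne_of_lt i.2])
      right_inv := fun χ => Subtype.ext (by
        show X ^ (m + 1) + ∑ i : Fin (m + 1), C (χ.1.coeff i) * X ^ (i : ℕ) = χ.1
        conv_rhs => rw [χ.2.1.as_sum, χ.2.2.1]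
        rw [Fin.sum_univ_eq_sum_range (fun i => C (χ.1.coeff i) * X ^ i)]) }
  rw [← Nat.card_congr e]
  let e2 : {c : Fin (m + 1) → F // c 0 ≠ 0} ≃ {a : F // a ≠ 0} × (Fin m → F) :=
    { toFun := fun c => (⟨c.1 0, c.2⟩, fun i => c.1 i.succ)
      invFun := fun x => ⟨Fin.cons x.1.1 x.2, by simpa using x.1.2⟩
      left_inv := fun c => Subtype.ext (Fin.cons_self_tail c.1)
      right_inv := fun x => by simp }
  rw [Nat.card_congr e2, Nat.card_prod, Nat.card_eq_fintype_card, Nat.card_eq_fintype_card,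
    Fintype.card_fun, Fintype.card_fin, Fintype.card_subtype_compl, Fintype.card_subtype_eq]

theorem realize (p : ℕ) [Fact p.Prime] [CharP F p] {n : ℕ} (χ : Poly0 F n) :
    ∃ g : GL (Fin n) F, (orderOf g).Coprime p ∧ (g : Matrix (Fin n) (Fin n) F).charpoly = χ.1 := by
  classical
  obtain ⟨χ, hχm, hχd, hχ0⟩ := χ
  let s := UniqueFactorizationMonoid.normalizedFactors χ
  let P : s → F[X] := fun i => (i : F[X])
  have hP : ∀ i, Irreducible (P i) ∧ (P i).Monic := fun i => by
    have hi : (i : F[X]) ∈ s := Multiset.coe_mem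
    refine ⟨UniqueFactorizationMonoid.irreducible_of_normalized_factor _ hi, ?_⟩
    show (i : F[X]).Monic
    rw [← UniqueFactorizationMonoid.normalize_normalized_factor _ hi]
    exact monic_normalize (UniqueFactorizationMonoid.irreducible_of_normalized_factor _ hi).ne_zero
  have hprod : ∏ i, P i = χ := by
    have h := UniqueFactorizationMonoid.prod_normalizedFactors_eq hχm.ne_zero
    rw [Finset.prod_eq_multiset_prod]
    show (Multiset.map (fun i : s => (i : F[X])) _).prod = χ
    rw [Multiset.map_univ_coe]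
    rw [h, hχm.normalize_eq_self]
  haveI : ∀ i, Module.Finite F (Q (P i)) := fun i => finite_Q (hP i).1.ne_zero
  set f : Module.End F (∀ i, Q (P i)) := LinearMap.pi fun i => mulX (P i) ∘ₗ LinearMap.proj i with hfdef
  have hcp : f.charpoly = χ := by
    rw [hfdef, charpoly_pi _ (fun i => Q (P i)) fun i => mulX (P i), ← hprod]
    exact Finset.prod_congr rfl fun i _ => charpoly_mulX (hP i).2
  have hrank : Module.finrank F (∀ i, Q (P i)) = Module.finrank F (Fin n → F) := by
    rw [Module.finrank_fin_fun, ← LinearMap.charpoly_natDegree f, hcp, hχd]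
  let e := LinearEquiv.ofFinrankEq _ _ hrank
  let N : ℕ := ∏ i : s, (Nat.card (Q (P i)) - 1)
  have hpowX : ∀ (i : s) (k : ℕ) (w : Q (P i)), (mulX (P i) ^ k) w = ((X : F[X]) ^ k) • w := by
    intro i k w
    induction k with
    | zero => simp
    | succ k ih => rw [pow_succ', Module.End.mul_apply, ih, mulX_apply, smul_smul, ← pow_succ']
  have hN : f ^ N = 1 := by
    refine LinearMap.ext fun x => funext fun i => ?_
    have h1 : ∀ k : ℕ, (f ^ k) x i = (mulX (P i) ^ k) (x i) := by
      intro k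
      induction k with
      | zero => simp
      | succ k ih =>
        rw [pow_succ', Module.End.mul_apply, pow_succ', Module.End.mul_apply, ← ih]
        rfl
    rw [h1, hpowX, Module.End.one_apply]
    haveI hmax : Ideal.IsMaximal (F[X] ∙ P i : Ideal F[X]) :=
      PrincipalIdealRing.isMaximal_of_irreducible (hP i).1
    letI := Ideal.Quotient.field (F[X] ∙ P i : Ideal F[X])
    haveI : Finite (Q (P i)) := Module.finite_of_finite F
    haveI := Fintype.ofFinite (Q (P i))
    have hX : (Ideal.Quotient.mk (F[X] ∙ P i : Ideal F[X]) X : Q (P i)) ≠ 0 := by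
      intro h
      rw [Ideal.Quotient.eq_zero_iff_mem] at h
      have hd := Ideal.mem_span_singleton.1 h
      have hu : Associated (P i) X := (hP i).1.associated_of_dvd irreducible_X hd
      apply hχ0
      rw [← hprod, ← Polynomial.X_dvd_iff]
      exact hu.symm.dvd.trans (Finset.dvd_prod_of_mem _ (Finset.mem_univ i))
    have hpw : (Ideal.Quotient.mk (F[X] ∙ P i : Ideal F[X]) X : Q (P i)) ^ N = 1 := by
      obtain ⟨c, hc⟩ : Nat.card (Q (P i)) - 1 ∣ N := Finset.dvd_prod_of_mem _ (Finset.mem_univ i)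
      rw [hc, pow_mul, Nat.card_eq_fintype_card, FiniteField.pow_card_sub_one_eq_one _ hX, one_pow]
    rw [Algebra.smul_def, Ideal.Quotient.algebraMap_eq, map_pow, hpw, one_mul]
  have hpN : ¬ p ∣ N := by
    intro h
    obtain ⟨i, -, hi⟩ := (Fact.out : p.Prime).prime.exists_mem_finset_dvd h
    haveI : Finite (Q (P i)) := Module.finite_of_finite F
    have hcard : p ∣ Nat.card (Q (P i)) := by
      rw [Module.natCard_eq_pow_finrank (K := F), Nat.card_eq_fintype_card]
      obtain ⟨k, hp', hk⟩ := FiniteField.card F p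
      rw [hk, ← pow_mul]
      refine dvd_pow_self p (Nat.mul_ne_zero k.ne_zero ?_)
      rw [← LinearMap.charpoly_natDegree (mulX (P i)), charpoly_mulX (hP i).2]
      exact (hP i).1.natDegree_pos.ne'
    have hpos : 1 ≤ Nat.card (Q (P i)) := Nat.card_pos
    have := (Nat.dvd_sub hcard hi)
    rw [Nat.sub_sub_self hpos, Nat.dvd_one] at this
    exact (Fact.out : p.Prime).ne_one this
  set M : Matrix (Fin n) (Fin n) F := LinearMap.toMatrix' (e.conj f) with hMdef
  have hMcp : M.charpoly = χ := by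
    rw [← hcp, ← LinearEquiv.charpoly_conj e f, ← LinearMap.charpoly_toMatrix _ (Pi.basisFun F (Fin n))]
    rfl
  have hdet : M.det ≠ 0 := by
    rw [Matrix.det_eq_sign_charpoly_coeff, hMcp]
    exact mul_ne_zero (pow_ne_zero _ (by simp)) hχ0
  refine ⟨Matrix.GeneralLinearGroup.mkOfDetNeZero M hdet, ?_, hMcp⟩
  have hpow : (Matrix.GeneralLinearGroup.mkOfDetNeZero M hdet) ^ N = 1 := by
    refine Units.ext ?_
    show M ^ N = 1
    have hh : M = LinearMap.toMatrixAlgEquiv' (e.conjAlgEquiv F f) := rfl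
    rw [hh, ← map_pow, ← map_pow, hN, map_one, map_one]
  refine Nat.Coprime.coprime_dvd_left (orderOf_dvd_of_pow_eq_one hpow) ?_
  exact ((Nat.Prime.coprime_iff_not_dvd Fact.out).2 hpN).symm

end

/-- In `GL_n(q)` with `n ≥ 1`, `q` a power of the prime `p`, the number of conjugacy classes of elements of order prime to `p` (diagonalisable over the algebraic closure; determined by the characteristic polynomial) is `(q - 1) q^(n-1)`. -/
theorem result {F : Type*} [Field F] [Fintype F] {q : ℕ} (hq : Fintype.card F = q) (p : ℕ) [Fact p.Prime] [CharP F p] (n : ℕ) (hn : 1 ≤ n) :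
    Nat.card {c : ConjClasses (GL (Fin n) F) // ∃ g : GL (Fin n) F, ConjClasses.mk g = c ∧ (orderOf g).Coprime p} = (q - 1) * q ^ (n - 1) := by
  obtain ⟨m, rfl⟩ : ∃ m, n = m + 1 := ⟨n - 1, by omega⟩
  subst hq
  classical
  rw [Nat.add_sub_cancel, ← card_poly0 (F := F) m]
  have hne : ∀ x : GL (Fin (m + 1)) F, (orderOf x).Coprime p → ((orderOf x : ℕ) : F) ≠ 0 := by
    intro x hx
    rw [Ne, CharP.cast_eq_zero_iff F p]
    intro hdvd
    exact (Fact.out : p.Prime).ne_one (Nat.Coprime.eq_one_of_dvd hx.symm hdvd)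
  have hpow : ∀ x : GL (Fin (m + 1)) F,
      (Matrix.toLinAlgEquiv' (x : Matrix (Fin (m + 1)) (Fin (m + 1)) F)) ^ orderOf x = 1 := by
    intro x
    rw [← map_pow, ← Units.val_pow_eq_pow_val, pow_orderOf_eq_one, Units.val_one, map_one]
  have hcp : ∀ M : Matrix (Fin (m + 1)) (Fin (m + 1)) F, (Matrix.toLinAlgEquiv' M).charpoly = M.charpoly := by
    intro M
    rw [← LinearMap.charpoly_toMatrix _ (Pi.basisFun F (Fin (m + 1)))]
    congr 1
    exact LinearMap.toMatrix'_toLin' M
  have hP0 : ∀ g : GL (Fin (m + 1)) F,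
      (g : Matrix (Fin (m + 1)) (Fin (m + 1)) F).charpoly.Monic ∧
      (g : Matrix (Fin (m + 1)) (Fin (m + 1)) F).charpoly.natDegree = m + 1 ∧
      (g : Matrix (Fin (m + 1)) (Fin (m + 1)) F).charpoly.coeff 0 ≠ 0 := by
    intro g
    refine ⟨Matrix.charpoly_monic _, by rw [Matrix.charpoly_natDegree_eq_dim, Fintype.card_fin], fun h => ?_⟩
    have := Matrix.det_eq_sign_charpoly_coeff (g : Matrix (Fin (m + 1)) (Fin (m + 1)) F)
    rw [h, mul_zero] at this
    exact (Matrix.isUnits_det_units g).ne_zero this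
  let Φ : {c : ConjClasses (GL (Fin (m + 1)) F) // ∃ g, ConjClasses.mk g = c ∧ (orderOf g).Coprime p} →
      Poly0 F (m + 1) := fun c => ⟨_, hP0 c.2.choose⟩
  refine Nat.card_eq_of_bijective Φ ⟨fun c d h => ?_, fun χ => ?_⟩
  · obtain ⟨hc1, hc2⟩ := c.2.choose_spec
    obtain ⟨hd1, hd2⟩ := d.2.choose_spec
    have h' := congrArg Subtype.val h
    obtain ⟨P, hP⟩ := CfsgLib.Lie.GLSemisimple.exists_conj _ _ (hne _ hc2) (hne _ hd2) (hpow c.2.choose)
      (hpow d.2.choose) (by rw [hcp, hcp]; exact h')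
    let PM : GL (Fin (m + 1)) F := ⟨LinearMap.toMatrix' P.toLinearMap, LinearMap.toMatrix' P.symm.toLinearMap,
      by rw [← LinearMap.toMatrix'_comp]; simp, by rw [← LinearMap.toMatrix'_comp]; simp⟩
    refine Subtype.ext ?_
    rw [← hc1, ← hd1, ConjClasses.mk_eq_mk_iff_isConj, isConj_iff]
    refine ⟨PM, mul_inv_eq_iff_eq_mul.2 (Units.ext ?_)⟩
    refine Matrix.toLin'.injective (LinearMap.ext fun x => ?_)
    show Matrix.toLin' (LinearMap.toMatrix' P.toLinearMap * _) x =
      Matrix.toLin' (_ * LinearMap.toMatrix' P.toLinearMap) x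
    rw [Matrix.toLin'_mul_apply, Matrix.toLin'_mul_apply, Matrix.toLin'_toMatrix']
    exact hP x
  · obtain ⟨g, hg, hgc⟩ := realize p χ
    refine ⟨⟨ConjClasses.mk g, g, rfl, hg⟩, Subtype.ext ?_⟩
    obtain ⟨u, hu⟩ := isConj_iff.1 (ConjClasses.mk_eq_mk_iff_isConj.1
      (Exists.choose_spec (⟨g, rfl, hg⟩ : ∃ g', ConjClasses.mk g' = ConjClasses.mk g ∧ (orderOf g').Coprime p)).1)
    have h2 := congrArg (fun z : GL (Fin (m + 1)) F => (z : Matrix (Fin (m + 1)) (Fin (m + 1)) F).charpoly) hu
    simp only [Units.val_mul, Matrix.coe_units_inv, Matrix.charpoly_units_conj] at h2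
    exact h2.trans hgc

end Cfsg.Agent.S2387
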