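import Cfsg.Statements.S2419
import Cfsg.Agent.Lib.LieWeylCentre

set_option autoImplicit false
set_option maxHeartbeats 4000000
open Cfsg

namespace Cfsg.Agent.S2419

/-- The Coxeter groups of types B₂, G₂, E₆, E₇, E₈ are generated by the Coxeter element `s₁ s₂ ⋯ s_l` together with one suitable reflection (a conjugate of a simple reflection); for types D₄ and F₄ the Coxeter element together with two suitable reflections suffices. -/
theorem result (c : (Σ n : ℕ, CoxeterMatrix (Fin n)) × ℕ)
    (hc : c ∈ [(⟨2, CoxeterMatrix.B 2⟩, 1), (⟨2, CoxeterMatrix.G₂⟩, 1), (⟨4, Cfsg.Lie.coxeterD4⟩, 2), (⟨4, CoxeterMatrix.F₄⟩, 2),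
      (⟨6, CoxeterMatrix.E₆⟩, 1), (⟨7, CoxeterMatrix.E₇⟩, 1), (⟨8, CoxeterMatrix.E₈⟩, 1)]) :
    ∃ T : Finset c.1.2.Group, T.card = c.2 ∧ (∀ t ∈ T, ∃ (g : c.1.2.Group) (i : Fin c.1.1), t = g * c.1.2.simple i * g⁻¹) ∧
      Subgroup.closure (({((List.finRange c.1.1).map c.1.2.simple).prod} : Set c.1.2.Group) ∪ ↑T) = ⊤ := by
  simp only [List.mem_cons, List.not_mem_nil, or_false] at hc
  rcases hc with rfl | rfl | rfl | rfl | rfl | rfl | rfl
  · exact CfsgLib.Lie.Tab.generators CfsgLib.Lie.checkedB2 CfsgLib.Lie.B2_extra CfsgLib.Lie.B2_cox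
      ([0] : List (Fin 2)) (show ([0] : List (Fin 2)).Nodup by decide)
      (fun i => ([[.inr 0],
        [.inr 0, .inl true]] : List (List (Bool ⊕ Fin 2))).getD i.val [])
      (by decide +kernel) (by decide +kernel)
  · exact CfsgLib.Lie.Tab.generators CfsgLib.Lie.checkedG2 CfsgLib.Lie.G2_extra CfsgLib.Lie.G2_cox
      ([0] : List (Fin 2)) (show ([0] : List (Fin 2)).Nodup by decide)
      (fun i => ([[.inr 0],
        [.inr 0, .inl true]] : List (List (Bool ⊕ Fin 2))).getD i.val [])
      (by decide +kernel) (by decide +kernel)
  · exact CfsgLib.Lie.Tab.generators CfsgLib.Lie.checkedD4 CfsgLib.Lie.D4_extra CfsgLib.Lie.D4_cox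
      ([1, 2] : List (Fin 4)) (show ([1, 2] : List (Fin 4)).Nodup by decide)
      (fun i => ([[.inl false, .inr 1, .inl true],
        [.inr 1],
        [.inr 2],
        [.inl true, .inr 2, .inr 1, .inr 2, .inl false]] : List (List (Bool ⊕ Fin 4))).getD i.val [])
      (by decide +kernel) (by decide +kernel)
  · exact CfsgLib.Lie.Tab.generators CfsgLib.Lie.checkedF4 CfsgLib.Lie.F4_extra CfsgLib.Lie.F4_cox
      ([0, 2] : List (Fin 4)) (show ([0, 2] : List (Fin 4)).Nodup by decide)
      (fun i => ([[.inr 0],
        [.inl true, .inr 0, .inl false],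
        [.inr 2],
        [.inl true, .inr 2, .inl false]] : List (List (Bool ⊕ Fin 4))).getD i.val [])
      (by decide +kernel) (by decide +kernel)
  · exact CfsgLib.Lie.Tab.generators CfsgLib.Lie.checkedE6 CfsgLib.Lie.E6_extra CfsgLib.Lie.E6_cox
      ([3] : List (Fin 6)) (show ([3] : List (Fin 6)).Nodup by decide)
      (fun i => ([[.inl false, .inl false, .inl false, .inl false, .inl false, .inr 3, .inl true, .inl true, .inl true, .inl true, .inl true],
        [.inr 3, .inl false, .inl false, .inl false, .inr 3, .inl true, .inl true, .inl true, .inr 3],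
        [.inl false, .inl false, .inl false, .inl false, .inr 3, .inl true, .inl true, .inl true, .inl true],
        [.inr 3],
        [.inl true, .inr 3, .inl false],
        [.inl true, .inl true, .inr 3, .inl false, .inl false]] : List (List (Bool ⊕ Fin 6))).getD i.val [])
      (by decide +kernel) (by decide +kernel)
  · exact CfsgLib.Lie.Tab.generators CfsgLib.Lie.checkedE7 CfsgLib.Lie.E7_extra CfsgLib.Lie.E7_cox
      ([3] : List (Fin 7)) (show ([3] : List (Fin 7)).Nodup by decide)
      (fun i => ([[.inl false, .inr 3, .inl false, .inl false, .inl false, .inl false, .inr 3, .inl true, .inl true, .inl true, .inl true, .inr 3, .inl true],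
        [.inr 3, .inl true, .inr 3, .inl false, .inl false, .inl false, .inl false, .inr 3, .inl true, .inl true, .inl true, .inl true, .inr 3, .inl false, .inr 3],
        [.inr 3, .inl false, .inl false, .inl false, .inl false, .inr 3, .inl true, .inl true, .inl true, .inl true, .inr 3],
        [.inr 3],
        [.inl true, .inr 3, .inl false],
        [.inl true, .inl true, .inr 3, .inl false, .inl false],
        [.inl true, .inl true, .inl true, .inr 3, .inl false, .inl false, .inl false]] : List (List (Bool ⊕ Fin 7))).getD i.val [])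
      (by decide +kernel) (by decide +kernel)
  · exact CfsgLib.Lie.Tab.generators CfsgLib.Lie.checkedE8 CfsgLib.Lie.E8_extra CfsgLib.Lie.E8_cox
      ([3] : List (Fin 8)) (show ([3] : List (Fin 8)).Nodup by decide)
      (fun i => ([[.inl false, .inr 3, .inl true, .inl true, .inl true, .inl true, .inl true, .inl true, .inr 3, .inl false, .inl false, .inl false, .inl false, .inl false, .inl false, .inr 3, .inl true],
        [.inr 3, .inl true, .inr 3, .inl true, .inl true, .inl true, .inl true, .inl true, .inl true, .inr 3, .inl false, .inl false, .inl false, .inl false, .inl false, .inl false, .inr 3, .inl false, .inr 3],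
        [.inr 3, .inl true, .inl true, .inl true, .inl true, .inl true, .inl true, .inr 3, .inl false, .inl false, .inl false, .inl false, .inl false, .inl false, .inr 3],
        [.inr 3],
        [.inl true, .inr 3, .inl false],
        [.inl true, .inl true, .inr 3, .inl false, .inl false],
        [.inl true, .inl true, .inl true, .inr 3, .inl false, .inl false, .inl false],
        [.inl true, .inl true, .inl true, .inl true, .inr 3, .inl false, .inl false, .inl false, .inl false]] : List (List (Bool ⊕ Fin 8))).getD i.val [])
      (by decide +kernel) (by decide +kernel)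

end Cfsg.Agent.S2419
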