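import Cfsg.Statements.S2670
import Cfsg.Agent.Lib.LieGLSemisimple
import Cfsg.Agent.S2387

set_option autoImplicit false
open Cfsg

namespace Cfsg.Agent.S2670

section

open Polynomial

variable {F : Type*} [Field F] [Fintype F] {n r : ℕ}

theorem cast_ne (hrF : (r : F) ≠ 0) : ((r * (Fintype.card F - 1) : ℕ) : F) ≠ 0 := by
  rw [Nat.cast_mul, Nat.cast_sub (Fintype.one_lt_card (α := F)).le, FiniteField.cast_card_eq_zero]
  simpa using hrF

theorem pow_one_of_root {c : F} (hc : c ≠ 0) {A : Matrix (Fin n) (Fin n) F}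
    (hA : A ^ r = c • (1 : Matrix (Fin n) (Fin n) F)) : A ^ (r * (Fintype.card F - 1)) = 1 := by
  rw [pow_mul, hA, _root_.smul_pow, one_pow, FiniteField.pow_card_sub_one_eq_one c hc, one_smul]

theorem factors_pow (hrF : (r : F) ≠ 0) {c : F} (hc : c ≠ 0) {A : Matrix (Fin n) (Fin n) F}
    (hA : A ^ r = c • (1 : Matrix (Fin n) (Fin n) F)) :
    ∃ s : Multiset F[X], A.charpoly = s.prod ∧ ∀ p ∈ s, Irreducible p ∧ p.Monic ∧ p ∣ X ^ r - C c := by
  classical
  set f : Module.End F (Fin n → F) := Matrix.toLinAlgEquiv' A with hf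
  have hff : f ^ r = c • (1 : Module.End F (Fin n → F)) := by
    rw [hf, ← map_pow, hA, map_smul, map_one]
  have hpow : f ^ (r * (Fintype.card F - 1)) = 1 := by
    rw [hf, ← map_pow, pow_one_of_root hc hA, map_one]
  obtain ⟨ι, _, p, hp, ⟨φ⟩, hcp⟩ := CfsgLib.Lie.GLSemisimple.decomp f (cast_ne hrF) hpow
  refine ⟨Finset.univ.val.map p, ?_, fun q hq => ?_⟩
  · rw [← Matrix.charpoly_toLin']
    exact hcp
  obtain ⟨i, -, rfl⟩ := Multiset.mem_map.1 hq
  refine ⟨(hp i).1, (hp i).2, ?_⟩
  have h0 : ∀ y : Module.AEval' f, ((X : F[X]) ^ r - C c) • y = 0 := by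
    intro y
    obtain ⟨v, rfl⟩ := (Module.AEval'.of f).surjective y
    rw [sub_smul, Module.AEval'.X_pow_smul_of, hff, C_eq_algebraMap, algebraMap_smul, ← map_smul, ← map_sub]
    simp
  obtain ⟨y, hy⟩ := φ.surjective (Pi.single i (Ideal.Quotient.mk _ 1))
  have h1 := congrArg (fun z => φ z i) (h0 y)
  simp only [map_smul, hy, Pi.smul_apply, Pi.single_eq_same, map_zero, Pi.zero_apply] at h1
  change Ideal.Quotient.mk (F[X] ∙ p i) (((X : F[X]) ^ r - C c) * 1) = 0 at h1
  rw [mul_one, Ideal.Quotient.eq_zero_iff_mem] at h1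
  exact Ideal.mem_span_singleton.1 h1

theorem conj_of_charpoly (hrF : (r : F) ≠ 0) {c : F} (hc : c ≠ 0) (g h : GL (Fin n) F)
    (hg : (g : Matrix (Fin n) (Fin n) F) ^ r = c • (1 : Matrix (Fin n) (Fin n) F))
    (hh : (h : Matrix (Fin n) (Fin n) F) ^ r = c • (1 : Matrix (Fin n) (Fin n) F))
    (e : (g : Matrix (Fin n) (Fin n) F).charpoly = (h : Matrix (Fin n) (Fin n) F).charpoly) : IsConj g h := by
  classical
  have hpow : ∀ A : Matrix (Fin n) (Fin n) F, A ^ r = c • (1 : Matrix (Fin n) (Fin n) F) →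
      (Matrix.toLinAlgEquiv' A) ^ (r * (Fintype.card F - 1)) = 1 := by
    intro A hA
    rw [← map_pow, pow_one_of_root hc hA, map_one]
  obtain ⟨P, hP⟩ := CfsgLib.Lie.GLSemisimple.exists_conj (Matrix.toLinAlgEquiv' (g : Matrix (Fin n) (Fin n) F))
    (Matrix.toLinAlgEquiv' (h : Matrix (Fin n) (Fin n) F)) (cast_ne hrF) (cast_ne hrF) (hpow _ hg) (hpow _ hh) (by
      show (Matrix.toLin' (g : Matrix (Fin n) (Fin n) F)).charpoly = (Matrix.toLin' (h : Matrix (Fin n) (Fin n) F)).charpoly
      rw [Matrix.charpoly_toLin', Matrix.charpoly_toLin', e])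
  have hdet : (LinearMap.toMatrix' P.toLinearMap).det ≠ 0 := by
    rw [LinearMap.det_toMatrix']
    exact (LinearEquiv.isUnit_det' P).ne_zero
  refine isConj_iff.2 ⟨Matrix.GeneralLinearGroup.mkOfDetNeZero _ hdet, ?_⟩
  rw [mul_inv_eq_iff_eq_mul]
  apply Units.ext
  rw [Units.val_mul, Units.val_mul]
  apply Matrix.toLin'.injective
  show Matrix.toLin' (LinearMap.toMatrix' P.toLinearMap * _) = Matrix.toLin' (_ * LinearMap.toMatrix' P.toLinearMap)
  rw [Matrix.toLin'_mul, Matrix.toLin'_mul, Matrix.toLin'_toMatrix']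
  exact LinearMap.ext hP

/-- The scalar element. -/
noncomputable def sc (n : ℕ) (b : Fˣ) : GL (Fin n) F := Units.map (Matrix.scalar (Fin n)).toMonoidHom b

theorem sc_val (b : Fˣ) : (sc n b : Matrix (Fin n) (Fin n) F) = (b : F) • (1 : Matrix (Fin n) (Fin n) F) := by
  simp [sc, Matrix.smul_one_eq_diagonal]

theorem sc_mul (a b : Fˣ) : sc n (a * b) = sc n a * sc n b := map_mul _ _ _

theorem mem_center {g : GL (Fin n) F} :
    g ∈ Subgroup.center (GL (Fin n) F) ↔ ∃ b : Fˣ, g = sc n b := by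
  rw [Matrix.GeneralLinearGroup.center_eq_range_scalar, MonoidHom.mem_range]
  exact ⟨fun ⟨b, hb⟩ => ⟨b, hb.symm⟩, fun ⟨b, hb⟩ => ⟨b, hb.symm⟩⟩

theorem mk_sc_mul (b : Fˣ) (g : GL (Fin n) F) :
    QuotientGroup.mk' (Subgroup.center (GL (Fin n) F)) (sc n b * g) = QuotientGroup.mk' _ g := by
  rw [map_mul, show QuotientGroup.mk' (Subgroup.center (GL (Fin n) F)) (sc n b) = 1 from
    (QuotientGroup.eq_one_iff _).2 (mem_center.2 ⟨b, rfl⟩), one_mul]

theorem sc_mul_val (b : Fˣ) (g : GL (Fin n) F) :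
    ((sc n b * g : GL (Fin n) F) : Matrix (Fin n) (Fin n) F) = (b : F) • (g : Matrix (Fin n) (Fin n) F) := by
  rw [Units.val_mul, sc_val, smul_mul_assoc, one_mul]

variable [Fact r.Prime] {ζ : Fˣ}

/-- The powers of a root of unity. -/
def ev (ζ : Fˣ) (j : ZMod r) : Fˣ := ζ ^ j.val

theorem ev_add (hζ : orderOf ζ = r) (i j : ZMod r) : ev ζ (i + j) = ev ζ i * ev ζ j := by
  rw [ev, ev, ev, ← pow_add, pow_eq_pow_iff_modEq, hζ, ZMod.val_add]
  exact Nat.mod_modEq _ _

theorem ev_pow (hζ : orderOf ζ = r) (j : ZMod r) : (ev ζ j) ^ r = 1 := by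
  have h1 : ζ ^ r = 1 := (congrArg (ζ ^ ·) hζ.symm).trans (pow_orderOf_eq_one ζ)
  rw [ev, ← pow_mul, mul_comm, pow_mul, h1, one_pow]

theorem ev_injective (hζ : orderOf ζ = r) : Function.Injective (fun j : ZMod r => (ev ζ j : F)) := fun i j h => by
  have h' := pow_injOn_Iio_orderOf (x := ζ) (by rw [Set.mem_Iio, hζ]; exact i.val_lt) (by rw [Set.mem_Iio, hζ]; exact j.val_lt)
    (Units.ext h)
  exact ZMod.val_injective r h'

theorem exists_ev (hζ : orderOf ζ = r) {z : F} (hz : z ^ r = 1) : ∃ j : ZMod r, (ev ζ j : F) = z := by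
  have hp : IsPrimitiveRoot (ζ : F) r := by
    rw [← hζ, ← orderOf_units]
    exact IsPrimitiveRoot.orderOf _
  obtain ⟨i, hi, rfl⟩ := hp.eq_pow_of_pow_eq_one hz
  exact ⟨i, by rw [ev, ZMod.val_natCast_of_lt hi, Units.val_pow_eq_pow_val]⟩

/-- The polynomial with the given eigenvalues. -/
noncomputable def pol (ζ : Fˣ) (s : Multiset (ZMod r)) : F[X] := (s.map fun j => X - C (ev ζ j : F)).prod

theorem pol_injective (hζ : orderOf ζ = r) : Function.Injective (pol (F := F) (r := r) ζ) := fun s s' h => by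
  have h' := congrArg roots h
  simp only [pol] at h'
  rw [← Function.comp_def (fun z : F => X - C z) (fun j : ZMod r => (ev ζ j : F)), ← Multiset.map_map,
    ← Multiset.map_map, roots_multiset_prod_X_sub_C, roots_multiset_prod_X_sub_C] at h'
  exact Multiset.map_injective (ev_injective hζ) h'

theorem charpoly_split (hrF : (r : F) ≠ 0) (hζ : orderOf ζ = r) {A : Matrix (Fin n) (Fin n) F} (hA : A ^ r = 1) :
    ∃ s : Multiset (ZMod r), Multiset.card s = n ∧ A.charpoly = pol ζ s := by
  classical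
  obtain ⟨ps, hps, hp⟩ := factors_pow hrF (one_ne_zero (α := F)) (hA.trans (one_smul _ _).symm)
  have hprim : IsPrimitiveRoot (ζ : F) r := by
    rw [← hζ, ← orderOf_units]
    exact IsPrimitiveRoot.orderOf _
  have hcase : ∀ p ∈ ps, ∃ j : ZMod r, p = X - C (ev ζ j : F) := by
    intro p hps'
    obtain ⟨hi, hm, hd⟩ := hp p hps'
    rw [map_one, X_pow_sub_one_eq_prod (Fact.out : r.Prime).pos hprim] at hd
    obtain ⟨z, hz, hdz⟩ := hi.prime.exists_mem_finset_dvd hd
    obtain ⟨j, hj⟩ := exists_ev hζ ((mem_nthRootsFinset (Fact.out : r.Prime).pos (1 : F)).1 hz)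
    exact ⟨j, by rw [hj]; exact eq_of_monic_of_associated hm (monic_X_sub_C _) (hi.associated_of_dvd (irreducible_X_sub_C _) hdz)⟩
  choose! j hj using hcase
  have hpol : A.charpoly = pol ζ (ps.map j) := by
    rw [hps, pol, Multiset.map_map]
    exact congrArg Multiset.prod ((Multiset.map_id ps).symm.trans (Multiset.map_congr rfl fun p hp' => hj p hp'))
  refine ⟨ps.map j, ?_, hpol⟩
  have hd := congrArg natDegree hpol
  rw [Matrix.charpoly_natDegree_eq_dim, Fintype.card_fin, pol,
    ← Function.comp_def (fun z : F => X - C z) (fun i : ZMod r => (ev ζ i : F)), ← Multiset.map_map,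
    natDegree_multiset_prod_X_sub_C_eq_card, Multiset.card_map] at hd
  exact hd.symm

theorem root_of_charpoly (hrF : (r : F) ≠ 0) {μ : F} (hμ : ∀ b : F, b ^ r ≠ μ) {m : ℕ}
    {A : Matrix (Fin n) (Fin n) F} {N : ℕ} (hN : (N : F) ≠ 0) (hA : A ^ N = 1)
    (hcp : A.charpoly = (X ^ r - C μ) ^ m) : A ^ r = μ • (1 : Matrix (Fin n) (Fin n) F) := by
  classical
  have hirr := X_pow_sub_C_irreducible_of_prime (Fact.out : r.Prime) hμ
  obtain ⟨ι, _, p, hp, ⟨φ⟩, hprod⟩ := CfsgLib.Lie.GLSemisimple.decomp (Matrix.toLinAlgEquiv' A) hN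
    (by rw [← map_pow, hA, map_one])
  have hall : ∀ i, X ^ r - C μ ∈ F[X] ∙ p i := by
    intro i
    refine Ideal.mem_span_singleton.2 ((hp i).1.prime.dvd_of_dvd_pow (n := m) ?_)
    rw [← hcp, ← Matrix.charpoly_toLin']
    exact (Finset.dvd_prod_of_mem p (Finset.mem_univ i)).trans hprod.symm.dvd
  apply Matrix.toLinAlgEquiv'.injective
  rw [map_pow, map_smul, map_one]
  refine LinearMap.ext fun v => ?_
  have h0 : ((X : F[X]) ^ r - C μ) • Module.AEval'.of (Matrix.toLinAlgEquiv' A) v = 0 := by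
    apply φ.injective
    rw [map_smul, map_zero]
    funext i
    obtain ⟨w, hw⟩ := Ideal.Quotient.mk_surjective (φ (Module.AEval'.of (Matrix.toLinAlgEquiv' A) v) i)
    rw [Pi.smul_apply, ← hw]
    show Ideal.Quotient.mk (F[X] ∙ p i) ((X ^ r - C μ) * w) = 0
    exact Ideal.Quotient.eq_zero_iff_mem.2 (Ideal.mul_mem_right _ _ (hall i))
  rw [sub_smul, Module.AEval'.X_pow_smul_of, C_eq_algebraMap, algebraMap_smul, ← map_smul, ← map_sub,
    LinearEquiv.map_eq_zero_iff, sub_eq_zero] at h0
  exact h0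

/-- The entries of a symmetric tuple. -/
noncomputable def entry (s : Sym (ZMod r) n) (i : Fin n) : ZMod r :=
  s.1.toList.get (Fin.cast (by rw [Multiset.length_toList]; exact s.2.symm) i)

theorem map_entry (s : Sym (ZMod r) n) : Finset.univ.val.map (entry s) = s.1 := by
  rw [Fin.univ_val_map]
  conv_rhs => rw [← Multiset.coe_toList s.1]
  congr 1
  apply List.ext_getElem
  · rw [List.length_ofFn, Multiset.length_toList]; exact s.2.symm
  · intro i h1 h2
    simp only [List.getElem_ofFn, entry]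
    rfl

/-- The diagonal representative. -/
noncomputable def D (ζ : Fˣ) (s : Sym (ZMod r) n) : GL (Fin n) F :=
  ⟨Matrix.diagonal fun i => (ev ζ (entry s i) : F), Matrix.diagonal fun i => ((ev ζ (entry s i))⁻¹ : Fˣ),
    by rw [Matrix.diagonal_mul_diagonal, ← Matrix.diagonal_one]; congr 1; funext i; simp,
    by rw [Matrix.diagonal_mul_diagonal, ← Matrix.diagonal_one]; congr 1; funext i; simp⟩

theorem D_val (s : Sym (ZMod r) n) :
    (D ζ s : Matrix (Fin n) (Fin n) F) = Matrix.diagonal fun i => (ev ζ (entry s i) : F) := rfl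

theorem D_pow (hζ : orderOf ζ = r) (s : Sym (ZMod r) n) : (D ζ s : Matrix (Fin n) (Fin n) F) ^ r = 1 := by
  rw [D_val, Matrix.diagonal_pow, ← Matrix.diagonal_one]
  congr 1
  funext i
  rw [Pi.pow_apply, ← Units.val_pow_eq_pow_val, ev_pow hζ, Units.val_one]

theorem D_charpoly (s : Sym (ZMod r) n) : (D ζ s : Matrix (Fin n) (Fin n) F).charpoly = pol ζ s.1 := by
  rw [D_val, Matrix.charpoly_diagonal, pol]
  conv_rhs => rw [← map_entry s, Multiset.map_map]
  rfl

theorem sc_D_charpoly (hζ : orderOf ζ = r) (t : ZMod r) (s : Sym (ZMod r) n) :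
    ((sc n (ev ζ t) * D ζ s : GL (Fin n) F) : Matrix (Fin n) (Fin n) F).charpoly = pol ζ (s.1.map (t + ·)) := by
  rw [sc_mul_val, D_val, ← Matrix.diagonal_smul, Matrix.charpoly_diagonal, pol, Multiset.map_map]
  conv_rhs => rw [← map_entry s, Multiset.map_map]
  refine congrArg Multiset.prod (Multiset.map_congr rfl fun i _ => ?_)
  simp [ev_add hζ]

instance shiftAction : MulAction (Multiplicative (ZMod r)) {s : Sym (ZMod r) n // ∀ j, s ≠ Sym.replicate n j} where
  smul t s := ⟨s.1.map (t.toAdd + ·), fun j e => s.2 (-t.toAdd + j) (by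
    have := congrArg (fun x : Sym (ZMod r) n => (x : Multiset (ZMod r)).map (-t.toAdd + ·)) e
    apply Sym.coe_injective
    rw [Sym.coe_replicate, ← Multiset.map_replicate (fun x => -t.toAdd + x) n j]
    simp only [Sym.coe_map, Multiset.map_map, Sym.coe_replicate] at this
    convert this using 1
    rw [show ((fun x : ZMod r => -t.toAdd + x) ∘ fun x => t.toAdd + x) = id from funext fun x => neg_add_cancel_left _ _, Multiset.map_id])⟩
  one_smul s := Subtype.ext (by show Sym.map _ _ = _; simp)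
  mul_smul t u s := Subtype.ext (by
    show Sym.map _ _ = Sym.map _ (Sym.map _ _)
    rw [Sym.map_map]
    congr 1
    funext x
    simp [add_assoc])

theorem smul_val (t : Multiplicative (ZMod r)) (s : {s : Sym (ZMod r) n // ∀ j, s ≠ Sym.replicate n j}) :
    ((t • s).1 : Multiset (ZMod r)) = (s.1 : Multiset (ZMod r)).map (t.toAdd + ·) := rfl

theorem orbit_count (hn : 1 ≤ n) :
    Nat.card (MulAction.orbitRel.Quotient (Multiplicative (ZMod r)) {s : Sym (ZMod r) n // ∀ j, s ≠ Sym.replicate n j}) * r =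
      Nat.choose (n + r - 1) (r - 1) - r + (r - 1) * (if r ∣ n then 1 else 0) := by
  classical
  have hrp := (Fact.out : r.Prime)
  set α := {s : Sym (ZMod r) n // ∀ j, s ≠ Sym.replicate n j}
  haveI : Fintype (MulAction.orbitRel.Quotient (Multiplicative (ZMod r)) α) := Fintype.ofFinite _
  have h := MulAction.sum_card_fixedBy_eq_card_orbits_mul_card_group (Multiplicative (ZMod r)) α
  rw [Fintype.card_multiplicative, ZMod.card] at h
  rw [Nat.card_eq_fintype_card, ← h, ← Finset.add_sum_erase _ _ (Finset.mem_univ (1 : Multiplicative (ZMod r)))]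
  congr 1
  · rw [Fintype.card_congr (Equiv.subtypeUnivEquiv (p := fun s : α => s ∈ MulAction.fixedBy α (1 : Multiplicative (ZMod r))) fun s => one_smul _ s)]
    have hinj : Function.Injective (fun j : ZMod r => Sym.replicate n j) := fun i j e => by
      have := congrArg (fun s : Sym (ZMod r) n => i ∈ s) e
      simp [Sym.mem_replicate, show n ≠ 0 by omega] at this
      exact this
    have e1 : Fintype.card α = Fintype.card (Sym (ZMod r) n) -
        Fintype.card {s : Sym (ZMod r) n // ∃ j, Sym.replicate n j = s} := by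
      rw [← Fintype.card_subtype_compl]
      exact Fintype.card_congr (Equiv.subtypeEquivRight fun s => by simp [eq_comm])
    rw [e1, Sym.card_sym_eq_choose, ZMod.card, ← Fintype.card_congr (Equiv.ofInjective _ hinj |>.trans (Equiv.subtypeEquivRight fun s => by simp)),
      ZMod.card, Nat.add_comm r n, ← Nat.choose_symm (show n ≤ n + r - 1 by have := hrp.two_le; omega), show n + r - 1 - n = r - 1 by omega]
  · have hone : ∀ t ∈ (Finset.univ : Finset (Multiplicative (ZMod r))).erase 1,
        Fintype.card (MulAction.fixedBy α t) = if r ∣ n then 1 else 0 := by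
      intro t ht
      have ht0 : t.toAdd ≠ 0 := fun e => (Finset.mem_erase.1 ht).1 (by simpa using e)
      have hcount : ∀ s : MulAction.fixedBy α t, ∀ j, (s.1.1 : Multiset (ZMod r)).count j * r = n := by
        rintro ⟨s, hs⟩ j
        have hs' : (s.1 : Multiset (ZMod r)).map (t.toAdd + ·) = s.1 := by rw [← smul_val]; exact congrArg (fun x : α => (x.1 : Multiset (ZMod r))) hs
        have hstep : ∀ j, (s.1 : Multiset (ZMod r)).count (t.toAdd + j) = (s.1 : Multiset (ZMod r)).count j := fun j => by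
          conv_lhs => rw [← hs']
          exact Multiset.count_map_eq_count' _ _ (add_right_injective _) _
        have hconst : ∀ i j, (s.1 : Multiset (ZMod r)).count i = (s.1 : Multiset (ZMod r)).count j := by
          have hm : ∀ (m : ℕ) j, (s.1 : Multiset (ZMod r)).count ((m : ZMod r) * t.toAdd + j) = (s.1 : Multiset (ZMod r)).count j := by
            intro m
            induction m with
            | zero => intro j; simp
            | succ m ih => intro j; rw [← ih j, ← hstep ((m : ZMod r) * t.toAdd + j)]; push_cast; ring_nf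
          intro i j
          have := hm ((i - j) / t.toAdd).val j
          rwa [ZMod.natCast_zmod_val, div_mul_cancel₀ _ ht0, sub_add_cancel] at this
        show (s.1 : Multiset (ZMod r)).count j * r = n
        calc (s.1 : Multiset (ZMod r)).count j * r = ∑ i : ZMod r, (s.1 : Multiset (ZMod r)).count i := by
              rw [Finset.sum_congr rfl fun i _ => hconst i j, Finset.sum_const, Finset.card_univ, ZMod.card, smul_eq_mul, mul_comm]
          _ = Multiset.card (s.1 : Multiset (ZMod r)) := Multiset.sum_count_eq_card fun a _ => Finset.mem_univ a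
          _ = n := s.1.2
      by_cases hd : r ∣ n
      · rw [if_pos hd, Fintype.card_eq_one_iff]
        let u : Multiset (ZMod r) := (n / r) • (Finset.univ : Finset (ZMod r)).val
        have huc : Multiset.card u = n := by
          rw [Multiset.card_nsmul]
          show (n / r) * Fintype.card (ZMod r) = n
          rw [ZMod.card, Nat.div_mul_cancel hd]
        have hucount : ∀ j, u.count j = n / r := fun j => by
          rw [Multiset.count_nsmul, Multiset.count_univ, mul_one]
        have hu : ∀ j, (⟨u, huc⟩ : Sym (ZMod r) n) ≠ Sym.replicate n j := by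
          intro j e
          obtain ⟨i, hi⟩ := exists_ne j
          have := congrArg (fun s : Sym (ZMod r) n => (s : Multiset (ZMod r)).count i) e
          simp only [Sym.coe_replicate, Multiset.count_replicate, if_neg hi.symm] at this
          change u.count i = 0 at this
          rw [hucount] at this
          exact absurd (Nat.div_pos (Nat.le_of_dvd (by omega) hd) hrp.pos) (by omega)
        refine ⟨⟨⟨⟨u, huc⟩, hu⟩, Subtype.ext (Sym.coe_injective ?_)⟩, fun s => Subtype.ext (Subtype.ext (Sym.coe_injective (Multiset.ext.2 fun j => ?_)))⟩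
        · show u.map (t.toAdd + ·) = u
          refine Multiset.ext.2 fun j => ?_
          have := Multiset.count_map_eq_count' (t.toAdd + ·) u (add_right_injective _) (-t.toAdd + j)
          rw [add_neg_cancel_left] at this
          rw [this, hucount, hucount]
        · show Multiset.count j (s.1.1 : Multiset (ZMod r)) = u.count j
          rw [hucount]
          exact (Nat.div_eq_of_eq_mul_left hrp.pos (hcount s j).symm).symm
      · rw [if_neg hd, Fintype.card_eq_zero_iff]
        exact ⟨fun s => hd ⟨_, ((hcount s 0).symm.trans (mul_comm _ _))⟩⟩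
    rw [Finset.sum_congr rfl hone, Finset.sum_const, Finset.card_erase_of_mem (Finset.mem_univ _), Finset.card_univ,
      Fintype.card_multiplicative, ZMod.card, smul_eq_mul]

end

/-- Number of conjugacy classes of elements of prime order r in PGL_n(q) = GL_n(q)/scalars when r divides q − 1 (n ≥ 2): the classes of elements with a diagonalisable lift correspond to the orbits of the cyclic rotation on the r-tuples of eigenvalue multiplicities (a_0, …, a_(r−1)) summing to n with every a_j < n, and when r divides n there are r − 1 further classes (lifts acting irreducibly on blocks of size r); in all (C(n+r−1, r−1) − r − [r ∣ n])/r + r·[r ∣ n] classes. -/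
theorem result {F : Type*} [Field F] [Fintype F] {q : ℕ} (hF : Fintype.card F = q) {n r : ℕ} (hn : 2 ≤ n) (hr : r.Prime) (hrq : r ∣ q - 1) : Nat.card {C : ConjClasses (GL (Fin n) F ⧸ Subgroup.center (GL (Fin n) F)) // ∃ g : GL (Fin n) F ⧸ Subgroup.center (GL (Fin n) F), ConjClasses.mk g = C ∧ orderOf g = r} = (Nat.choose (n + r - 1) (r - 1) - r - (if r ∣ n then 1 else 0)) / r + r * (if r ∣ n then 1 else 0) := by
  classical
  haveI := Fact.mk hr
  have hq1 : 1 < q := hF ▸ Fintype.one_lt_card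
  have hru : r ∣ Fintype.card Fˣ := by rw [Fintype.card_units, hF]; exact hrq
  obtain ⟨ζ, hζ⟩ := exists_prime_orderOf_dvd_card r hru
  obtain ⟨p, hchar⟩ := CharP.exists F
  obtain ⟨e0, hpp, hqe⟩ := FiniteField.card F p
  haveI := Fact.mk hpp
  have hrF : (r : F) ≠ 0 := by
    intro e
    have h1 : p = r := (Nat.prime_dvd_prime_iff_eq hpp hr).1 ((CharP.cast_eq_zero_iff F p r).1 e)
    have h2 : r ∣ q := by rw [← hF, hqe, h1]; exact dvd_pow_self r e0.ne_zero
    have h3 := Nat.dvd_sub h2 hrq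
    rw [Nat.sub_sub_self hq1.le] at h3
    exact hr.one_lt.ne' (Nat.dvd_one.1 h3)
  set R : Subgroup Fˣ := (powMonoidHom r : Fˣ →* Fˣ).range with hR
  have hmemR : ∀ u : Fˣ, u ∈ R ↔ ∃ b : Fˣ, b ^ r = u := fun u => by simp [hR, MonoidHom.mem_range]
  have hcardR : Nat.card (Fˣ ⧸ R) = r := by
    have h1 := (powMonoidHom r : Fˣ →* Fˣ).ker.card_mul_index
    rw [Subgroup.index_ker] at h1
    have h2 := R.card_mul_index
    have h3 : Nat.card (powMonoidHom r : Fˣ →* Fˣ).ker = r := by
      rw [IsCyclic.card_powMonoidHom_ker, Nat.card_eq_fintype_card, Nat.gcd_eq_right hru]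
    rw [← Subgroup.index_eq_card]
    refine Nat.eq_of_mul_eq_mul_left (Nat.card_pos (α := R)) ?_
    rw [h2, ← h1, h3, mul_comm]
  have hnotR : ∀ x : {x : Fˣ ⧸ R // x ≠ 1 ∧ r ∣ n}, ∀ b : F, b ^ r ≠ ((x.1.out : Fˣ) : F) := by
    intro x b e
    have hb : b ≠ 0 := fun h => Units.ne_zero _ (by rw [← e, h, zero_pow hr.ne_zero])
    refine x.2.1 ?_
    rw [← QuotientGroup.out_eq' x.1, QuotientGroup.eq_one_iff, hmemR]
    exact ⟨Units.mk0 b hb, Units.ext (by simpa using e)⟩
  have hblock : ∀ x : {x : Fˣ ⧸ R // x ≠ 1 ∧ r ∣ n}, ∃ g : GL (Fin n) F,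
      (g : Matrix (Fin n) (Fin n) F) ^ r = ((x.1.out : Fˣ) : F) • (1 : Matrix (Fin n) (Fin n) F) := by
    intro x
    open Polynomial in
    have hmon := (monic_X_pow_sub_C ((x.1.out : Fˣ) : F) hr.ne_zero).pow (n / r)
    open Polynomial in
    obtain ⟨g, hg, hcp⟩ := Cfsg.Agent.S2387.realize p (n := n)
      ⟨(X ^ r - C ((x.1.out : Fˣ) : F)) ^ (n / r), hmon,
        by rw [natDegree_pow, natDegree_X_pow_sub_C, Nat.div_mul_cancel x.2.2],
        by rw [coeff_zero_eq_eval_zero]; simp [hr.ne_zero]⟩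
    refine ⟨g, root_of_charpoly hrF (hnotR x) (N := orderOf g) (m := n / r) ?_ ?_ hcp⟩
    · intro e
      have h1 := (CharP.cast_eq_zero_iff F p _).1 e
      exact hpp.one_lt.ne' (Nat.eq_one_of_dvd_coprimes hg h1 dvd_rfl)
    · rw [← Units.val_pow_eq_pow_val, pow_orderOf_eq_one, Units.val_one]
  choose E hE using hblock
  let α := {s : Sym (ZMod r) n // ∀ j, s ≠ Sym.replicate n j}
  let rep : MulAction.orbitRel.Quotient (Multiplicative (ZMod r)) α ⊕ {x : Fˣ ⧸ R // x ≠ 1 ∧ r ∣ n} → GL (Fin n) F :=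
    Sum.elim (fun o => D ζ (o.out : α).1) E
  set mk := QuotientGroup.mk' (Subgroup.center (GL (Fin n) F)) with hmk
  have hDr : ∀ s : Sym (ZMod r) n, (D ζ s : Matrix (Fin n) (Fin n) F) ^ r = ((1 : Fˣ) : F) • (1 : Matrix (Fin n) (Fin n) F) := fun s => by
    rw [Units.val_one, one_smul, D_pow hζ s]
  have hnsc : ∀ i, rep i ∉ Subgroup.center (GL (Fin n) F) := by
    intro i hi
    obtain ⟨b, hb⟩ := mem_center.1 hi
    have hv : (rep i : Matrix (Fin n) (Fin n) F) = (b : F) • (1 : Matrix (Fin n) (Fin n) F) := by rw [hb, sc_val]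
    rcases i with o | x
    · set s := (o.out : α) with hs
      apply s.2 (entry s.1 ⟨0, by omega⟩)
      apply Sym.coe_injective
      rw [Sym.coe_replicate]
      refine Multiset.eq_replicate.2 ⟨s.1.2, fun a ha => ?_⟩
      rw [show ((s.1 : Sym (ZMod r) n) : Multiset (ZMod r)) = s.1.1 from rfl, ← map_entry s.1, Multiset.mem_map] at ha
      obtain ⟨i, -, rfl⟩ := ha
      apply ev_injective hζ
      have h0 := congrFun (congrFun hv ⟨0, by omega⟩) ⟨0, by omega⟩
      have h1 := congrFun (congrFun hv i) i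
      simp [rep, D_val, Matrix.one_apply, ← hs] at h0 h1
      show (ev ζ (entry s.1 i) : F) = ev ζ (entry s.1 ⟨0, _⟩)
      rw [h0, h1]
    · have he := hE x
      simp only [rep, Sum.elim_inr] at hv
      rw [hv, _root_.smul_pow, one_pow] at he
      have := congrFun (congrFun he ⟨0, by omega⟩) ⟨0, by omega⟩
      simp at this
      exact hnotR x b this
  have hroot : ∀ i, ∃ c : Fˣ, (rep i : Matrix (Fin n) (Fin n) F) ^ r = (c : F) • (1 : Matrix (Fin n) (Fin n) F) := by
    rintro (o | x)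
    · exact ⟨1, hDr _⟩
    · exact ⟨_, hE x⟩
  have hord : ∀ i, orderOf (mk (rep i)) = r := by
    intro i
    obtain ⟨c, hc⟩ := hroot i
    refine orderOf_eq_prime ?_ fun e => hnsc i ((QuotientGroup.eq_one_iff _).1 e)
    have e : rep i ^ r = sc n c := Units.ext (by rw [Units.val_pow_eq_pow_val, hc, sc_val])
    rw [← map_pow, e]
    exact (QuotientGroup.eq_one_iff _).2 (mem_center.2 ⟨_, rfl⟩)
  let f : MulAction.orbitRel.Quotient (Multiplicative (ZMod r)) α ⊕ {x : Fˣ ⧸ R // x ≠ 1 ∧ r ∣ n} →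
      {C : ConjClasses (GL (Fin n) F ⧸ Subgroup.center (GL (Fin n) F)) // ∃ g : GL (Fin n) F ⧸ Subgroup.center (GL (Fin n) F), ConjClasses.mk g = C ∧ orderOf g = r} :=
    fun i => ⟨ConjClasses.mk (mk (rep i)), _, rfl, hord i⟩
  have hconj : ∀ g h : GL (Fin n) F, IsConj (mk g) (mk h) → ∃ b : Fˣ, IsConj g (sc n b * h) := by
    intro g h e
    obtain ⟨x, hx⟩ := isConj_iff.1 e
    obtain ⟨x, rfl⟩ := QuotientGroup.mk'_surjective _ x
    rw [hmk, ← map_inv, ← map_mul, ← map_mul] at hx
    have hx' : x * g * x⁻¹ * h⁻¹ ∈ Subgroup.center (GL (Fin n) F) := by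
      refine (QuotientGroup.eq_one_iff _).1 ?_
      show QuotientGroup.mk' _ _ = 1
      rw [map_mul, hx, ← map_mul, mul_inv_cancel, map_one]
    obtain ⟨b, hb⟩ := mem_center.1 hx'
    exact ⟨b, isConj_iff.2 ⟨x, by rw [← hb]; group⟩⟩
  have hchar : ∀ g h : GL (Fin n) F, IsConj g h →
      (g : Matrix (Fin n) (Fin n) F).charpoly = (h : Matrix (Fin n) (Fin n) F).charpoly := by
    intro g h e
    obtain ⟨x, rfl⟩ := isConj_iff.1 e
    rw [Units.val_mul, Units.val_mul, ← Matrix.charpoly_units_conj x (g : Matrix (Fin n) (Fin n) F), Matrix.coe_units_inv]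
  have hpowconj : ∀ (g h : GL (Fin n) F) (b c d : Fˣ), IsConj g (sc n b * h) →
      (g : Matrix (Fin n) (Fin n) F) ^ r = (c : F) • (1 : Matrix (Fin n) (Fin n) F) →
      (h : Matrix (Fin n) (Fin n) F) ^ r = (d : F) • (1 : Matrix (Fin n) (Fin n) F) → c = b ^ r * d := by
    intro g h b c d e hg hh
    obtain ⟨x, hx⟩ := isConj_iff.1 e
    have hg' : g ^ r = sc n c := Units.ext (by rw [Units.val_pow_eq_pow_val, hg, sc_val])
    have hh' : (sc n b * h) ^ r = sc n (b ^ r * d) := Units.ext (by
      rw [Units.val_pow_eq_pow_val, sc_mul_val, _root_.smul_pow, hh, smul_smul, sc_val, Units.val_mul, Units.val_pow_eq_pow_val])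
    rw [← hx, conj_pow, hg', Subgroup.mem_center_iff.1 (mem_center.2 ⟨c, rfl⟩) x, mul_inv_cancel_right] at hh'
    have := congrArg (fun u : GL (Fin n) F => (u : Matrix (Fin n) (Fin n) F) ⟨0, by omega⟩ ⟨0, by omega⟩) hh'
    simp [sc_val] at this
    exact Units.ext (by simpa using this)
  have hinj : Function.Injective f := by
    intro i j e
    obtain ⟨b, hb⟩ := hconj _ _ (ConjClasses.mk_eq_mk_iff_isConj.1 (congrArg Subtype.val e))
    rcases i with o | x <;> rcases j with o' | x'
    · have hbr := hpowconj _ _ b 1 1 hb (hDr _) (hDr _)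
      rw [mul_one] at hbr
      obtain ⟨t, ht⟩ := exists_ev (r := r) hζ (show ((b : Fˣ) : F) ^ r = 1 by rw [← Units.val_pow_eq_pow_val, ← hbr, Units.val_one])
      have hp := hchar _ _ hb
      simp only [rep, Sum.elim_inl] at hp
      rw [show b = ev ζ t from Units.ext ht.symm, D_charpoly, sc_D_charpoly hζ] at hp
      have hs := pol_injective hζ hp
      have : (o.out : α) = Multiplicative.ofAdd t • (o'.out : α) := Subtype.ext (Sym.coe_injective hs)
      refine congrArg Sum.inl ?_
      rw [← Quotient.out_eq o, ← Quotient.out_eq o']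
      exact Quotient.sound (MulAction.orbitRel_apply.2 ⟨_, this.symm⟩)
    · exfalso
      have := hpowconj _ _ b 1 _ hb (hDr _) (hE x')
      refine x'.2.1 ?_
      rw [← QuotientGroup.out_eq' x'.1, QuotientGroup.eq_one_iff, hmemR]
      exact ⟨b⁻¹, by rw [inv_pow, inv_eq_iff_mul_eq_one, ← this]⟩
    · exfalso
      have := hpowconj _ _ b _ 1 hb (hE x) (hDr _)
      refine x.2.1 ?_
      rw [← QuotientGroup.out_eq' x.1, QuotientGroup.eq_one_iff, hmemR]
      exact ⟨b, by rw [this, mul_one]⟩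
    · have := hpowconj _ _ b _ _ hb (hE x) (hE x')
      refine congrArg Sum.inr (Subtype.ext ?_)
      rw [← QuotientGroup.out_eq' x.1, ← QuotientGroup.out_eq' x'.1, this, QuotientGroup.mk_mul,
        (QuotientGroup.eq_one_iff _).2 ((hmemR _).2 ⟨b, rfl⟩), one_mul]
  have hsurj : Function.Surjective f := by
    rintro ⟨C, g, hC, hg⟩
    obtain ⟨g, rfl⟩ := QuotientGroup.mk'_surjective _ g
    subst hC
    have hg2 : g ^ r ∈ Subgroup.center (GL (Fin n) F) := by
      refine (QuotientGroup.eq_one_iff _).1 ?_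
      show QuotientGroup.mk' _ _ = 1
      rw [map_pow]
      exact (congrArg (_ ^ ·) hg.symm).trans (pow_orderOf_eq_one _)
    have hg1 : g ∉ Subgroup.center (GL (Fin n) F) := by
      intro h
      rw [show QuotientGroup.mk' (Subgroup.center (GL (Fin n) F)) g = 1 from (QuotientGroup.eq_one_iff _).2 h, orderOf_one] at hg
      exact hr.one_lt.ne hg
    obtain ⟨c, hc⟩ := mem_center.1 hg2
    have hgv : (g : Matrix (Fin n) (Fin n) F) ^ r = (c : F) • (1 : Matrix (Fin n) (Fin n) F) := by
      rw [← Units.val_pow_eq_pow_val, hc, sc_val]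
    have hscale : ∀ b : Fˣ, ((sc n b * g : GL (Fin n) F) : Matrix (Fin n) (Fin n) F) ^ r =
        ((b ^ r * c : Fˣ) : F) • (1 : Matrix (Fin n) (Fin n) F) := fun b => by
      rw [sc_mul_val, _root_.smul_pow, hgv, smul_smul, Units.val_mul, Units.val_pow_eq_pow_val]
    have hdone : ∀ (i) (b : Fˣ), IsConj (sc n b * g) (rep i) → ∃ i, f i = ⟨ConjClasses.mk (mk g), mk g, rfl, hg⟩ := by
      intro i b h
      refine ⟨i, Subtype.ext (ConjClasses.mk_eq_mk_iff_isConj.2 ?_)⟩
      have := (MonoidHom.map_isConj mk h).symm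
      rwa [hmk, mk_sc_mul] at this
    by_cases hcR : c ∈ R
    · obtain ⟨w, hw⟩ := (hmemR c).1 hcR
      have hone : ((sc n w⁻¹ * g : GL (Fin n) F) : Matrix (Fin n) (Fin n) F) ^ r = 1 := by
        rw [hscale, inv_pow, hw, inv_mul_cancel, Units.val_one, one_smul]
      obtain ⟨ms, hms, hcp⟩ := charpoly_split hrF hζ hone
      let s : Sym (ZMod r) n := ⟨ms, hms⟩
      have hne : ∀ j, s ≠ Sym.replicate n j := by
        intro j e
        have h1 : IsConj (sc n w⁻¹ * g) (D ζ s) := conj_of_charpoly hrF one_ne_zero _ _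
          (by rw [one_smul]; exact hone) (by rw [one_smul]; exact D_pow hζ _) (by rw [hcp, D_charpoly])
        have h2 : D ζ s = sc n (ev ζ j) := Units.ext (by
          rw [D_val, sc_val, Matrix.smul_one_eq_diagonal]
          congr 1
          funext i
          have hm : entry s i ∈ (s : Multiset (ZMod r)) := by
            show entry s i ∈ s.1
            rw [← map_entry s]
            exact Multiset.mem_map.2 ⟨i, Finset.mem_univ_val i, rfl⟩
          rw [show (s : Multiset (ZMod r)) = Multiset.replicate n j by rw [e, Sym.coe_replicate]] at hm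
          rw [Multiset.eq_of_mem_replicate hm])
        rw [h2, isConj_comm, isConj_iff] at h1
        obtain ⟨x, hx⟩ := h1
        rw [Subgroup.mem_center_iff.1 (mem_center.2 ⟨_, rfl⟩) x, mul_inv_cancel_right] at hx
        exact hg1 (mem_center.2 ⟨w * ev ζ j, by rw [sc_mul, hx, ← mul_assoc, ← sc_mul, mul_inv_cancel, sc, map_one, one_mul]⟩)
      set o : MulAction.orbitRel.Quotient (Multiplicative (ZMod r)) α := Quotient.mk'' (⟨s, hne⟩ : α) with ho
      obtain ⟨t, ht⟩ := MulAction.orbitRel_apply.1 (Quotient.exact (Quotient.out_eq o))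
      have ht' : (t • (⟨s, hne⟩ : α)) = (o.out : α) := ht
      refine hdone (Sum.inl o) (ev ζ t.toAdd * w⁻¹) ?_
      rw [sc_mul, mul_assoc]
      have hcj : IsConj (sc n w⁻¹ * g) (D ζ s) := conj_of_charpoly hrF one_ne_zero _ _
        (by rw [one_smul]; exact hone) (by rw [one_smul]; exact D_pow hζ _) (by rw [hcp, D_charpoly])
      have hcj' : IsConj (sc n (ev ζ t.toAdd) * (sc n w⁻¹ * g)) (sc n (ev ζ t.toAdd) * D ζ s) := by
        obtain ⟨x, hx⟩ := isConj_iff.1 hcj
        refine isConj_iff.2 ⟨x, ?_⟩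
        rw [← hx, ← mul_assoc x, Subgroup.mem_center_iff.1 (mem_center.2 ⟨_, rfl⟩) x]
        group
      refine hcj'.trans (conj_of_charpoly hrF one_ne_zero _ _ ?_ (by rw [one_smul]; exact D_pow hζ _) ?_)
      · rw [sc_mul_val, _root_.smul_pow, D_pow hζ, ← Units.val_pow_eq_pow_val, ev_pow hζ, Units.val_one]
      · show _ = (D ζ (o.out : α).1 : Matrix (Fin n) (Fin n) F).charpoly
        rw [sc_D_charpoly hζ, D_charpoly, ← ht']
        rfl
    · have hc' : ∀ b : F, b ^ r ≠ (c : F) := by
        intro b e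
        have hb : b ≠ 0 := fun h => c.ne_zero (by rw [← e, h, zero_pow hr.ne_zero])
        exact hcR ((hmemR c).2 ⟨Units.mk0 b hb, Units.ext (by simpa using e)⟩)
      have hblock' : ∀ (A : Matrix (Fin n) (Fin n) F) (μ : F), μ ≠ 0 → (∀ b : F, b ^ r ≠ μ) →
          A ^ r = μ • (1 : Matrix (Fin n) (Fin n) F) → r ∣ n ∧ A.charpoly = (Polynomial.X ^ r - Polynomial.C μ) ^ (n / r) := by
        open Polynomial in
        intro A μ hμ0 hμ hA
        obtain ⟨ps, hps, hp⟩ := factors_pow hrF hμ0 hA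
        have hirr := X_pow_sub_C_irreducible_of_prime hr hμ
        have hall : ps = Multiset.replicate (Multiset.card ps) (X ^ r - C μ) := Multiset.eq_replicate_card.2 fun p hps' =>
          eq_of_monic_of_associated (hp p hps').2.1 (monic_X_pow_sub_C μ hr.ne_zero)
            ((hp p hps').1.associated_of_dvd hirr (hp p hps').2.2)
        have hprod : A.charpoly = (X ^ r - C μ) ^ Multiset.card ps := by
          rw [hps]
          conv_lhs => rw [hall, Multiset.prod_replicate]
        have hdeg := congrArg natDegree hprod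
        rw [Matrix.charpoly_natDegree_eq_dim, Fintype.card_fin, natDegree_pow, natDegree_X_pow_sub_C] at hdeg
        exact ⟨Dvd.intro_left _ hdeg.symm, by rw [hprod, hdeg, Nat.mul_div_cancel _ hr.pos]⟩
      have hdvd := (hblock' _ _ c.ne_zero hc' hgv).1
      let x : {x : Fˣ ⧸ R // x ≠ 1 ∧ r ∣ n} := ⟨QuotientGroup.mk c, by rwa [ne_eq, QuotientGroup.eq_one_iff], hdvd⟩
      obtain ⟨⟨w, hwR⟩, hw⟩ := QuotientGroup.mk_out_eq_mul R c
      obtain ⟨b, hb⟩ := (hmemR w).1 hwR
      have hx : b ^ r * c = x.1.out := by rw [hb, mul_comm]; exact hw.symm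
      have hs := hscale b
      rw [hx] at hs
      refine hdone (Sum.inr x) b (conj_of_charpoly hrF (Units.ne_zero _) _ _ hs (hE x) ?_)
      rw [(hblock' _ _ (Units.ne_zero _) (hnotR x) hs).2]
      exact (hblock' _ _ (Units.ne_zero _) (hnotR x) (hE x)).2.symm
  rw [← Nat.card_eq_of_bijective f ⟨hinj, hsurj⟩, Nat.card_sum]
  have hoc := orbit_count (n := n) (r := r) (by omega)
  set Q := Nat.card (MulAction.orbitRel.Quotient (Multiplicative (ZMod r)) α) with hQ
  have hU : Nat.card {x : Fˣ ⧸ R // x ≠ 1 ∧ r ∣ n} = (r - 1) * (if r ∣ n then 1 else 0) := by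
    split_ifs with hd
    · rw [Nat.card_congr (Equiv.subtypeEquivRight (q := fun x : Fˣ ⧸ R => x ≠ 1) fun x => and_iff_left hd),
        Nat.card_eq_fintype_card, Fintype.card_subtype_compl, Fintype.card_subtype_eq, ← Nat.card_eq_fintype_card, hcardR, mul_one]
    · haveI : IsEmpty {x : Fˣ ⧸ R // x ≠ 1 ∧ r ∣ n} := ⟨fun x => hd x.2.2⟩
      rw [Nat.card_of_isEmpty, mul_zero]
  rw [hU]
  have hr1 := hr.two_le
  split_ifs at hoc ⊢ with hd
  · rw [mul_one] at hoc
    have hQ1 : 1 ≤ Q := by
      by_contra hlt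
      rw [show Q = 0 by omega, zero_mul] at hoc
      omega
    obtain ⟨Q', hQ'⟩ : ∃ Q', Q = Q' + 1 := ⟨Q - 1, by omega⟩
    rw [hQ', add_mul, one_mul] at hoc
    rw [hQ', show Nat.choose (n + r - 1) (r - 1) - r - 1 = Q' * r by omega, Nat.mul_div_cancel _ hr.pos]
    omega
  · rw [mul_zero, add_zero] at hoc
    rw [Nat.sub_zero, ← hoc, Nat.mul_div_cancel _ hr.pos, mul_zero, mul_zero]

end Cfsg.Agent.S2670
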