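import Cfsg.Statements.S2470
import Cfsg.Agent.S2364
import Cfsg.Agent.S2670
import Cfsg.Agent.Lib.DicksonTorus

set_option autoImplicit false
open Cfsg

namespace Cfsg.Agent.S2470

section

open Matrix

variable {F : Type*} [Field F] [Fintype F] {n : ℕ}

theorem scalar_of_center {z : Matrix.SpecialLinearGroup (Fin n) F} (hz : z ∈ Subgroup.center _) :
    ∃ c : F, c ^ n = 1 ∧ (z : Matrix (Fin n) (Fin n) F) = c • 1 := by
  obtain ⟨c, hc, he⟩ := Matrix.SpecialLinearGroup.mem_center_iff.1 hz
  exact ⟨c, by simpa using hc, by rw [← he, smul_one_eq_diagonal]; rfl⟩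

theorem center_of_scalar {z : Matrix.SpecialLinearGroup (Fin n) F} {c : F} (h : (z : Matrix (Fin n) (Fin n) F) = c • 1) :
    z ∈ Subgroup.center (Matrix.SpecialLinearGroup (Fin n) F) := by
  rw [Matrix.SpecialLinearGroup.mem_center_iff]
  refine ⟨c, ?_, by rw [h, smul_one_eq_diagonal]; rfl⟩
  have hd := z.2
  rwa [h, det_smul, det_one, mul_one] at hd

/-- Commuting lifts of an element of order `r * p`. -/
theorem exists_lifts (p : ℕ) [hp : Fact p.Prime] [CharP F p] (hn : 2 ≤ n) {r : ℕ} (hr : r.Prime) (hrp : r ≠ p)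
    {g : ProjectiveSpecialLinearGroup (Fin n) F} (hg : orderOf g = r * p) :
    ∃ (x : Matrix.SpecialLinearGroup (Fin n) F) (N : Matrix (Fin n) (Fin n) F), N ≠ 0 ∧ IsNilpotent N ∧
      (x : Matrix (Fin n) (Fin n) F) * N = N * (x : Matrix (Fin n) (Fin n) F) ∧
      x ∉ Subgroup.center (Matrix.SpecialLinearGroup (Fin n) F) ∧ x ^ r ∈ Subgroup.center (Matrix.SpecialLinearGroup (Fin n) F) := by
  classical
  obtain ⟨G, hG⟩ := QuotientGroup.mk'_surjective (Subgroup.center (Matrix.SpecialLinearGroup (Fin n) F)) g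
  set A := G ^ r with hA
  set x := G ^ p with hx
  have hmem : ∀ m : ℕ, G ^ m ∈ Subgroup.center (Matrix.SpecialLinearGroup (Fin n) F) ↔ r * p ∣ m := by
    intro m
    rw [← hg, orderOf_dvd_iff_pow_eq_one, ← hG, ← map_pow]
    exact (QuotientGroup.eq_one_iff _).symm
  have hAp : A ^ p ∈ Subgroup.center (Matrix.SpecialLinearGroup (Fin n) F) := by
    rw [hA, ← pow_mul]; exact (hmem _).2 dvd_rfl
  have hxr : x ^ r ∈ Subgroup.center (Matrix.SpecialLinearGroup (Fin n) F) := by
    rw [hx, ← pow_mul, mul_comm]; exact (hmem _).2 dvd_rfl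
  have hx0 : x ∉ Subgroup.center (Matrix.SpecialLinearGroup (Fin n) F) := by
    rw [hx, hmem]
    intro h
    exact hrp ((Nat.prime_dvd_prime_iff_eq hr hp.out).1 ((dvd_mul_right r p).trans h))
  have hA0 : A ∉ Subgroup.center (Matrix.SpecialLinearGroup (Fin n) F) := by
    rw [hA, hmem]
    intro h
    exact hrp ((Nat.prime_dvd_prime_iff_eq hp.out hr).1 ((dvd_mul_left p r).trans h)).symm
  obtain ⟨c, hcn, hcv⟩ := scalar_of_center hAp
  have hc0 : c ≠ 0 := fun e => by rw [e, zero_pow (by omega)] at hcn; exact zero_ne_one hcn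
  obtain ⟨s, hs⟩ : ∃ s : F, s ^ p = c := (bijective_frobenius F p).2 c
  have hs0 : s ≠ 0 := fun e => hc0 (by rw [← hs, e, zero_pow hp.out.ne_zero])
  refine ⟨x, s⁻¹ • (A : Matrix (Fin n) (Fin n) F) - 1, ?_, ?_, ?_, hx0, hxr⟩
  · intro e
    rw [sub_eq_zero] at e
    exact hA0 (center_of_scalar (c := s) (by rw [← e, smul_smul, mul_inv_cancel₀ hs0, one_smul]))
  · refine ⟨p, ?_⟩
    haveI : Nonempty (Fin n) := ⟨⟨0, by omega⟩⟩
    rw [sub_pow_char_of_commute (p := p) (Commute.one_right _), _root_.smul_pow, one_pow,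
      ← Matrix.SpecialLinearGroup.coe_pow, hcv, smul_smul, ← hs, inv_pow, inv_mul_cancel₀ (pow_ne_zero _ hs0),
      one_smul, sub_self]
  · rw [mul_sub, sub_mul, mul_smul_comm, smul_mul_assoc, mul_one, one_mul, ← Matrix.SpecialLinearGroup.coe_mul,
      ← Matrix.SpecialLinearGroup.coe_mul, hx, hA, ← pow_add, ← pow_add, add_comm]

/-- No commuting unipotent when `r` is large. -/
theorem no_large (p : ℕ) [hp : Fact p.Prime] [CharP F p] {r : ℕ} (hr : r.Prime) (hrp : r ≠ p) (hn : 2 ≤ n)
    (hr1 : ¬ r ∣ Fintype.card F - 1) (hk : n - 2 < orderOf ((Fintype.card F : ℕ) : ZMod r))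
    (x : Matrix.SpecialLinearGroup (Fin n) F) {N : Matrix (Fin n) (Fin n) F} (hN : IsNilpotent N)
    (hc : (x : Matrix (Fin n) (Fin n) F) * N = N * (x : Matrix (Fin n) (Fin n) F))
    (hx0 : x ∉ Subgroup.center (Matrix.SpecialLinearGroup (Fin n) F))
    (hxr : x ^ r ∈ Subgroup.center (Matrix.SpecialLinearGroup (Fin n) F)) : N = 0 := by
  classical
  haveI := Fact.mk hr
  obtain ⟨e0, -, hqe⟩ := FiniteField.card F p
  set q := Fintype.card F with hq
  have hrF : (r : F) ≠ 0 := fun e =>
    hrp ((Nat.prime_dvd_prime_iff_eq hp.out hr).1 ((CharP.cast_eq_zero_iff F p r).1 e)).symm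
  have hqr : (q : ZMod r) ≠ 0 := fun e => by
    have h := (ZMod.natCast_eq_zero_iff _ _).1 e
    rw [hqe] at h
    exact hrp ((Nat.prime_dvd_prime_iff_eq hr hp.out).1 (hr.dvd_of_dvd_pow h))
  set k := orderOf (q : ZMod r) with hkdef
  have hkd : ∀ d, r ∣ q ^ d - 1 ↔ k ∣ d := by
    intro d
    rw [hkdef, orderOf_dvd_iff_pow_eq_one, ← Nat.modEq_iff_dvd' (Nat.one_le_pow _ _ Fintype.card_pos),
      ← ZMod.natCast_eq_natCast_iff, Nat.cast_pow, Nat.cast_one, eq_comm]
  have hk2 : 2 ≤ k := by
    have hkpos : 0 < k := orderOf_pos_iff.2 (isOfFinOrder_iff_pow_eq_one.2 ⟨r - 1, by have := hr.two_le; omega,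
      ZMod.pow_card_sub_one_eq_one hqr⟩)
    by_contra hlt
    exact hr1 (by simpa using (hkd 1).2 (by rw [show k = 1 by omega]))
  obtain ⟨c, hcn, hcv⟩ := scalar_of_center hxr
  have hc0 : c ≠ 0 := fun e => by rw [e, zero_pow (by omega)] at hcn; exact zero_ne_one hcn
  -- scale to an element of order r
  have hbij : Function.Bijective (fun b : Fˣ => b ^ r) := by
    have hco : Nat.Coprime (Nat.card Fˣ) r := by
      rw [Nat.card_eq_fintype_card, Fintype.card_units, ← hq]
      exact ((hr.coprime_iff_not_dvd).2 hr1).symm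
    exact (powCoprime hco).bijective
  obtain ⟨b, hb⟩ := hbij.2 (Units.mk0 c hc0)
  have hb' : (b : F) ^ r = c := by simpa using congrArg Units.val hb
  set X := (b : F)⁻¹ • (x : Matrix (Fin n) (Fin n) F) with hX
  refine Cfsg.Agent.S2364.no_unipotent (k := k) hr hrF (fun d h => (hkd d).1 h) (by omega) (by omega) (X := X) ?_ ?_ hN ?_
  · rw [hX, _root_.smul_pow, ← Matrix.SpecialLinearGroup.coe_pow, hcv, smul_smul, inv_pow, hb', inv_mul_cancel₀ hc0, one_smul]
  · intro e
    refine hx0 (center_of_scalar (c := (b : F)) ?_)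
    rw [← e, hX, smul_smul, mul_inv_cancel₀ (Units.ne_zero b), one_smul]
  · rw [hX, smul_mul_assoc, mul_smul_comm, hc]

end

theorem zmod3_cases : ∀ a b c : ZMod 3, a + b + c = 0 → (a = b ∧ b = c) ∨ (a ≠ b ∧ b ≠ c ∧ a ≠ c) := by decide

/-- Adjacency of an odd prime and the characteristic in the prime graph of PSL(n,q): let F be a finite field of characteristic p with q elements, n ≥ 2 with PSL(n,F) simple, and let r ≠ p be an odd prime dividing the order of PSL(n,F), with k the multiplicative order of q modulo r. Then PSL(n,F) has NO element of order r·p if and only if either k > n − 2, or n = 3, r = 3 and 3 divides q − 1 exactly once. -/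
theorem result {F : Type*} [Field F] [Fintype F] (p : ℕ) [Fact p.Prime] [CharP F p] (n : ℕ) (hn : 2 ≤ n) (hsmall : n = 2 → 4 ≤ Fintype.card F)
    (r : ℕ) (hr : r.Prime) (hr2 : r ≠ 2) (hrp : r ≠ p) (hrG : r ∣ Nat.card (Matrix.ProjectiveSpecialLinearGroup (Fin n) F))
    (k : ℕ) (hk : k = orderOf ((Fintype.card F : ℕ) : ZMod r)) :
    (r * p ∉ Set.range (orderOf : Matrix.ProjectiveSpecialLinearGroup (Fin n) F → ℕ)) ↔
      (n - 2 < k ∨ (n = 3 ∧ r = 3 ∧ 3 ∣ Fintype.card F - 1 ∧ ¬ 9 ∣ Fintype.card F - 1)) := by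
  classical
  haveI := Fact.mk hr
  obtain ⟨e0, hpp, hqe⟩ := FiniteField.card F p
  set q := Fintype.card F with hq
  have hq1 : 1 < q := Fintype.one_lt_card
  have hpq : p ∣ q := hqe ▸ dvd_pow_self p e0.ne_zero
  have hrq : ¬ r ∣ q := fun h => hrp ((Nat.prime_dvd_prime_iff_eq hr hpp).1 (hr.dvd_of_dvd_pow (hqe ▸ h)))
  have hrF : (r : F) ≠ 0 := fun e =>
    hrp ((Nat.prime_dvd_prime_iff_eq hpp hr).1 ((CharP.cast_eq_zero_iff F p r).1 e)).symm
  have hkd : ∀ d, r ∣ q ^ d - 1 ↔ k ∣ d := by
    intro d
    rw [hk, orderOf_dvd_iff_pow_eq_one, ← Nat.modEq_iff_dvd' (Nat.one_le_pow _ _ Fintype.card_pos),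
      ← ZMod.natCast_eq_natCast_iff, Nat.cast_pow, Nat.cast_one, eq_comm]
  have hqr : (q : ZMod r) ≠ 0 := fun e => hrq ((ZMod.natCast_eq_zero_iff _ _).1 e)
  have hkpos : 0 < k := hk ▸ orderOf_pos_iff.2 (isOfFinOrder_iff_pow_eq_one.2 ⟨r - 1, by have := hr.two_le; omega,
    ZMod.pow_card_sub_one_eq_one hqr⟩)
  constructor
  · intro hno
    by_contra hcon
    push Not at hcon
    obtain ⟨hle, hexc⟩ := hcon
    have hn3 : 3 ≤ n := by omega
    apply hno
    set i0 : Fin n := ⟨0, by omega⟩ with hi0
    set i1 : Fin n := ⟨1, by omega⟩ with hi1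
    have h01 : i0 ≠ i1 := by simp [hi0, hi1, Fin.ext_iff]
    -- the semisimple part
    obtain ⟨x, hxnc, hxr, hxT⟩ : ∃ x : Matrix.SpecialLinearGroup (Fin n) F, x ∉ Subgroup.center _ ∧
        x ^ r ∈ Subgroup.center (Matrix.SpecialLinearGroup (Fin n) F) ∧
        Commute x (Matrix.SpecialLinearGroup.transvection h01 (1 : F)) := by
      rcases Nat.lt_or_ge 3 n with hn4 | hn3'
      · obtain ⟨m, rfl⟩ : ∃ m, n = 2 + m := ⟨n - 2, by omega⟩
        obtain ⟨y, hy⟩ := exists_prime_orderOf_dvd_card' (G := Matrix.SpecialLinearGroup (Fin m) F) r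
          (Cfsg.Agent.S2364.dvd_sl (by omega) hr (Or.inr (Or.inr ⟨k, hkpos, by omega, (hkd k).2 dvd_rfl⟩)))
        let φ : Matrix.SpecialLinearGroup (Fin m) F →* Matrix.SpecialLinearGroup (Fin (2 + m)) F :=
          { toFun := fun y => ⟨Matrix.reindex finSumFinEquiv finSumFinEquiv (Matrix.fromBlocks 1 0 0 (y : Matrix (Fin m) (Fin m) F)), by
              rw [Matrix.det_reindex_self, Matrix.det_fromBlocks_zero₂₁, Matrix.det_one, one_mul]; exact y.2⟩
            map_one' := Subtype.ext (by simp)
            map_mul' := fun u w => Subtype.ext (by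
              show _ = (Matrix.reindexAlgEquiv F F finSumFinEquiv (Matrix.fromBlocks 1 0 0 (u : Matrix (Fin m) (Fin m) F))) *
                (Matrix.reindexAlgEquiv F F finSumFinEquiv (Matrix.fromBlocks 1 0 0 (w : Matrix (Fin m) (Fin m) F)))
              rw [← map_mul, Matrix.fromBlocks_multiply]
              simp) }
        refine ⟨φ y, ?_, ?_, ?_⟩
        · intro hcen
          obtain ⟨c, -, hc⟩ := scalar_of_center hcen
          have hent : ∀ a b : Fin 2 ⊕ Fin m, Matrix.fromBlocks (1 : Matrix (Fin 2) (Fin 2) F) 0 0 (y : Matrix (Fin m) (Fin m) F) a b =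
              c * (1 : Matrix (Fin 2 ⊕ Fin m) (Fin 2 ⊕ Fin m) F) a b := by
            intro a b
            have h := congrFun (congrFun hc (finSumFinEquiv a)) (finSumFinEquiv b)
            change Matrix.reindex finSumFinEquiv finSumFinEquiv
              (Matrix.fromBlocks (1 : Matrix (Fin 2) (Fin 2) F) 0 0 (y : Matrix (Fin m) (Fin m) F)) (finSumFinEquiv a) (finSumFinEquiv b) = _ at h
            simpa [Matrix.one_apply, -finSumFinEquiv_apply_left, -finSumFinEquiv_apply_right] using h
          have h00 := hent (Sum.inl 0) (Sum.inl 0)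
          simp at h00
          have h2 : (y : Matrix (Fin m) (Fin m) F) = 1 := by
            ext a b
            simpa [← h00, Matrix.one_apply] using hent (Sum.inr a) (Sum.inr b)
          have : y = 1 := Subtype.ext h2
          rw [this, orderOf_one] at hy
          exact hr.one_lt.ne hy
        · rw [← map_pow, ← hy, pow_orderOf_eq_one, map_one]; exact one_mem _
        · have hT : Matrix.SpecialLinearGroup.transvection h01 (1 : F) =
              ⟨Matrix.reindex finSumFinEquiv finSumFinEquiv (Matrix.fromBlocks (Matrix.transvection (0 : Fin 2) 1 (1 : F)) 0 0 (1 : Matrix (Fin m) (Fin m) F)),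
                by rw [Matrix.det_reindex_self, Matrix.det_fromBlocks_zero₂₁, Matrix.det_transvection_of_ne _ _ (by decide), Matrix.det_one, one_mul]⟩ := by
            apply Subtype.ext
            show Matrix.transvection i0 i1 (1 : F) = _
            have e0 : i0 = finSumFinEquiv (Sum.inl (0 : Fin 2)) := Fin.ext (by simp [hi0])
            have e1 : i1 = finSumFinEquiv (Sum.inl (1 : Fin 2)) := Fin.ext (by simp [hi1])
            rw [e0, e1]
            ext a b
            obtain ⟨a, rfl⟩ := finSumFinEquiv.surjective a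
            obtain ⟨b, rfl⟩ := finSumFinEquiv.surjective b
            simp only [Matrix.reindex_apply, Matrix.submatrix_apply, Equiv.symm_apply_apply]
            rcases a with a | a <;> rcases b with b | b <;>
              simp [Matrix.transvection, Matrix.one_apply, Matrix.single_apply, -finSumFinEquiv_apply_left, -finSumFinEquiv_apply_right]
          show φ y * _ = _ * φ y
          rw [hT]
          apply Subtype.ext
          show (Matrix.reindexAlgEquiv F F finSumFinEquiv _) * (Matrix.reindexAlgEquiv F F finSumFinEquiv _) =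
            (Matrix.reindexAlgEquiv F F finSumFinEquiv _) * (Matrix.reindexAlgEquiv F F finSumFinEquiv _)
          rw [← map_mul, ← map_mul, Matrix.fromBlocks_multiply, Matrix.fromBlocks_multiply]
          simp
      · obtain rfl : n = 3 := by omega
        have hk1 : k = 1 := by omega
        have hdvd : r ∣ q - 1 := by simpa [hk1] using (hkd 1).2 (hk1 ▸ dvd_rfl)
        obtain ⟨u, hu3, hur⟩ : ∃ u : Fˣ, u ^ 3 ≠ 1 ∧ (u ^ r) ^ 3 = 1 := by
          by_cases hr3 : r = 3
          · subst hr3
            have h9 : 9 ∣ q - 1 := hexc rfl rfl hdvd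
            obtain ⟨g0, hg0⟩ := IsCyclic.exists_ofOrder_eq_natCard (α := Fˣ)
            rw [Nat.card_eq_fintype_card, Fintype.card_units, ← hq] at hg0
            have ho : orderOf (g0 ^ ((q - 1) / 9)) = 9 := by
              rw [← hg0] at h9 ⊢
              exact orderOf_pow_orderOf_div (by rw [hg0]; omega) h9
            refine ⟨g0 ^ ((q - 1) / 9), fun e => ?_, ?_⟩
            · have := orderOf_le_of_pow_eq_one (by norm_num) e
              omega
            · rw [← pow_mul]
              exact (congrArg (_ ^ ·) ho.symm).trans (pow_orderOf_eq_one _)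
          · obtain ⟨u, hu⟩ := exists_prime_orderOf_dvd_card (G := Fˣ) r (by rw [Fintype.card_units]; exact hdvd)
            refine ⟨u, fun e => hr3 ?_, ?_⟩
            · have := orderOf_dvd_of_pow_eq_one e
              rw [hu] at this
              exact (Nat.prime_dvd_prime_iff_eq hr Nat.prime_three).1 this
            · rw [← hu, pow_orderOf_eq_one, one_pow]
        have hdet : ((u : F) * (u : F)) * ((u : F)⁻¹ * (u : F)⁻¹) = 1 := by field_simp
        let x : Matrix.SpecialLinearGroup (Fin 3) F := ⟨Matrix.diagonal ![(u : F), (u : F), (u : F)⁻¹ * (u : F)⁻¹],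
          by simp [Fin.prod_univ_three]; exact hdet⟩
        refine ⟨x, fun hcen => ?_, ?_, ?_⟩
        · obtain ⟨c, -, hc⟩ := scalar_of_center hcen
          have h0 := congrFun (congrFun hc 0) 0
          have h2 := congrFun (congrFun hc 2) 2
          simp [x] at h0 h2
          apply hu3
          apply Units.ext
          rw [Units.val_pow_eq_pow_val, Units.val_one]
          rw [← h0] at h2
          field_simp at h2
          linear_combination -h2
        · refine center_of_scalar (c := (u : F) ^ r) ?_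
          rw [Matrix.SpecialLinearGroup.coe_pow]
          show Matrix.diagonal _ ^ r = _
          rw [Matrix.diagonal_pow, Matrix.smul_one_eq_diagonal]
          congr 1
          have e3 : ((u : F) ^ r) ^ 3 = 1 := by
            rw [← Units.val_pow_eq_pow_val, ← Units.val_pow_eq_pow_val, hur, Units.val_one]
          funext i
          fin_cases i <;> simp [mul_pow, inv_pow]
          field_simp
          linear_combination -e3
        · show x * _ = _ * x
          apply Subtype.ext
          show Matrix.diagonal _ * Matrix.transvection i0 i1 (1 : F) = Matrix.transvection i0 i1 (1 : F) * Matrix.diagonal _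
          ext a b
          fin_cases a <;> fin_cases b <;>
            simp [hi0, hi1, Matrix.transvection, Matrix.diagonal_mul, Matrix.mul_diagonal]
    set π := QuotientGroup.mk' (Subgroup.center (Matrix.SpecialLinearGroup (Fin n) F)) with hπ
    set T := Matrix.SpecialLinearGroup.transvection h01 (1 : F)
    have ho1 : orderOf (π x) = r := orderOf_eq_prime
      (by rw [← map_pow]; exact (QuotientGroup.eq_one_iff _).2 hxr) fun e => hxnc ((QuotientGroup.eq_one_iff _).1 e)
    have ho2 : orderOf (π T) = p := by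
      have hTp : ∀ m : ℕ, T ^ m = Matrix.SpecialLinearGroup.transvection h01 (m : F) := by
        intro m
        induction m with
        | zero => simp
        | succ m ih => rw [pow_succ, ih, ← Matrix.SpecialLinearGroup.transvection_add]; push_cast; rfl
      refine orderOf_eq_prime ?_ fun e => ?_
      · rw [← map_pow, hTp, CharP.cast_eq_zero, Matrix.SpecialLinearGroup.transvection_coeff_zero, map_one]
      · exact one_ne_zero ((Matrix.SpecialLinearGroup.transvection_mem_center_iff h01 (1 : F)).1
          ((QuotientGroup.eq_one_iff _).1 e))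
    refine ⟨π x * π T, ?_⟩
    rw [(hxT.map π).orderOf_mul_eq_mul_orderOf_of_coprime (by rw [ho1, ho2]; exact (Nat.coprime_primes hr hpp).2 hrp), ho1, ho2]
  · rintro hcase ⟨g, hg⟩
    by_cases hn2 : n = 2
    · subst hn2
      have hne : ∀ m, r * p ∣ m → (m ∣ q - 1 ∨ m ∣ q + 1) → False := by
        intro m h1 h2
        have hpm : p ∣ m := (dvd_mul_left p r).trans h1
        rcases h2 with h2 | h2
        · have h3 := Nat.dvd_sub hpq (hpm.trans h2)
          rw [Nat.sub_sub_self hq1.le] at h3
          exact hpp.one_lt.ne' (Nat.dvd_one.1 h3)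
        · exact hpp.one_lt.ne' (Nat.dvd_one.1 ((Nat.dvd_add_iff_right hpq).2 (hpm.trans h2)))
      obtain ⟨d1, d2⟩ := CfsgLib.Dickson.gcd_dvd (F := F) hq.symm
      rcases CfsgLib.Dickson.psl_pow_cases (p := p) hq.symm g with h | h | h
      · have h1 := orderOf_dvd_of_pow_eq_one h
        rw [hg] at h1
        exact hrp ((Nat.prime_dvd_prime_iff_eq hr hpp).1 ((dvd_mul_right r p).trans h1))
      · have h1 := orderOf_dvd_of_pow_eq_one h
        rw [hg] at h1
        exact hne _ dvd_rfl (Or.inl (h1.trans (Nat.div_dvd_of_dvd d1)))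
      · have h1 := orderOf_dvd_of_pow_eq_one h
        rw [hg] at h1
        exact hne _ dvd_rfl (Or.inr (h1.trans (Nat.div_dvd_of_dvd d2)))
    obtain ⟨x, N, hN0, hNn, hxN, hx0, hxr⟩ := exists_lifts p hn hr hrp hg
    rcases hcase with hlarge | ⟨rfl, rfl, h3, h9⟩
    · have hr1 : ¬ r ∣ q - 1 := by
        intro h
        have hk1 : k ∣ 1 := (hkd 1).1 (by simpa using h)
        have := Nat.dvd_one.1 hk1
        omega
      exact hN0 (no_large p hr hrp hn hr1 (hk ▸ hlarge) x hNn hxN hx0 hxr)
    -- the exceptional case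
    obtain ⟨c, hcn, hcv⟩ := scalar_of_center hxr
    rw [Matrix.SpecialLinearGroup.coe_pow] at hcv
    have hc1 : c = 1 := by
      by_contra hc1
      have hnocube : ∀ b : F, b ^ 3 ≠ c := by
        intro b hb
        have hb0 : b ≠ 0 := fun e => by rw [← hb, e, zero_pow (by norm_num), zero_pow (by norm_num)] at hcn; exact zero_ne_one hcn
        have h1 : (Units.mk0 b hb0) ^ (3 ^ 2) = 1 := Units.ext (by
          rw [Units.val_pow_eq_pow_val, Units.val_mk0, show (3 : ℕ) ^ 2 = 3 * 3 from rfl, pow_mul, hb, hcn, Units.val_one])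
        have h2 : ¬ (Units.mk0 b hb0) ^ (3 ^ 1) = 1 := fun e => hc1 (by
          rw [← hb]; simpa using congrArg Units.val e)
        have h3' := orderOf_eq_prime_pow h2 h1
        apply h9
        have h4 := orderOf_dvd_card (x := Units.mk0 b hb0)
        rw [h3', Fintype.card_units] at h4
        exact h4
      set f := Matrix.toLinAlgEquiv' (x : Matrix (Fin 3) (Fin 3) F) with hf
      set g' := Matrix.toLinAlgEquiv' N with hg'
      have hcomm : ∀ v, f (g' v) = g' (f v) := fun v => by
        have h : f * g' = g' * f := by rw [hf, hg', ← map_mul, ← map_mul, hxN]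
        exact LinearMap.congr_fun h v
      have heig : ∀ (v : Fin 3 → F) (a : F), v ≠ 0 → f v ≠ a • v := by
        intro v a hv he
        apply hnocube a
        have h3' : ∀ j : ℕ, (f ^ j) v = a ^ j • v := by
          intro j
          induction j with
          | zero => simp
          | succ j ih => rw [pow_succ, Module.End.mul_apply, he, map_smul, ih, smul_smul, pow_succ']
        have h := h3' 3
        rw [hf, ← map_pow, hcv, map_smul, map_one] at h
        have h' : (c - a ^ 3) • v = 0 := by rw [sub_smul, ← h]; simp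
        exact (sub_eq_zero.1 ((smul_eq_zero.1 h').resolve_right hv)).symm
      have hline : ∀ W : Submodule F (Fin 3 → F), Module.finrank F W = 1 → (∀ v ∈ W, f v ∈ W) → False := by
        intro W hW hWi
        obtain ⟨v, hv, hv0⟩ := Submodule.exists_mem_ne_zero_of_ne_bot (p := W) (fun e => by rw [e, finrank_bot] at hW; omega)
        have hspan : W = F ∙ v := (Submodule.eq_of_le_of_finrank_le ((Submodule.span_singleton_le_iff_mem _ _).2 hv)
          (by rw [hW, finrank_span_singleton hv0])).symm
        obtain ⟨a, ha⟩ := Submodule.mem_span_singleton.1 (hspan ▸ hWi v hv)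
        exact heig v a hv0 ha.symm
      have hsum := LinearMap.finrank_range_add_finrank_ker g'
      rw [Module.finrank_fin_fun] at hsum
      have hker : 0 < Module.finrank F (LinearMap.ker g') := by
        rw [Module.finrank_pos_iff, Submodule.nontrivial_iff_ne_bot]
        intro e
        obtain ⟨m, hm⟩ := hNn
        have hinj := LinearMap.ker_eq_bot.1 e
        have hz : ∀ j, Function.Injective (g' ^ j : Module.End F (Fin 3 → F)) := by
          intro j
          induction j with
          | zero => exact fun a b h => h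
          | succ j ih => rw [pow_succ]; exact ih.comp hinj
        have h0 : (g' ^ m : Module.End F (Fin 3 → F)) = 0 := by rw [hg', ← map_pow, hm, map_zero]
        have hone := @hz m (Pi.single 0 1) 0 (by rw [h0]; rfl)
        simp at hone
      have hran : 0 < Module.finrank F (LinearMap.range g') := by
        rw [Module.finrank_pos_iff, Submodule.nontrivial_iff_ne_bot, ne_eq, LinearMap.range_eq_bot]
        intro e
        exact hN0 (Matrix.toLinAlgEquiv'.injective (by rw [← hg', e, map_zero]))
      rcases (show Module.finrank F (LinearMap.ker g') = 1 ∨ Module.finrank F (LinearMap.range g') = 1 by omega) with h | h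
      · exact hline _ h fun v hv => by
          rw [LinearMap.mem_ker] at hv ⊢
          rw [← hcomm, hv, map_zero]
      · exact hline _ h fun v hv => by
          obtain ⟨w, rfl⟩ := hv
          exact ⟨f w, (hcomm w).symm⟩
    rw [hc1, one_smul] at hcv
    obtain ⟨ζ, hζ⟩ := exists_prime_orderOf_dvd_card (G := Fˣ) 3 (by rw [Fintype.card_units]; exact h3)
    obtain ⟨ms, hms, hcp⟩ := Cfsg.Agent.S2670.charpoly_split hrF hζ hcv
    let s : Sym (ZMod 3) 3 := ⟨ms, hms⟩
    let xg : GL (Fin 3) F := Matrix.SpecialLinearGroup.toGL x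
    have hxg : (xg : Matrix (Fin 3) (Fin 3) F) = x := rfl
    obtain ⟨P, hP⟩ := isConj_iff.1 (Cfsg.Agent.S2670.conj_of_charpoly hrF one_ne_zero xg
      (Cfsg.Agent.S2670.D ζ s) (by rw [hxg, hcv, one_smul]) (by rw [Cfsg.Agent.S2670.D_pow hζ, one_smul])
      (by rw [hxg, hcp, Cfsg.Agent.S2670.D_charpoly]))
    have hDdet : (Cfsg.Agent.S2670.D ζ s : Matrix (Fin 3) (Fin 3) F).det = 1 := by
      rw [← hP, Units.val_mul, Units.val_mul, Matrix.det_units_conj, hxg]
      exact x.2
    rw [Cfsg.Agent.S2670.D_val, Matrix.det_diagonal, Fin.prod_univ_three, ← Units.val_mul, ← Units.val_mul,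
      ← Cfsg.Agent.S2670.ev_add hζ, ← Cfsg.Agent.S2670.ev_add hζ] at hDdet
    have he0 : Cfsg.Agent.S2670.ev ζ (0 : ZMod 3) = 1 := by simp [Cfsg.Agent.S2670.ev]
    set ent := Cfsg.Agent.S2670.entry s with hent
    have hsum0 : ent 0 + ent 1 + ent 2 = 0 :=
      Cfsg.Agent.S2670.ev_injective hζ (by
      show (Cfsg.Agent.S2670.ev ζ (ent 0 + ent 1 + ent 2) : F) = (Cfsg.Agent.S2670.ev ζ 0 : F)
      rw [hDdet, he0, Units.val_one])
    rcases zmod3_cases _ _ _ hsum0 with ⟨e1, e2⟩ | ⟨d1, d2, d3⟩
    · refine hx0 (center_of_scalar (c := (Cfsg.Agent.S2670.ev ζ (ent 0) : F)) ?_)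
      have hD : Cfsg.Agent.S2670.D ζ s = Cfsg.Agent.S2670.sc 3 (Cfsg.Agent.S2670.ev ζ (ent 0)) := Units.ext (by
        rw [Cfsg.Agent.S2670.D_val, Cfsg.Agent.S2670.sc_val, Matrix.smul_one_eq_diagonal]
        congr 1
        funext i
        fin_cases i <;> simp [← hent, e1, e2])
      rw [hD] at hP
      have hxe : xg = Cfsg.Agent.S2670.sc 3 (Cfsg.Agent.S2670.ev ζ (ent 0)) := by
        rw [mul_inv_eq_iff_eq_mul, ← Subgroup.mem_center_iff.1 (Cfsg.Agent.S2670.mem_center.2 ⟨_, rfl⟩) P] at hP
        exact mul_left_cancel hP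
      rw [← hxg, hxe, Cfsg.Agent.S2670.sc_val]
    · set M := (P : Matrix (Fin 3) (Fin 3) F) * N * ((P⁻¹ : GL (Fin 3) F) : Matrix (Fin 3) (Fin 3) F) with hM
      have hDM : (Cfsg.Agent.S2670.D ζ s : Matrix (Fin 3) (Fin 3) F) * M = M * (Cfsg.Agent.S2670.D ζ s : Matrix (Fin 3) (Fin 3) F) := by
        rw [← hP, Units.val_mul, Units.val_mul, hM]
        calc _ = (P : Matrix (Fin 3) (Fin 3) F) * ((xg : Matrix (Fin 3) (Fin 3) F) * N) * ((P⁻¹ : GL (Fin 3) F) : Matrix (Fin 3) (Fin 3) F) := by
              simp only [Matrix.mul_assoc, ← Matrix.mul_assoc ((P⁻¹ : GL (Fin 3) F) : Matrix (Fin 3) (Fin 3) F) (P : Matrix (Fin 3) (Fin 3) F), Units.inv_mul, Matrix.one_mul]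
          _ = _ := by
              rw [hxg, hxN]
              simp only [Matrix.mul_assoc, ← Matrix.mul_assoc ((P⁻¹ : GL (Fin 3) F) : Matrix (Fin 3) (Fin 3) F) (P : Matrix (Fin 3) (Fin 3) F), Units.inv_mul, Matrix.one_mul]
      have hinj : Function.Injective ent := by
        intro i j e
        fin_cases i <;> fin_cases j <;>
          first
            | rfl
            | exact absurd e d1
            | exact absurd e.symm d1
            | exact absurd e d2
            | exact absurd e.symm d2
            | exact absurd e d3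
            | exact absurd e.symm d3
      have hdiag : M = Matrix.diagonal fun i => M i i := by
        ext i j
        rcases eq_or_ne i j with rfl | hij
        · simp
        rw [Matrix.diagonal_apply_ne _ hij]
        have h := congrFun (congrFun hDM i) j
        rw [Cfsg.Agent.S2670.D_val, Matrix.diagonal_mul, Matrix.mul_diagonal] at h
        have h' : ((Cfsg.Agent.S2670.ev ζ (ent i) : F) - Cfsg.Agent.S2670.ev ζ (ent j)) * M i j = 0 := by
          rw [hent]; linear_combination h
        exact (mul_eq_zero.1 h').resolve_left (sub_ne_zero.2 fun e => hij (hinj (Cfsg.Agent.S2670.ev_injective hζ e)))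
      obtain ⟨m, hm⟩ := hNn
      have hMm : M ^ m = 0 := by
        have hcp' : ∀ j : ℕ, M ^ j = (P : Matrix (Fin 3) (Fin 3) F) * N ^ j * ((P⁻¹ : GL (Fin 3) F) : Matrix (Fin 3) (Fin 3) F) := by
          intro j
          induction j with
          | zero => rw [pow_zero, pow_zero, Matrix.mul_one, Units.mul_inv]
          | succ j ih =>
            rw [pow_succ, ih, hM, pow_succ]
            simp only [Matrix.mul_assoc, ← Matrix.mul_assoc ((P⁻¹ : GL (Fin 3) F) : Matrix (Fin 3) (Fin 3) F) (P : Matrix (Fin 3) (Fin 3) F), Units.inv_mul, Matrix.one_mul]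
        rw [hcp', hm, Matrix.mul_zero, Matrix.zero_mul]
      rw [hdiag, Matrix.diagonal_pow] at hMm
      have hM0 : M = 0 := by
        rw [hdiag]
        ext i j
        rcases eq_or_ne i j with rfl | hij
        · have h := congrFun (congrFun hMm i) i
          simp at h
          simpa using h.1
        · simp [hij]
      apply hN0
      have hN' : N = ((P⁻¹ : GL (Fin 3) F) : Matrix (Fin 3) (Fin 3) F) * M * (P : Matrix (Fin 3) (Fin 3) F) := by
        rw [hM]
        simp only [Matrix.mul_assoc, Units.inv_mul, Matrix.mul_one, ← Matrix.mul_assoc ((P⁻¹ : GL (Fin 3) F) : Matrix (Fin 3) (Fin 3) F) (P : Matrix (Fin 3) (Fin 3) F), Matrix.one_mul]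
      rw [hN', hM0, Matrix.mul_zero, Matrix.zero_mul]

end Cfsg.Agent.S2470
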