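import Cfsg.Statements.S2477
import Mathlib.GroupTheory.Perm.Cycle.Type
import Mathlib.GroupTheory.Perm.List

set_option autoImplicit false
open Cfsg

namespace Cfsg.Agent.S2477

def step (l : List (ℕ × ℕ × ℕ)) : List (ℕ × ℕ × ℕ) :=
  (l ++ l.flatMap fun (t : ℕ × ℕ × ℕ) => ((List.range 11).filter fun k => decide (2 ≤ k ∧ t.1 + k ≤ 10)).map
    fun k => (t.1 + k, (t.2.1 + (k - 1)) % 2, Nat.lcm t.2.2 k)).eraseDups

def states : List (ℕ × ℕ × ℕ) := step (step (step (step (step [(0, 0, 1)]))))

theorem closed : ∀ t ∈ states, ∀ k ∈ List.range 11, 2 ≤ k → t.1 + k ≤ 10 →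
    (t.1 + k, (t.2.1 + (k - 1)) % 2, Nat.lcm t.2.2 k) ∈ states := by decide +kernel

theorem good : ∀ t ∈ states, t.2.1 = 0 →
    t.2.2 ∈ ({1, 2, 3, 4, 5, 6, 7, 8, 9, 10, 12, 15, 21} : Set ℕ) := by
  have h : ∀ t ∈ states, t.2.1 = 0 → t.2.2 ∈ [1, 2, 3, 4, 5, 6, 7, 8, 9, 10, 12, 15, 21] := by decide +kernel
  intro t ht h0
  simpa using h t ht h0

/-- The set of element orders of the alternating group of degree 10 is {1, 2, 3, 4, 5, 6, 7, 8, 9, 10, 12, 15, 21}. -/
theorem result : Set.range (orderOf : alternatingGroup (Fin 10) → ℕ) = {1, 2, 3, 4, 5, 6, 7, 8, 9, 10, 12, 15, 21} := by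
  have hm : ∀ m : Multiset ℕ, (∀ k ∈ m, 2 ≤ k ∧ k ≤ 10) → m.sum ≤ 10 →
      (m.sum, (m.map (· - 1)).sum % 2, m.lcm) ∈ states := by
    intro m
    induction m using Multiset.induction_on with
    | empty => intro _ _; simp only [Multiset.sum_zero, Multiset.map_zero, Multiset.lcm_zero]; decide +kernel
    | cons k m ih =>
      intro hk hs
      rw [Multiset.sum_cons] at hs
      have h := ih (fun j hj => hk j (Multiset.mem_cons_of_mem hj)) (by omega)
      have hk' := hk k (Multiset.mem_cons_self k m)
      have hc := closed _ h k (List.mem_range.2 (show k < 11 by omega)) hk'.1 (by omega)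
      rw [Multiset.sum_cons, Multiset.map_cons, Multiset.sum_cons, Multiset.lcm_cons, Nat.add_mod]
      show (_, _, Nat.lcm k m.lcm) ∈ states
      rw [Nat.add_mod_mod, Nat.mod_add_mod]
      simpa [add_comm, Nat.lcm_comm, Nat.add_mod_mod] using hc
  apply Set.Subset.antisymm
  · rintro n ⟨σ, rfl⟩
    set τ := (σ : Equiv.Perm (Fin 10)) with hτ
    have hsum : τ.cycleType.sum ≤ 10 := by
      rw [Equiv.Perm.sum_cycleType]
      exact (Finset.card_le_univ _).trans (le_of_eq (Fintype.card_fin 10))
    have h := hm τ.cycleType (fun k hk => ⟨Equiv.Perm.two_le_of_mem_cycleType hk,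
      (Multiset.le_sum_of_mem hk).trans hsum⟩) hsum
    have hs : (τ.cycleType.map (· - 1)).sum % 2 = 0 := by
      have h1 := Equiv.Perm.mem_alternatingGroup.1 σ.2
      rw [Equiv.Perm.sign_of_cycleType, neg_one_pow_eq_one_iff_even (by decide), Nat.even_iff] at h1
      have e : (τ.cycleType.map (· - 1)).sum + τ.cycleType.card = τ.cycleType.sum := by
        have : ∀ m : Multiset ℕ, (∀ k ∈ m, 2 ≤ k) → (m.map (· - 1)).sum + m.card = m.sum := by
          intro m
          induction m using Multiset.induction_on with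
          | empty => simp
          | cons k m ih =>
            intro hk
            have := ih fun j hj => hk j (Multiset.mem_cons_of_mem hj)
            have := hk k (Multiset.mem_cons_self k m)
            simp only [Multiset.map_cons, Multiset.sum_cons, Multiset.card_cons]
            omega
        exact this _ fun k hk => Equiv.Perm.two_le_of_mem_cycleType hk
      rw [← hτ] at h1
      omega
    rw [hs, Equiv.Perm.lcm_cycleType, hτ, orderOf_submonoid] at h
    exact good _ h rfl
  · intro n hn
    simp only [Set.mem_insert_iff, Set.mem_singleton_iff] at hn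
    have mk : ∀ (n : ℕ), 0 < n → ∀ l : List (List (Fin 10)),
        Equiv.Perm.sign (l.map List.formPerm).prod = 1 → (l.map List.formPerm).prod ^ n = 1 →
        (∀ m < n, 0 < m → (l.map List.formPerm).prod ^ m ≠ 1) → n ∈ Set.range (orderOf : alternatingGroup (Fin 10) → ℕ) :=
      fun n h0 l hs h1 h2 => ⟨⟨_, Equiv.Perm.mem_alternatingGroup.2 hs⟩, by
        rw [← orderOf_submonoid]
        exact (orderOf_eq_iff h0).2 ⟨h1, h2⟩⟩
    rcases hn with rfl | rfl | rfl | rfl | rfl | rfl | rfl | rfl | rfl | rfl | rfl | rfl | rfl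
    · exact ⟨1, orderOf_one⟩
    · exact mk _ (by norm_num) [[0,1],[2,3]] (by decide +kernel) (by decide +kernel) (by decide +kernel)
    · exact mk _ (by norm_num) [[0,1,2]] (by decide +kernel) (by decide +kernel) (by decide +kernel)
    · exact mk _ (by norm_num) [[0,1,2,3],[4,5]] (by decide +kernel) (by decide +kernel) (by decide +kernel)
    · exact mk _ (by norm_num) [[0,1,2,3,4]] (by decide +kernel) (by decide +kernel) (by decide +kernel)
    · exact mk _ (by norm_num) [[0,1,2],[3,4],[5,6]] (by decide +kernel) (by decide +kernel) (by decide +kernel)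
    · exact mk _ (by norm_num) [[0,1,2,3,4,5,6]] (by decide +kernel) (by decide +kernel) (by decide +kernel)
    · exact mk _ (by norm_num) [[0,1,2,3,4,5,6,7],[8,9]] (by decide +kernel) (by decide +kernel) (by decide +kernel)
    · exact mk _ (by norm_num) [[0,1,2,3,4,5,6,7,8]] (by decide +kernel) (by decide +kernel) (by decide +kernel)
    · exact mk _ (by norm_num) [[0,1,2,3,4],[5,6],[7,8]] (by decide +kernel) (by decide +kernel) (by decide +kernel)
    · exact mk _ (by norm_num) [[0,1,2,3],[4,5,6],[7,8]] (by decide +kernel) (by decide +kernel) (by decide +kernel)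
    · exact mk _ (by norm_num) [[0,1,2,3,4],[5,6,7]] (by decide +kernel) (by decide +kernel) (by decide +kernel)
    · exact mk _ (by norm_num) [[0,1,2,3,4,5,6],[7,8,9]] (by decide +kernel) (by decide +kernel) (by decide +kernel)

end Cfsg.Agent.S2477
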