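import Cfsg.Statements.S2530
import Cfsg.Agent.Lib.ClassicalCoxeterA

set_option autoImplicit false
open Cfsg

namespace Cfsg.Agent.S2530

/-- The Coxeter presentation of the symmetric group: for every n, the symmetric group on n+1 letters is the Coxeter group of type A_n with the adjacent transpositions (i, i+1) as simple reflections; that is, it is presented by generators r_1, …, r_n subject to r_i² = 1, (r_i r_j)² = 1 for |i − j| > 1 and (r_i r_{i+1})³ = 1, with r_i mapping to (i, i+1). -/
theorem result (n : ℕ) :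
    ∃ cs : CoxeterSystem (CoxeterMatrix.A n) (Equiv.Perm (Fin (n + 1))), ∀ i : Fin n, cs.simple i = Equiv.swap i.castSucc i.succ := by
  classical
  let M := CoxeterMatrix.A n
  let cW := M.toCoxeterSystem
  let f : Fin n → Equiv.Perm (Fin (n + 1)) := fun i => Equiv.swap i.castSucc i.succ
  have hswap : ∀ i j : Fin n, (f i * f j) ^ M i j = 1 := by
    intro i j
    show (f i * f j) ^ (if i = j then 1 else (if (j : ℕ) + 1 = i ∨ (i : ℕ) + 1 = j then 3 else 2)) = 1
    split_ifs with h1 h2
    · subst h1; simp [f]
    · apply orderOf_dvd_iff_pow_eq_one.1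
      rcases h2 with h2 | h2
      · have e : j.succ = i.castSucc := Fin.ext (by simpa using h2)
        have : (f i * f j).IsThreeCycle := by
          have := Equiv.Perm.isThreeCycle_swap_mul_swap_same (a := i.castSucc) (b := i.succ) (c := j.castSucc)
            (by simp [Fin.ext_iff]) (by simp [Fin.ext_iff]; omega) (by simp [Fin.ext_iff]; omega)
          simpa [f, e, Equiv.swap_comm j.castSucc i.castSucc] using this
        rw [this.orderOf]
      · have e : i.succ = j.castSucc := Fin.ext (by simpa using h2)
        have : (f i * f j).IsThreeCycle := by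
          have := Equiv.Perm.isThreeCycle_swap_mul_swap_same (a := j.castSucc) (b := i.castSucc) (c := j.succ)
            (by simp [Fin.ext_iff]; omega) (by simp [Fin.ext_iff]) (by simp [Fin.ext_iff]; omega)
          simpa [f, e, Equiv.swap_comm i.castSucc j.castSucc] using this
        rw [this.orderOf]
    · have hd : (f i).Disjoint (f j) := by
        intro x
        by_cases hx : x = i.castSucc ∨ x = i.succ
        · right
          apply Equiv.swap_apply_of_ne_of_ne <;> rcases hx with rfl | rfl <;> simp [Fin.ext_iff] at * <;> omega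
        · left
          push_neg at hx
          exact Equiv.swap_apply_of_ne_of_ne hx.1 hx.2
      rw [hd.commute.mul_pow]; simp [f, sq]
  let φ : M.Group →* Equiv.Perm (Fin (n + 1)) := cW.lift ⟨f, hswap⟩
  have hφ : ∀ i, φ (cW.simple i) = f i := fun i => cW.lift_apply_simple hswap i
  have hsurj : Function.Surjective φ := by
    intro g
    have : g ∈ Submonoid.closure (Set.range f) := by
      rw [show Set.range f = Set.range fun i : Fin n => Equiv.swap i.castSucc i.succ from rfl, Equiv.Perm.mclosure_swap_castSucc_succ]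
      trivial
    induction this using Submonoid.closure_induction with
    | mem x hx => obtain ⟨i, rfl⟩ := hx; exact ⟨_, hφ i⟩
    | one => exact ⟨1, map_one φ⟩
    | mul a b _ _ ha hb => obtain ⟨a, rfl⟩ := ha; obtain ⟨b, rfl⟩ := hb; exact ⟨a * b, map_mul φ a b⟩
  let s : ℕ → M.Group := fun i => if h : i < n then cW.simple ⟨i, h⟩ else 1
  have hrel : CfsgLib.CoxA.Rel s n := by
    refine ⟨fun i hi => by simp [s, hi], fun i hi => ?_, fun i j hij hj => ?_⟩
    · have hi' : i < n := by omega
      simp only [s, hi, hi', dite_true]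
      have := cW.simple_mul_simple_pow ⟨i + 1, hi⟩ ⟨i, hi'⟩
      rw [show M ⟨i + 1, hi⟩ ⟨i, hi'⟩ = 3 by simp [M, CoxeterMatrix.A]] at this
      simp only [pow_succ, pow_zero, one_mul, ← mul_assoc] at this
      have h2 := mul_eq_one_iff_eq_inv.1 this
      rw [cW.inv_simple] at h2
      calc cW.simple ⟨i + 1, hi⟩ * cW.simple ⟨i, hi'⟩ * cW.simple ⟨i + 1, hi⟩
          = (cW.simple ⟨i + 1, hi⟩ * cW.simple ⟨i, hi'⟩ * cW.simple ⟨i + 1, hi⟩ * cW.simple ⟨i, hi'⟩ * cW.simple ⟨i + 1, hi⟩) * cW.simple ⟨i + 1, hi⟩ * cW.simple ⟨i, hi'⟩ := by simp [mul_assoc]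
        _ = _ := by rw [h2]
    · have hi : i < n := by omega
      simp only [s, hi, hj, dite_true]
      have := cW.simple_mul_simple_pow ⟨i, hi⟩ ⟨j, hj⟩
      rw [show M ⟨i, hi⟩ ⟨j, hj⟩ = 2 by simp [M, CoxeterMatrix.A]; rw [if_neg (by omega), if_neg (by omega)]] at this
      rw [pow_two] at this
      have h2 := eq_inv_of_mul_eq_one_left this
      rw [mul_inv_rev, cW.inv_simple, cW.inv_simple] at h2
      exact h2
  have htop : Subgroup.closure (s '' Set.Iio n) = ⊤ := by
    rw [← cW.subgroup_closure_range_simple]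
    congr 1
    ext x
    constructor
    · rintro ⟨i, hi, rfl⟩; exact ⟨⟨i, hi⟩, by simp [s, show i < n from hi]⟩
    · rintro ⟨i, rfl⟩; exact ⟨i, i.isLt, by simp [s]⟩
  obtain ⟨hfin, hle⟩ := CfsgLib.CoxA.card_closure_le s n hrel
  rw [htop] at hfin hle
  haveI : Finite M.Group := Set.finite_univ_iff.1 hfin
  rw [Subgroup.card_top] at hle
  have hbij : Function.Bijective φ := by
    refine hsurj.bijective_of_nat_card_le ?_
    rw [Nat.card_perm, Nat.card_fin]; exact hle
  exact ⟨cW.map (MulEquiv.ofBijective φ hbij), fun i => hφ i⟩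

end Cfsg.Agent.S2530
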