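import Cfsg.Statements.S2802
import Cfsg.Agent.Lib.LocalPReducedParabolic

set_option autoImplicit false
open Cfsg

namespace Cfsg.Agent.S2802

/-- Let L be a finite group and p a prime with C_L(O_p(L)) ≤ O_p(L), T a Sylow p-subgroup of L and R a subgroup with T ≤ R. If X is a p-reduced normal subgroup of R (normal in R, elementary abelian, O_p(R/C_R(X)) = 1), then the normal closure of X in L is a p-reduced normal subgroup of L. -/
theorem result {L : Type*} [Group L] [Finite L] {p : ℕ} [Fact p.Prime] (hchar : Subgroup.centralizer (Cfsg.pCore p L : Set L) ≤ Cfsg.pCore p L) (T : Sylow p L) (R : Subgroup L) (hTR : (T : Subgroup L) ≤ R) (X : Subgroup ↥R) (hX : Cfsg.IsPReducedNormal p X) : Cfsg.IsPReducedNormal p (Subgroup.normalClosure ((X.map R.subtype : Subgroup L) : Set L)) := by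
  have hR : CfsgLib.Local.PRed.Red p R (X.map R.subtype) :=
    CfsgLib.Local.PRed.red_of_isPReducedNormal hX
  have hTp : ¬ p ∣ (T : Subgroup L).relIndex ⊤ := by
    rw [Subgroup.relIndex_top_right]; exact T.not_dvd_index
  have hcharT : CfsgLib.Local.PRed.CharP p (⊤ : Subgroup L) :=
    CfsgLib.Local.PRed.charP_top hchar
  have hQT : Cfsg.pCoreOf p (⊤ : Subgroup L) ≤ (T : Subgroup L) :=
    CfsgLib.Local.PRed.pCoreOf_le_of_index le_top T.isPGroup' hTp
  have hQR : Cfsg.pCoreOf p (⊤ : Subgroup L) ≤ Cfsg.pCoreOf p R :=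
    CfsgLib.Local.PRed.le_pCoreOf (hQT.trans hTR)
      (le_top.trans (CfsgLib.Local.PRed.pCoreOf_normalized ⊤))
      (CfsgLib.Local.PRed.isPGroup_pCoreOf _)
  have hXc : (X.map R.subtype) ≤
      Subgroup.centralizer (Cfsg.pCoreOf p (⊤ : Subgroup L) : Set L) :=
    Subgroup.le_centralizer_iff.mp (hQR.trans hR.pCoreOf_le_centralizer)
  have hXZ : (X.map R.subtype) ≤ CfsgLib.Local.PRed.OZ p (Cfsg.pCoreOf p (⊤ : Subgroup L)) :=
    fun x hx => CfsgLib.Local.PRed.mem_oz.mpr
      ⟨hcharT (Subgroup.mem_inf.mpr ⟨Subgroup.mem_top x, hXc hx⟩), hXc hx, hR.elem.2 x hx⟩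
  have hred : CfsgLib.Local.PRed.Red p ⊤ (CfsgLib.Local.PRed.cl ⊤ (X.map R.subtype)) := by
    refine CfsgLib.Local.PRed.red_cl le_top hTp hXZ fun N _ hn hmod => ?_
    have h1 : N ⊓ R ≤ Subgroup.centralizer ((X.map R.subtype : Subgroup L) : Set L) :=
      hR.reduced _ inf_le_right
        (CfsgLib.Core.le_normalizer_inf (le_top.trans hn) Subgroup.le_normalizer)
        (fun x hx => by
          obtain ⟨k, hk⟩ := hmod x (Subgroup.mem_inf.mp hx).1
          exact ⟨k, CfsgLib.Local.PRed.centralizer_antitone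
            (CfsgLib.Local.PRed.le_cl ⊤ _) hk⟩)
    exact (le_inf inf_le_right (inf_le_left.trans hTR)).trans h1
  have heq : CfsgLib.Local.PRed.cl ⊤ (X.map R.subtype) =
      Subgroup.normalClosure ((X.map R.subtype : Subgroup L) : Set L) := by
    apply le_antisymm
    · exact CfsgLib.Local.PRed.cl_le Subgroup.subset_normalClosure
        (by rw [Subgroup.normalizer_eq_top])
    · haveI : (CfsgLib.Local.PRed.cl ⊤ (X.map R.subtype)).Normal :=
        Subgroup.normalizer_eq_top_iff.mp
          (top_le_iff.mp (CfsgLib.Local.PRed.cl_normalized _ _))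
      exact Subgroup.normalClosure_le_normal (CfsgLib.Local.PRed.le_cl _ _)
  rw [← heq]
  exact CfsgLib.Local.PRed.red_top_iff.mp hred

end Cfsg.Agent.S2802
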