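import Cfsg.Statements.S2803
import Cfsg.Agent.Lib.LocalPReducedParabolic

set_option autoImplicit false
open Cfsg

namespace Cfsg.Agent.S2803

/-- Let L be a finite group and p a prime with C_L(O_p(L)) ≤ O_p(L), T a Sylow p-subgroup, and Y the largest p-reduced normal subgroup of L. Put T_L = C_T(Y) and L_T = N_L(T_L). Then L = L_T · C_L(Y) (elementwise), T_L = O_p(L_T), and Y = Ω₁(Z(T_L)). -/
theorem result {L : Type*} [Group L] [Finite L] {p : ℕ} [Fact p.Prime] (hchar : Subgroup.centralizer (Cfsg.pCore p L : Set L) ≤ Cfsg.pCore p L) (T : Sylow p L) (Y : Subgroup L) (hY : (Cfsg.IsPReducedNormal p Y ∧ ∀ V : Subgroup L, Cfsg.IsPReducedNormal p V → V ≤ Y)) (TL : Subgroup L) (hTL : TL = (T : Subgroup L) ⊓ Subgroup.centralizer (Y : Set L)) : (∀ g : L, ∃ a ∈ Subgroup.normalizer (TL : Set L), ∃ c ∈ Subgroup.centralizer (Y : Set L), g = a * c) ∧ (Cfsg.pCore p ↥(Subgroup.normalizer (TL : Set L))).map (Subgroup.normalizer (TL : Set L)).subtype = TL ∧ Y = Cfsg.omegaOne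 p (TL ⊓ Subgroup.centralizer (TL : Set L)) := by
  have hYr : CfsgLib.Local.PRed.Red p ⊤ Y := CfsgLib.Local.PRed.red_top_iff.mpr hY.1
  have hYeq : Y = Cfsg.largestPReducedOf p (⊤ : Subgroup L) := by
    rw [CfsgLib.Local.PRed.largestPReducedOf_top]
    exact le_antisymm (le_sSup hY.1) (sSup_le hY.2)
  subst hTL
  obtain ⟨hsup, hcore⟩ := CfsgLib.Local.PRed.normalizer_factor T hYr
  refine ⟨fun g => ?_, hcore, le_antisymm ?_ ?_⟩
  · have hg : g ∈ Subgroup.normalizer
        (((T : Subgroup L) ⊓ Subgroup.centralizer (Y : Set L) : Subgroup L) : Set L) ⊔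
        Subgroup.centralizer (Y : Set L) := by rw [hsup]; trivial
    obtain ⟨a, ha, c, hc, rfl⟩ := (CfsgLib.Core.mem_sup_iff_of_le_normalizer
      (le_top.trans (CfsgLib.Core.le_normalizer_centralizer hYr.normalized))).mp hg
    exact ⟨a, ha, c, hc, rfl⟩
  · intro y hy
    refine CfsgLib.Local.PRed.mem_oz.mpr ⟨Subgroup.mem_inf.mpr
      ⟨CfsgLib.Local.PRed.pCoreOf_le_of_index le_top T.isPGroup'
        (by rw [Subgroup.relIndex_top_right]; exact T.not_dvd_index) (hYr.le_pCoreOf hy),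
      CfsgLib.Local.PRed.le_centralizer_of_elem hYr.elem hy⟩,
      Subgroup.mem_centralizer_iff.mpr fun t ht =>
        (Subgroup.mem_centralizer_iff.mp (Subgroup.mem_inf.mp ht).2 y hy).symm,
      hYr.elem.2 y hy⟩
  · have h := CfsgLib.Local.PRed.oz_inf_le_largest (CfsgLib.Local.PRed.charP_top hchar)
      le_top T.isPGroup' (by rw [Subgroup.relIndex_top_right]; exact T.not_dvd_index)
    rw [← hYeq] at h
    exact h

end Cfsg.Agent.S2803
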