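import Cfsg.Statements.S2806
import Cfsg.Agent.Lib.LocalPointStabilizer

set_option autoImplicit false
open Cfsg
open scoped commutatorElement Pointwise

namespace Cfsg.Agent.S2806

/-- Let H be a finite group of local characteristic p, T a Sylow p-subgroup, and L₁, L₂ subnormal subgroups of H generating the subgroup L. Then the point stabilizer of L with respect to T ∩ L is generated by the point stabilizers of L₁ and L₂ with respect to T ∩ L₁ and T ∩ L₂ (point stabilizer of X w.r.t. R: the subgroup generated by the p-elements of X centralizing Ω₁(Z(R))). -/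
theorem result {H : Type*} [Group H] [Finite H] {p : ℕ} [Fact p.Prime] (hH : Cfsg.IsOfLocalCharacteristic p H) (T : Sylow p H) (L₁ L₂ : Subgroup H) (h₁ : L₁.IsSubnormal) (h₂ : L₂.IsSubnormal) : Cfsg.pointStabilizer p (L₁ ⊔ L₂) ((T : Subgroup H) ⊓ (L₁ ⊔ L₂)) = Cfsg.pointStabilizer p L₁ ((T : Subgroup H) ⊓ L₁) ⊔ Cfsg.pointStabilizer p L₂ ((T : Subgroup H) ⊓ L₂) := by
  set Z := CfsgLib.Local.PRed.OZ p (T : Subgroup H) with hZ
  have key : ∀ X : Subgroup H, X.IsSubnormal →
      Cfsg.pointStabilizer p X ((T : Subgroup H) ⊓ X) =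
        Subgroup.closure (CfsgLib.Local.PtStab.pEl p (X ⊓ Subgroup.centralizer (Z : Set H))) := by
    intro X hX
    by_cases hne : (T : Subgroup H) ⊓ X = ⊥
    · have htriv : ∀ x ∈ X, (∃ k, orderOf x = p ^ k) → x = 1 := by
        intro x hx hk
        obtain ⟨k, hk⟩ := hk
        have hsn : (((T : Subgroup H) ⊓ X).subgroupOf X).IsSubnormal := by
          rw [hne, Subgroup.bot_subgroupOf]
          exact Subgroup.Normal.isSubnormal inferInstance
        have h1 := CfsgLib.Local.PtStab.mem_of_index (p := p) hsn (x := ⟨x, hx⟩)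
          (by rw [Subgroup.orderOf_mk]; exact hk)
          (CfsgLib.Local.SylJoin.not_dvd_relIndex_inf_subnormal T hX)
        rw [Subgroup.mem_subgroupOf] at h1
        exact Subgroup.mem_bot.mp (hne.le h1)
      refine le_antisymm ?_ ?_ <;> refine (Subgroup.closure_le _).mpr fun x hx => ?_ <;>
      · rw [htriv x (Subgroup.mem_inf.mp hx.1).1 hx.2]
        exact Subgroup.one_mem _
    · rw [CfsgLib.Local.PtStab.kieler_local hH T hX hne]
      rfl
  rw [key _ (CfsgLib.Core.isSubnormal_sup h₁ h₂), key _ h₁, key _ h₂]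
  exact CfsgLib.Local.PtStab.closure_pEl_eq T
    (Subgroup.le_centralizer_iff.mp (CfsgLib.Local.PRed.oz_le_centralizer (T : Subgroup H))) h₁ h₂

end Cfsg.Agent.S2806
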