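import Cfsg.Statements.S2809
import Cfsg.Agent.Lib.LocalChain

set_option autoImplicit false
open Cfsg
open scoped Pointwise commutatorElement
set_option maxHeartbeats 800000

namespace Cfsg.Agent.S2809

/-- Let H be a finite group, p a prime, R a p-subgroup of H with C_H(R) ≤ R, and L a subgroup of N_H(R) acting nilpotently on R (some iterated commutator [R, L, …, L] is trivial). Then L is a p-group. -/
theorem result {H : Type*} [Group H] [Finite H] {p : ℕ} [Fact p.Prime] (R : Subgroup H) (hR : IsPGroup p ↥R) (hC : Subgroup.centralizer (R : Set H) ≤ R) (L : Subgroup H) (hL : L ≤ Subgroup.normalizer (R : Set H)) (hnil : ∃ n : ℕ, Cfsg.iterCommutator R L n = ⊥) : IsPGroup p ↥L := by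
  obtain ⟨n, hn⟩ := hnil
  refine CfsgLib.Local.isPGroup_of_coprime_eq_one fun x hx hcop => ?_
  have hle : ∀ i, Cfsg.iterCommutator R L i ≤ R := by
    intro i
    induction i with
    | zero => exact le_rfl
    | succ i ih =>
      refine (Subgroup.commutator_mono ih le_rfl).trans (Subgroup.commutator_le.2 fun r hr l hl => ?_)
      have := R.mul_mem hr ((Subgroup.mem_normalizer_iff.1 (hL hl) r⁻¹).1 (R.inv_mem hr))
      simpa [commutatorElement_def, mul_assoc] using this
  have key : ∀ k, ∀ r ∈ Cfsg.iterCommutator R L (n - k), x * r = r * x := by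
    intro k
    induction k with
    | zero =>
      intro r hr
      rw [Nat.sub_zero, hn, Subgroup.mem_bot] at hr
      simp [hr]
    | succ k ih =>
      by_cases hk : n - (k + 1) = n - k
      · rwa [hk]
      intro r hr
      have hd : x * r * x⁻¹ * r⁻¹ ∈ Cfsg.iterCommutator R L (n - k) := by
        rw [show n - k = (n - (k + 1)) + 1 by omega]
        have := Subgroup.inv_mem _ (Subgroup.commutator_mem_commutator hr hx)
        simpa [Cfsg.iterCommutator, commutatorElement_def, mul_assoc] using this
      exact CfsgLib.Local.fixed_of_coprime_step hR (hle _ hd) (ih _ hd) hcop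
  refine CfsgLib.Local.eq_one_of_coprime_pgroup hR (hC (Subgroup.mem_centralizer_iff.2 ?_)) hcop
  intro r hr
  have := key n r (by rw [Nat.sub_self]; exact hr)
  exact this.symm

end Cfsg.Agent.S2809
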