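import Cfsg.Statements.S2810
import Cfsg.Agent.Lib.LocalChain

set_option autoImplicit false
open Cfsg
open scoped Pointwise commutatorElement
set_option maxHeartbeats 800000

namespace Cfsg.Agent.S2810

/-- Let H be a finite group of characteristic p and L a subgroup of H centralizing every factor of some H-invariant chain 1 = A₀ ≤ A₁ ≤ … ≤ Aₙ = O_p(H) of normal subgroups (that is, [A_{i+1}, L] ≤ Aᵢ for each i). Then L ≤ O_p(H). -/
theorem result {H : Type*} [Group H] [Finite H] {p : ℕ} [Fact p.Prime] (hchar : Subgroup.centralizer (Cfsg.pCore p H : Set H) ≤ Cfsg.pCore p H) (L : Subgroup H) (n : ℕ) (A : Fin (n + 1) → Subgroup H) (h0 : A 0 = ⊥) (hn : A (Fin.last n) = Cfsg.pCore p H) (hmono : Monotone A) (hnorm : ∀ i, (A i).Normal) (hcent : ∀ i : Fin n, ⁅A i.succ, L⁆ ≤ A i.castSucc) : L ≤ Cfsg.pCore p H := by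
  haveI := hnorm
  let S : Subgroup H := ⨅ i : Fin n, (Subgroup.centralizer
    (((A i.succ).map (QuotientGroup.mk' (A i.castSucc)) :
      Subgroup (H ⧸ A i.castSucc)) : Set (H ⧸ A i.castSucc))).comap
        (QuotientGroup.mk' (A i.castSucc))
  haveI hSn : S.Normal := by
    refine Subgroup.normal_iInf_normal fun i => ?_
    haveI : ((A i.succ).map (QuotientGroup.mk' (A i.castSucc))).Normal :=
      (hnorm _).map _ (QuotientGroup.mk'_surjective _)
    infer_instance
  have hLS : L ≤ S := by
    refine le_iInf fun i => fun l hl => ?_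
    rw [Subgroup.mem_comap, Subgroup.mem_centralizer_iff]
    rintro _ ⟨a, ha, rfl⟩
    rw [← commutatorElement_eq_one_iff_mul_comm, ← map_commutatorElement,
      QuotientGroup.mk'_apply, QuotientGroup.eq_one_iff]
    exact hcent i (Subgroup.commutator_mem_commutator ha hl)
  have hQp := CfsgLib.Local.pCore_isPGroup' (G := H) p
  have hSp : IsPGroup p ↥S := by
    refine CfsgLib.Local.isPGroup_of_coprime_eq_one fun x hx hcop => ?_
    have key : ∀ i : Fin (n + 1), ∀ r ∈ A i, x * r = r * x := by
      intro i
      induction i using Fin.induction with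
      | zero => intro r hr; rw [h0, Subgroup.mem_bot] at hr; simp [hr]
      | succ i ih =>
        intro r hr
        have hxi := Subgroup.mem_iInf.1 hx i
        rw [Subgroup.mem_comap, Subgroup.mem_centralizer_iff] at hxi
        have hd : x * r * x⁻¹ * r⁻¹ ∈ A i.castSucc := by
          rw [← QuotientGroup.eq_one_iff (N := A i.castSucc), ← QuotientGroup.mk'_apply]
          simp only [map_mul, map_inv]
          rw [← hxi _ ⟨r, hr, rfl⟩]
          group
        exact CfsgLib.Local.fixed_of_coprime_step hQp
          (hn ▸ hmono (Fin.le_last i.castSucc) hd) (ih _ hd) hcop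
    refine CfsgLib.Local.eq_one_of_coprime_pgroup hQp
      (hchar (Subgroup.mem_centralizer_iff.2 fun r hr => ?_)) hcop
    exact (key (Fin.last n) r (hn ▸ hr)).symm
  exact hLS.trans (CfsgLib.Local.le_pCore' hSn hSp)

end Cfsg.Agent.S2810
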