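import Cfsg.Statements.S2812
import Cfsg.Agent.Lib.LocalFStarAction

set_option autoImplicit false
open Cfsg
open scoped commutatorElement

namespace Cfsg.Agent.S2812

/-- Let H be a subgroup of the finite group G with O_p(H) = 1, Y a p-subgroup of G normalizing H, and L a subgroup of the generalized Fitting subgroup F*(H) that is subnormal in H and normalized by Y. Then L = [L, Y]·C_L(Y) and [L, Y] = [L, Y, Y]. -/
theorem result {G : Type*} [Group G] [Finite G] {p : ℕ} [Fact p.Prime] (H : Subgroup G) (hO : Cfsg.pCore p ↥H = ⊥) (Y : Subgroup G) (hY : IsPGroup p ↥Y) (hYH : Y ≤ Subgroup.normalizer (H : Set G)) (L : Subgroup G) (hLF : L ≤ (Cfsg.generalizedFittingSubgroup ↥H).map H.subtype) (hLsn : (L.subgroupOf H).IsSubnormal) (hYL : Y ≤ Subgroup.normalizer (L : Set G)) : ⁅L, Y⁆ ⊔ (L ⊓ Subgroup.centralizer (Y : Set G)) = L ∧ ⁅L, Y⁆ = ⁅⁅L, Y⁆, Y⁆ := by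
  have hLH : L ≤ H := hLF.trans (Subgroup.map_subtype_le _)
  have hLF' : L.subgroupOf H ≤ Cfsg.generalizedFittingSubgroup ↥H := by
    intro x hx
    obtain ⟨y, hy, he⟩ := hLF hx
    rwa [← show y = x from Subtype.ext he]
  set L' := L.subgroupOf H with hL'
  set F := (L' ⊓ Cfsg.fittingSubgroup ↥H).map H.subtype with hFdef
  set E := (CfsgLib.Local.FStar.compIn L').map H.subtype with hEdef
  -- invariance under `Y`
  have hinv : ∀ X : Subgroup ↥H, (∀ a : MulAut ↥H, L'.map a.toMonoidHom = L' → X.map a.toMonoidHom ≤ X) →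
      Y ≤ Subgroup.normalizer ((X.map H.subtype : Subgroup G) : Set G) := by
    intro X hX
    refine CfsgLib.Core.le_normalizer_iff_forall.mpr fun y hy v hv => ?_
    obtain ⟨x, hx, rfl⟩ := hv
    let a : MulAut ↥H := H.normalizerMonoidHom ⟨y, hYH hy⟩
    have hcoe : ∀ z : ↥H, ((a z : ↥H) : G) = y * z * y⁻¹ := fun z => rfl
    have hfix : L'.map a.toMonoidHom = L' := by
      refine CfsgLib.Core.eq_of_le_of_card_le ?_ (Subgroup.card_map_of_injective a.injective).ge
      rintro _ ⟨z, hz, rfl⟩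
      rw [hL', Subgroup.mem_subgroupOf]
      show ((a z : ↥H) : G) ∈ L
      rw [hcoe]
      exact (Subgroup.mem_normalizer_iff.mp (hYL hy) _).mp hz
    exact ⟨a x, hX a hfix ⟨x, hx, rfl⟩, hcoe x⟩
  have hFn : Y ≤ Subgroup.normalizer (F : Set G) := by
    refine hinv _ fun a ha => le_trans (Subgroup.map_inf_le _ _ _) (inf_le_inf ha.le ?_)
    exact CfsgLib.Core.map_fitting_le a
  have hEn : Y ≤ Subgroup.normalizer (E : Set G) := by
    refine hinv _ fun a ha => ?_
    rw [Subgroup.map_le_iff_le_comap]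
    refine sSup_le fun K hK => Subgroup.map_le_iff_le_comap.mp ?_
    exact le_sSup (show K.map a.toMonoidHom ∈ {K : Subgroup ↥H | Cfsg.IsComponent K ∧ K ≤ L'} from
      ⟨CfsgLib.Core.isComponent_map_mulEquiv a hK.1, (Subgroup.map_mono hK.2).trans ha.le⟩)
  refine CfsgLib.Local.FStar.action (p := p) (F := F) (E := E) ?_ ?_ ?_ ?_ hFn hEn ?_ hY ?_ ?_
  · exact (Subgroup.map_mono inf_le_left).trans (Subgroup.map_subgroupOf_eq_of_le hLH).le
  · exact (Subgroup.map_mono (CfsgLib.Local.FStar.compIn_le L')).trans (Subgroup.map_subgroupOf_eq_of_le hLH).le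
  · rw [hFdef, hEdef, ← Subgroup.map_sup, ← Subgroup.map_subgroupOf_eq_of_le hLH]
    exact Subgroup.map_mono (CfsgLib.Local.FStar.decomp hLsn hLF')
  · rw [← Subgroup.commutator_eq_bot_iff_le_centralizer, hFdef, hEdef, ← Subgroup.map_commutator,
      Subgroup.commutator_eq_bot_iff_le_centralizer.mpr, Subgroup.map_bot]
    exact ((CfsgLib.Local.FStar.compIn_le_layer L').trans CfsgLib.Local.FStar.layer_le_centralizer_fitting).trans
      (Subgroup.centralizer_le (SetLike.coe_subset_coe.mpr inf_le_right))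
  · rw [hFdef, Subgroup.card_subtype]
    exact (CfsgLib.Local.FStar.fitting_coprime hO).coprime_dvd_left (Subgroup.card_dvd_of_le inf_le_right)
  · rw [hEdef, ← Subgroup.map_commutator, CfsgLib.Local.FStar.compIn_perfect]
  · intro N hN hn
    have hNH : N ≤ H := hN.trans (Subgroup.map_subtype_le _)
    have h1 := CfsgLib.Local.FStar.compIn_split L' (N.subgroupOf H)
      (fun x hx => by
        obtain ⟨y, hy, he⟩ := hN hx
        rwa [← show y = x from Subtype.ext he])
      (CfsgLib.Core.le_normalizer_iff_forall.mpr fun g hg v hv =>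
        Subgroup.mem_subgroupOf.mpr ((Subgroup.mem_normalizer_iff.mp (hn ⟨g, hg, rfl⟩) _).mp hv))
    refine le_trans (Subgroup.map_mono h1) ?_
    rw [Subgroup.map_sup, Subgroup.map_subgroupOf_eq_of_le hNH]
    refine sup_le_sup le_rfl ?_
    rintro _ ⟨x, ⟨hx1, hx2⟩, rfl⟩
    refine Subgroup.mem_inf.mpr ⟨⟨x, hx1, rfl⟩, Subgroup.mem_centralizer_iff.mpr fun v hv => ?_⟩
    exact congrArg Subtype.val (Subgroup.mem_centralizer_iff.mp hx2 ⟨v, hNH hv⟩ hv)

end Cfsg.Agent.S2812
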