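import Cfsg.Statements.S2813
import Cfsg.Agent.Lib.CoreCoprime

set_option autoImplicit false
open Cfsg
open scoped Pointwise commutatorElement
set_option maxHeartbeats 800000

namespace Cfsg.Agent.S2813

/-- Let K be a subgroup of the finite group H with O_p(K) = 1 and Y a p-subgroup of N_H(K) with [K, Y, Y] = 1. Then [K, Y] = 1. -/
theorem result {H : Type*} [Group H] [Finite H] {p : ℕ} [Fact p.Prime] (K : Subgroup H) (hO : Cfsg.pCore p ↥K = ⊥) (Y : Subgroup H) (hY : IsPGroup p ↥Y) (hYK : Y ≤ Subgroup.normalizer (K : Set H)) (hq : ⁅⁅K, Y⁆, Y⁆ = ⊥) : ⁅K, Y⁆ = ⊥ := by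
  set C := ⁅K, Y⁆ with hC
  have hCY : ∀ c ∈ C, ∀ y ∈ Y, c * y = y * c := fun c hc y hy =>
    commutatorElement_eq_one_iff_mul_comm.1
      (Subgroup.mem_bot.1 (hq ▸ Subgroup.commutator_mem_commutator hc hy))
  have hKC := CfsgLib.Core.le_normalizer_commutator_left K Y
  have hCK : C ≤ K := CfsgLib.Core.commutator_le_of_le_normalizer hYK
  have hgen : ∀ k ∈ K, ∀ y ∈ Y, ∀ c ∈ C, c * (k * y * k⁻¹) = (k * y * k⁻¹) * c := by
    intro k hk y hy c hc
    have hc' : k⁻¹ * c * k ∈ C := (Subgroup.mem_normalizer_iff''.1 (hKC hk) c).1 hc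
    calc c * (k * y * k⁻¹) = k * ((k⁻¹ * c * k) * y) * k⁻¹ := by group
      _ = k * (y * (k⁻¹ * c * k)) * k⁻¹ := by rw [hCY _ hc' y hy]
      _ = _ := by group
  have hab : ∀ a ∈ C, ∀ c ∈ C, c * a = a * c := by
    intro a ha c hc
    have : C ≤ Subgroup.centralizer ({c} : Set H) := by
      refine Subgroup.commutator_le.2 fun k hk y hy => Subgroup.mem_centralizer_iff.2 ?_
      intro c' hc'
      rw [Set.mem_singleton_iff.1 hc']
      have h1 : Commute c (k * y * k⁻¹) := hgen k hk y hy c hc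
      have h2 : Commute c y⁻¹ := (show Commute c y from hCY c hc y hy).inv_right
      simpa [commutatorElement_def] using (h1.mul_right h2).eq
    exact Subgroup.mem_centralizer_iff.1 (this ha) c rfl
  let P : Subgroup H :=
    { carrier := {c | c ∈ C ∧ ∃ j : ℕ, c ^ p ^ j = 1}
      one_mem' := ⟨C.one_mem, 0, one_pow _⟩
      mul_mem' := by
        rintro a b ⟨ha, i, hi⟩ ⟨hb, j, hj⟩
        refine ⟨C.mul_mem ha hb, i + j, ?_⟩
        rw [(show Commute a b from hab b hb a ha).mul_pow, pow_add, pow_mul, hi, one_pow, one_mul,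
          mul_comm, pow_mul, hj, one_pow]
      inv_mem' := by
        rintro a ⟨ha, i, hi⟩
        exact ⟨C.inv_mem ha, i, by rw [inv_pow, hi, inv_one]⟩ }
  have hCP : C ≤ P := by
    refine Subgroup.commutator_le.2 fun k hk y hy => ⟨Subgroup.commutator_mem_commutator hk hy, ?_⟩
    obtain ⟨i, hi⟩ := hY ⟨y, hy⟩
    have hi' : y ^ p ^ i = 1 := by simpa using congrArg Subtype.val hi
    refine ⟨i, ?_⟩
    have hy' : Commute (k * y * k⁻¹ * y⁻¹) y :=
      hCY _ (by simpa [commutatorElement_def] using Subgroup.commutator_mem_commutator hk hy) y hy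
    have h2 : Commute (k * y * k⁻¹) y⁻¹ := by
      have := (hy'.mul_left (Commute.refl y)).inv_right
      simpa [mul_assoc] using this
    rw [commutatorElement_def, h2.mul_pow, conj_pow, inv_pow, hi', mul_one, mul_inv_cancel,
      inv_one, mul_one]
  have hCp : IsPGroup p ↥C := fun c => by
    obtain ⟨-, j, hj⟩ := hCP c.2
    exact ⟨j, Subtype.ext (by simpa using hj)⟩
  haveI : (C.subgroupOf K).Normal := Subgroup.normal_subgroupOf_of_le_normalizer hKC
  have h1 : C.subgroupOf K ≤ Cfsg.pCore p ↥K := le_sSup ⟨inferInstance, hCp.comap_subtype⟩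
  rw [hO, le_bot_iff, Subgroup.subgroupOf_eq_bot] at h1
  exact h1.eq_bot_of_le hCK

end Cfsg.Agent.S2813
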