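import Cfsg.Statements.S2815
import Cfsg.Agent.Lib.LocalPIrreducible
import Cfsg.Agent.Lib.CoreLayer

set_option autoImplicit false
open Cfsg
open scoped commutatorElement Pointwise

namespace Cfsg.Agent.S2815

/-- Let H be a finite group and p a prime dividing its order with O_p(H) = 1, and suppose K = O^p(H) (generated by the elements of order prime to p) is quasisimple. Then K = F*(H); for every nontrivial p-subgroup Y of H, K = [K, Y] and K lies in the subgroup generated by the K-conjugates of Y; every normal subgroup of H not containing K has order prime to p; and H is p-irreducible. -/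
theorem result {H : Type*} [Group H] [Finite H] {p : ℕ} [Fact p.Prime] (hp : p ∣ Nat.card H) (hO : Cfsg.pCore p H = ⊥) (hq : Cfsg.IsQuasisimple ↥(Cfsg.pResidual p H)) : Cfsg.pResidual p H = Cfsg.generalizedFittingSubgroup H ∧ (∀ Y : Subgroup H, IsPGroup p ↥Y → Y ≠ ⊥ → ⁅Cfsg.pResidual p H, Y⁆ = Cfsg.pResidual p H ∧ Cfsg.pResidual p H ≤ ⨆ k : ↥(Cfsg.pResidual p H), Y.map (MulAut.conj (k : H)).toMonoidHom) ∧ (∀ C : Subgroup H, C.Normal → ¬ Cfsg.pResidual p H ≤ C → (Nat.card ↥C).Coprime p) ∧ Cfsg.IsPIrreducible p H := by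
  set K := Cfsg.pResidual p H with hKdef
  haveI hKn : K.Normal := CfsgLib.Local.pResidual_normal' p H
  have hKc : Cfsg.IsComponent K := ⟨hKn.isSubnormal, hq⟩
  have hKperf := CfsgLib.Core.isPerfect_of_component hKc
  set C := Subgroup.centralizer (K : Set H) with hCdef
  haveI hCn : C.Normal := inferInstance
  set Z := K ⊓ C with hZdef
  haveI hZn : Z.Normal := inferInstance
  have hnoelt : ∀ x ∈ Z, x ^ p = 1 → x = 1 := by
    intro x hx hxp
    have hc : x ∈ Subgroup.centralizer (Z : Set H) :=
      Subgroup.mem_centralizer_iff.mpr fun z hz =>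
        Subgroup.mem_centralizer_iff.mp (Subgroup.mem_inf.mp hx).2 z (Subgroup.mem_inf.mp hz).1
    have h1 : x ∈ CfsgLib.Local.PRed.OZ p Z := CfsgLib.Local.PRed.mem_oz.mpr ⟨hx, hc, hxp⟩
    have hn : (CfsgLib.Local.PRed.OZ p Z).Normal := Subgroup.normalizer_eq_top_iff.mp
      (top_le_iff.mp (CfsgLib.Local.PRed.oz_normalized (by rw [Subgroup.normalizer_eq_top])))
    have h2 := CfsgLib.Local.le_pCore' hn
      (CfsgLib.Local.PRed.isPGroup_of_elem (CfsgLib.Local.PRed.elem_oz (p := p) Z)) h1
    rw [hO] at h2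
    exact Subgroup.mem_bot.mp h2
  have hZcop : (Nat.card ↥Z).Coprime p := by
    refine ((Nat.Prime.coprime_iff_not_dvd Fact.out).mpr fun hd => ?_).symm
    obtain ⟨⟨x, hx⟩, hxo⟩ := exists_prime_orderOf_dvd_card' (G := ↥Z) p hd
    rw [← Subgroup.orderOf_coe] at hxo
    have h1 := hnoelt x hx (hxo ▸ pow_orderOf_eq_one x)
    subst h1
    rw [orderOf_one] at hxo
    exact (Fact.out : p.Prime).ne_one hxo.symm
  have hCK : C ≤ K := by
    obtain ⟨P0⟩ := (inferInstance : Nonempty (Sylow p ↥C))
    set P := (P0 : Subgroup ↥C).map C.subtype with hP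
    have hPC : P ≤ C := Subgroup.map_subtype_le _
    have hZC : Z ≤ Subgroup.centralizer (C : Set H) := fun z hz =>
      Subgroup.mem_centralizer_iff.mpr fun c hc =>
        (Subgroup.mem_centralizer_iff.mp hc z (Subgroup.mem_inf.mp hz).1).symm
    have hCPZ : C ≤ P ⊔ Z := by
      refine CfsgLib.Local.PRed.le_of_index (p := p) hPC ?_ le_sup_left fun x hx hc => ?_
      · rw [hP, Subgroup.relIndex, Subgroup.subgroupOf,
          Subgroup.comap_map_eq_self_of_injective C.subtype_injective]
        exact P0.not_dvd_index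
      · exact Subgroup.mem_sup_right (Subgroup.mem_inf.mpr ⟨Subgroup.subset_closure hc, hx⟩)
    have hPn : C ≤ Subgroup.normalizer (P : Set H) :=
      hCPZ.trans (sup_le Subgroup.le_normalizer (hZC.trans
        ((CfsgLib.Local.PRed.centralizer_antitone hPC).trans
          (CfsgLib.Core.centralizer_le_normalizer P))))
    have hPbot : P ≤ (⊥ : Subgroup H) := by
      rw [← hO]
      refine le_trans ?_ (CfsgLib.Core.pCore_map_subtype_le hCn)
      rw [← Subgroup.map_subgroupOf_eq_of_le hPC]
      exact Subgroup.map_mono (CfsgLib.Local.le_pCore'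
        (CfsgLib.Local.PRed.subgroupOf_normal hPn)
        (CfsgLib.Local.PRed.isPGroup_subgroupOf (P0.isPGroup'.map _)))
    exact hCPZ.trans (sup_le (hPbot.trans bot_le) inf_le_left)
  have hCZ : C = Z := le_antisymm (le_inf hCK le_rfl) inf_le_right
  have hCcop : (Nat.card ↥C).Coprime p := hCZ ▸ hZcop
  have hlayer : Cfsg.layer H = K := by
    refine le_antisymm (sSup_le fun L hL => ?_) (CfsgLib.Core.component_le_layer hKc)
    rcases CfsgLib.Core.component_le_or_commutator_eq_bot hL hKc.1 with h | h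
    · exact h
    · exact (Subgroup.commutator_eq_bot_iff_le_centralizer.mp h).trans hCK
  have hF : K = Cfsg.generalizedFittingSubgroup H := by
    refine le_antisymm (hlayer.ge.trans le_sup_left) (sup_le hlayer.le ?_)
    have h := CfsgLib.Core.commutator_layer_fittingSubgroup (G := H)
    rw [hlayer, Subgroup.commutator_comm] at h
    exact (Subgroup.commutator_eq_bot_iff_le_centralizer.mp h).trans hCK
  have hnormal : ∀ N : Subgroup H, N.Normal → ¬ K ≤ N → (Nat.card ↥N).Coprime p := by
    intro N hN hKN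
    have h := (CfsgLib.Core.component_le_or_commutator_eq_bot hKc hN.isSubnormal).resolve_left hKN
    rw [Subgroup.commutator_comm] at h
    exact hCcop.coprime_dvd_left
      (Subgroup.card_dvd_of_le (Subgroup.commutator_eq_bot_iff_le_centralizer.mp h))
  have htriv : ∀ Y : Subgroup H, IsPGroup p ↥Y → (Nat.card ↥Y).Coprime p → Y = ⊥ := by
    intro Y hY hc
    obtain ⟨n, hn⟩ := hY.exists_card_eq
    rw [hn] at hc
    refine Subgroup.card_eq_one.mp ?_
    rcases Nat.eq_zero_or_pos n with h | h
    · rw [hn, h, pow_zero]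
    · exact absurd ((Nat.coprime_pow_left_iff h _ _).mp hc)
        (by rw [Nat.coprime_self]; exact (Fact.out : p.Prime).ne_one)
  refine ⟨hF, fun Y hY hY1 => ?_, hnormal, ?_⟩
  · have hle : (⁅K, Y⁆ : Subgroup H) ≤ K := Subgroup.commutator_le_left K Y
    haveI : ((⁅K, Y⁆ : Subgroup H).subgroupOf K).Normal :=
      CfsgLib.Local.PRed.subgroupOf_normal (CfsgLib.Core.le_normalizer_commutator_left K Y)
    have heq : (⁅K, Y⁆ : Subgroup H) = K := by
      rcases CfsgLib.Core.quasisimple_normal_cases hq ((⁅K, Y⁆ : Subgroup H).subgroupOf K) with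
        h | h
      · exact le_antisymm hle (Subgroup.subgroupOf_eq_top.mp h)
      · exfalso
        refine hY1 (htriv Y hY (hCcop.coprime_dvd_left (Subgroup.card_dvd_of_le ?_)))
        have h1 : ⁅⁅K, Y⁆, K⁆ = (⊥ : Subgroup H) := by
          rw [Subgroup.commutator_eq_bot_iff_le_centralizer]
          intro x hx
          refine Subgroup.mem_centralizer_iff.mpr fun k hk => ?_
          exact congrArg Subtype.val (Subgroup.mem_center_iff.mp
            (h (show (⟨x, hle hx⟩ : ↥K) ∈ (⁅K, Y⁆ : Subgroup H).subgroupOf K from hx)) ⟨k, hk⟩)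
        have h2 : ⁅⁅Y, K⁆, K⁆ = (⊥ : Subgroup H) := by rwa [Subgroup.commutator_comm Y K]
        have h3 : ⁅⁅K, K⁆, Y⁆ = (⊥ : Subgroup H) :=
          Subgroup.commutator_commutator_eq_bot_of_rotate h1 h2
        rw [hKperf, Subgroup.commutator_comm] at h3
        exact Subgroup.commutator_eq_bot_iff_le_centralizer.mp h3
    refine ⟨heq, le_trans heq.ge (Subgroup.commutator_le.mpr fun k hk y hy => ?_)⟩
    rw [commutatorElement_def]
    refine mul_mem (Subgroup.mem_iSup_of_mem (⟨k, hk⟩ : ↥K) ⟨y, hy, rfl⟩) (inv_mem ?_)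
    exact Subgroup.mem_iSup_of_mem (1 : ↥K) ⟨y, hy, by simp⟩
  · refine ⟨fun h => ?_, fun N hN hNc => ?_⟩
    · obtain ⟨T⟩ := (inferInstance : Nonempty (Sylow p H))
      have h1 := CfsgLib.Local.PIrr.isPClosed_iff.mp h _ T.isPGroup'
      rw [hO, le_bot_iff] at h1
      refine T.not_dvd_index ?_
      rw [h1, Subgroup.index_bot]
      exact hp
    · by_contra hKN
      refine hNc (CfsgLib.Local.PIrr.isPClosed_of_isPGroup_le fun S hSN hS => ?_)
      rw [htriv S hS ((hnormal N hN hKN).coprime_dvd_left (Subgroup.card_dvd_of_le hSN))]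
      exact bot_le

end Cfsg.Agent.S2815
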