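import Cfsg.Statements.S2816
import Cfsg.Agent.Lib.LocalFStarAction

set_option autoImplicit false
open Cfsg
open scoped commutatorElement

namespace Cfsg.Agent.S2816

/-- Let H be a finite group and p a prime with O_p(H) = 1, and Y a p-subgroup of H. Then for every subnormal subgroup K of H containing Y, [F*(H), Y] = [F*(K), Y] = [F*(K), Y, Y]; and if Y₀ ≤ Y with [F*(H), Y, Y₀] = 1 then Y₀ = 1 (in particular [F*(H), Y] = 1 forces Y = 1). -/
theorem result {H : Type*} [Group H] [Finite H] {p : ℕ} [Fact p.Prime] (hO : Cfsg.pCore p H = ⊥) (Y : Subgroup H) (hY : IsPGroup p ↥Y) : (∀ K : Subgroup H, K.IsSubnormal → Y ≤ K → ⁅Cfsg.generalizedFittingSubgroup H, Y⁆ = ⁅(Cfsg.generalizedFittingSubgroup ↥K).map K.subtype, Y⁆ ∧ ⁅(Cfsg.generalizedFittingSubgroup ↥K).map K.subtype, Y⁆ = ⁅⁅(Cfsg.generalizedFittingSubgroup ↥K).map K.subtype, Y⁆, Y⁆) ∧ (∀ Y₀ : Subgroup H, Y₀ ≤ Y → ⁅⁅Cfsg.generalizedFittingSubgroup H, Y⁆, Y₀⁆ = ⊥ → Y₀ = ⊥) := by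
  have hact : ∀ L : Subgroup H, L.IsSubnormal → L ≤ Cfsg.generalizedFittingSubgroup H →
      Y ≤ Subgroup.normalizer (L : Set H) →
      ⁅L, Y⁆ ⊔ (L ⊓ Subgroup.centralizer (Y : Set H)) = L ∧ ⁅L, Y⁆ = ⁅⁅L, Y⁆, Y⁆ :=
    fun L h1 h2 h3 => CfsgLib.Local.FStar.action_subnormal hO h1 h2 hY h3
  set Fs := Cfsg.generalizedFittingSubgroup H with hFs
  haveI hFn : Fs.Normal := CfsgLib.Core.normal_generalizedFittingSubgroup
  set N := ⁅Fs, Y⁆ with hN
  have hA := hact Fs hFn.isSubnormal le_rfl (by rw [Subgroup.normalizer_eq_top]; exact le_top)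
  have hNF : N ≤ Fs := Subgroup.commutator_le_left Fs Y
  have hNn : Fs ≤ Subgroup.normalizer (N : Set H) := CfsgLib.Core.le_normalizer_commutator_left Fs Y
  have hNs : N.IsSubnormal := Subgroup.IsSubnormal.step N Fs hNF hFn.isSubnormal
    ((Subgroup.normal_subgroupOf_iff_le_normalizer hNF).mpr hNn)
  refine ⟨fun K hK hYK => ?_, fun Y₀ hY₀ h => ?_⟩
  · -- `N ≤ K`
    have hNK : N ≤ K := by
      have aux : ∀ X : Subgroup H, X.IsSubnormal → Y ≤ X → N ≤ X := by
        intro X hX
        induction hX with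
        | top => exact fun _ => le_top
        | step A B hAB hB hn ih =>
          intro hYA
          refine hA.2.le.trans ?_
          refine (Subgroup.commutator_mono (ih (hYA.trans hAB)) hYA).trans ?_
          exact Subgroup.commutator_le.mpr fun b hb a ha => by
            rw [commutatorElement_def]
            exact mul_mem ((Subgroup.mem_normalizer_iff.mp
              ((Subgroup.normal_subgroupOf_iff_le_normalizer hAB).mp hn hb) a).mp ha) (inv_mem ha)
      exact aux K hK hYK
    set FK := (Cfsg.generalizedFittingSubgroup ↥K).map K.subtype with hFK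
    -- `F*(K) ≤ F*(H)`
    have hle : FK ≤ Fs := by
      rw [hFK, Cfsg.generalizedFittingSubgroup, Subgroup.map_sup]
      refine sup_le ?_ ?_
      · rw [Cfsg.layer, sSup_eq_iSup', Subgroup.map_iSup]
        exact iSup_le fun ⟨C, hC⟩ => le_sup_of_le_left (CfsgLib.Core.component_le_layer
          (CfsgLib.Core.isComponent_map_subtype hK hC))
      · refine le_sup_of_le_right (CfsgLib.Core.le_fittingSubgroup_of_isSubnormal ?_ ?_)
        · exact (CfsgLib.Core.normal_fittingSubgroup.isSubnormal).trans' hK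
        · exact Group.nilpotent_of_mulEquiv (_h := CfsgLib.Core.isNilpotent_fittingSubgroup)
            ((Cfsg.fittingSubgroup ↥K).equivMapOfInjective _ K.subtype_injective)
    have hNFK : N ≤ FK := by
      refine (CfsgLib.Local.FStar.decomp hNs hNF).trans (sup_le ?_ (sSup_le fun C hC => ?_))
      · rw [hFK, Cfsg.generalizedFittingSubgroup, Subgroup.map_sup]
        refine le_sup_of_le_right ?_
        rw [← Subgroup.map_subgroupOf_eq_of_le (inf_le_left.trans hNK : N ⊓ Cfsg.fittingSubgroup H ≤ K)]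
        refine Subgroup.map_mono (CfsgLib.Core.le_fittingSubgroup_of_isSubnormal ?_ ?_)
        · haveI := CfsgLib.Core.normal_fittingSubgroup (G := H)
          have h1 : (N ⊓ Cfsg.fittingSubgroup H).IsSubnormal :=
            Subgroup.IsSubnormal.step _ N inf_le_left hNs
              ((Subgroup.normal_subgroupOf_iff_le_normalizer inf_le_left).mpr
                (CfsgLib.Core.le_normalizer_inf Subgroup.le_normalizer (le_top.trans (Subgroup.normalizer_eq_top _).ge)))
          exact h1.subgroupOf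
        · haveI := CfsgLib.Core.isNilpotent_fittingSubgroup (G := H)
          haveI : Group.IsNilpotent ↥(N ⊓ Cfsg.fittingSubgroup H) :=
            Group.nilpotent_of_mulEquiv (Subgroup.subgroupOfEquivOfLe inf_le_right :
              (N ⊓ Cfsg.fittingSubgroup H).subgroupOf (Cfsg.fittingSubgroup H) ≃* _)
          exact Group.nilpotent_of_mulEquiv (Subgroup.subgroupOfEquivOfLe (inf_le_left.trans hNK)).symm
      · rw [hFK, Cfsg.generalizedFittingSubgroup, Subgroup.map_sup,
          ← Subgroup.map_subgroupOf_eq_of_le (hC.2.trans hNK)]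
        exact le_sup_of_le_left (Subgroup.map_mono
          (CfsgLib.Core.component_le_layer (CfsgLib.Core.IsComponent_subgroupOf hC.1 (hC.2.trans hNK))))
    have hsnFK : FK.IsSubnormal :=
      ((CfsgLib.Core.normal_generalizedFittingSubgroup (G := ↥K)).isSubnormal).trans' hK
    have hYn : Y ≤ Subgroup.normalizer (FK : Set H) := by
      refine hYK.trans (CfsgLib.Core.le_normalizer_iff_forall.mpr fun k hk v hv => ?_)
      obtain ⟨x, hx, rfl⟩ := hv
      exact ⟨_, (CfsgLib.Core.normal_generalizedFittingSubgroup (G := ↥K)).conj_mem x hx ⟨k, hk⟩, rfl⟩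
    refine ⟨le_antisymm ?_ (Subgroup.commutator_mono hle le_rfl), (hact FK hsnFK hle hYn).2⟩
    refine hA.2.le.trans ?_
    exact Subgroup.commutator_mono hNFK le_rfl
  · -- faithfulness
    have h1 : Y₀ ≤ Subgroup.centralizer (Fs : Set H) := by
      rw [Subgroup.le_centralizer_iff, ← hA.1]
      exact sup_le (Subgroup.commutator_eq_bot_iff_le_centralizer.mp h)
        (inf_le_right.trans (Subgroup.centralizer_le (SetLike.coe_subset_coe.mpr hY₀)))
    rw [eq_bot_iff, ← hO]
    have h2 : Y₀ ≤ Fs ⊓ Subgroup.centralizer (Fs : Set H) :=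
      le_inf (h1.trans CfsgLib.Core.centralizer_generalizedFitting_le) h1
    refine CfsgLib.Core.le_pCore_of_isSubnormal ?_ (hY.to_le hY₀)
    haveI : (Fs ⊓ Subgroup.centralizer (Fs : Set H)).Normal := inferInstance
    refine Subgroup.IsSubnormal.step _ _ h2 this.isSubnormal
      ((Subgroup.normal_subgroupOf_iff_le_normalizer h2).mpr ?_)
    intro g hg
    refine Subgroup.centralizer_le_normalizer _ (Subgroup.mem_centralizer_iff.mpr fun x hx => ?_)
    exact Subgroup.mem_centralizer_iff.mp (Subgroup.mem_inf.mp hg).2 x ((h2 hx).1)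

end Cfsg.Agent.S2816
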