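import Cfsg.Statements.S2817
import Cfsg.Agent.Lib.LocalFStarAction
import Cfsg.Agent.Lib.CoreCoprime2
import Cfsg.Agent.Lib.CoreGen

set_option autoImplicit false
open Cfsg
open scoped commutatorElement

namespace Cfsg.Agent.S2817

/-- Let H be a finite group and p a prime with O_p(H) = 1, Q a p-subgroup of H, L = [F*(H), Q], and F the largest normal subgroup of F*(H) centralized by Q (a normal subgroup of F*(H) centralized by Q and containing every such). Then F = C_{F*(H)}(LQ); L = [L, Q]; L ∩ F ≤ Φ(L); every p-subgroup B of N_H(Q) with [L, B] ≤ F satisfies [L, B] = 1; and C_H(FL) has order prime to p. -/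
theorem result {H : Type*} [Group H] [Finite H] {p : ℕ} [Fact p.Prime] (hO : Cfsg.pCore p H = ⊥) (Q : Subgroup H) (hQ : IsPGroup p ↥Q) (L : Subgroup H) (hL : L = ⁅Cfsg.generalizedFittingSubgroup H, Q⁆) (F : Subgroup H) (hF : F ≤ Cfsg.generalizedFittingSubgroup H ∧ Cfsg.generalizedFittingSubgroup H ≤ Subgroup.normalizer (F : Set H) ∧ Q ≤ Subgroup.centralizer (F : Set H) ∧ ∀ N : Subgroup H, N ≤ Cfsg.generalizedFittingSubgroup H → Cfsg.generalizedFittingSubgroup H ≤ Subgroup.normalizer (N : Set H) → Q ≤ Subgroup.centralizer (N : Set H) → N ≤ F) : F = Cfsg.generalizedFittingSubgroup H ⊓ Subgroup.centralizer ((L ⊔ Q : Subgroup H) : Set H) ∧ ⁅L, Q⁆ = L ∧ L ⊓ F ≤ (frattini ↥L).map L.subtype ∧ (∀ B : Subgroup H, IsPGroup p ↥B → B ≤ Subgroup.normalizer (Q : Set H) → ⁅L, B⁆ ≤ F → ⁅L, B⁆ = ⊥) ∧ (Nat.card ↥(Subgroup.centralizer ((F ⊔ L : Subgroup H) : Set H))).Coprime p := by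
  classical
  obtain ⟨hFle, hFsF, hQF, hFmax⟩ := hF
  set Fs := Cfsg.generalizedFittingSubgroup H with hFs
  haveI hFn : Fs.Normal := CfsgLib.Core.normal_generalizedFittingSubgroup
  have hnFs : ∀ X : Subgroup H, X ≤ Subgroup.normalizer (Fs : Set H) := fun X => by
    rw [Subgroup.normalizer_eq_top]; exact le_top
  have hA := CfsgLib.Local.FStar.action_subnormal hO hFn.isSubnormal le_rfl hQ (hnFs Q)
  rw [← hL] at hA
  obtain ⟨hA1, hA2⟩ := hA
  have hLle : L ≤ Fs := hL ▸ Subgroup.commutator_le_left Fs Q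
  have hFsL : Fs ≤ Subgroup.normalizer (L : Set H) :=
    hL ▸ CfsgLib.Core.le_normalizer_commutator_left Fs Q
  have hQL : Q ≤ Subgroup.normalizer (L : Set H) :=
    hL ▸ CfsgLib.Core.le_normalizer_commutator_right Fs Q
  have hLs : L.IsSubnormal := Subgroup.IsSubnormal.step L Fs hLle hFn.isSubnormal
    ((Subgroup.normal_subgroupOf_iff_le_normalizer hLle).mpr hFsL)
  -- `F = C_{F*}(LQ)`
  set C0 := Fs ⊓ Subgroup.centralizer ((L ⊔ Q : Subgroup H) : Set H) with hC0
  have hC0n : Fs ≤ Subgroup.normalizer (C0 : Set H) := by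
    rw [← hA1]
    refine sup_le ?_ ?_
    · refine le_trans ?_ (CfsgLib.Core.centralizer_le_normalizer _)
      rw [Subgroup.le_centralizer_iff]
      exact inf_le_right.trans (Subgroup.centralizer_le (SetLike.coe_subset_coe.mpr le_sup_left))
    · refine CfsgLib.Core.le_normalizer_inf (hnFs _) (CfsgLib.Core.le_normalizer_centralizer ?_)
      exact CfsgLib.Core.le_normalizer_sup (inf_le_left.trans hFsL)
        (inf_le_right.trans (CfsgLib.Core.centralizer_le_normalizer Q))
  have hQC0 : Q ≤ Subgroup.centralizer (C0 : Set H) := by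
    rw [Subgroup.le_centralizer_iff]
    exact inf_le_right.trans (Subgroup.centralizer_le (SetLike.coe_subset_coe.mpr le_sup_right))
  have hFL : ⁅L, F⁆ = ⊥ := by
    rw [hL]
    refine Subgroup.commutator_commutator_eq_bot_of_rotate ?_ ?_
    · rw [Subgroup.commutator_eq_bot_iff_le_centralizer.mpr hQF, Subgroup.commutator_bot_left]
    · refine le_bot_iff.mp (le_trans (Subgroup.commutator_mono (H₁ := ⁅F, Fs⁆) (K₁ := F) ?_ le_rfl) ?_)
      · rw [Subgroup.commutator_comm]
        exact CfsgLib.Core.commutator_le_of_le_normalizer hFsF |> fun h => by rwa [Subgroup.commutator_comm]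
      · rw [Subgroup.commutator_comm, Subgroup.commutator_eq_bot_iff_le_centralizer.mpr hQF]
  have hFC : F = C0 := le_antisymm
    (le_inf hFle (by
      rw [Subgroup.le_centralizer_iff]
      exact sup_le (Subgroup.commutator_eq_bot_iff_le_centralizer.mp hFL) hQF))
    (hFmax C0 inf_le_left hC0n hQC0)
  -- `L ⊓ F ≤ L'`
  have hLcomp : CfsgLib.Local.FStar.compIn L ≤ ⁅L, L⁆ := by
    rw [← CfsgLib.Local.FStar.compIn_perfect L]
    exact Subgroup.commutator_mono (CfsgLib.Local.FStar.compIn_le L) (CfsgLib.Local.FStar.compIn_le L)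
  have hZc : L ⊓ F ≤ Subgroup.centralizer (L : Set H) := by
    rw [Subgroup.le_centralizer_iff]
    exact (Subgroup.commutator_eq_bot_iff_le_centralizer.mp hFL).trans
      (Subgroup.centralizer_le (SetLike.coe_subset_coe.mpr inf_le_right))
  have hZL' : L ⊓ F ≤ ⁅L, L⁆ := by
    letI := Fintype.ofFinite Q
    let θ : ↥L →* Abelianization ↥L := Abelianization.of
    let c : Q → ↥L → ↥L := fun a x =>
      ⟨a * x * (a : H)⁻¹, (Subgroup.mem_normalizer_iff.mp (hQL a.2) _).mp x.2⟩
    let Nm : ↥L →* Abelianization ↥L :=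
      { toFun := fun x => ∏ a : Q, θ (c a x)
        map_one' := Finset.prod_eq_one fun a _ => by
          rw [show c a 1 = 1 from Subtype.ext (by simp [c]), map_one]
        map_mul' := fun x y => by
          rw [← Finset.prod_mul_distrib]
          exact Finset.prod_congr rfl fun a _ => by
            rw [← map_mul]; exact congrArg θ (Subtype.ext (by simp [c, mul_assoc])) }
    have hker : L ≤ Nm.ker.map L.subtype := by
      refine le_trans (hA2.le) (CfsgLib.Core.commutator_le_left_of fun x hx a ha => ?_)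
      have hm : x * a * x⁻¹ * a⁻¹ ∈ L := by
        have := mul_mem hx ((Subgroup.mem_normalizer_iff.mp (hQL ha) x⁻¹).mp (inv_mem hx))
        simpa [mul_assoc] using this
      refine ⟨⟨_, hm⟩, ?_, rfl⟩
      rw [SetLike.mem_coe, MonoidHom.mem_ker]
      have h1 : (⟨x * a * x⁻¹ * a⁻¹, hm⟩ : ↥L) = ⟨x, hx⟩ * (c ⟨a, ha⟩ ⟨x, hx⟩)⁻¹ :=
        Subtype.ext (by simp [c, mul_assoc])
      have h2 : Nm (c ⟨a, ha⟩ ⟨x, hx⟩) = Nm ⟨x, hx⟩ := by
        refine Fintype.prod_equiv (Equiv.mulRight ⟨a, ha⟩) _ _ fun b => ?_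
        exact congrArg θ (Subtype.ext (by simp [c, mul_assoc]))
      rw [h1, map_mul, map_inv, h2, mul_inv_cancel]
    intro z hz
    obtain ⟨z', hz', hzz⟩ := hker hz.1
    have hNz : Nm z' = θ z' ^ Nat.card Q := by
      show ∏ a : Q, θ (c a z') = _
      rw [Finset.prod_eq_pow_card (b := θ z') fun a _ => congrArg θ (Subtype.ext ?_),
        Finset.card_univ, Nat.card_eq_fintype_card]
      show (a : H) * (z' : H) * (a : H)⁻¹ = z'
      have h' := Subgroup.mem_centralizer_iff.mp (hQF a.2) z (hz.2)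
      rw [show (z' : H) = z from hzz, ← h', mul_inv_cancel_right]
    -- `θ` factors through the `p'`-part
    set Lf := (L ⊓ Cfsg.fittingSubgroup H).subgroupOf L with hLf
    have hpre : z' ∈ Lf ⊔ commutator ↥L := by
      have h1 : (Lf ⊔ commutator ↥L).map L.subtype = (L ⊓ Cfsg.fittingSubgroup H) ⊔ ⁅L, L⁆ := by
        rw [Subgroup.map_sup, Subgroup.map_subgroupOf_eq_of_le inf_le_left, Subgroup.map_subtype_commutator]
      have h2 : (z' : H) ∈ (Lf ⊔ commutator ↥L).map L.subtype := by
        rw [h1]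
        exact ((CfsgLib.Local.FStar.decomp hLs hLle).trans (sup_le_sup le_rfl hLcomp)) z'.2
      exact (Subgroup.mem_map_iff_mem L.subtype_injective).mp h2
    obtain ⟨f, hf, k, hk, hfk⟩ := (Subgroup.mem_sup_of_normal_right).mp hpre
    have hθk : θ k = 1 := by
      rw [← MonoidHom.mem_ker, Abelianization.ker_of]; exact hk
    have hθz : θ z' = θ f := by rw [← hfk, map_mul, hθk, mul_one]
    have hord : (orderOf (θ f)).Coprime (Nat.card Q) := by
      have h1 : orderOf (θ f) ∣ Nat.card (Cfsg.fittingSubgroup H) := by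
        refine (orderOf_map_dvd θ f).trans ?_
        rw [← Subgroup.orderOf_coe]
        have hf' : (f : H) ∈ Cfsg.fittingSubgroup H := hf.2
        have := orderOf_dvd_natCard (⟨(f : H), hf'⟩ : Cfsg.fittingSubgroup H)
        rwa [Subgroup.orderOf_mk] at this
      obtain ⟨k, hk⟩ := IsPGroup.iff_card.mp hQ
      rw [hk]
      exact ((CfsgLib.Local.FStar.fitting_coprime hO).coprime_dvd_left h1).pow_right k
    have hNm1 : θ f ^ Nat.card Q = 1 := by rw [← hθz, ← hNz]; exact hz'
    have hθ1 : θ f = 1 := orderOf_eq_one_iff.mp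
      (Nat.eq_one_of_dvd_coprimes hord dvd_rfl (orderOf_dvd_of_pow_eq_one hNm1))
    have : z' ∈ commutator ↥L := by
      rw [← Abelianization.ker_of, MonoidHom.mem_ker]; exact hθz.trans hθ1
    rw [← hzz, ← Subgroup.map_subtype_commutator]
    exact ⟨z', this, rfl⟩
  have hLQ : ⁅L, Q⁆ = L := hA2.symm
  refine ⟨hFC, hLQ, ?_, ?_, ?_⟩
  · -- Frattini
    intro z hz
    refine ⟨⟨z, hz.1⟩, ?_, rfl⟩
    simp only [frattini, Order.radical, SetLike.mem_coe]
    rw [Subgroup.mem_iInf]
    intro M
    rw [Subgroup.mem_iInf]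
    intro hM
    by_contra hzM
    have htop : M ⊔ Subgroup.zpowers (⟨z, hz.1⟩ : ↥L) = ⊤ := by
      refine hM.2 _ (lt_of_le_of_ne le_sup_left fun e => hzM ?_)
      rw [e]; exact Subgroup.mem_sup_right (Subgroup.mem_zpowers _)
    have hcomm : commutator ↥L ≤ M := by
      rw [_root_.commutator_def, ← htop]
      refine (CfsgLib.Local.FStar.commutator_sup_self ?_).trans (sup_le (Subgroup.commutator_le_self M) ?_)
      · rw [Subgroup.zpowers_le]
        exact Subgroup.mem_centralizer_iff.mpr fun m _ => Subtype.ext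
          (Subgroup.mem_centralizer_iff.mp (hZc hz) m m.2)
      · rw [Subgroup.commutator_eq_bot_iff_le_centralizer.mpr (Subgroup.le_centralizer _)]
        exact bot_le
    apply hzM
    apply hcomm
    have := hZL' hz
    rw [← Subgroup.map_subtype_commutator] at this
    obtain ⟨w, hw, hwz⟩ := this
    rwa [show (⟨z, hz.1⟩ : ↥L) = w from Subtype.ext hwz.symm]
  · intro B hB hBQ hLB
    have hBL : B ≤ Subgroup.normalizer (L : Set H) :=
      hL ▸ CfsgLib.Core.le_normalizer_commutator (hnFs B) hBQ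
    have hAB := (CfsgLib.Local.FStar.action_subnormal hO hLs hLle hB hBL).2
    have hBZ : ⁅L, B⁆ ≤ L ⊓ F := le_inf (CfsgLib.Core.commutator_le_of_le_normalizer hBL) hLB
    have h1 : ⁅⁅L, B⁆, L⁆ = ⊥ :=
      Subgroup.commutator_eq_bot_iff_le_centralizer.mpr (hBZ.trans hZc)
    have h2 : ⁅⁅B, L⁆, L⁆ = ⊥ := by rwa [Subgroup.commutator_comm B L]
    have h3 : ⁅⁅L, L⁆, B⁆ = ⊥ := Subgroup.commutator_commutator_eq_bot_of_rotate h1 h2
    rw [hAB, ← le_bot_iff, ← h3]
    exact Subgroup.commutator_mono (hBZ.trans hZL') le_rfl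
  · refine Nat.Coprime.symm ((Nat.Prime.coprime_iff_not_dvd (Fact.out : p.Prime)).mpr fun hdvd => ?_)
    obtain ⟨⟨b, hb⟩, hbo⟩ := exists_prime_orderOf_dvd_card' p hdvd
    rw [Subgroup.orderOf_mk] at hbo
    set B := Subgroup.zpowers b with hBdef
    have hBp : IsPGroup p B := IsPGroup.of_card (n := 1) (by rw [hBdef, Nat.card_zpowers, hbo, pow_one])
    have hBc : B ≤ Subgroup.centralizer ((F ⊔ L : Subgroup H) : Set H) := Subgroup.zpowers_le.mpr hb
    set X := Fs ⊓ Subgroup.centralizer (L : Set H) with hX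
    have hXn : Fs ≤ Subgroup.normalizer (X : Set H) :=
      CfsgLib.Core.le_normalizer_inf (hnFs Fs) (CfsgLib.Core.le_normalizer_centralizer hFsL)
    have hXs : X.IsSubnormal := Subgroup.IsSubnormal.step X Fs inf_le_left hFn.isSubnormal
      ((Subgroup.normal_subgroupOf_iff_le_normalizer inf_le_left).mpr hXn)
    have hX1 := (CfsgLib.Local.FStar.action_subnormal hO hXs inf_le_left hQ
      (CfsgLib.Core.le_normalizer_inf (hnFs Q) (CfsgLib.Core.le_normalizer_centralizer hQL))).1
    have hBX : X ≤ Subgroup.centralizer (B : Set H) := by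
      rw [← hX1]
      refine sup_le ?_ ?_
      · refine le_trans ?_ (Subgroup.le_centralizer_iff.mp (hBc.trans (Subgroup.centralizer_le (SetLike.coe_subset_coe.mpr le_sup_right))))
        rw [hL]
        exact Subgroup.commutator_mono inf_le_left le_rfl
      · refine le_trans ?_ (Subgroup.le_centralizer_iff.mp (hBc.trans (Subgroup.centralizer_le (SetLike.coe_subset_coe.mpr le_sup_left))))
        rw [hFC, hC0]
        refine le_inf (inf_le_left.trans inf_le_left) ?_
        rw [Subgroup.le_centralizer_iff]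
        exact sup_le (Subgroup.le_centralizer_iff.mp (inf_le_left.trans inf_le_right))
          (Subgroup.le_centralizer_iff.mp inf_le_right)
    have hBL0 : ⁅B, L⁆ = ⊥ := Subgroup.commutator_eq_bot_iff_le_centralizer.mpr
      (hBc.trans (Subgroup.centralizer_le (SetLike.coe_subset_coe.mpr le_sup_right)))
    have h1 : ⁅⁅Fs, B⁆, L⁆ = ⊥ := by
      refine Subgroup.commutator_commutator_eq_bot_of_rotate ?_ ?_
      · rw [hBL0, Subgroup.commutator_bot_left]
      · refine le_bot_iff.mp ?_
        rw [← hBL0, Subgroup.commutator_comm B L]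
        refine Subgroup.commutator_mono ?_ le_rfl
        rw [Subgroup.commutator_comm]
        exact Subgroup.commutator_le.mpr fun f hf x hx => by
          rw [commutatorElement_def]
          exact mul_mem ((Subgroup.mem_normalizer_iff.mp (hFsL hf) x).mp hx) (inv_mem hx)
    have hFB := (CfsgLib.Local.FStar.action_subnormal hO hFn.isSubnormal le_rfl hBp (hnFs B)).2
    have h2 : ⁅Fs, B⁆ = ⊥ := by
      rw [hFB, ← le_bot_iff, ← Subgroup.commutator_eq_bot_iff_le_centralizer.mpr hBX]
      exact Subgroup.commutator_mono (le_inf (Subgroup.commutator_le_left Fs B)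
        (Subgroup.commutator_eq_bot_iff_le_centralizer.mp h1)) le_rfl
    have h3 : B ≤ Subgroup.centralizer (Fs : Set H) := CfsgLib.Core.centralizes_of_commutator_eq_bot h2
    have h4 : B ≤ Fs ⊓ Subgroup.centralizer (Fs : Set H) :=
      le_inf (h3.trans CfsgLib.Core.centralizer_generalizedFitting_le) h3
    have h5 : B.IsSubnormal := by
      have hN : (Fs ⊓ Subgroup.centralizer (Fs : Set H)).Normal := inferInstance
      refine Subgroup.IsSubnormal.step _ _ h4 hN.isSubnormal
        ((Subgroup.normal_subgroupOf_iff_le_normalizer h4).mpr ?_)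
      intro g hg
      exact Subgroup.centralizer_le_normalizer _ (Subgroup.mem_centralizer_iff.mpr fun x hx =>
        Subgroup.mem_centralizer_iff.mp (Subgroup.mem_inf.mp hg).2 x ((h4 hx).1))
    have h6 := CfsgLib.Core.le_pCore_of_isSubnormal h5 hBp (Subgroup.mem_zpowers b)
    rw [hO, Subgroup.mem_bot] at h6
    rw [h6, orderOf_one] at hbo
    exact (Fact.out : p.Prime).ne_one hbo.symm

end Cfsg.Agent.S2817
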