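import Cfsg.Statements.S2818
import Cfsg.Agent.Lib.CorePGroup

set_option autoImplicit false
open Cfsg

namespace Cfsg.Agent.S2818

/-- Let P be a finite p-subgroup of a group G and H a subgroup of N_G(P) with [P, H] ≤ Ω₁(Z(P)) (the elements of order dividing p in the centre of P). Then H centralizes the Frattini subgroup of P. -/
theorem result {G : Type*} [Group G] [Finite G] {p : ℕ} [Fact p.Prime] (P : Subgroup G) (hP : IsPGroup p ↥P) (H : Subgroup G) (hH : H ≤ Subgroup.normalizer (P : Set G)) (h : ⁅P, H⁆ ≤ Cfsg.omegaOne p (P ⊓ Subgroup.centralizer (P : Set G))) : ⁅(frattini ↥P).map P.subtype, H⁆ = ⊥ := by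
  open scoped commutatorElement in
  rw [Subgroup.commutator_eq_bot_iff_le_centralizer]
  intro x hx g hh
  obtain ⟨x, hxP, rfl⟩ := hx
  set W := Cfsg.omegaOne p (P ⊓ Subgroup.centralizer (P : Set G)) with hW
  have hWle : W ≤ P ⊓ Subgroup.centralizer (P : Set G) :=
    (Subgroup.closure_le _).mpr fun y hy => hy.1
  have hWc : ∀ w ∈ W, ∀ y ∈ P, w * y = y * w := fun w hw y hy =>
    (Subgroup.mem_centralizer_iff.mp (Subgroup.mem_inf.mp (hWle hw)).2 y hy).symm
  have hWp : ∀ w ∈ W, w ^ p = 1 := by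
    intro w hw
    induction hw using Subgroup.closure_induction with
    | mem y hy => exact hy.2
    | one => exact one_pow p
    | mul a b ha hb iha ihb =>
      have hc : Commute a b := hWc a ha b (Subgroup.mem_inf.mp (hWle hb)).1
      rw [hc.mul_pow, iha, ihb, one_mul]
    | inv a _ iha => rw [inv_pow, iha, inv_one]
  have hmem : ∀ y : ↥P, (y : G) * g * (y : G)⁻¹ * g⁻¹ ∈ W := fun y =>
    h (Subgroup.commutator_mem_commutator y.2 hh)
  let c : ↥P →* ↥W :=
    { toFun := fun y => ⟨(y : G) * g * (y : G)⁻¹ * g⁻¹, hmem y⟩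
      map_one' := by simp
      map_mul' := fun a b => Subtype.ext (by
        show (a : G) * b * g * ((a : G) * b)⁻¹ * g⁻¹ =
          ((a : G) * g * (a : G)⁻¹ * g⁻¹) * ((b : G) * g * (b : G)⁻¹ * g⁻¹)
        set u := (b : G) * g * (b : G)⁻¹ * g⁻¹ with hu
        have hua : u * (a : G) = (a : G) * u := hWc u (hmem b) a a.2
        set v := (a : G) * g * (a : G)⁻¹ * g⁻¹ with hv
        have huv : u * v = v * u := hWc u (hmem b) v (Subgroup.mem_inf.mp (hWle (hmem a))).1
        calc (a : G) * b * g * ((a : G) * b)⁻¹ * g⁻¹ = ((a : G) * u) * (a : G)⁻¹ * v := by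
              rw [hu, hv]; group
          _ = u * v := by rw [← hua]; group
          _ = v * u := huv) }
  have hker : frattini ↥P ≤ c.ker := by
    haveI : c.ker.Normal := MonoidHom.normal_ker c
    refine CfsgLib.Core.frattini_le_of_elementary (p := p) ?_ ?_
    · show ⁅(⊤ : Subgroup ↥P), ⊤⁆ ≤ c.ker
      rw [Subgroup.commutator_le]
      intro a _ b _
      rw [MonoidHom.mem_ker, map_commutatorElement, commutatorElement_eq_one_iff_mul_comm]
      exact Subtype.ext (hWc _ (c a).2 _ (Subgroup.mem_inf.mp (hWle (c b).2)).1)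
    · intro a
      rw [MonoidHom.mem_ker, map_pow]
      exact Subtype.ext (hWp _ (c a).2)
  have h1 := congrArg Subtype.val (MonoidHom.mem_ker.mp (hker hxP))
  change (x : G) * g * (x : G)⁻¹ * g⁻¹ = 1 at h1
  rw [mul_inv_eq_one, mul_inv_eq_iff_eq_mul] at h1
  exact h1.symm

end Cfsg.Agent.S2818
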