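import Cfsg.Statements.S2819
import Cfsg.Agent.Lib.CoreCoprime
import Cfsg.Agent.Lib.CoreGen
import Cfsg.Agent.Lib.CorePGroup
import Cfsg.Agent.Lib.CoreBasic

set_option autoImplicit false
open Cfsg
open scoped commutatorElement Pointwise

namespace Cfsg.Agent.S2819

/-- Let P be a finite p-subgroup of a group G, H a subgroup of N_G(P), and Y a subgroup of H centralizing the derived subgroup P' such that [P, Y] is elementary abelian. Then O^p(⟨Y^H⟩), the subgroup of the normal closure of Y in H generated by its elements of order prime to p, centralizes the Frattini subgroup of P. -/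
theorem result {G : Type*} [Group G] [Finite G] {p : ℕ} [Fact p.Prime] (P : Subgroup G) (hP : IsPGroup p ↥P) (H : Subgroup G) (hH : H ≤ Subgroup.normalizer (P : Set G)) (Y : Subgroup G) (hYH : Y ≤ H) (hYc : Y ≤ Subgroup.centralizer ((⁅P, P⁆ : Subgroup G) : Set G)) (hel : Cfsg.IsElementaryAbelian p ⁅P, Y⁆) (NY : Subgroup G) (hNY : NY = (Subgroup.normalClosure ((Y.subgroupOf H : Subgroup ↥H) : Set ↥H)).map H.subtype) : (Cfsg.pResidual p ↥NY).map NY.subtype ≤ Subgroup.centralizer (((frattini ↥P).map P.subtype : Subgroup G) : Set G) := by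
  classical
  set Φ := (frattini ↥P).map P.subtype with hΦ
  have hΦP : Φ ≤ P := Subgroup.map_subtype_le _
  have hDΦ : ⁅P, P⁆ ≤ Φ := by
    rw [← Subgroup.map_subtype_commutator]
    exact Subgroup.map_mono (CfsgLib.Core.pgroup_commutator_le_frattini hP)
  set D := (⁅P, P⁆ : Subgroup G) with hD
  have hnD : ∀ h : G, h ∈ Subgroup.normalizer (P : Set G) → h ∈ Subgroup.normalizer (D : Set G) :=
    fun h hh => CfsgLib.Core.le_normalizer_commutator (C := Subgroup.normalizer (P : Set G)) le_rfl le_rfl hh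
  have hYP : Y ≤ Subgroup.normalizer (P : Set G) := hYH.trans hH
  have hnΦ : Subgroup.normalizer (P : Set G) ≤ Subgroup.normalizer (Φ : Set G) := by
    refine CfsgLib.Core.le_normalizer_iff_forall.mpr fun h hh v hv => ?_
    obtain ⟨x, hx, rfl⟩ := hv
    haveI : (frattini ↥P).Characteristic := inferInstance
    let a : MulAut ↥P := P.normalizerMonoidHom ⟨h, hh⟩
    exact ⟨a x, (Subgroup.characteristic_iff_map_eq.mp inferInstance a).le ⟨x, hx, rfl⟩, rfl⟩
  -- the subgroup stabilising `1 ≤ P' ≤ Φ(P)`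
  let T : Subgroup G :=
    { carrier := {h | h ∈ Subgroup.normalizer (P : Set G) ∧ h ∈ Subgroup.centralizer (D : Set G) ∧
        ∀ v ∈ Φ, ⁅h, v⁆ ∈ D}
      one_mem' := ⟨one_mem _, one_mem _, fun v _ => by simp⟩
      mul_mem' := by
        rintro a b ⟨ha, ha', ha''⟩ ⟨hb, hb', hb''⟩
        refine ⟨mul_mem ha hb, mul_mem ha' hb', fun v hv => ?_⟩
        rw [show ⁅a * b, v⁆ = a * ⁅b, v⁆ * a⁻¹ * ⁅a, v⁆ by simp only [commutatorElement_def]; group]
        exact mul_mem ((Subgroup.mem_normalizer_iff.mp (hnD a ha) _).mp (hb'' v hv)) (ha'' v hv)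
      inv_mem' := by
        rintro a ⟨ha, ha', ha''⟩
        refine ⟨inv_mem ha, inv_mem ha', fun v hv => ?_⟩
        rw [show ⁅a⁻¹, v⁆ = a⁻¹ * ⁅a, v⁆⁻¹ * a⁻¹⁻¹ by simp only [commutatorElement_def]; group]
        exact (Subgroup.mem_normalizer_iff.mp (hnD _ (inv_mem ha)) _).mp (inv_mem (ha'' v hv)) }
  have hYT : Y ≤ T := by
    intro y hy
    refine ⟨hYP hy, hYc hy, ?_⟩
    -- `x ↦ x ^ p` modulo the derived group
    let θ : ↥P →* Abelianization ↥P := Abelianization.of
    let a : MulAut ↥P := P.normalizerMonoidHom ⟨y, hYP hy⟩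
    have hac : ∀ x : ↥P, ((a x : ↥P) : G) = y * x * y⁻¹ := fun x => rfl
    let K : Subgroup ↥P := MonoidHom.eqLocus (θ.comp a.toMonoidHom) θ
    have hK : frattini ↥P ≤ K := by
      refine CfsgLib.Core.frattini_le_of_elementary (p := p) ?_ fun x => ?_
      · rw [_root_.commutator_def, Subgroup.commutator_le]
        intro u _ v _
        show θ (a ⁅u, v⁆) = θ ⁅u, v⁆
        rw [map_commutatorElement, map_commutatorElement, map_commutatorElement,
          commutatorElement_eq_one_iff_mul_comm.mpr (mul_comm _ _),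
          commutatorElement_eq_one_iff_mul_comm.mpr (mul_comm _ _)]
      · show θ (a (x ^ p)) = θ (x ^ p)
        have hc : (x : G) * y * (x : G)⁻¹ * y⁻¹ ∈ ⁅P, Y⁆ := by
          rw [← commutatorElement_def]; exact Subgroup.commutator_mem_commutator x.2 hy
        have hcP : (x : G) * y * (x : G)⁻¹ * y⁻¹ ∈ P := by
          have := mul_mem x.2 ((Subgroup.mem_normalizer_iff.mp (hYP hy) _).mp (inv_mem x.2))
          simpa [mul_assoc] using this
        have heq : a x = (⟨_, hcP⟩ : ↥P)⁻¹ * x := by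
          refine Subtype.ext ?_
          rw [hac]
          show y * x * y⁻¹ = ((x : G) * y * (x : G)⁻¹ * y⁻¹)⁻¹ * x
          group
        have hpow : (⟨_, hcP⟩ : ↥P) ^ p = 1 := Subtype.ext (hel.2 _ hc)
        rw [map_pow, map_pow, map_pow, heq, map_mul, mul_pow, map_inv, inv_pow, ← map_pow θ (⟨_, hcP⟩ : ↥P) p, hpow, map_one,
          inv_one, one_mul]
    intro v hv
    obtain ⟨x, hx, rfl⟩ := hv
    have h1 : θ (a x) = θ x := hK hx
    have h2 : a x * x⁻¹ ∈ commutator ↥P := by
      rw [← Abelianization.ker_of, MonoidHom.mem_ker, map_mul, map_inv, h1, mul_inv_cancel]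
    rw [hD, ← Subgroup.map_subtype_commutator]
    refine ⟨_, h2, ?_⟩
    rw [map_mul, map_inv, commutatorElement_def]
    rfl
  have hTn : H ≤ Subgroup.normalizer (T : Set G) := by
    refine CfsgLib.Core.le_normalizer_iff_forall.mpr fun h hh t ht => ?_
    obtain ⟨ht1, ht2, ht3⟩ := ht
    refine ⟨mul_mem (mul_mem (hH hh) ht1) (inv_mem (hH hh)), ?_, fun v hv => ?_⟩
    · exact (Subgroup.mem_normalizer_iff.mp
        (CfsgLib.Core.le_normalizer_centralizer (fun g hg => hnD g (hH hg)) hh) t).mp ht2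
    · have h3 := ht3 (h⁻¹ * v * h) ((Subgroup.mem_normalizer_iff''.mp (hnΦ (hH hh)) v).mp hv)
      rw [show ⁅h * t * h⁻¹, v⁆ = h * ⁅t, h⁻¹ * v * h⁆ * h⁻¹ by simp only [commutatorElement_def]; group]
      exact (Subgroup.mem_normalizer_iff.mp (hnD h (hH hh)) _).mp h3
  have hNT : NY ≤ T := by
    rw [hNY, Subgroup.map_le_iff_le_comap]
    haveI : (T.comap H.subtype).Normal := by
      refine ⟨fun n hn g => ?_⟩
      exact (Subgroup.mem_normalizer_iff.mp (hTn g.2) n).mp hn
    exact Subgroup.normalClosure_le_normal (fun x hx => hYT hx)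
  rw [Subgroup.map_le_iff_le_comap]
  refine (Subgroup.closure_le _).mpr fun a ha => ?_
  show (a : G) ∈ Subgroup.centralizer (Φ : Set G)
  have hA := hNT a.2
  set A := Subgroup.zpowers (a : G) with hAdef
  have hΦp : IsPGroup p Φ := hP.to_le hΦP
  have hcop : (Nat.card A).Coprime (Nat.card Φ) := by
    obtain ⟨k, hk⟩ := IsPGroup.iff_card.mp hΦp
    rw [hk, hAdef, Nat.card_zpowers, Subgroup.orderOf_coe]
    exact Nat.Coprime.pow_right k ha
  refine CfsgLib.Core.le_centralizer_of_stabilizes (A := A) (Subgroup.zpowers_le.mpr (hnΦ hA.1)) hcop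
    (Or.inr (by haveI := hΦp.isNilpotent; infer_instance)) ?_ (Subgroup.mem_zpowers (a : G))
  rw [Subgroup.commutator_eq_bot_iff_le_centralizer, Subgroup.le_centralizer_iff]
  refine le_trans ?_ (Subgroup.centralizer_le (SetLike.coe_subset_coe.mpr (le_refl _)))
  rw [Subgroup.le_centralizer_iff]
  refine (Subgroup.commutator_comm Φ A).le.trans ?_ |> fun h => h.trans (Subgroup.le_centralizer_iff.mp (Subgroup.zpowers_le.mpr hA.2.1))
  refine Subgroup.commutator_le.mpr fun x hx v hv => ?_
  have hAT : A ≤ T := Subgroup.zpowers_le.mpr hA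
  exact (hAT hx).2.2 v hv

end Cfsg.Agent.S2819
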