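import Cfsg.Statements.S2820
import Cfsg.Agent.Lib.CoreSubnormal

set_option autoImplicit false
open Cfsg

namespace Cfsg.Agent.S2820

/-- Let A and B be subnormal subgroups of the finite group H with A a p-group and B = O^p(B) (B generated by its elements of order prime to p). Then A normalizes B and B = O^p(AB), the subgroup of ⟨A, B⟩ generated by its elements of order prime to p. -/
theorem result {H : Type*} [Group H] [Finite H] {p : ℕ} [Fact p.Prime] (A B : Subgroup H) (hA : A.IsSubnormal) (hB : B.IsSubnormal) (hAp : IsPGroup p ↥A) (hBres : (Cfsg.pResidual p ↥B).map B.subtype = B) : A ≤ Subgroup.normalizer (B : Set H) ∧ (Cfsg.pResidual p ↥(A ⊔ B)).map (A ⊔ B).subtype = B := by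
  set R := Cfsg.pCore p H with hR
  haveI hRn : R.Normal := CfsgLib.Core.normal_pCore p
  have hRp : IsPGroup p ↥R := CfsgLib.Core.isPGroup_pCore p
  have hAR : A ≤ R := CfsgLib.Core.le_pCore_of_isSubnormal hA hAp
  -- `p'`-elements of a `p`-extension of a subnormal subgroup lie in it
  have key : ∀ (n : ℕ) (M : Subgroup H), Nat.card ↥M = n → B ≤ M →
      (B.subgroupOf M).IsSubnormal → M ≤ B ⊔ R →
      ∀ x ∈ M, (orderOf x).Coprime p → x ∈ B := by
    intro n
    induction n using Nat.strong_induction_on with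
    | _ n ih =>
    intro M hn hBM hsn hMR x hxM hcop
    subst hn
    rcases hsn.lt_normal with h | ⟨K, hK, hBK, hK'⟩
    · exact Subgroup.subgroupOf_eq_top.mp h hxM
    haveI := hK
    have hKM : K.map M.subtype ≤ M := Subgroup.map_subtype_le K
    have hBK' : B ≤ K.map M.subtype := fun b hb =>
      ⟨⟨b, hBM hb⟩, hBK (Subgroup.mem_subgroupOf.mpr hb), rfl⟩
    have hlt : Nat.card ↥(K.map M.subtype) < Nat.card ↥M := by
      rw [Subgroup.card_subtype, ← K.card_mul_index]
      exact lt_mul_of_one_lt_right Nat.card_pos (Subgroup.one_lt_index_of_ne_top hK'.ne)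
    refine ih _ hlt (K.map M.subtype) rfl hBK'
      (CfsgLib.Core.isSubnormal_subgroupOf_mono hKM hsn) (hKM.trans hMR) x ?_ hcop
    refine ⟨⟨x, hxM⟩, ?_, rfl⟩
    rw [SetLike.mem_coe, ← QuotientGroup.eq_one_iff, ← orderOf_eq_one_iff]
    have hp' : IsPGroup p (↥M ⧸ K) := by
      intro q
      obtain ⟨m, rfl⟩ := QuotientGroup.mk'_surjective _ q
      obtain ⟨b, hb, r, hr, hbr⟩ := Subgroup.mem_sup_of_normal_right.mp (hMR m.2)
      have hrM : r ∈ M := by
        have : r = b⁻¹ * (m : H) := by rw [← hbr]; group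
        rw [this]; exact mul_mem (inv_mem (hBM hb)) m.2
      obtain ⟨k, hk⟩ := hRp ⟨r, hr⟩
      refine ⟨k, ?_⟩
      have hm : m = ⟨b, hBM hb⟩ * ⟨r, hrM⟩ := Subtype.ext hbr.symm
      rw [hm, map_mul, show QuotientGroup.mk' K (⟨b, hBM hb⟩ : ↥M) = 1 from
        (QuotientGroup.eq_one_iff _).mpr (hBK (Subgroup.mem_subgroupOf.mpr hb)), one_mul, ← map_pow]
      have hpow : ((⟨r, hrM⟩ : ↥M)) ^ p ^ k = 1 := by
        apply Subtype.ext
        simpa using congrArg Subtype.val hk
      rw [hpow, map_one]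
    obtain ⟨k, hk⟩ := hp' ((⟨x, hxM⟩ : ↥M) : ↥M ⧸ K)
    refine Nat.eq_one_of_dvd_coprimes (hcop.pow_right k) ?_ (orderOf_dvd_of_pow_eq_one hk)
    rw [← Subgroup.orderOf_mk x hxM]
    exact orderOf_map_dvd (QuotientGroup.mk' K) _
  have hmem : ∀ x ∈ B ⊔ R, (orderOf x).Coprime p → x ∈ B :=
    key _ _ rfl le_sup_left (hB.subgroupOf) le_rfl
  have hgen : Subgroup.closure {x : H | x ∈ B ∧ (orderOf x).Coprime p} = B := by
    conv_rhs => rw [← hBres, Cfsg.pResidual, MonoidHom.map_closure]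
    congr 1
    ext x
    constructor
    · rintro ⟨hx, hc⟩
      exact ⟨⟨x, hx⟩, (by show Nat.Coprime _ p; rwa [Subgroup.orderOf_mk]), rfl⟩
    · rintro ⟨y, hy, rfl⟩
      exact ⟨y.2, (by simpa [Subgroup.orderOf_coe] using hy)⟩
  have hnorm : ∀ a ∈ A, ∀ b ∈ B, a * b * a⁻¹ ∈ B := by
    intro a ha b hb
    have : B.map (MulAut.conj a).toMonoidHom ≤ B := by
      conv_lhs => rw [← hgen, MonoidHom.map_closure]
      rw [Subgroup.closure_le]
      rintro _ ⟨x, ⟨hxB, hxc⟩, rfl⟩
      refine hmem _ ?_ ?_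
      · have haM : a ∈ B ⊔ R := Subgroup.mem_sup_right (hAR ha)
        exact mul_mem (mul_mem haM (Subgroup.mem_sup_left hxB)) (inv_mem haM)
      · rwa [orderOf_injective _ (MulAut.conj a).injective]
    exact this ⟨b, hb, rfl⟩
  have hAN : A ≤ Subgroup.normalizer (B : Set H) := fun a ha => by
    rw [Subgroup.mem_normalizer_iff]
    intro b
    refine ⟨hnorm a ha b, fun h => ?_⟩
    have := hnorm a⁻¹ (inv_mem ha) _ h
    simpa [mul_assoc] using this
  refine ⟨hAN, le_antisymm ?_ ?_⟩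
  · rw [Cfsg.pResidual, MonoidHom.map_closure, Subgroup.closure_le]
    rintro _ ⟨y, hy, rfl⟩
    refine hmem _ (sup_le (hAR.trans le_sup_right) le_sup_left y.2) ?_
    simpa [Subgroup.orderOf_coe] using hy
  · conv_lhs => rw [← hgen]
    rw [Subgroup.closure_le]
    rintro x ⟨hx, hc⟩
    refine ⟨⟨x, Subgroup.mem_sup_right hx⟩, Subgroup.subset_closure ?_, rfl⟩
    show Nat.Coprime _ p
    rwa [Subgroup.orderOf_mk]

end Cfsg.Agent.S2820
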