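import Cfsg.Statements.S2821
import Cfsg.Agent.Lib.LocalPReducedParabolic

set_option autoImplicit false
open Cfsg

namespace Cfsg.Agent.S2821

/-- Let H be a finite group, p a prime, T a Sylow p-subgroup and L a subgroup of characteristic p containing T; let Y_L be the largest p-reduced normal subgroup of L (the join of the normal elementary abelian p-subgroups V of L with O_p(L/C_L(V)) = 1). Then T₀ := C_T(Y_L) is a Sylow p-subgroup of C_H(Y_L); moreover O_p(L) ≤ T₀ ≤ C_L(Y_L) and Ω₁(Z(T)) ≤ Z_L ≤ Y_L ≤ Ω₁(Z(O_p(L))), where Z_L is generated by the Ω₁(Z(S)) over the Sylow p-subgroups S of L. -/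
theorem result {H : Type*} [Group H] [Finite H] {p : ℕ} [Fact p.Prime] (T : Sylow p H) (L : Subgroup H) (hTL : (T : Subgroup H) ≤ L) (hL : Subgroup.centralizer (Cfsg.pCore p ↥L : Set ↥L) ≤ Cfsg.pCore p ↥L) (T₀ : Subgroup H) (hT₀ : T₀ = (T : Subgroup H) ⊓ Subgroup.centralizer (((Cfsg.largestPReducedOf p L) : Subgroup H) : Set H)) : (∃ P : Sylow p ↥(Subgroup.centralizer (((Cfsg.largestPReducedOf p L) : Subgroup H) : Set H)), (P : Subgroup ↥(Subgroup.centralizer (((Cfsg.largestPReducedOf p L) : Subgroup H) : Set H))) = T₀.subgroupOf (Subgroup.centralizer (((Cfsg.largestPReducedOf p L) : Subgroup H) : Set H))) ∧ (Cfsg.pCoreOf p L) ≤ T₀ ∧ T₀ ≤ L ⊓ Subgroup.centralizer (((Cfsg.largestPReducedOf p L) : Subgroup H) : Set H) ∧ (Cfsg.omegaOne p ((T : Subgroup H) ⊓ Subgroup.centralizer (((T : Subgroup H) : Subgroup H) : Set H))) ≤ Cfsg.sylowCenterClosure p L ∧ Cfsg.sylowCenterClosure p L ≤ (Cfsg.largestPReducedOf p L) ∧ (Cfsg.largestPReducedOf p L) ≤ (Cfsg.omegaOne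 p ((Cfsg.pCoreOf p L) ⊓ Subgroup.centralizer (((Cfsg.pCoreOf p L) : Subgroup H) : Set H))) := by
  have hY := CfsgLib.Local.PRed.red_largest (p := p) L
  have hTn : (T : Subgroup H) ≤ Subgroup.normalizer (Cfsg.largestPReducedOf p L : Set H) :=
    hTL.trans hY.normalized
  have hi := CfsgLib.Local.PRed.not_dvd_relIndex_of_le T hTL
  have hc := CfsgLib.Local.PRed.charP_of hL
  have hQT := CfsgLib.Local.PRed.pCoreOf_le_of_index hTL T.isPGroup' hi
  subst hT₀
  refine ⟨⟨(CfsgLib.Local.PRed.isPGroup_subgroupOf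
      (T.isPGroup'.to_le inf_le_left)).toSylow
      (CfsgLib.Local.PRed.sylow_centralizer T hTn), rfl⟩,
    le_inf hQT hY.pCoreOf_le_centralizer, inf_le_inf_right _ hTL, ?_, ?_, hY.le_oz⟩
  · refine le_iSup_of_le (T.subtype hTL) ?_
    rw [show ((T.subtype hTL : Sylow p ↥L) : Subgroup ↥L).map L.subtype = (T : Subgroup H) from
      Subgroup.map_subgroupOf_eq_of_le hTL]
  · refine iSup_le fun S => ?_
    refine CfsgLib.Local.PRed.oz_sylow_le_largest hc (Subgroup.map_subtype_le _)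
      (S.isPGroup'.map _) ?_
    rw [Subgroup.relIndex, Subgroup.subgroupOf, Subgroup.comap_map_eq_self_of_injective L.subtype_injective]
    exact S.not_dvd_index

end Cfsg.Agent.S2821
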