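import Cfsg.Statements.S2823
import Cfsg.Agent.Lib.LocalPReducedSubnormal

set_option autoImplicit false
open Cfsg
open scoped commutatorElement Pointwise

namespace Cfsg.Agent.S2823

/-- Let H be a finite group, p a prime, T a Sylow p-subgroup and L a subgroup of characteristic p containing T; let Z_L be the subgroup generated by the Ω₁(Z(S)) over the Sylow p-subgroups S of L and O^p(L) the subgroup generated by the elements of L of order prime to p. Then Z_L = Ω₁(Z(L))·[Z_L, O^p(L)] and [Z_L, L] = [Z_L, O^p(L)]. -/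
theorem result {H : Type*} [Group H] [Finite H] {p : ℕ} [Fact p.Prime] (T : Sylow p H) (L : Subgroup H) (hTL : (T : Subgroup H) ≤ L) (hL : Subgroup.centralizer (Cfsg.pCore p ↥L : Set ↥L) ≤ Cfsg.pCore p ↥L) : Cfsg.sylowCenterClosure p L = (Cfsg.omegaOne p (L ⊓ Subgroup.centralizer ((L : Subgroup H) : Set H))) ⊔ ⁅Cfsg.sylowCenterClosure p L, (Cfsg.pResidual p ↥L).map L.subtype⁆ ∧ ⁅Cfsg.sylowCenterClosure p L, L⁆ = ⁅Cfsg.sylowCenterClosure p L, (Cfsg.pResidual p ↥L).map L.subtype⁆ := by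
  rw [CfsgLib.Local.PRed.map_pResidual]
  set Z := Cfsg.sylowCenterClosure p L with hZ
  set O := CfsgLib.Local.PRed.ORes p L with hO
  have hY := CfsgLib.Local.PRed.red_largest (p := p) L
  have hc := CfsgLib.Local.PRed.charP_of hL
  have hi : ∀ S : Sylow p ↥L, ¬ p ∣ ((S : Subgroup ↥L).map L.subtype).relIndex L := by
    intro S
    rw [Subgroup.relIndex, Subgroup.subgroupOf,
      Subgroup.comap_map_eq_self_of_injective L.subtype_injective]
    exact S.not_dvd_index
  have hZY : Z ≤ Cfsg.largestPReducedOf p L := iSup_le fun S =>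
    CfsgLib.Local.PRed.oz_sylow_le_largest hc (Subgroup.map_subtype_le _) (S.isPGroup'.map _)
      (hi S)
  have hZel := CfsgLib.Local.PRed.elem_mono hY.elem hZY
  have hZn : L ≤ Subgroup.normalizer (Z : Set H) := by
    refine CfsgLib.Local.PRed.le_normalizer_of_conj fun a ha x hx => ?_
    have hle : Z ≤ Z.comap (MulAut.conj a).toMonoidHom := by
      refine iSup_le fun S y hy => ?_
      obtain ⟨h1, h2, h3⟩ := CfsgLib.Local.PRed.mem_oz.mp hy
      refine le_iSup (fun S : Sylow p ↥L => CfsgLib.Local.PRed.OZ p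
        ((S : Subgroup ↥L).map L.subtype)) ((⟨a, ha⟩ : ↥L) • S) ?_
      have hmap : (((⟨a, ha⟩ : ↥L) • S : Sylow p ↥L) : Subgroup ↥L).map L.subtype =
          MulAut.conj a • (S : Subgroup ↥L).map L.subtype :=
        (congrArg (Subgroup.map L.subtype) rfl).trans (CfsgLib.Core.map_conj_smul L.subtype _ _)
      show MulAut.conj a y ∈ CfsgLib.Local.PRed.OZ p _
      rw [hmap]
      refine CfsgLib.Local.PRed.mem_oz.mpr ⟨⟨y, h1, rfl⟩, Subgroup.mem_centralizer_iff.mpr ?_,
        by rw [← map_pow, h3, map_one]⟩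
      rintro _ ⟨s, hs, rfl⟩
      show MulAut.conj a s * MulAut.conj a y = MulAut.conj a y * MulAut.conj a s
      rw [← map_mul, ← map_mul, Subgroup.mem_centralizer_iff.mp h2 s hs]
    exact hle hx
  have hOn : L ≤ Subgroup.normalizer (O : Set H) :=
    CfsgLib.Local.PRed.oRes_normalized Subgroup.le_normalizer
  set M := (⁅Z, O⁆ : Subgroup H) with hM
  have hMn : L ≤ Subgroup.normalizer (M : Set H) :=
    CfsgLib.Local.PRed.commutator_normalized hZn hOn
  have hMZ : M ≤ Z :=
    CfsgLib.Core.commutator_le_of_le_normalizer ((CfsgLib.Local.PRed.oRes_le L).trans hZn)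
  have hA : Cfsg.omegaOne p (L ⊓ Subgroup.centralizer (L : Set H)) ≤ Z := by
    intro z hz
    obtain ⟨h1, h2, h3⟩ := CfsgLib.Local.PRed.mem_oz.mp hz
    have hzp : IsPGroup p ↥(Cfsg.omegaOne p (L ⊓ Subgroup.centralizer (L : Set H))) :=
      CfsgLib.Local.PRed.isPGroup_of_elem (CfsgLib.Local.PRed.elem_oz L)
    have hzQ : z ∈ Cfsg.pCoreOf p L := CfsgLib.Local.PRed.le_pCoreOf
      (CfsgLib.Local.PRed.oz_le L) (CfsgLib.Local.PRed.oz_normalized Subgroup.le_normalizer)
      hzp hz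
    refine le_iSup (fun S : Sylow p ↥L => CfsgLib.Local.PRed.OZ p
      ((S : Subgroup ↥L).map L.subtype)) (T.subtype hTL) ?_
    exact CfsgLib.Local.PRed.mem_oz.mpr
      ⟨(CfsgLib.Local.PRed.pCoreOf_le_of_index (Subgroup.map_subtype_le _)
        ((T.subtype hTL).isPGroup'.map _) (hi _)) hzQ,
        CfsgLib.Local.PRed.centralizer_antitone (Subgroup.map_subtype_le _) h2, h3⟩
  have hZle : Z ≤ Cfsg.omegaOne p (L ⊓ Subgroup.centralizer (L : Set H)) ⊔ M := by
    refine iSup_le fun S u hu => ?_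
    set S' := (S : Subgroup ↥L).map L.subtype with hS'
    have huZ : u ∈ Z := le_iSup (fun S : Sylow p ↥L => CfsgLib.Local.PRed.OZ p
      ((S : Subgroup ↥L).map L.subtype)) S hu
    have hcomm : ∀ g ∈ L, g * u * g⁻¹ * u⁻¹ ∈ M := by
      refine CfsgLib.Local.PRed.comm_mem_of_index hMn (Subgroup.map_subtype_le _) (hi S)
        (fun g hg => ?_) (fun x hx hxc => ?_)
      · rw [Subgroup.mem_centralizer_iff.mp (CfsgLib.Local.PRed.oz_le_centralizer S' hu) g hg]
        simp
      · rw [hM, Subgroup.commutator_comm]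
        exact Subgroup.commutator_mem_commutator (CfsgLib.Local.PRed.mem_oRes hx hxc) huZ
    obtain ⟨m, hm, hmV, hum⟩ := CfsgLib.Local.PRed.exists_avg (P := S') (M := M) hZel hZn
      (hi S) huZ (fun g hg => Subgroup.mem_centralizer_iff.mpr fun h hh => by
        rw [Set.mem_singleton_iff.mp hh]
        exact (Subgroup.mem_centralizer_iff.mp
          (CfsgLib.Local.PRed.oz_le_centralizer S' hu) g hg).symm) hcomm
    have humA : u * m ∈ Cfsg.omegaOne p (L ⊓ Subgroup.centralizer (L : Set H)) :=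
      CfsgLib.Local.PRed.mem_oz.mpr ⟨hY.le (hZY (Z.mul_mem huZ hmV)), hum,
        hZel.2 _ (Z.mul_mem huZ hmV)⟩
    have := Subgroup.mul_mem _ (Subgroup.mem_sup_left (T := M) humA)
      (Subgroup.mem_sup_right
        (S := Cfsg.omegaOne p (L ⊓ Subgroup.centralizer (L : Set H))) (M.inv_mem hm))
    simpa using this
  refine ⟨le_antisymm hZle (sup_le hA hMZ), le_antisymm ?_ ?_⟩
  · refine Subgroup.commutator_le.mpr fun z hz g hg => ?_
    have hAM : Cfsg.omegaOne p (L ⊓ Subgroup.centralizer (L : Set H)) ≤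
        Subgroup.normalizer (M : Set H) := (CfsgLib.Local.PRed.oz_le L).trans hMn
    obtain ⟨a, ha, m, hm, rfl⟩ :=
      (CfsgLib.Core.mem_sup_iff_of_le_normalizer hAM).mp (hZle hz)
    obtain ⟨haL, hac, -⟩ := CfsgLib.Local.PRed.mem_oz.mp ha
    have hmg : m * g * m⁻¹ * g⁻¹ ∈ M := by
      have := M.mul_mem hm (CfsgLib.Local.PRed.conj_mem hMn hg (M.inv_mem hm))
      simpa [mul_assoc] using this
    have hmgL : m * g * m⁻¹ ∈ L := L.mul_mem (L.mul_mem (hY.le (hZY (hMZ hm))) hg)
      (L.inv_mem (hY.le (hZY (hMZ hm))))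
    rw [commutatorElement_def, show a * m * g * (a * m)⁻¹ * g⁻¹ =
      (a * (m * g * m⁻¹) * a⁻¹) * g⁻¹ by group,
      ← Subgroup.mem_centralizer_iff.mp hac _ hmgL, mul_inv_cancel_right]
    exact hmg
  · exact Subgroup.commutator_mono le_rfl (CfsgLib.Local.PRed.oRes_le L)

end Cfsg.Agent.S2823
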