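import Cfsg.Statements.S2824
import Cfsg.Agent.Lib.LocalPReducedParabolic

set_option autoImplicit false
open Cfsg

namespace Cfsg.Agent.S2824

/-- Let H be a finite group, p a prime, T a Sylow p-subgroup, L and M subgroups of characteristic p containing T, Y_L the largest p-reduced normal subgroup of L and T₀ = C_T(Y_L). If M·C_H(Y_L) = L·C_H(Y_L), then L* := N_M(T₀) has Y_{L*} = Y_L and L·C_H(Y_L) = L*·C_H(Y_L). -/
theorem result {H : Type*} [Group H] [Finite H] {p : ℕ} [Fact p.Prime] (T : Sylow p H) (L M : Subgroup H) (hTL : (T : Subgroup H) ≤ L) (hTM : (T : Subgroup H) ≤ M) (hL : Subgroup.centralizer (Cfsg.pCore p ↥L : Set ↥L) ≤ Cfsg.pCore p ↥L) (hM : Subgroup.centralizer (Cfsg.pCore p ↥M : Set ↥M) ≤ Cfsg.pCore p ↥M) (T₀ : Subgroup H) (hT₀ : T₀ = (T : Subgroup H) ⊓ Subgroup.centralizer (((Cfsg.largestPReducedOf p L) : Subgroup H) : Set H)) (hfac : M ⊔ Subgroup.centralizer (((Cfsg.largestPReducedOf p L) : Subgroup H) :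 Set H) = L ⊔ Subgroup.centralizer (((Cfsg.largestPReducedOf p L) : Subgroup H) : Set H)) (Ls : Subgroup H) (hLs : Ls = M ⊓ Subgroup.normalizer ((T₀ : Subgroup H) : Set H)) : (Cfsg.largestPReducedOf p Ls) = (Cfsg.largestPReducedOf p L) ∧ L ⊔ Subgroup.centralizer (((Cfsg.largestPReducedOf p L) : Subgroup H) : Set H) = Ls ⊔ Subgroup.centralizer (((Cfsg.largestPReducedOf p L) : Subgroup H) : Set H) := by
  have hY := CfsgLib.Local.PRed.red_largest (p := p) L
  set Y := Cfsg.largestPReducedOf p L with hYdef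
  set C := Subgroup.centralizer (Y : Set H) with hC
  have hi := CfsgLib.Local.PRed.not_dvd_relIndex_of_le T hTL
  have hc := CfsgLib.Local.PRed.charP_of hL
  have hQT := CfsgLib.Local.PRed.pCoreOf_le_of_index hTL T.isPGroup' hi
  have hQT0 : Cfsg.pCoreOf p L ≤ T₀ := hT₀ ▸ le_inf hQT hY.pCoreOf_le_centralizer
  have hnY : L ⊔ C ≤ Subgroup.normalizer (Y : Set H) :=
    sup_le hY.normalized (CfsgLib.Core.centralizer_le_normalizer Y)
  have hMY : M ≤ Subgroup.normalizer (Y : Set H) := (le_sup_left.trans hfac.le).trans hnY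
  have hMC : M ≤ Subgroup.normalizer ((M ⊓ C : Subgroup H) : Set H) :=
    CfsgLib.Core.le_normalizer_inf Subgroup.le_normalizer
      (CfsgLib.Core.le_normalizer_centralizer hMY)
  have hT0p : IsPGroup p ↥T₀ := hT₀ ▸ T.isPGroup'.to_le inf_le_left
  have hT0le : T₀ ≤ M ⊓ C := hT₀ ▸ inf_le_inf_right _ hTM
  have hind : ¬ p ∣ T₀.relIndex (M ⊓ C) := by
    have h := CfsgLib.Local.PRed.not_dvd_relIndex_inf hTM (inf_le_left : M ⊓ C ≤ M)
      (hTM.trans hMC) (CfsgLib.Local.PRed.not_dvd_relIndex_of_le T hTM)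
    have he : (T : Subgroup H) ⊓ (M ⊓ C) = T₀ := by
      rw [hT₀, ← inf_assoc, inf_eq_left.mpr hTM]
    rwa [he] at h
  have hML : M ≤ Ls ⊔ C := by
    rw [hLs]
    exact (CfsgLib.Local.PRed.frattini_rel hMC inf_le_left hT0le hT0p hind).trans
      (sup_le_sup_left inf_le_right _)
  have hLsM : Ls ≤ M := hLs ▸ inf_le_left
  have hsup : L ⊔ C = Ls ⊔ C := by
    rw [← hfac]
    exact le_antisymm (sup_le hML le_sup_right) (sup_le_sup_right hLsM _)
  refine ⟨?_, hsup⟩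
  have hT0n : Ls ≤ Subgroup.normalizer (T₀ : Set H) := hLs ▸ inf_le_right
  have hTLs : (T : Subgroup H) ≤ Ls := by
    rw [hLs, hT₀]
    exact le_inf hTM (CfsgLib.Core.le_normalizer_inf Subgroup.le_normalizer
      (CfsgLib.Core.le_normalizer_centralizer (hTL.trans hY.normalized)))
  have hYT : Y ≤ (T : Subgroup H) := hY.le_pCoreOf.trans hQT
  have hred : CfsgLib.Local.PRed.Red p Ls Y :=
    hY.transfer (hYT.trans hTLs) (le_sup_left.trans hsup.ge) (le_sup_left.trans hsup.le)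
  refine le_antisymm ?_ hred.le_largest
  have hY' := CfsgLib.Local.PRed.red_largest (p := p) Ls
  have hY'T : Cfsg.largestPReducedOf p Ls ≤ (T : Subgroup H) :=
    hY'.le_pCoreOf.trans (CfsgLib.Local.PRed.pCoreOf_le_of_index hTLs T.isPGroup'
      (CfsgLib.Local.PRed.not_dvd_relIndex_of_le T hTLs))
  have hT0Ls : T₀ ≤ Ls := (hT₀ ▸ inf_le_left : T₀ ≤ (T : Subgroup H)).trans hTLs
  have hY'c : Cfsg.largestPReducedOf p Ls ≤ Subgroup.centralizer (T₀ : Set H) :=
    Subgroup.le_centralizer_iff.mp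
      ((CfsgLib.Local.PRed.le_pCoreOf hT0Ls hT0n hT0p).trans hY'.pCoreOf_le_centralizer)
  have hY'Q : Cfsg.largestPReducedOf p Ls ≤ T₀ := fun y hy =>
    hQT0 (hc (Subgroup.mem_inf.mpr ⟨hTL (hY'T hy),
      CfsgLib.Local.PRed.centralizer_antitone hQT0 (hY'c hy)⟩))
  have hle : Cfsg.largestPReducedOf p Ls ≤ CfsgLib.Local.PRed.OZ p T₀ := fun y hy =>
    CfsgLib.Local.PRed.mem_oz.mpr ⟨hY'Q hy, hY'c hy, hY'.elem.2 y hy⟩
  refine hle.trans ?_
  rw [hT₀]
  exact CfsgLib.Local.PRed.oz_inf_le_largest hc hTL T.isPGroup' hi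

end Cfsg.Agent.S2824
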