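import Cfsg.Statements.S2825
import Cfsg.Agent.Lib.LocalPReducedSubnormal

set_option autoImplicit false
open Cfsg

namespace Cfsg.Agent.S2825

/-- Let L be a subnormal subgroup of the finite group H, p a prime, Y_H and Y_L the largest p-reduced normal subgroups. Then Y_H ∩ L = Y_H ∩ Y_L and this subgroup is a p-reduced normal subgroup of L; C_L(Y_L) = C_L(Y_H) = C_L(Y_H ∩ L); and if O^p(H) ≤ L, then [Y_L, L] = 1 if and only if [Y_H, H] = 1. -/
theorem result {H : Type*} [Group H] [Finite H] {p : ℕ} [Fact p.Prime] (L : Subgroup H) (hL : L.IsSubnormal) : Cfsg.largestPReduced p H ⊓ L = Cfsg.largestPReduced p H ⊓ (Cfsg.largestPReducedOf p L) ∧ Cfsg.IsPReducedNormal p ((Cfsg.largestPReduced p H ⊓ L).subgroupOf L) ∧ L ⊓ Subgroup.centralizer ((Cfsg.largestPReducedOf p L : Subgroup H) : Set H) = L ⊓ Subgroup.centralizer (Cfsg.largestPReduced p H : Set H) ∧ L ⊓ Subgroup.centralizer (Cfsg.largestPReduced p H : Set H) = L ⊓ Subgroup.centralizer ((Cfsg.largestPReduced p H ⊓ L : Subgroup H) : Set H) ∧ (Cfsg.pResidual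 p H ≤ L → (⁅(Cfsg.largestPReducedOf p L), L⁆ = ⊥ ↔ ⁅Cfsg.largestPReduced p H, (⊤ : Subgroup H)⁆ = ⊥)) := by
  have hY : Cfsg.IsPReducedNormal p (Cfsg.largestPReduced p H) :=
    CfsgLib.Local.PRed.isPReducedNormal_largest
  haveI := hY.1
  obtain ⟨hle1, hle2⟩ := CfsgLib.Local.PRed.commutator_oRes_le (K := L) hY hL
  have hle : ⁅Cfsg.largestPReduced p H, CfsgLib.Local.PRed.ORes p L⁆ ≤
      Cfsg.largestPReduced p H ⊓ L := le_inf hle1 (hle2.trans (CfsgLib.Local.PRed.oRes_le L))
  have hWn : L ≤ Subgroup.normalizer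
      ((Cfsg.largestPReduced p H ⊓ L : Subgroup H) : Set H) :=
    CfsgLib.Core.le_normalizer_inf (by rw [Subgroup.normalizer_eq_top]; exact le_top)
      Subgroup.le_normalizer
  have hred := CfsgLib.Local.PRed.red_between hY hL inf_le_left inf_le_right hle hWn
  have hW : L ⊓ Subgroup.centralizer ((Cfsg.largestPReduced p H ⊓ L : Subgroup H) : Set H) ≤
      Subgroup.centralizer (Cfsg.largestPReduced p H : Set H) :=
    CfsgLib.Local.PRed.centralizer_between hY hL hle hWn
  have h3 : L ⊓ Subgroup.centralizer ((Cfsg.largestPReducedOf p L : Subgroup H) : Set H) =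
      L ⊓ Subgroup.centralizer (Cfsg.largestPReduced p H : Set H) :=
    le_antisymm (le_inf inf_le_left (le_trans (inf_le_inf_left L
      (CfsgLib.Local.PRed.centralizer_antitone hred.le_largest)) hW))
      (le_inf inf_le_left (CfsgLib.Local.PRed.inf_centralizer_le_centralizer_largest hL))
  refine ⟨?_, hred.isPReducedNormal, h3, ?_, fun hres => ?_⟩
  · exact le_antisymm (le_inf inf_le_left hred.le_largest)
      (inf_le_inf_left _ (CfsgLib.Local.PRed.red_largest L).le)
  · exact le_antisymm (inf_le_inf_left _ (CfsgLib.Local.PRed.centralizer_antitone inf_le_left))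
      (le_inf inf_le_left hW)
  · rw [Subgroup.commutator_eq_bot_iff_le_centralizer,
      Subgroup.commutator_eq_bot_iff_le_centralizer]
    constructor
    · intro h
      have hLY : L ≤ Subgroup.centralizer (Cfsg.largestPReduced p H : Set H) :=
        (le_inf le_rfl (Subgroup.le_centralizer_iff.mp h)).trans (h3.le.trans inf_le_right)
      exact Subgroup.le_centralizer_iff.mp
        ((CfsgLib.Local.PRed.isPReducedNormal_iff.mp hY).2.2 ⊤ inferInstance
          (CfsgLib.Local.PRed.pMod_of_pprime fun x _ hc =>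
            hLY (hres (Subgroup.subset_closure hc))))
    · intro h
      have hLY : L ≤ L ⊓ Subgroup.centralizer (Cfsg.largestPReduced p H : Set H) :=
        le_inf le_rfl (le_top.trans (Subgroup.le_centralizer_iff.mp h))
      exact Subgroup.le_centralizer_iff.mp (hLY.trans (h3.ge.trans inf_le_right))

end Cfsg.Agent.S2825
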