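import Cfsg.Statements.S2826
import Cfsg.Agent.Lib.LocalPReducedSubnormal

set_option autoImplicit false
open Cfsg

namespace Cfsg.Agent.S2826

/-- Let H be a finite group of characteristic p, T a Sylow p-subgroup, and V a normal elementary abelian p-subgroup of H containing Ω₁(Z(T)). Then C_H(Ω₁(Z(T))) = C_H([V, O^p(H)] ∩ Ω₁(Z(T))), O^p(H) being generated by the elements of order prime to p. -/
theorem result {H : Type*} [Group H] [Finite H] {p : ℕ} [Fact p.Prime] (hH : Subgroup.centralizer (Cfsg.pCore p H : Set H) ≤ Cfsg.pCore p H) (T : Sylow p H) (V : Subgroup H) [V.Normal] (hV : Cfsg.IsElementaryAbelian p V) (hZV : (Cfsg.omegaOne p ((T : Subgroup H) ⊓ Subgroup.centralizer (((T : Subgroup H) : Subgroup H) : Set H))) ≤ V) : Subgroup.centralizer ((Cfsg.omegaOne p ((T : Subgroup H) ⊓ Subgroup.centralizer (((T : Subgroup H) : Subgroup H) : Set H))) : Set H) = Subgroup.centralizer (((⁅V, Cfsg.pResidual p H⁆ ⊓ (Cfsg.omegaOne p ((T : Subgroup H) ⊓ Subgroup.centralizer (((T :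 Subgroup H) : Subgroup H) : Set H)))) : Subgroup H) : Set H) := by
  rw [← CfsgLib.Local.PRed.oRes_top]
  set O := CfsgLib.Local.PRed.ORes p (⊤ : Subgroup H) with hO
  set Z := CfsgLib.Local.PRed.OZ p (T : Subgroup H) with hZ
  refine le_antisymm (CfsgLib.Local.PRed.centralizer_antitone inf_le_right) fun x hx => ?_
  refine Subgroup.mem_centralizer_iff.mpr fun u hu => ?_
  have htop : (⊤ : Subgroup H) ≤ Subgroup.normalizer (V : Set H) := by
    rw [Subgroup.normalizer_eq_top]
  have hMn : (⊤ : Subgroup H) ≤ Subgroup.normalizer ((⁅V, O⁆ : Subgroup H) : Set H) :=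
    CfsgLib.Local.PRed.commutator_normalized htop
      (CfsgLib.Local.PRed.oRes_normalized Subgroup.le_normalizer)
  have hi : ¬ p ∣ (T : Subgroup H).relIndex ⊤ := by
    rw [Subgroup.relIndex_top_right]; exact T.not_dvd_index
  have huc := CfsgLib.Local.PRed.oz_le_centralizer (T : Subgroup H) hu
  have hcomm : ∀ g ∈ (⊤ : Subgroup H), g * u * g⁻¹ * u⁻¹ ∈ ⁅V, O⁆ := by
    refine CfsgLib.Local.PRed.comm_mem_of_index hMn le_top hi (fun g hg => ?_)
      (fun y hy hyc => ?_)
    · rw [Subgroup.mem_centralizer_iff.mp huc g hg]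
      simp
    · rw [Subgroup.commutator_comm]
      exact Subgroup.commutator_mem_commutator (CfsgLib.Local.PRed.mem_oRes hy hyc) (hZV hu)
  obtain ⟨m, hm, hmV, hum⟩ := CfsgLib.Local.PRed.exists_avg (P := (T : Subgroup H))
    (M := (⁅V, O⁆ : Subgroup H)) hV htop hi (hZV hu)
    (fun g hg => Subgroup.mem_centralizer_iff.mpr fun h hh => by
      rw [Set.mem_singleton_iff.mp hh]
      exact (Subgroup.mem_centralizer_iff.mp huc g hg).symm) hcomm
  have hVT : V ≤ (T : Subgroup H) :=
    (CfsgLib.Local.le_pCore' inferInstance (CfsgLib.Local.PRed.isPGroup_of_elem hV)).trans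
      (CfsgLib.Local.pCore_le_sylow' T)
  have humZ : u * m ∈ Z := CfsgLib.Local.PRed.mem_oz.mpr
    ⟨hVT (V.mul_mem (hZV hu) hmV),
      CfsgLib.Local.PRed.centralizer_antitone le_top hum, hV.2 _ (V.mul_mem (hZV hu) hmV)⟩
  have hmZ : m ∈ Z := by
    have := Z.mul_mem (Z.inv_mem hu) humZ
    rwa [inv_mul_cancel_left] at this
  have h1 : Commute x (u * m) := (Subgroup.mem_centralizer_iff.mp hum x (Subgroup.mem_top x))
  have h2 : Commute x m :=
    (Subgroup.mem_centralizer_iff.mp hx m (Subgroup.mem_inf.mpr ⟨hm, hmZ⟩)).symm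
  have := h1.mul_right h2.inv_right
  rw [mul_inv_cancel_right] at this
  exact this.symm

end Cfsg.Agent.S2826
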