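import Cfsg.Statements.S2827
import Cfsg.Agent.Lib.LocalPIrreducible
import Cfsg.Agent.Lib.LocalPReducedSubnormal

set_option autoImplicit false
open Cfsg
open scoped commutatorElement Pointwise

namespace Cfsg.Agent.S2827

/-- Let H be a finite p-irreducible group (not p-closed, and O^p(H) lies in every normal subgroup that is not p-closed) and T a Sylow p-subgroup. Then H is generated by the conjugates of T and H = H'·T; O^p(H) ≤ H'; and for every normal subgroup Y of T not contained in O_p(H), O^p(H) = [O^p(H), Y] and O^p(H) is contained in the normal closure of Y in H. -/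
theorem result {H : Type*} [Group H] [Finite H] {p : ℕ} [Fact p.Prime] (hH : Cfsg.IsPIrreducible p H) (T : Sylow p H) : Subgroup.normalClosure ((T : Subgroup H) : Set H) = ⊤ ∧ commutator H ⊔ (T : Subgroup H) = ⊤ ∧ Cfsg.pResidual p H ≤ commutator H ∧ ∀ Y : Subgroup H, Y ≤ (T : Subgroup H) → (T : Subgroup H) ≤ Subgroup.normalizer (Y : Set H) → ¬ Y ≤ Cfsg.pCore p H → ⁅Cfsg.pResidual p H, Y⁆ = Cfsg.pResidual p H ∧ Cfsg.pResidual p H ≤ Subgroup.normalClosure (Y : Set H) := by
  haveI hOn := CfsgLib.Local.pResidual_normal' p H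
  have hnc : ∀ N : Subgroup H, N.Normal → ∀ Y : Subgroup H, IsPGroup p ↥Y → Y ≤ N →
      ¬ Y ≤ Cfsg.pCore p H → Cfsg.pResidual p H ≤ N := fun N hN Y hY hYN hnot =>
    hH.2 N hN fun h => hnot (CfsgLib.Local.PIrr.le_pCore_of_isPClosed hN h hY hYN)
  have hTQ : ¬ (T : Subgroup H) ≤ Cfsg.pCore p H := by
    intro h
    refine hH.1 (CfsgLib.Local.PIrr.isPClosed_iff.mpr fun S hS => ?_)
    obtain ⟨P, hP⟩ := hS.exists_le_sylow
    obtain ⟨g, hg⟩ := MulAction.exists_smul_eq H T P
    intro x hx
    have hx' : x ∈ MulAut.conj g • (T : Subgroup H) := by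
      have : (P : Subgroup H) = MulAut.conj g • (T : Subgroup H) := by rw [← hg]; rfl
      exact this ▸ hP hx
    haveI := CfsgLib.Local.pCore_normal' (G := H) p
    have := Subgroup.Normal.conj_mem inferInstance _ (h (CfsgLib.Core.mem_conj_smul.mp hx')) g
    simpa [mul_assoc] using this
  have hncl : Subgroup.normalClosure ((T : Subgroup H) : Set H) = ⊤ := by
    rw [eq_top_iff, ← CfsgLib.Local.PIrr.sup_pResidual T]
    exact sup_le Subgroup.subset_normalClosure
      (hnc _ inferInstance _ T.isPGroup' Subgroup.subset_normalClosure hTQ)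
  have hcT : commutator H ⊔ (T : Subgroup H) = ⊤ := by
    haveI : (commutator H ⊔ (T : Subgroup H)).Normal :=
      CfsgLib.Core.normal_of_commutator_le le_sup_left
    rw [eq_top_iff, ← hncl]
    exact Subgroup.normalClosure_le_normal (SetLike.coe_subset_coe.mpr le_sup_right)
  refine ⟨hncl, hcT, CfsgLib.Local.PIrr.pResidual_le inferInstance T.isPGroup'
    (by rw [sup_comm]; exact hcT), fun Y hYT hTY hYQ => ?_⟩
  have hYp : IsPGroup p ↥Y := T.isPGroup'.to_le hYT
  have hOY : Cfsg.pResidual p H ≤ Subgroup.normalClosure (Y : Set H) :=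
    hnc _ inferInstance Y hYp Subgroup.subset_normalClosure hYQ
  refine ⟨?_, hOY⟩
  set O := Cfsg.pResidual p H with hO
  have hON : (T : Subgroup H) ≤ Subgroup.normalizer (O : Set H) := by
    rw [Subgroup.normalizer_eq_top]; exact le_top
  have hTR : (T : Subgroup H) ≤ Subgroup.normalizer ((⁅O, Y⁆ : Subgroup H) : Set H) :=
    CfsgLib.Local.PRed.commutator_normalized hON hTY
  have hOR : O ≤ Subgroup.normalizer ((⁅O, Y⁆ : Subgroup H) : Set H) :=
    CfsgLib.Core.le_normalizer_commutator_left O Y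
  have hRn : (⁅O, Y⁆ : Subgroup H).Normal := by
    rw [← Subgroup.normalizer_eq_top_iff, eq_top_iff, ← CfsgLib.Local.PIrr.sup_pResidual T]
    exact sup_le hTR hOR
  haveI := hRn
  have hMn : (Y ⊔ ⁅O, Y⁆).Normal := by
    rw [← Subgroup.normalizer_eq_top_iff, eq_top_iff, ← CfsgLib.Local.PIrr.sup_pResidual T]
    refine sup_le (CfsgLib.Core.le_normalizer_sup hTY hTR) ?_
    refine CfsgLib.Local.PRed.le_normalizer_of_conj fun o ho x hx => ?_
    obtain ⟨y, hy, r, hr, rfl⟩ := (CfsgLib.Core.mem_sup_iff_of_le_normalizer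
      ((hYT.trans hTR))).mp hx
    have h1 : o * y * o⁻¹ ∈ Y ⊔ ⁅O, Y⁆ := by
      rw [show o * y * o⁻¹ = ⁅o, y⁆ * y by simp only [commutatorElement_def]; group]
      exact mul_mem (Subgroup.mem_sup_right (Subgroup.commutator_mem_commutator ho hy))
        (Subgroup.mem_sup_left hy)
    have h2 : o * r * o⁻¹ ∈ Y ⊔ ⁅O, Y⁆ :=
      Subgroup.mem_sup_right (CfsgLib.Local.PRed.conj_mem hOR ho hr)
    have := mul_mem h1 h2
    simpa [mul_assoc] using this
  haveI := hMn
  refine le_antisymm (Subgroup.commutator_le_left _ _) ?_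
  refine CfsgLib.Local.PIrr.pResidual_le_of_sup hRn hYp ?_
  rw [sup_comm]
  exact hOY.trans (Subgroup.normalClosure_le_normal (SetLike.coe_subset_coe.mpr le_sup_left))

end Cfsg.Agent.S2827
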