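import Cfsg.Statements.S2828
import Cfsg.Agent.Lib.LocalPIrreducible

set_option autoImplicit false
open Cfsg
open scoped commutatorElement Pointwise

namespace Cfsg.Agent.S2828

/-- Let H be a finite group, p a prime and D a normal p-subgroup of H. Then H is p-irreducible if and only if H/D is p-irreducible, and H is strongly p-irreducible if and only if H/D is strongly p-irreducible. -/
theorem result {H : Type*} [Group H] [Finite H] {p : ℕ} [Fact p.Prime] (D : Subgroup H) [D.Normal] (hD : IsPGroup p ↥D) : (Cfsg.IsPIrreducible p H ↔ Cfsg.IsPIrreducible p (H ⧸ D)) ∧ (Cfsg.IsStronglyPIrreducible p H ↔ Cfsg.IsStronglyPIrreducible p (H ⧸ D)) := by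
  have hclosed := CfsgLib.Local.PIrr.isPClosed_quotient_iff hD
  have hres := CfsgLib.Local.PIrr.map_pResidual_quotient (p := p) D
  have hiff : ∀ N : Subgroup H, N.Normal → (Cfsg.pResidual p (H ⧸ D) ≤
      N.map (QuotientGroup.mk' D) ↔ Cfsg.pResidual p H ≤ N) := by
    intro N hN
    rw [← hres, Subgroup.map_le_map_iff, QuotientGroup.ker_mk']
    exact ⟨fun h => CfsgLib.Local.PIrr.pResidual_le_of_sup hN hD h,
      fun h => h.trans le_sup_left⟩
  have hback : ∀ N : Subgroup (H ⧸ D), N.Normal →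
      (N.comap (QuotientGroup.mk' D)).map (QuotientGroup.mk' D) = N := fun N _ =>
    Subgroup.map_comap_eq_self_of_surjective (QuotientGroup.mk'_surjective D) N
  have hcomm : ∀ N : Subgroup H, ⁅N.map (QuotientGroup.mk' D), (⊤ : Subgroup (H ⧸ D))⁆ ≤
      Cfsg.pCore p (H ⧸ D) ↔ ⁅N, (⊤ : Subgroup H)⁆ ≤ Cfsg.pCore p H := by
    intro N
    rw [← Subgroup.map_top_of_surjective _ (QuotientGroup.mk'_surjective D),
      ← Subgroup.map_commutator, CfsgLib.Local.PIrr.le_pCore_sup hD]
  constructor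
  · constructor
    · rintro ⟨h1, h2⟩
      refine ⟨mt hclosed.mp h1, fun N hN hNc => ?_⟩
      rw [← hback N hN, hiff _ (hN.comap _)]
      refine h2 _ (hN.comap _) fun hc => hNc ?_
      rw [← hback N hN]
      exact (CfsgLib.Local.PIrr.isPClosed_map_iff hD (hN.comap _)).mpr hc
    · rintro ⟨h1, h2⟩
      refine ⟨mt hclosed.mpr h1, fun N hN hNc => (hiff N hN).mp ?_⟩
      exact h2 _ (hN.map _ (QuotientGroup.mk'_surjective D))
        fun hc => hNc ((CfsgLib.Local.PIrr.isPClosed_map_iff hD hN).mp hc)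
  · constructor
    · rintro ⟨h1, h2⟩
      refine ⟨mt hclosed.mp h1, fun N hN hNc => ?_⟩
      rw [← hback N hN, hiff _ (hN.comap _)]
      refine h2 _ (hN.comap _) fun hc => hNc ?_
      rw [← hback N hN]
      exact (hcomm _).mpr hc
    · rintro ⟨h1, h2⟩
      refine ⟨mt hclosed.mpr h1, fun N hN hNc => (hiff N hN).mp ?_⟩
      exact h2 _ (hN.map _ (QuotientGroup.mk'_surjective D)) fun hc => hNc ((hcomm N).mp hc)

end Cfsg.Agent.S2828
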