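import Cfsg.Statements.S2829
import Cfsg.Agent.Lib.LocalPIrreducible

set_option autoImplicit false
open Cfsg
open scoped commutatorElement Pointwise

namespace Cfsg.Agent.S2829

/-- Every strongly p-irreducible finite group is p-irreducible. -/
theorem result {H : Type*} [Group H] [Finite H] {p : ℕ} [Fact p.Prime] (hH : Cfsg.IsStronglyPIrreducible p H) : Cfsg.IsPIrreducible p H := by
  refine ⟨hH.1, fun N hN hNc => hH.2 N hN fun hcomm => hNc ?_⟩
  intro P
  have hPn : (P : Subgroup ↥N).map N.subtype ⊔ Cfsg.pCore p H ⊓ N =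
      (P : Subgroup ↥N).map N.subtype := by
    refine sup_eq_left.mpr ?_
    haveI := CfsgLib.Local.pCore_normal' (G := H) p
    have h1 : (Cfsg.pCore p H).subgroupOf N ≤ (P : Subgroup ↥N) :=
      (CfsgLib.Local.le_pCore' Subgroup.normal_subgroupOf
        (CfsgLib.Local.PRed.isPGroup_subgroupOf (CfsgLib.Local.pCore_isPGroup' p))).trans
        (CfsgLib.Local.pCore_le_sylow' P)
    rintro x hx
    obtain ⟨hxQ, hxN⟩ := Subgroup.mem_inf.mp hx
    exact ⟨⟨x, hxN⟩, h1 (Subgroup.mem_subgroupOf.mpr hxQ), rfl⟩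
  refine ⟨fun x hx g => ?_⟩
  have h2 : ⁅(g : H), (x : H)⁆ ∈ Cfsg.pCore p H ⊓ N := Subgroup.mem_inf.mpr
    ⟨hcomm (Subgroup.commutator_mem_commutator g.2 (Subgroup.mem_top _)),
      N.mul_mem (hN.conj_mem _ x.2 _) (N.inv_mem x.2)⟩
  have h3 : ((g * x * g⁻¹ : ↥N) : H) ∈ (P : Subgroup ↥N).map N.subtype := by
    rw [← hPn]
    have := mul_mem
      (Subgroup.mem_sup_right (S := (P : Subgroup ↥N).map N.subtype) h2)
      (Subgroup.mem_sup_left (T := Cfsg.pCore p H ⊓ N)
        (⟨x, hx, rfl⟩ : (x : H) ∈ (P : Subgroup ↥N).map N.subtype))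
    simpa [commutatorElement_def, mul_assoc] using this
  obtain ⟨y, hy, hye⟩ := h3
  rwa [← Subtype.ext (a1 := y) (a2 := g * x * g⁻¹) hye]

end Cfsg.Agent.S2829
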