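import Cfsg.Statements.S2830
import Cfsg.Agent.Lib.LocalPIrreducible

set_option autoImplicit false
open Cfsg
open scoped commutatorElement Pointwise

namespace Cfsg.Agent.S2830

/-- Let H act by conjugation on the elementary abelian p-subgroup V of a finite group G (H ≤ N(V)), with H p-irreducible and O^p(H) not centralizing V. Then C_H(V) is p-closed and C_T(V) ≤ O_p(H) for every p-subgroup T of H. If in addition O_p(H) centralizes V, then C_T(V) = T ∩ O_p(H) for every p-subgroup T of H, and V is p-reduced for H: O_p(H/C_H(V)) = 1. -/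
theorem result {G : Type*} [Group G] [Finite G] {p : ℕ} [Fact p.Prime] (V H : Subgroup G) (hV : Cfsg.IsElementaryAbelian p V) (hHV : H ≤ Subgroup.normalizer (V : Set G)) (hH : Cfsg.IsPIrreducible p ↥H) (hnc : ¬ (Cfsg.pResidual p ↥H).map H.subtype ≤ Subgroup.centralizer (V : Set G)) [hn : ((Subgroup.centralizer (V : Set G)).subgroupOf H).Normal] : Cfsg.IsPClosed p ↥(H ⊓ Subgroup.centralizer (V : Set G)) ∧ (∀ T : Subgroup G, T ≤ H → IsPGroup p ↥T → T ⊓ Subgroup.centralizer (V : Set G) ≤ Cfsg.pCoreOf p H) ∧ (Cfsg.pCoreOf p H ≤ Subgroup.centralizer (V : Set G) → (∀ T : Subgroup G, T ≤ H → IsPGroup p ↥T → T ⊓ Subgroup.centralizer (V : Set G) = T ⊓ Cfsg.pCoreOf p H) ∧ Cfsg.pCore p (↥H ⧸ (Subgroup.centralizer (V : Set G)).subgroupOf H) = ⊥) := by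
  set C := (Subgroup.centralizer (V : Set G)).subgroupOf H with hC
  have hCc : Cfsg.IsPClosed p ↥C := by
    by_contra hc
    refine hnc ?_
    have h := hH.2 C hn hc
    intro x hx
    obtain ⟨y, hy, rfl⟩ := hx
    exact Subgroup.mem_subgroupOf.mp (h hy)
  have hsub : ∀ T : Subgroup G, T ≤ H → IsPGroup p ↥T →
      T ⊓ Subgroup.centralizer (V : Set G) ≤ Cfsg.pCoreOf p H := by
    intro T hTH hT x hx
    have h1 := CfsgLib.Local.PIrr.le_pCore_of_isPClosed hn hCc
      (S := (T ⊓ Subgroup.centralizer (V : Set G)).subgroupOf H)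
      (CfsgLib.Local.PRed.isPGroup_subgroupOf (hT.to_le inf_le_left))
      (fun y hy => Subgroup.mem_subgroupOf.mpr
        (Subgroup.mem_inf.mp (Subgroup.mem_subgroupOf.mp hy)).2)
    exact ⟨⟨x, hTH (Subgroup.mem_inf.mp hx).1⟩, h1 (Subgroup.mem_subgroupOf.mpr hx), rfl⟩
  refine ⟨?_, hsub, fun hQC => ⟨fun T hTH hT => le_antisymm
    (le_inf inf_le_left (hsub T hTH hT)) (le_inf inf_le_left (inf_le_right.trans hQC)), ?_⟩⟩
  · refine CfsgLib.Local.PIrr.isPClosed_iff.mpr fun S hS => ?_
    have hS' : S.map (H ⊓ Subgroup.centralizer (V : Set G)).subtype ≤ Cfsg.pCoreOf p H := by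
      have hle := Subgroup.map_subtype_le S
      exact le_trans (le_inf le_rfl (hle.trans inf_le_right))
        (hsub _ (hle.trans inf_le_left) (hS.map _))
    refine le_trans (fun x hx => ?_) (CfsgLib.Local.le_pCore'
      (N := (Cfsg.pCoreOf p H).subgroupOf (H ⊓ Subgroup.centralizer (V : Set G)))
      (CfsgLib.Local.PRed.subgroupOf_normal
        (inf_le_left.trans (CfsgLib.Local.PRed.pCoreOf_normalized H)))
      (CfsgLib.Local.PRed.isPGroup_subgroupOf (CfsgLib.Local.PRed.isPGroup_pCoreOf H)))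
    exact Subgroup.mem_subgroupOf.mpr (hS' ⟨x, hx, rfl⟩)
  · refine (CfsgLib.Local.PRed.pCore_quotient_eq_bot_iff C).mpr fun N hN hmod => ?_
    have hNc : Cfsg.IsPClosed p ↥N := by
      by_contra hc
      refine hnc ?_
      have h := hH.2 N hN hc
      rw [Subgroup.map_le_iff_le_comap]
      exact (Subgroup.closure_le _).mpr fun x hx =>
        hmod.pprime (h (Subgroup.subset_closure hx)) hx
    obtain ⟨P⟩ := (inferInstance : Nonempty (Sylow p ↥N))
    refine CfsgLib.Local.PRed.le_of_index (S := (P : Subgroup ↥N).map N.subtype)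
      (Subgroup.map_subtype_le _) ?_ ?_ fun x hx hc => hmod.pprime hx hc
    · rw [Subgroup.relIndex, Subgroup.subgroupOf,
        Subgroup.comap_map_eq_self_of_injective N.subtype_injective]
      exact P.not_dvd_index
    · intro x hx
      have h1 := CfsgLib.Local.PIrr.le_pCore_of_isPClosed hN hNc (P.isPGroup'.map _)
        (Subgroup.map_subtype_le _) hx
      exact Subgroup.mem_subgroupOf.mpr (hQC ⟨x, h1, rfl⟩)

end Cfsg.Agent.S2830
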