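import Cfsg.Statements.S2831
import Cfsg.Agent.Lib.LocalPIrreducible

set_option autoImplicit false
open Cfsg
open scoped commutatorElement Pointwise

namespace Cfsg.Agent.S2831

/-- Let H be a finite group with Sylow p-subgroup T such that H is T-minimal (H is generated by the conjugates of T and T lies in exactly one maximal subgroup of H). Then H is p-irreducible: H is not p-closed and O^p(H) lies in every normal subgroup of H that is not p-closed. -/
theorem result {H : Type*} [Group H] [Finite H] {p : ℕ} [Fact p.Prime] (T : Sylow p H) (hmin : Cfsg.IsMinimalOver (T : Subgroup H)) : Cfsg.IsPIrreducible p H := by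
  obtain ⟨hncl, M, ⟨hMc, hTM⟩, huniq⟩ := hmin
  have hle : ∀ X : Subgroup H, (T : Subgroup H) ≤ X → X ≠ ⊤ → X ≤ M := by
    intro X hTX hX
    obtain ⟨M', hM', hXM'⟩ := (eq_top_or_exists_le_coatom X).resolve_left hX
    rwa [huniq M' ⟨hM', hTX.trans hXM'⟩] at hXM'
  have hnc : ¬ Cfsg.IsPClosed p H := by
    intro h
    haveI := h T
    refine hMc.1 (eq_top_iff.mpr ?_)
    rw [← hncl]
    exact (Subgroup.normalClosure_le_normal (le_refl ((T : Subgroup H) : Set H))).trans hTM
  refine ⟨hnc, fun N hN hNc => ?_⟩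
  have hTNn : (T : Subgroup H) ≤ Subgroup.normalizer (((T : Subgroup H) ⊓ N : Subgroup H) : Set H) :=
    CfsgLib.Core.le_normalizer_inf Subgroup.le_normalizer
      (by rw [Subgroup.normalizer_eq_top]; exact le_top)
  have hind : ¬ p ∣ ((T : Subgroup H) ⊓ N).relIndex N :=
    CfsgLib.Local.PRed.not_dvd_relIndex_inf le_top le_top
      (by rw [Subgroup.normalizer_eq_top]; exact le_top)
      (by rw [Subgroup.relIndex_top_right]; exact T.not_dvd_index)
  have hne : Subgroup.normalizer (((T : Subgroup H) ⊓ N : Subgroup H) : Set H) ≠ ⊤ := by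
    intro h
    haveI := Subgroup.normalizer_eq_top_iff.mp h
    refine hNc fun P => ?_
    haveI : (((T : Subgroup H) ⊓ N).subgroupOf N).Normal := Subgroup.normal_subgroupOf
    have hPn : (((CfsgLib.Local.PRed.isPGroup_subgroupOf (L := N)
        (T.isPGroup'.to_le (inf_le_left : (T : Subgroup H) ⊓ N ≤ T))).toSylow hind :
        Sylow p ↥N) : Subgroup ↥N).Normal :=
      (inferInstance : (((T : Subgroup H) ⊓ N).subgroupOf N).Normal)
    haveI := Sylow.unique_of_normal _ hPn
    rw [Subsingleton.elim P ((CfsgLib.Local.PRed.isPGroup_subgroupOf (L := N)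
        (T.isPGroup'.to_le (inf_le_left : (T : Subgroup H) ⊓ N ≤ T))).toSylow hind)]
    exact (inferInstance : (((T : Subgroup H) ⊓ N).subgroupOf N).Normal)
  have hfr : ⊤ ≤ ((⊤ : Subgroup H) ⊓ Subgroup.normalizer
      (((T : Subgroup H) ⊓ N : Subgroup H) : Set H)) ⊔ N :=
    CfsgLib.Local.PRed.frattini_rel (by rw [Subgroup.normalizer_eq_top]) le_top inf_le_right
      (T.isPGroup'.to_le inf_le_left) hind
  refine CfsgLib.Local.PIrr.pResidual_le hN T.isPGroup' ?_
  by_contra hsup
  refine hMc.1 (eq_top_iff.mpr (hfr.trans (sup_le ?_ ?_)))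
  · exact inf_le_right.trans (hle _ hTNn hne)
  · exact le_sup_right.trans (hle _ le_sup_left hsup)

end Cfsg.Agent.S2831
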