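import Cfsg.Statements.S2832
import Cfsg.Agent.Lib.LocalPIrreducible

set_option autoImplicit false
open Cfsg
open scoped commutatorElement Pointwise

namespace Cfsg.Agent.S2832

/-- Let H be a finite group with Sylow p-subgroup T such that H is T-minimal (generated by the conjugates of T, with T in exactly one maximal subgroup), and let N be a normal subgroup of H. Then either H/N is a p-group or H/N is minimal over the image of T in the same sense. -/
theorem result {H : Type*} [Group H] [Finite H] {p : ℕ} [Fact p.Prime] (T : Sylow p H) (hmin : Cfsg.IsMinimalOver (T : Subgroup H)) (N : Subgroup H) [N.Normal] : IsPGroup p (H ⧸ N) ∨ Cfsg.IsMinimalOver ((T : Subgroup H).map (QuotientGroup.mk' N)) := by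
  obtain ⟨hncl, M, ⟨hMc, hTM⟩, huniq⟩ := hmin
  have hsurj : Function.Surjective (QuotientGroup.mk' N) := QuotientGroup.mk'_surjective N
  by_cases h : (T : Subgroup H) ⊔ N = ⊤
  · left
    intro q
    obtain ⟨x, rfl⟩ := hsurj q
    have hx : x ∈ (T : Subgroup H) ⊔ N := by rw [h]; exact Subgroup.mem_top x
    obtain ⟨t, ht, n, hn, rfl⟩ := (CfsgLib.Core.mem_sup_iff_of_le_normalizer
      (by rw [Subgroup.normalizer_eq_top]; exact le_top)).mp hx
    obtain ⟨k, hk⟩ := T.isPGroup' ⟨t, ht⟩
    have hk' : t ^ p ^ k = 1 := by simpa using congrArg Subtype.val hk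
    refine ⟨k, ?_⟩
    rw [map_mul, show QuotientGroup.mk' N n = 1 from (QuotientGroup.eq_one_iff n).mpr hn,
      mul_one, ← map_pow, hk', map_one]
  · right
    obtain ⟨M', hM', hXM'⟩ := (eq_top_or_exists_le_coatom _).resolve_left h
    obtain rfl : M' = M := huniq M' ⟨hM', le_sup_left.trans hXM'⟩
    have hNM : N ≤ M' := le_sup_right.trans hXM'
    refine ⟨?_, M'.map (QuotientGroup.mk' N), ⟨⟨?_, ?_⟩, Subgroup.map_mono hTM⟩, ?_⟩
    · rw [eq_top_iff, ← Subgroup.map_top_of_surjective _ hsurj, ← hncl,
        Subgroup.map_le_iff_le_comap]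
      exact Subgroup.normalClosure_le_normal fun x hx =>
        Subgroup.subset_normalClosure ⟨x, hx, rfl⟩
    · intro ht
      refine hMc.1 ?_
      rw [← Subgroup.comap_map_eq_self (f := QuotientGroup.mk' N) (H := M')
        (by rwa [QuotientGroup.ker_mk']), ht, Subgroup.comap_top]
    · intro X hX
      have h1 : M' < X.comap (QuotientGroup.mk' N) := by
        rw [← Subgroup.comap_map_eq_self (f := QuotientGroup.mk' N) (H := M')
          (by rwa [QuotientGroup.ker_mk'])]
        exact (Subgroup.comap_lt_comap_of_surjective hsurj).mpr hX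
      have h2 := hMc.2 _ h1
      rw [← Subgroup.map_comap_eq_self_of_surjective hsurj X, h2,
        Subgroup.map_top_of_surjective _ hsurj]
    · rintro X ⟨hXc, hTX⟩
      have hTX' : (T : Subgroup H) ≤ X.comap (QuotientGroup.mk' N) :=
        Subgroup.map_le_iff_le_comap.mp hTX
      have hco : IsCoatom (X.comap (QuotientGroup.mk' N)) := by
        refine ⟨fun ht => hXc.1 ?_, fun Y hY => ?_⟩
        · rw [← Subgroup.map_comap_eq_self_of_surjective hsurj X, ht,
            Subgroup.map_top_of_surjective _ hsurj]
        · have hNY : (QuotientGroup.mk' N).ker ≤ Y := (Subgroup.ker_le_comap _ _).trans hY.le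
          have h2 : X < Y.map (QuotientGroup.mk' N) := by
            rw [← Subgroup.comap_map_eq_self hNY] at hY
            exact (Subgroup.comap_lt_comap_of_surjective hsurj).mp hY
          rw [← Subgroup.comap_map_eq_self hNY, hXc.2 _ h2, Subgroup.comap_top]
      rw [← huniq _ ⟨hco, hTX'⟩, Subgroup.map_comap_eq_self_of_surjective hsurj]

end Cfsg.Agent.S2832
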