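import Cfsg.Statements.S2833
import Cfsg.Agent.Lib.LocalPReducedSubnormal

set_option autoImplicit false
open Cfsg
open scoped commutatorElement Pointwise

namespace Cfsg.Agent.S2833

/-- Let V be a subgroup of a finite group G normalized by the subgroup L, let X ≤ L and g ∈ L with [V, X, X] = 1 and L generated by X and gXg⁻¹. Put W = [V, L]. Then W = [V, X]·[V, gXg⁻¹], C_W(X) = [V, X], and C_W(L) = [V, X] ∩ [V, gXg⁻¹]. -/
theorem result {G : Type*} [Group G] [Finite G] (V L : Subgroup G) (hLV : L ≤ Subgroup.normalizer (V : Set G)) (X : Subgroup G) (hX : X ≤ L) (g : G) (hg : g ∈ L) (hq : ⁅⁅V, X⁆, X⁆ = ⊥) (hgen : X ⊔ X.map (MulAut.conj g).toMonoidHom = L) (W : Subgroup G) (hW : W = ⁅V, L⁆) : ⁅V, X⁆ ⊔ ⁅V, X.map (MulAut.conj g).toMonoidHom⁆ = W ∧ W ⊓ Subgroup.centralizer (X : Set G) = ⁅V, X⁆ ∧ W ⊓ Subgroup.centralizer (L : Set G) = ⁅V, X⁆ ⊓ ⁅V, X.map (MulAut.conj g).toMonoidHom⁆ := by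
  subst hW
  set Y := X.map (MulAut.conj g).toMonoidHom with hY
  set A := (⁅V, X⁆ : Subgroup G) with hA
  set B := (⁅V, Y⁆ : Subgroup G) with hB
  have hXn : X ≤ Subgroup.normalizer (V : Set G) := hX.trans hLV
  have hYL : Y ≤ L := hgen ▸ le_sup_right
  have hgn : g ∈ Subgroup.normalizer (V : Set G) := hLV hg
  have hBmap : B = A.map (MulAut.conj g).toMonoidHom := by
    rw [hA, Subgroup.map_commutator,
      show V.map (MulAut.conj g).toMonoidHom = V from
        CfsgLib.Core.conj_smul_of_mem_normalizer hgn]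
  have hAV : A ≤ V := CfsgLib.Core.commutator_le_of_le_normalizer hXn
  have hBV : B ≤ V := CfsgLib.Core.commutator_le_of_le_normalizer (hYL.trans hLV)
  have hXA : X ≤ Subgroup.centralizer (A : Set G) := Subgroup.le_centralizer_iff.mp
    (Subgroup.commutator_eq_bot_iff_le_centralizer.mp hq)
  have hYB : Y ≤ Subgroup.centralizer (B : Set G) := by
    rw [hBmap]
    rintro _ ⟨y, hy, rfl⟩
    refine Subgroup.mem_centralizer_iff.mpr ?_
    rintro _ ⟨a, ha, rfl⟩
    rw [← map_mul, ← map_mul, Subgroup.mem_centralizer_iff.mp (hXA hy) a ha]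
  have hVA : V ≤ Subgroup.normalizer (A : Set G) := CfsgLib.Core.le_normalizer_commutator_left V X
  have hAn : B ≤ Subgroup.normalizer (A : Set G) := hBV.trans hVA
  have hconjX : X ≤ Subgroup.normalizer ((B ⊔ A : Subgroup G) : Set G) := by
    refine CfsgLib.Local.PRed.le_normalizer_of_conj fun x hx w hw => ?_
    obtain ⟨b, hb, a, ha, rfl⟩ := (CfsgLib.Core.mem_sup_iff_of_le_normalizer hAn).mp hw
    have h1 : x * b * x⁻¹ * b⁻¹ ∈ A := by
      rw [hA, Subgroup.commutator_comm]
      exact Subgroup.commutator_mem_commutator hx (hBV hb)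
    have h2 : x * a * x⁻¹ = a :=
      mul_inv_eq_of_eq_mul (Subgroup.mem_centralizer_iff.mp (hXA hx) a ha).symm
    have := mul_mem (mul_mem (Subgroup.mem_sup_right (S := B) h1)
      (Subgroup.mem_sup_left (T := A) hb)) (Subgroup.mem_sup_right (S := B) ha)
    rw [show x * (b * a) * x⁻¹ = (x * b * x⁻¹ * b⁻¹) * b * (x * a * x⁻¹) by group, h2]
    exact this
  have hconjY : Y ≤ Subgroup.normalizer ((B ⊔ A : Subgroup G) : Set G) := by
    refine CfsgLib.Local.PRed.le_normalizer_of_conj fun y hy w hw => ?_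
    obtain ⟨b, hb, a, ha, rfl⟩ := (CfsgLib.Core.mem_sup_iff_of_le_normalizer hAn).mp hw
    have h1 : y * a * y⁻¹ * a⁻¹ ∈ B := by
      rw [hB, Subgroup.commutator_comm]
      exact Subgroup.commutator_mem_commutator hy (hAV ha)
    have h2 : y * b * y⁻¹ = b :=
      mul_inv_eq_of_eq_mul (Subgroup.mem_centralizer_iff.mp (hYB hy) b hb).symm
    rw [show y * (b * a) * y⁻¹ = (y * b * y⁻¹) * (y * a * y⁻¹ * a⁻¹) * a by group, h2]
    exact mul_mem (mul_mem (Subgroup.mem_sup_left hb) (Subgroup.mem_sup_left h1))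
      (Subgroup.mem_sup_right ha)
  have hLn : L ≤ Subgroup.normalizer ((B ⊔ A : Subgroup G) : Set G) :=
    hgen ▸ sup_le hconjX hconjY
  have hW1 : (⁅V, L⁆ : Subgroup G) = B ⊔ A := by
    refine le_antisymm (Subgroup.commutator_le.mpr fun v hv => ?_)
      (sup_le (Subgroup.commutator_mono le_rfl hYL) (Subgroup.commutator_mono le_rfl hX))
    have hle : L ≤ { carrier := {l | l ∈ L ∧ ⁅v, l⁆ ∈ B ⊔ A}
                     one_mem' := ⟨L.one_mem, by simp⟩
                     mul_mem' := by
                       rintro a b ⟨ha, ha'⟩ ⟨hb, hb'⟩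
                       refine ⟨L.mul_mem ha hb, ?_⟩
                       have := mul_mem ha' (CfsgLib.Local.PRed.conj_mem hLn ha hb')
                       simpa [commutatorElement_def, mul_assoc] using this
                     inv_mem' := by
                       rintro a ⟨ha, ha'⟩
                       refine ⟨L.inv_mem ha, ?_⟩
                       have := CfsgLib.Local.PRed.conj_mem hLn (L.inv_mem ha) (inv_mem ha')
                       simpa [commutatorElement_def, mul_assoc] using this } := by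
      conv_lhs => rw [← hgen]
      exact sup_le
        (fun x hx => ⟨hX hx, Subgroup.mem_sup_right (Subgroup.commutator_mem_commutator hv hx)⟩)
        (fun x hx => ⟨hYL hx, Subgroup.mem_sup_left (Subgroup.commutator_mem_commutator hv hx)⟩)
    exact fun l hl => (hle hl).2
  have hAW : A ≤ ⁅V, L⁆ := Subgroup.commutator_mono le_rfl hX
  have hBW : B ≤ ⁅V, L⁆ := Subgroup.commutator_mono le_rfl hYL
  have hX1 : ∀ b ∈ B, b ∈ Subgroup.centralizer (X : Set G) → b ∈ A := by
    intro b hb hbX
    have hbL : L ≤ Subgroup.centralizer ({b} : Set G) := by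
      conv_lhs => rw [← hgen]
      refine sup_le (fun x hx => Subgroup.mem_centralizer_iff.mpr fun c hc => ?_)
        (fun x hx => Subgroup.mem_centralizer_iff.mpr fun c hc => ?_)
      · rw [Set.mem_singleton_iff.mp hc]
        exact (Subgroup.mem_centralizer_iff.mp hbX x hx).symm
      · rw [Set.mem_singleton_iff.mp hc]
        exact Subgroup.mem_centralizer_iff.mp (hYB hx) b hb
    rw [hBmap] at hb
    obtain ⟨a, ha, hab⟩ := hb
    have h1 := Subgroup.mem_centralizer_iff.mp (hbL hg) b rfl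
    have hab' : g * a * g⁻¹ = b := hab
    have h2 : a = b := by
      calc a = g⁻¹ * (g * a * g⁻¹) * g := by group
        _ = g⁻¹ * (b * g) := by rw [hab']; group
        _ = b := by rw [h1]; group
    rwa [← h2]
  have hY1 : ∀ a ∈ A, a ∈ Subgroup.centralizer (Y : Set G) → a ∈ B := by
    intro a ha haY
    have haL : L ≤ Subgroup.centralizer ({a} : Set G) := by
      conv_lhs => rw [← hgen]
      refine sup_le (fun x hx => Subgroup.mem_centralizer_iff.mpr fun c hc => ?_)
        (fun x hx => Subgroup.mem_centralizer_iff.mpr fun c hc => ?_)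
      · rw [Set.mem_singleton_iff.mp hc]
        exact Subgroup.mem_centralizer_iff.mp (hXA hx) a ha
      · rw [Set.mem_singleton_iff.mp hc]
        exact (Subgroup.mem_centralizer_iff.mp haY x hx).symm
    rw [hBmap]
    refine ⟨a, ha, ?_⟩
    show g * a * g⁻¹ = a
    rw [← Subgroup.mem_centralizer_iff.mp (haL hg) a rfl, mul_inv_cancel_right]
  have hCX : (⁅V, L⁆ : Subgroup G) ⊓ Subgroup.centralizer (X : Set G) = A := by
    refine le_antisymm ?_ (le_inf hAW (Subgroup.le_centralizer_iff.mp hXA))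
    intro w hw
    obtain ⟨hwW, hwX⟩ := Subgroup.mem_inf.mp hw
    rw [hW1] at hwW
    obtain ⟨b, hb, a, ha, rfl⟩ := (CfsgLib.Core.mem_sup_iff_of_le_normalizer hAn).mp hwW
    have haX : a ∈ Subgroup.centralizer (X : Set G) := Subgroup.le_centralizer_iff.mp hXA ha
    exact A.mul_mem (hX1 b hb (by simpa using mul_mem hwX (inv_mem haX))) ha
  refine ⟨by rw [hW1, sup_comm], hCX, le_antisymm ?_ ?_⟩
  · intro w hw
    obtain ⟨hwW, hwL⟩ := Subgroup.mem_inf.mp hw
    have hwA : w ∈ A := hCX ▸ Subgroup.mem_inf.mpr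
      ⟨hwW, CfsgLib.Local.PRed.centralizer_antitone hX hwL⟩
    exact Subgroup.mem_inf.mpr
      ⟨hwA, hY1 w hwA (CfsgLib.Local.PRed.centralizer_antitone hYL hwL)⟩
  · intro w hw
    obtain ⟨hwA, hwB⟩ := Subgroup.mem_inf.mp hw
    refine Subgroup.mem_inf.mpr ⟨hAW hwA, ?_⟩
    have hle : L ≤ Subgroup.centralizer ((A ⊓ B : Subgroup G) : Set G) := by
      conv_lhs => rw [← hgen]
      exact sup_le (hXA.trans (CfsgLib.Local.PRed.centralizer_antitone inf_le_left))
        (hYB.trans (CfsgLib.Local.PRed.centralizer_antitone inf_le_right))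
    exact Subgroup.le_centralizer_iff.mp hle hw

end Cfsg.Agent.S2833
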