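import Cfsg.Statements.S2835
import Cfsg.Agent.Lib.LocalMinimalOver

set_option autoImplicit false
open Cfsg
open scoped commutatorElement Pointwise

namespace Cfsg.Agent.S2835

/-- Let L be a finite group, L₀ a maximal subgroup, T a Sylow p-subgroup of L₀ and Y ≤ T, and suppose L is Y-minimal (generated by the conjugates of Y, with Y in exactly one maximal subgroup, necessarily L₀). Then N_L(T) ≤ L₀, O_p(L) ≤ L₀ and T is a Sylow p-subgroup of L; N_L(L₀) = L₀; L = ⟨Y, gYg⁻¹⟩ for each g ∈ L outside L₀; and if Y is abelian then Y ∩ gYg⁻¹ = C_Y(L) for each such g. -/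
theorem result {L : Type*} [Group L] [Finite L] {p : ℕ} [Fact p.Prime] (L₀ : Subgroup L) (hL₀ : IsCoatom L₀) (T : Sylow p ↥L₀) (Y : Subgroup L) (hYT : Y ≤ (T : Subgroup ↥L₀).map L₀.subtype) (hmin : Cfsg.IsMinimalOver Y) : Subgroup.normalizer (((T : Subgroup ↥L₀).map L₀.subtype : Subgroup L) : Set L) ≤ L₀ ∧ Cfsg.pCore p L ≤ L₀ ∧ (∃ P : Sylow p L, (P : Subgroup L) = (T : Subgroup ↥L₀).map L₀.subtype) ∧ Subgroup.normalizer (L₀ : Set L) = L₀ ∧ (∀ g : L, g ∉ L₀ → Y ⊔ Y.map (MulAut.conj g).toMonoidHom = ⊤) ∧ (IsMulCommutative ↥Y → ∀ g : L, g ∉ L₀ → Y ⊓ Y.map (MulAut.conj g).toMonoidHom = Y ⊓ Subgroup.center L) := by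
  have hTL : (T : Subgroup ↥L₀).map L₀.subtype ≤ L₀ := Subgroup.map_subtype_le _
  have hY : Y ≤ L₀ := hYT.trans hTL
  have hTne : (T : Subgroup ↥L₀).map L₀.subtype ≠ ⊤ := fun h =>
    hL₀.1 (eq_top_iff.mpr (h ▸ hTL))
  have hNL : Subgroup.normalizer (L₀ : Set L) = L₀ :=
    le_antisymm (CfsgLib.Local.MinOver.normalizer_le hmin hL₀ hY hY hL₀.1) Subgroup.le_normalizer
  have hgen : ∀ g : L, g ∉ L₀ → Y ⊔ Y.map (MulAut.conj g).toMonoidHom = ⊤ := by
    intro g hg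
    by_contra hne
    have h1 := CfsgLib.Local.MinOver.le_of_ne_top hmin hL₀ hY le_sup_left hne
    set K := L₀.map (MulAut.conj g).symm.toMonoidHom with hK
    have hYK : Y ≤ K := fun y hy =>
      ⟨MulAut.conj g y, h1 (Subgroup.mem_sup_right ⟨y, hy, rfl⟩), MulEquiv.symm_apply_apply _ y⟩
    have hcard : Nat.card ↥K = Nat.card ↥L₀ :=
      Subgroup.card_map_of_injective (MulEquiv.injective _)
    have hKL : K ≤ L₀ := CfsgLib.Local.MinOver.le_of_ne_top hmin hL₀ hY hYK fun h => hL₀.1 (by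
      rw [h] at hcard
      exact CfsgLib.Core.eq_of_le_of_card_le le_top hcard.le)
    have heq : K = L₀ := CfsgLib.Core.eq_of_le_of_card_le hKL hcard.ge
    refine hg (inv_mem_iff.mp (hNL.le (Subgroup.mem_normalizer_iff.mpr fun x => ?_)))
    constructor
    · intro hx
      rw [← heq]
      exact ⟨x, hx, by simp [mul_assoc]⟩
    · intro hx
      rw [← heq] at hx
      obtain ⟨z, hz, hzx⟩ := hx
      have : z = x := by simpa [mul_assoc] using hzx
      exact this ▸ hz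
  refine ⟨CfsgLib.Local.MinOver.normalizer_le hmin hL₀ hY hYT hTne,
    CfsgLib.Local.MinOver.pCore_le hmin hL₀ T hYT,
    CfsgLib.Local.MinOver.sylow_eq hmin hL₀ T hYT, hNL, hgen, fun hab g hg => ?_⟩
  refine le_antisymm (fun x hx => ?_) (fun x hx => ?_)
  · obtain ⟨hx1, y, hy, hyx⟩ := Subgroup.mem_inf.mp hx
    have h2 : Y ⊔ Y.map (MulAut.conj g).toMonoidHom ≤ Subgroup.centralizer {x} := by
      refine sup_le (fun z hz => Subgroup.mem_centralizer_singleton_iff.mpr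
        (hab.is_comm.comm ⟨z, hz⟩ ⟨x, hx1⟩ |> congrArg Subtype.val)) ?_
      rintro _ ⟨z, hz, rfl⟩
      refine Subgroup.mem_centralizer_singleton_iff.mpr ?_
      rw [← hyx, ← map_mul, ← map_mul]
      exact congrArg _ (congrArg Subtype.val (hab.is_comm.comm ⟨z, hz⟩ ⟨y, hy⟩))
    rw [hgen g hg] at h2
    exact Subgroup.mem_inf.mpr ⟨hx1, Subgroup.mem_center_iff.mpr fun z =>
      Subgroup.mem_centralizer_singleton_iff.mp (h2 (Subgroup.mem_top z))⟩
  · obtain ⟨hx1, hx2⟩ := Subgroup.mem_inf.mp hx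
    refine Subgroup.mem_inf.mpr ⟨hx1, x, hx1, ?_⟩
    simp [Subgroup.mem_center_iff.mp hx2 g, mul_assoc]

end Cfsg.Agent.S2835
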