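import Cfsg.Statements.S2836
import Cfsg.Agent.Lib.LocalMinimalOver

set_option autoImplicit false
open Cfsg
open scoped commutatorElement Pointwise

namespace Cfsg.Agent.S2836

/-- Let L be a finite group, L₀ a maximal subgroup, T a Sylow p-subgroup of L₀, Y ≤ T, and suppose L is Y-minimal. Let D be the intersection of the conjugates of L₀ (the core of L₀). Then D contains O_p(L) and D/O_p(L) is the Frattini subgroup of L/O_p(L), so D is p-closed; and every normal subgroup N of L contained in L₀ is p-closed with N/O_p(N) a nilpotent group of order prime to p. -/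
theorem result {L : Type*} [Group L] [Finite L] {p : ℕ} [Fact p.Prime] (L₀ : Subgroup L) (hL₀ : IsCoatom L₀) (T : Sylow p ↥L₀) (Y : Subgroup L) (hYT : Y ≤ (T : Subgroup ↥L₀).map L₀.subtype) (hmin : Cfsg.IsMinimalOver Y) : (Cfsg.pCore p L ≤ L₀.normalCore ∧ (L₀.normalCore).map (QuotientGroup.mk' (Cfsg.pCore p L)) = frattini (L ⧸ Cfsg.pCore p L) ∧ Cfsg.IsPClosed p ↥(L₀.normalCore)) ∧ ∀ (N : Subgroup L) [N.Normal], N ≤ L₀ → Cfsg.IsPClosed p ↥N ∧ Group.IsNilpotent (↥N ⧸ Cfsg.pCore p ↥N) ∧ (Nat.card (↥N ⧸ Cfsg.pCore p ↥N)).Coprime p := by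
  obtain ⟨P, hP⟩ := CfsgLib.Local.MinOver.sylow_eq hmin hL₀ T hYT
  have hYP : Y ≤ (P : Subgroup L) := hP ▸ hYT
  have hPL : (P : Subgroup L) ≤ L₀ := hP.le.trans (Subgroup.map_subtype_le _)
  set O := Cfsg.pCore p L with hO
  haveI hOn : O.Normal := CfsgLib.Local.pCore_normal' p
  set D := L₀.normalCore with hD
  have hDn : D.Normal := L₀.normalCore_normal
  have hDL : D ≤ L₀ := L₀.normalCore_le
  have hOL : O ≤ L₀ := (CfsgLib.Local.pCore_le_sylow' P).trans hPL
  have hOD : O ≤ D := Subgroup.normal_le_normalCore.mpr hOL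
  set q := QuotientGroup.mk' O with hq
  have hqs : Function.Surjective q := QuotientGroup.mk'_surjective O
  have hfrat : D.map q = frattini (L ⧸ O) := by
    refine le_antisymm (le_iInf₂ fun V hV => ?_) ?_
    · by_contra hDV
      set X := V.comap q with hX
      have hDX : ¬ D ≤ X := fun h => hDV (Subgroup.map_le_iff_le_comap.mpr h)
      have hXtop : D ⊔ X = ⊤ := by
        have h1 : D.map q ⊔ V = ⊤ := hV.2 _ (right_lt_sup.mpr hDV)
        have h2 := congrArg (Subgroup.comap q) h1
        rw [Subgroup.comap_top, ← Subgroup.map_comap_eq_self_of_surjective hqs V,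
          ← Subgroup.map_sup, Subgroup.comap_map_eq] at h2
        rwa [sup_eq_left.mpr ((Subgroup.ker_le_comap q V).trans le_sup_right)] at h2
      have hXi : ¬ p ∣ X.index := by
        intro hd
        haveI := hDn
        have hXn : X ≤ Subgroup.normalizer (D : Set L) :=
          (Subgroup.normalizer_eq_top (H := D)).symm ▸ le_top
        have h2 : X.relIndex (X ⊔ D) = X.relIndex D := by
          have h1 := CfsgLib.Core.card_sup_mul_card_inf hXn
          rw [← CfsgLib.Core.card_mul_relIndex (le_sup_left : X ≤ X ⊔ D),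
            ← CfsgLib.Core.card_inf_mul_relIndex X D] at h1
          refine Nat.eq_of_mul_eq_mul_left (Nat.mul_pos (Nat.card_pos (α := ↥X))
            (Nat.card_pos (α := ↥(X ⊓ D)))) ?_
          linarith
        rw [sup_comm, hXtop, Subgroup.relIndex_top_right] at h2
        have hOX : O ≤ X := by
          have := Subgroup.ker_le_comap q V
          rwa [hq, QuotientGroup.ker_mk'] at this
        refine (CfsgLib.Local.MinOver.le_pCore_of_normal hmin hL₀ P hYP hPL hDn hDL).2
          (hd.trans ?_)
        rw [h2]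
        exact Subgroup.relIndex_dvd_of_le_left D
          (((CfsgLib.Local.MinOver.le_pCore_of_normal hmin hL₀ P hYP hPL hDn hDL).1).trans hOX)
      obtain ⟨P0⟩ := (inferInstance : Nonempty (Sylow p ↥X))
      set Q := (P0 : Subgroup ↥X).map X.subtype with hQ
      have hQi : ¬ p ∣ Q.index := by
        rw [← Subgroup.relIndex_mul_index (Subgroup.map_subtype_le _ : Q ≤ X)]
        intro hd
        rcases (Nat.Prime.dvd_mul Fact.out).mp hd with h | h
        · rw [Subgroup.relIndex, Subgroup.subgroupOf,
            Subgroup.comap_map_eq_self_of_injective X.subtype_injective] at h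
          exact P0.not_dvd_index h
        · exact hXi h
      obtain ⟨g, hg⟩ := MulAction.exists_smul_eq L
        ((P0.isPGroup'.map _ : IsPGroup p ↥Q).toSylow hQi) P
      have h3 : MulAut.conj g • Q = (P : Subgroup L) := congrArg Sylow.toSubgroup hg
      have h4 : Y ≤ MulAut.conj g • X := hYP.trans (h3 ▸
        CfsgLib.Core.conj_smul_le_conj_smul.mpr (Subgroup.map_subtype_le _))
      have hDg : MulAut.conj g • D = D := by
        haveI := hDn
        exact CfsgLib.Core.conj_smul_of_normal g D
      have hne : MulAut.conj g • X ≠ ⊤ := by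
        intro h
        refine hDX ?_
        rw [← CfsgLib.Core.conj_smul_le_conj_smul (g := g), h]
        exact le_top
      have h5 := CfsgLib.Local.MinOver.le_of_ne_top hmin hL₀ (hYP.trans hPL) h4 hne
      refine hL₀.1 (eq_top_iff.mpr ?_)
      have h6 : MulAut.conj g • (⊤ : Subgroup L) = ⊤ :=
        CfsgLib.Core.conj_smul_of_normal g ⊤
      rw [← h6, ← hXtop, Subgroup.smul_sup, hDg]
      exact sup_le hDL h5
    · have hC : (frattini (L ⧸ O)).comap q ≤ L₀ := by
        by_contra hC
        have h1 : (frattini (L ⧸ O)).comap q ⊔ L₀ = ⊤ := hL₀.2 _ (right_lt_sup.mpr hC)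
        have h2 := congrArg (Subgroup.map q) h1
        rw [Subgroup.map_sup, Subgroup.map_comap_eq_self_of_surjective hqs,
          Subgroup.map_top_of_surjective q hqs, sup_comm] at h2
        have h3 := congrArg (Subgroup.comap q) (frattini_nongenerating h2)
        rw [Subgroup.comap_top, Subgroup.comap_map_eq, hq, QuotientGroup.ker_mk',
          sup_eq_left.mpr hOL] at h3
        exact hL₀.1 h3
      haveI : ((frattini (L ⧸ O)).comap q).Normal := inferInstance
      rw [← Subgroup.map_comap_eq_self_of_surjective hqs (frattini (L ⧸ O))]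
      exact Subgroup.map_mono (Subgroup.normal_le_normalCore.mpr hC)
  refine ⟨⟨hOD, hfrat, (CfsgLib.Local.MinOver.isPClosed_of_normal hmin hL₀ P hYP hPL hDn hDL).1⟩,
    fun N hN hNL => ?_⟩
  haveI hNn := hN
  obtain ⟨hcl, hi⟩ := CfsgLib.Local.MinOver.isPClosed_of_normal hmin hL₀ P hYP hPL hNn hNL
  refine ⟨hcl, ?_, ?_⟩
  · have hND : N ≤ D := Subgroup.normal_le_normalCore.mpr hNL
    let f : ↥N →* ↥(frattini (L ⧸ O)) := (q.comp N.subtype).codRestrict _ fun x =>
      hfrat ▸ ⟨x, hND x.2, rfl⟩
    have hker : Cfsg.pCore p ↥N = f.ker := by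
      rw [CfsgLib.Local.MinOver.pCore_subgroupOf hNn]
      ext x
      rw [MonoidHom.mem_ker, Subgroup.mem_subgroupOf, Subtype.ext_iff]
      exact (QuotientGroup.eq_one_iff (x : L)).symm
    haveI := frattini_nilpotent (G := L ⧸ O)
    haveI : Group.IsNilpotent ↥f.range := inferInstance
    exact Group.nilpotent_of_mulEquiv
      ((QuotientGroup.quotientKerEquivRange f).symm.trans
        (QuotientGroup.quotientMulEquivOfEq hker).symm)
  · rw [← Subgroup.index_eq_card]
    exact ((Fact.out : p.Prime).coprime_iff_not_dvd.mpr hi).symm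

end Cfsg.Agent.S2836
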