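import Cfsg.Statements.S2837
import Cfsg.Agent.Lib.LocalMinimalOver
import Cfsg.Agent.Lib.CorePGroup

set_option autoImplicit false
open Cfsg
open scoped commutatorElement Pointwise

namespace Cfsg.Agent.S2837

/-- Let L be a finite group of characteristic p, L₀ a maximal subgroup, Y an elementary abelian p-subgroup of L₀ with L Y-minimal and O_p(L) ≤ N_L(Y). Put A = the normal closure of O_p(L) ∩ Y in L. Then for every g ∈ L outside L₀: Φ(A) = A' = [A ∩ Y, A] = [A ∩ Y, A ∩ gYg⁻¹] ≤ C_Y(L), and Y ∩ gYg⁻¹ = (A ∩ Y) ∩ (A ∩ gYg⁻¹) = C_Y(L) = C_A(L). -/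
theorem result {L : Type*} [Group L] [Finite L] {p : ℕ} [Fact p.Prime] (hchar : Subgroup.centralizer (Cfsg.pCore p L : Set L) ≤ Cfsg.pCore p L) (L₀ : Subgroup L) (hL₀ : IsCoatom L₀) (Y : Subgroup L) (hYL₀ : Y ≤ L₀) (hYel : Cfsg.IsElementaryAbelian p Y) (hmin : Cfsg.IsMinimalOver Y) (hOY : Cfsg.pCore p L ≤ Subgroup.normalizer (Y : Set L)) (A : Subgroup L) (hA : A = Subgroup.normalClosure (((Cfsg.pCore p L ⊓ Y : Subgroup L)) : Set L)) (g : L) (hg : g ∉ L₀) : (frattini ↥A).map A.subtype = ⁅A, A⁆ ∧ ⁅A, A⁆ = ⁅A ⊓ Y, A⁆ ∧ ⁅A ⊓ Y, A⁆ = ⁅A ⊓ Y, A ⊓ Y.map (MulAut.conj g).toMonoidHom⁆ ∧ ⁅A ⊓ Y, A⁆ ≤ Y ⊓ Subgroup.center L ∧ Y ⊓ Y.map (MulAut.conj g).toMonoidHom = Y ⊓ Subgroup.center L ∧ (A ⊓ Y) ⊓ (A ⊓ Y.map (MulAut.conj g).toMonoidHom) = Y ⊓ Subgroup.center L ∧ A ⊓ Subgroup.center L = Y ⊓ Subgroup.center L := by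
  classical
  set f := (MulAut.conj g).toMonoidHom with hf
  have hfinj : Function.Injective f := (MulAut.conj g).injective
  set O := Cfsg.pCore p L with hOdef
  haveI hOn : O.Normal := CfsgLib.Local.pCore_normal' p
  set B := O ⊓ Y with hB
  haveI hAn : A.Normal := hA ▸ Subgroup.normalClosure_normal
  have hBA : B ≤ A := hA ▸ Subgroup.le_normalClosure
  have hAO : A ≤ O := hA ▸ Subgroup.normalClosure_le_normal (SetLike.coe_subset_coe.mpr inf_le_left)
  set Yg := Y.map f with hYg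
  -- `L` is generated by `Y` and its conjugate
  have htop : Y ⊔ Yg = ⊤ := by
    by_contra hne
    have h1 : Yg ≤ L₀ := le_sup_right.trans
      (CfsgLib.Local.MinOver.le_of_ne_top hmin hL₀ hYL₀ le_sup_left hne)
    have h2 : L₀.map (MulAut.conj g⁻¹).toMonoidHom = L₀ := by
      refine hmin.2.unique ⟨(OrderIso.isCoatom_iff (MulEquiv.mapSubgroup (MulAut.conj g⁻¹)) L₀).mpr hL₀, ?_⟩
        ⟨hL₀, hYL₀⟩
      intro y hy
      exact ⟨f y, h1 ⟨y, hy, rfl⟩, by simp [hf, MulAut.conj_apply, mul_assoc]⟩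
    refine hg (CfsgLib.Local.MinOver.normalizer_le hmin hL₀ hYL₀ hYL₀ hL₀.1 ?_)
    refine inv_inv g ▸ inv_mem (Subgroup.mem_normalizer_iff.mpr fun x => ⟨fun hx => ?_, fun hx => ?_⟩)
    · exact h2.le ⟨x, hx, rfl⟩
    · obtain ⟨y, hy, hyx⟩ := h2.ge hx
      rwa [← (MulAut.conj g⁻¹).injective hyx]
  haveI hYc : IsMulCommutative Y := hYel.1
  haveI hYgc : IsMulCommutative Yg := Subgroup.map_isMulCommutative Y f
  have hYY : Y ≤ Subgroup.centralizer (Y : Set L) := Subgroup.le_centralizer Y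
  have hYgYg : Yg ≤ Subgroup.centralizer (Yg : Set L) := Subgroup.le_centralizer Yg
  have hOYg : O ≤ Subgroup.normalizer (Yg : Set L) := by
    refine CfsgLib.Core.le_normalizer_iff_forall.mpr fun o ho v hv => ?_
    obtain ⟨y, hy, rfl⟩ := hv
    refine ⟨(g⁻¹ * o * g) * y * (g⁻¹ * o * g)⁻¹,
      (Subgroup.mem_normalizer_iff.mp (hOY (hOn.conj_mem' o ho g)) y).mp hy, ?_⟩
    simp [hf, MulAut.conj_apply]
    group
  -- intersection
  set Z := Y ⊓ Subgroup.center L with hZ
  have hYYg : Y ⊓ Yg = Z := by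
    refine le_antisymm (le_inf inf_le_left ?_) (le_inf inf_le_left ?_)
    · rw [← Subgroup.centralizer_univ, ← Subgroup.coe_top, ← htop, Subgroup.le_centralizer_iff]
      exact sup_le (hYY.trans (Subgroup.centralizer_le (SetLike.coe_subset_coe.mpr inf_le_left)))
        (hYgYg.trans (Subgroup.centralizer_le (SetLike.coe_subset_coe.mpr inf_le_right)))
    · intro z hz
      obtain ⟨hz1, hz2⟩ := Subgroup.mem_inf.mp hz
      refine ⟨z, hz1, ?_⟩
      show g * z * g⁻¹ = z
      rw [Subgroup.mem_center_iff.mp hz2 g, mul_inv_cancel_right]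
  have hZA : Z ≤ A := by
    refine le_trans (le_inf ?_ inf_le_left) hBA
    refine le_trans inf_le_right ?_
    exact fun z hz => by
      have h1 : z ∈ Subgroup.centralizer (O : Set L) :=
        Subgroup.center_le_centralizer _ hz
      exact hchar h1
  -- `A = (A ⊓ Y) (A ⊓ Y^g)`
  set D := (A ⊓ Y) ⊔ (A ⊓ Yg) with hD
  have hnA : ∀ X : Subgroup L, X ≤ Subgroup.normalizer (A : Set L) := fun X => by
    rw [Subgroup.normalizer_eq_top]; exact le_top
  have hstep : ∀ Y1 Y2 : Subgroup L, O ≤ Subgroup.normalizer (Y1 : Set L) →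
      Y1 ≤ Subgroup.centralizer (Y1 : Set L) →
      ∀ y ∈ Y1, ∀ d ∈ (A ⊓ Y1) ⊔ (A ⊓ Y2), y * d * y⁻¹ ∈ (A ⊓ Y1) ⊔ (A ⊓ Y2) := by
    intro Y1 Y2 hn hc y hy d hd
    have hle : (A ⊓ Y1) ⊔ (A ⊓ Y2) ≤
        ((A ⊓ Y1) ⊔ (A ⊓ Y2)).comap (MulAut.conj y).toMonoidHom := by
      refine sup_le (fun v hv => ?_) (fun v hv => ?_)
      · show y * v * y⁻¹ ∈ (A ⊓ Y1) ⊔ (A ⊓ Y2)
        rw [← Subgroup.mem_centralizer_iff.mp (hc hy) v hv.2, mul_inv_cancel_right]
        exact Subgroup.mem_sup_left hv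
      · show y * v * y⁻¹ ∈ (A ⊓ Y1) ⊔ (A ⊓ Y2)
        have h1 : y * v * y⁻¹ * v⁻¹ ∈ A ⊓ Y1 := by
          refine Subgroup.mem_inf.mpr ⟨mul_mem (hAn.conj_mem v hv.1 y) (inv_mem hv.1), ?_⟩
          have := mul_mem hy ((Subgroup.mem_normalizer_iff.mp (hn (hAO hv.1)) y⁻¹).mp (inv_mem hy))
          simpa [mul_assoc] using this
        have := mul_mem (Subgroup.mem_sup_left (T := A ⊓ Y2) h1) (Subgroup.mem_sup_right hv)
        simpa [mul_assoc] using this
    exact hle hd
  have hAD : A = D := by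
    refine le_antisymm ?_ (sup_le inf_le_left inf_le_left)
    have hDn : D.Normal := by
      rw [← Subgroup.normalizer_eq_top_iff, eq_top_iff, ← htop]
      refine sup_le (CfsgLib.Core.le_normalizer_iff_forall.mpr (hstep Y Yg hOY hYY))
        (CfsgLib.Core.le_normalizer_iff_forall.mpr ?_)
      intro y hy d hd
      rw [hD, sup_comm] at hd ⊢
      exact hstep Yg Y hOYg hYgYg y hy d hd
    calc A = Subgroup.normalClosure ((B : Subgroup L) : Set L) := hA
      _ ≤ D := Subgroup.normalClosure_le_normal (N := D)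
          (SetLike.coe_subset_coe.mpr ((le_inf hBA inf_le_right).trans le_sup_left))
  -- commutators
  set C := ⁅A ⊓ Y, A ⊓ Yg⁆ with hC
  have hCle : C ≤ Z := by
    rw [← hYYg]
    refine le_inf ?_ ?_
    · rw [hC, Subgroup.commutator_comm]
      exact (Subgroup.commutator_mono le_rfl inf_le_right).trans
        ((Subgroup.commutator_comm (A ⊓ Yg) Y).le.trans
          (Subgroup.commutator_le.mpr fun y hy v hv => by
            rw [commutatorElement_def]
            have := mul_mem hy ((Subgroup.mem_normalizer_iff.mp (hOY (hAO hv.1)) y⁻¹).mp (inv_mem hy))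
            simpa [mul_assoc] using this))
    · exact Subgroup.commutator_le.mpr fun v hv y hy => by
        rw [commutatorElement_def]
        exact mul_mem ((Subgroup.mem_normalizer_iff.mp (hOYg (hAO hv.1)) y).mp hy.2) (inv_mem hy.2)
  have hCc : C ≤ Subgroup.center L := hCle.trans inf_le_right
  have hAAC : ⁅A, A⁆ ≤ C := by
    rw [Subgroup.commutator_le]
    intro a ha b hb
    -- the elements with commutators in `C`
    let T : Subgroup L → Subgroup L := fun X =>
      { carrier := {a | ∀ x ∈ X, ⁅a, x⁆ ∈ C}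
        one_mem' := fun x _ => by simp
        mul_mem' := by
          intro u v hu hv x hx
          have hc := Subgroup.mem_center_iff.mp (hCc (hv x hx)) u
          rw [show ⁅u * v, x⁆ = u * ⁅v, x⁆ * u⁻¹ * ⁅u, x⁆ by simp only [commutatorElement_def]; group,
            hc, mul_inv_cancel_right]
          exact mul_mem (hv x hx) (hu x hx)
        inv_mem' := by
          intro u hu x hx
          have hc := Subgroup.mem_center_iff.mp (hCc (inv_mem (hu x hx))) u⁻¹
          rw [show ⁅u⁻¹, x⁆ = u⁻¹ * ⁅u, x⁆⁻¹ * u by simp only [commutatorElement_def]; group,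
            hc, inv_mul_cancel_right]
          exact inv_mem (hu x hx) }
    have hinv : ∀ u v : L, ⁅u, v⁆ ∈ C → ⁅v, u⁆ ∈ C := fun u v h => by
      rw [← commutatorElement_inv]; exact inv_mem h
    have hgen : ∀ X : Subgroup L, A ⊓ Y ≤ T X → A ⊓ Yg ≤ T X → A ≤ T X := fun X h1 h2 => by
      rw [hAD]; exact sup_le h1 h2
    have hone : ∀ Y1 : Subgroup L, Y1 ≤ Subgroup.centralizer (Y1 : Set L) →
        ∀ u ∈ A ⊓ Y1, ∀ v ∈ A ⊓ Y1, ⁅u, v⁆ ∈ C := fun Y1 hc u hu v hv => by
      rw [commutatorElement_eq_one_iff_mul_comm.mpr (Subgroup.mem_centralizer_iff.mp (hc hv.2) u hu.2)]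
      exact one_mem C
    have h1 : A ≤ T (A ⊓ Y) := hgen _ (fun u hu v hv => hone Y hYY u hu v hv)
      (fun u hu v hv => hinv v u (Subgroup.commutator_mem_commutator hv hu))
    have h2 : A ≤ T (A ⊓ Yg) := hgen _ (fun u hu v hv => Subgroup.commutator_mem_commutator hu hv)
      (fun u hu v hv => hone Yg hYgYg u hu v hv)
    have h3 : A ≤ T A := hgen _ (fun u hu v hv => hinv v u (h1 hv u hu))
      (fun u hu v hv => hinv v u (h2 hv u hu))
    exact h3 ha b hb
  have hCAY : C ≤ ⁅A ⊓ Y, A⁆ := Subgroup.commutator_mono le_rfl inf_le_left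
  have hAYA : ⁅A ⊓ Y, A⁆ ≤ ⁅A, A⁆ := Subgroup.commutator_mono inf_le_left le_rfl
  have hAA : ⁅A, A⁆ = C := le_antisymm hAAC (hCAY.trans hAYA)
  have hAYC : ⁅A ⊓ Y, A⁆ = C := le_antisymm (hAYA.trans hAAC) hCAY
  refine ⟨?_, hAA.trans hAYC.symm, hAYC, hAYC ▸ hCle, hYYg, ?_, ?_⟩
  rotate_left
  · refine le_antisymm ?_ ?_
    · rw [← hYYg]; exact inf_le_inf inf_le_right inf_le_right
    · refine le_inf (le_inf hZA inf_le_left) (le_inf hZA ?_)
      exact hYYg.ge.trans inf_le_right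
  · refine le_antisymm ?_ (le_inf hZA inf_le_right)
    intro z hz
    obtain ⟨hz1, hz2⟩ := Subgroup.mem_inf.mp hz
    refine Subgroup.mem_inf.mpr ⟨?_, hz2⟩
    have hz' := hAD.le hz1
    obtain ⟨u, hu, v, hv, rfl⟩ := (CfsgLib.Core.mem_sup_iff_of_le_normalizer
      (CfsgLib.Core.le_normalizer_inf (hnA _) ((inf_le_left.trans hAO).trans hOYg))).mp hz'
    have hvc : v ∈ Subgroup.center L := by
      rw [← Subgroup.centralizer_univ, ← Subgroup.coe_top, ← htop]
      suffices h : Y ⊔ Yg ≤ Subgroup.centralizer ({v} : Set L) from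
        Subgroup.mem_centralizer_iff.mpr fun x hx => (Subgroup.mem_centralizer_singleton_iff.mp (h hx))
      refine sup_le (fun y hy => ?_) (fun y hy => ?_)
      · refine Subgroup.mem_centralizer_singleton_iff.mpr ?_
        have h1 : y * u = u * y := Subgroup.mem_centralizer_iff.mp (hYY hu.2) y hy
        have h2 : y * (u * v) = u * v * y := Subgroup.mem_center_iff.mp hz2 y
        rw [← mul_assoc, h1, mul_assoc, mul_assoc, mul_right_inj] at h2
        exact h2
      · exact Subgroup.mem_centralizer_singleton_iff.mpr (Subgroup.mem_centralizer_iff.mp (hYgYg hv.2) y hy)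
    have : v ∈ Y ⊓ Yg := hYYg.ge (Subgroup.mem_inf.mpr ⟨?_, hvc⟩)
    · exact mul_mem hu.2 (Subgroup.mem_inf.mp this).1
    · obtain ⟨y, hy, rfl⟩ := hv.2
      have : g * y * g⁻¹ ∈ Subgroup.center L := hvc
      have hy' : f y = y := by
        show g * y * g⁻¹ = y
        have h1 := Subgroup.mem_center_iff.mp this g⁻¹
        calc g * y * g⁻¹ = g⁻¹ * (g * y * g⁻¹) * g := by rw [h1, mul_assoc (g * y * g⁻¹), inv_mul_cancel, mul_one]
          _ = y := by group
      rw [hy']; exact hy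
  · -- Frattini
    have hAp : IsPGroup p A := (CfsgLib.Local.pCore_isPGroup' p).to_le hAO
    have hcom : ⁅A, A⁆ ≤ (frattini ↥A).map A.subtype := by
      rw [← Subgroup.map_subtype_commutator]
      exact Subgroup.map_mono (CfsgLib.Core.pgroup_commutator_le_frattini hAp)
    refine le_antisymm ?_ hcom
    rw [← Subgroup.map_subtype_commutator]
    refine Subgroup.map_mono ?_
    haveI : (commutator ↥A).Normal := inferInstance
    refine CfsgLib.Core.frattini_le_of_elementary (p := p) le_rfl fun a => ?_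
    rw [← Abelianization.ker_of, MonoidHom.mem_ker, map_pow]
    have hle : A ≤ (((powMonoidHom p).comp (Abelianization.of (G := ↥A))).ker.map A.subtype) := by
      intro x hx
      have hx' := hAD.le hx
      have key : ∀ Y1 : Subgroup L, (∀ y ∈ Y1, y ^ p = 1) →
          A ⊓ Y1 ≤ ((powMonoidHom p).comp (Abelianization.of (G := ↥A))).ker.map A.subtype := by
        intro Y1 hY1 u hu
        refine ⟨⟨u, hu.1⟩, ?_, rfl⟩
        rw [SetLike.mem_coe, MonoidHom.mem_ker]
        show Abelianization.of (⟨u, hu.1⟩ : ↥A) ^ p = 1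
        rw [← map_pow, show (⟨u, hu.1⟩ : ↥A) ^ p = 1 from Subtype.ext (hY1 u hu.2), map_one]
      refine (sup_le (key Y hYel.2) (key Yg ?_)) hx'
      rintro _ ⟨y, hy, rfl⟩
      rw [← map_pow, hYel.2 y hy, map_one]
    obtain ⟨b, hb, hba⟩ := hle a.2
    rw [← show b = a from Subtype.ext hba]
    exact hb

end Cfsg.Agent.S2837
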