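import Cfsg.Statements.S2838
import Cfsg.Agent.Lib.LocalPReduced

set_option autoImplicit false
open Cfsg
open scoped commutatorElement Pointwise

namespace Cfsg.Agent.S2838

/-- For a nontrivial p-subgroup Q of a finite group H the following are equivalent: Q is a weakly closed subgroup (it is the only H-conjugate of itself inside some Sylow p-subgroup containing it); Q = P for every conjugate P of Q with [Q, P] ≤ Q ∩ P; Q is normal in N_H(R) for every p-subgroup R of H containing Q. -/
theorem result {H : Type*} [Group H] [Finite H] {p : ℕ} [Fact p.Prime] (Q : Subgroup H) (hQp : IsPGroup p ↥Q) (hQ1 : Q ≠ ⊥) : (Cfsg.IsWeaklyClosedSubgroup p Q ↔ ∀ g : H, ⁅Q, ((Q : Subgroup H).map (MulAut.conj (g : H)).toMonoidHom)⁆ ≤ Q ⊓ ((Q : Subgroup H).map (MulAut.conj (g : H)).toMonoidHom) → ((Q : Subgroup H).map (MulAut.conj (g : H)).toMonoidHom) = Q) ∧ (Cfsg.IsWeaklyClosedSubgroup p Q ↔ ∀ R : Subgroup H, IsPGroup p ↥R → Q ≤ R → Subgroup.normalizer ((R : Subgroup H) : Set H) ≤ Subgroup.normalizer ((Q : Subgroup H) :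 Set H)) := by
  let A : Prop := Cfsg.IsWeaklyClosedSubgroup p Q
  let B : Prop := ∀ g : H, ⁅Q, MulAut.conj g • Q⁆ ≤ Q ⊓ MulAut.conj g • Q → MulAut.conj g • Q = Q
  let C : Prop := ∀ R : Subgroup H, IsPGroup p ↥R → Q ≤ R →
    Subgroup.normalizer (R : Set H) ≤ Subgroup.normalizer (Q : Set H)
  have hAB : A → B := by
    rintro ⟨T, hQT, hT⟩ g hg
    have hPp : IsPGroup p ↥(MulAut.conj g • Q : Subgroup H) := by
      rw [CfsgLib.Core.conj_smul_eq_map]; exact hQp.map _
    have hn : MulAut.conj g • Q ≤ Subgroup.normalizer (Q : Set H) := by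
      refine CfsgLib.Local.PRed.le_normalizer_of_conj fun x hx q hq => ?_
      have h1 := (Subgroup.mem_inf.mp
        (hg (Subgroup.commutator_mem_commutator (Q.inv_mem hq) hx))).1
      have := Q.mul_mem hq h1
      simpa [commutatorElement_def, mul_assoc] using this
    obtain ⟨T', hT'⟩ := (hQp.to_sup_of_normal_left' hPp hn).exists_le_sylow
    obtain ⟨h, hh⟩ := MulAction.exists_smul_eq H T T'
    have he : (T' : Subgroup H) = MulAut.conj h • (T : Subgroup H) := by rw [← hh]; rfl
    rw [he] at hT'
    have key : ∀ a : H, MulAut.conj a • Q ≤ MulAut.conj h • (T : Subgroup H) →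
        h⁻¹ * a ∈ Subgroup.normalizer (Q : Set H) := by
      intro a ha
      rw [← CfsgLib.Core.conj_smul_le_conj_smul (g := h⁻¹),
        CfsgLib.Core.conj_smul_conj_smul, CfsgLib.Core.conj_smul_conj_smul, inv_mul_cancel,
        CfsgLib.Core.conj_one_smul] at ha
      exact CfsgLib.Core.conj_smul_eq_self_iff.mp (hT _ ha)
    have h1 := key 1 (by rw [CfsgLib.Core.conj_one_smul]; exact le_sup_left.trans hT')
    have h2 := key g (le_sup_right.trans hT')
    have := mul_mem (inv_mem h1) h2
    exact CfsgLib.Core.conj_smul_of_mem_normalizer (by simpa [mul_assoc] using this)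
  have hBC : B → C := by
    intro hB R hR hQR
    have key : ∀ x : H, MulAut.conj x • Q ≤ Subgroup.normalizer (Q : Set H) →
        Q ≤ Subgroup.normalizer ((MulAut.conj x • Q : Subgroup H) : Set H) →
        x ∈ Subgroup.normalizer (Q : Set H) := by
      intro x h1 h2
      refine CfsgLib.Core.conj_smul_eq_self_iff.mp (hB x ?_)
      refine Subgroup.commutator_le.mpr fun q hq y hy => Subgroup.mem_inf.mpr ⟨?_, ?_⟩
      · have := Q.mul_mem hq (CfsgLib.Local.PRed.conj_mem h1 hy (Q.inv_mem hq))
        simpa [commutatorElement_def, mul_assoc] using this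
      · exact Subgroup.mul_mem _ (CfsgLib.Local.PRed.conj_mem h2 hq hy) (Subgroup.inv_mem _ hy)
    have hRQ : R ≤ Subgroup.normalizer (Q : Set H) := by
      by_contra hne
      haveI : Group.IsNilpotent ↥R := hR.isNilpotent
      have hlt : (Subgroup.normalizer (Q : Set H)).subgroupOf R < ⊤ :=
        lt_top_iff_ne_top.mpr fun h => hne (Subgroup.subgroupOf_eq_top.mp h)
      obtain ⟨x, hx1, hx2⟩ :=
        SetLike.exists_of_lt (Group.normalizerCondition_of_isNilpotent (G := ↥R) _ hlt)
      refine hx2 (Subgroup.mem_subgroupOf.mpr (key x ?_ ?_))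
      · intro y hy
        rw [CfsgLib.Core.mem_conj_smul] at hy
        have hyR : y ∈ R := by
          have := R.mul_mem (R.mul_mem x.2 (hQR hy)) (R.inv_mem x.2)
          simpa [mul_assoc] using this
        have h1 : x⁻¹ * (⟨y, hyR⟩ : ↥R) * x ∈
            (Subgroup.normalizer (Q : Set H)).subgroupOf R := by
          rw [Subgroup.mem_subgroupOf]
          simpa using Subgroup.le_normalizer hy
        have := (Subgroup.mem_normalizer_iff.mp hx1 _).mp h1
        rw [Subgroup.mem_subgroupOf] at this
        simpa [mul_assoc] using this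
      · refine CfsgLib.Local.PRed.le_normalizer_of_conj fun q hq y hy => ?_
        rw [CfsgLib.Core.mem_conj_smul] at hy ⊢
        have hq' : ((x : H))⁻¹ * q * x ∈ Subgroup.normalizer (Q : Set H) := by
          have := (Subgroup.mem_normalizer_iff.mp (inv_mem hx1) ⟨q, hQR hq⟩).mp
            (Subgroup.mem_subgroupOf.mpr (Subgroup.le_normalizer hq))
          simpa [Subgroup.mem_subgroupOf, mul_assoc] using this
        have := (Subgroup.mem_normalizer_iff.mp hq' _).mp hy
        simpa [mul_assoc] using this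
    intro n hn
    refine key n ?_ ?_
    · intro y hy
      rw [CfsgLib.Core.mem_conj_smul] at hy
      have := CfsgLib.Local.PRed.conj_mem (le_refl (Subgroup.normalizer (R : Set H))) hn (hQR hy)
      exact hRQ (by simpa [mul_assoc] using this)
    · refine CfsgLib.Local.PRed.le_normalizer_of_conj fun q hq y hy => ?_
      rw [CfsgLib.Core.mem_conj_smul] at hy ⊢
      have hq' : n⁻¹ * q * n ∈ Subgroup.normalizer (Q : Set H) := hRQ (by
        simpa using CfsgLib.Local.PRed.conj_mem (le_refl (Subgroup.normalizer (R : Set H)))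
          (inv_mem hn) (hQR hq))
      have := (Subgroup.mem_normalizer_iff.mp hq' _).mp hy
      simpa [mul_assoc] using this
  have hCA : C → A := by
    intro hC
    obtain ⟨T, hT⟩ := hQp.exists_le_sylow
    refine ⟨T, hT, fun g hg => ?_⟩
    have hTn : (T : Subgroup H) ≤ Subgroup.normalizer (Q : Set H) :=
      Subgroup.le_normalizer.trans (hC _ T.isPGroup' hT)
    set P := MulAut.conj g • Q with hP
    have hQT' : Q ≤ MulAut.conj g⁻¹ • (T : Subgroup H) := by
      rw [← CfsgLib.Core.conj_smul_le_conj_smul (g := g), CfsgLib.Core.conj_smul_conj_smul,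
        mul_inv_cancel, CfsgLib.Core.conj_one_smul]
      exact hg
    have hT'p : IsPGroup p ↥(MulAut.conj g⁻¹ • (T : Subgroup H) : Subgroup H) := by
      rw [CfsgLib.Core.conj_smul_eq_map]; exact T.isPGroup'.map _
    have hT'n : MulAut.conj g⁻¹ • (T : Subgroup H) ≤ Subgroup.normalizer (Q : Set H) :=
      Subgroup.le_normalizer.trans (hC _ hT'p hQT')
    have hTP : (T : Subgroup H) ≤ Subgroup.normalizer (P : Set H) := by
      intro t ht
      rw [← CfsgLib.Core.conj_smul_eq_self_iff, hP, CfsgLib.Core.conj_smul_conj_smul]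
      have h1 : g⁻¹ * t * g ∈ Subgroup.normalizer (Q : Set H) :=
        hT'n (by rw [CfsgLib.Core.mem_conj_smul]; simpa [mul_assoc] using ht)
      conv_rhs => rw [← CfsgLib.Core.conj_smul_of_mem_normalizer h1,
        CfsgLib.Core.conj_smul_conj_smul]
      simp [mul_assoc]
    have hTgP : ((g • T : Sylow p H) : Subgroup H) ≤ Subgroup.normalizer (P : Set H) := by
      intro t ht
      have ht' : g⁻¹ * t * g ∈ Subgroup.normalizer (Q : Set H) :=
        hTn (CfsgLib.Core.mem_conj_smul.mp ht)
      rw [← CfsgLib.Core.conj_smul_eq_self_iff, hP, CfsgLib.Core.conj_smul_conj_smul]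
      conv_rhs => rw [← CfsgLib.Core.conj_smul_of_mem_normalizer ht',
        CfsgLib.Core.conj_smul_conj_smul]
      simp [mul_assoc]
    obtain ⟨k, hk⟩ := MulAction.exists_smul_eq ↥(Subgroup.normalizer (P : Set H))
      (T.subtype hTP) ((g • T).subtype hTgP)
    have h2 : MulAut.conj k • (T : Subgroup H).subgroupOf (Subgroup.normalizer (P : Set H)) =
        ((g • T : Sylow p H) : Subgroup H).subgroupOf (Subgroup.normalizer (P : Set H)) :=
      congrArg Sylow.toSubgroup hk
    have h3 := congrArg (Subgroup.map (Subgroup.normalizer (P : Set H)).subtype) h2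
    rw [CfsgLib.Core.map_conj_smul, Subgroup.map_subgroupOf_eq_of_le hTP,
      Subgroup.map_subgroupOf_eq_of_le hTgP] at h3
    have h3' : MulAut.conj (k : H) • (T : Subgroup H) = MulAut.conj g • (T : Subgroup H) := h3
    have h4 : (k : H)⁻¹ * g ∈ Subgroup.normalizer (Q : Set H) := by
      refine hC _ T.isPGroup' hT (CfsgLib.Core.conj_smul_eq_self_iff.mp ?_)
      rw [← CfsgLib.Core.conj_smul_conj_smul, ← h3', CfsgLib.Core.conj_smul_conj_smul,
        inv_mul_cancel, CfsgLib.Core.conj_one_smul]
    have h5 : P = MulAut.conj (k : H) • Q := by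
      conv_rhs => rw [← CfsgLib.Core.conj_smul_of_mem_normalizer h4,
        CfsgLib.Core.conj_smul_conj_smul, mul_inv_cancel_left]
    have h6 : MulAut.conj (k : H)⁻¹ • P = P :=
      CfsgLib.Core.conj_smul_of_mem_normalizer (inv_mem k.2)
    have h7 : MulAut.conj (k : H)⁻¹ • (MulAut.conj (k : H) • Q) = P := by rw [← h5]; exact h6
    rw [CfsgLib.Core.conj_smul_conj_smul, inv_mul_cancel, CfsgLib.Core.conj_one_smul] at h7
    exact h7.symm
  exact ⟨⟨hAB, fun h => hCA (hBC h)⟩, ⟨fun h => hBC (hAB h), hCA⟩⟩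

end Cfsg.Agent.S2838
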