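import Cfsg.Statements.S2839
import Cfsg.Agent.Lib.LocalWeaklyClosed

set_option autoImplicit false
open Cfsg
open scoped commutatorElement Pointwise

namespace Cfsg.Agent.S2839

/-- Let Q be a nontrivial p-subgroup of the finite group H that is a weakly closed subgroup, K a subgroup containing Q and N a normal subgroup of H. Then Q is a weakly closed subgroup of K; every H-conjugate of Q contained in K is a K-conjugate of Q; N_K(Q) contains a Sylow p-subgroup of K; N = N_N(Q)·O^p(N); and QN/N is a weakly closed subgroup of H/N. -/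
theorem result {H : Type*} [Group H] [Finite H] {p : ℕ} [Fact p.Prime] (Q : Subgroup H) (hQp : IsPGroup p ↥Q) (hQ1 : Q ≠ ⊥) (hwc : Cfsg.IsWeaklyClosedSubgroup p Q) (K : Subgroup H) (hQK : Q ≤ K) (N' : Subgroup H) [N'.Normal] : Cfsg.IsWeaklyClosedSubgroup p (Q.subgroupOf K) ∧ (∀ g : H, ((Q : Subgroup H).map (MulAut.conj (g : H)).toMonoidHom) ≤ K → ∃ k ∈ K, ((Q : Subgroup H).map (MulAut.conj (g : H)).toMonoidHom) = ((Q : Subgroup H).map (MulAut.conj (k : H)).toMonoidHom)) ∧ Cfsg.IsParabolic p ((Subgroup.normalizer ((Q : Subgroup H) : Set H)).subgroupOf K) ∧ (N' ⊓ Subgroup.normalizer ((Q : Subgroup H) : Set H)) ⊔ (Cfsg.pResidual p ↥N').map N'.subtype = N' ∧ Cfsg.IsWeaklyClosedSubgroup p (Q.map (QuotientGroup.mk' N')) := by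
  have h := (CfsgLib.Local.WC.wClosed_iff hQp hQ1).mp hwc
  have hQTn : ∀ T : Sylow p H, Q ≤ T → (T : Subgroup H) ≤ Subgroup.normalizer (Q : Set H) :=
    fun T hT => h.le_normalizer T.isPGroup' hT
  refine ⟨?_, fun g hg => h.conj_in hQp hQ1 hQK hg, ?_, ?_, ?_⟩
  · obtain ⟨P, hP⟩ := (CfsgLib.Local.PRed.isPGroup_subgroupOf (L := K) hQp).exists_le_sylow
    refine ⟨P, hP, fun k hk => ?_⟩
    have hk' : MulAut.conj (k : H) • Q ≤ (P : Subgroup ↥K).map K.subtype := by
      have := Subgroup.map_mono (f := K.subtype) hk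
      rw [← CfsgLib.Core.conj_smul_eq_map, CfsgLib.Core.map_conj_smul,
        Subgroup.map_subgroupOf_eq_of_le hQK] at this
      exact this
    have h3 : MulAut.conj (k : H) • Q = Q := h.eq_of_le hQp hQ1 (P.isPGroup'.map _)
      (fun x hx => ⟨⟨x, hQK hx⟩, hP (Subgroup.mem_subgroupOf.mpr hx), rfl⟩) hk'
    apply Subgroup.map_injective K.subtype_injective
    rw [← CfsgLib.Core.conj_smul_eq_map, CfsgLib.Core.map_conj_smul,
      Subgroup.map_subgroupOf_eq_of_le hQK]
    exact h3
  · obtain ⟨P, hP⟩ := (CfsgLib.Local.PRed.isPGroup_subgroupOf (L := K) hQp).exists_le_sylow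
    refine ⟨P, fun x hx => Subgroup.mem_subgroupOf.mpr ?_⟩
    exact h.le_normalizer (P.isPGroup'.map K.subtype)
      (fun y hy => ⟨⟨y, hQK hy⟩, hP (Subgroup.mem_subgroupOf.mpr hy), rfl⟩) ⟨x, hx, rfl⟩
  · rw [CfsgLib.Local.PRed.map_pResidual]
    refine le_antisymm (sup_le inf_le_left (CfsgLib.Local.PRed.oRes_le N')) ?_
    obtain ⟨T, hT⟩ := hQp.exists_le_sylow
    refine CfsgLib.Local.PRed.le_of_index (p := p) (S := (T : Subgroup H) ⊓ N') inf_le_right ?_ ?_
      fun x hx hc => Subgroup.mem_sup_right (CfsgLib.Local.PRed.mem_oRes hx hc)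
    · exact CfsgLib.Local.PRed.not_dvd_relIndex_inf le_top le_top
        (by rw [Subgroup.normalizer_eq_top]; exact le_top)
        (by rw [Subgroup.relIndex_top_right]; exact T.not_dvd_index)
    · exact (le_inf inf_le_right (inf_le_left.trans (hQTn T hT))).trans le_sup_left
  · obtain ⟨T, hT⟩ := hQp.exists_le_sylow
    set f := QuotientGroup.mk' N' with hf
    have hsurj : Function.Surjective f := QuotientGroup.mk'_surjective N'
    refine ⟨T.mapSurjective hsurj, Subgroup.map_mono hT, fun g hg => ?_⟩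
    obtain ⟨g, rfl⟩ := hsurj g
    rw [← CfsgLib.Core.conj_smul_eq_map, ← CfsgLib.Core.map_conj_smul] at hg ⊢
    have hle : MulAut.conj g • Q ≤ (T : Subgroup H) ⊔ N' := by
      have := Subgroup.map_le_iff_le_comap.mp hg
      rw [Sylow.coe_mapSurjective, Subgroup.comap_map_eq, QuotientGroup.ker_mk'] at this
      exact this
    obtain ⟨k, hk, he⟩ := h.conj_in hQp hQ1 (hT.trans le_sup_left) hle
    obtain ⟨t, ht, n, hn, rfl⟩ := (CfsgLib.Core.mem_sup_iff_of_le_normalizer
      (by rw [Subgroup.normalizer_eq_top]; exact le_top)).mp hk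
    rw [he, CfsgLib.Core.map_conj_smul, map_mul,
      show f n = 1 from (QuotientGroup.eq_one_iff n).mpr hn, mul_one,
      ← CfsgLib.Core.map_conj_smul,
      CfsgLib.Core.conj_smul_of_mem_normalizer (hQTn T hT ht)]

end Cfsg.Agent.S2839
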