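import Cfsg.Statements.S2840
import Cfsg.Agent.Lib.LocalWeaklyClosed

set_option autoImplicit false
open Cfsg
open scoped commutatorElement Pointwise

namespace Cfsg.Agent.S2840

/-- Let Q be a nontrivial p-subgroup of the finite group H that is a weakly closed subgroup and K a subgroup containing Q; let K° be the weak closure of Q in K (generated by the H-conjugates of Q inside K). Then K° is generated by the K-conjugates of Q, and K° is the subnormal closure of Q in K. -/
theorem result {H : Type*} [Group H] [Finite H] {p : ℕ} [Fact p.Prime] (Q : Subgroup H) (hQp : IsPGroup p ↥Q) (hQ1 : Q ≠ ⊥) (hwc : Cfsg.IsWeaklyClosedSubgroup p Q) (K : Subgroup H) (hQK : Q ≤ K) (Kc : Subgroup H) (hKc : Kc = Cfsg.weakClosure Q K) : Kc = ⨆ k : ↥K, ((Q : Subgroup H).map (MulAut.conj ((k : H) : H)).toMonoidHom) ∧ Kc = (Cfsg.subnormalClosure (Q.subgroupOf K)).map K.subtype := by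
  have h := (CfsgLib.Local.WC.wClosed_iff hQp hQ1).mp hwc
  subst hKc
  have hcl := CfsgLib.Local.WC.weakClosure_eq_cl h hQp hQ1 hQK
  have h1 : Cfsg.weakClosure Q K =
      ⨆ k : ↥K, Q.map (MulAut.conj ((k : H) : H)).toMonoidHom := by
    rw [hcl]
    exact le_antisymm (CfsgLib.Local.WC.cl_le_iff_conj fun k hk =>
        le_iSup_of_le (⟨k, hk⟩ : ↥K) le_rfl)
      (iSup_le fun k => CfsgLib.Local.WC.conj_le_cl k.2)
  refine ⟨h1, ?_⟩
  rw [hcl]
  have hclK : CfsgLib.Local.PRed.cl K Q ≤ K :=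
    CfsgLib.Local.PRed.cl_le hQK Subgroup.le_normalizer
  refine le_antisymm ?_ ?_
  · have key : ∀ S : Subgroup ↥K, Q.subgroupOf K ≤ S → S.IsSubnormal →
        CfsgLib.Local.PRed.cl K Q ≤ S.map K.subtype := by
      intro S hQS hS
      induction hS with
      | top => rw [← MonoidHom.range_eq_map, Subgroup.range_subtype]; exact hclK
      | step A B hle _ hN ih =>
        have hAn : B ≤ Subgroup.normalizer (A : Set ↥K) :=
          (Subgroup.normal_subgroupOf_iff_le_normalizer hle).mp hN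
        refine CfsgLib.Local.WC.cl_le_iff_conj fun k hk => ?_
        have hQA : Q ≤ A.map K.subtype := fun x hx =>
          ⟨⟨x, hQK hx⟩, hQS (Subgroup.mem_subgroupOf.mpr hx), rfl⟩
        obtain ⟨b, hb, he⟩ := h.conj_in hQp hQ1 (hQA.trans (Subgroup.map_mono hle))
          ((CfsgLib.Local.WC.conj_le_cl hk).trans (ih (hQS.trans hle)))
        obtain ⟨b', hb', rfl⟩ := hb
        rw [he]
        intro x hx
        obtain ⟨q, hq, rfl⟩ := hx
        obtain ⟨a, ha, rfl⟩ := hQA hq
        exact ⟨b' * a * b'⁻¹, (Subgroup.mem_normalizer_iff.mp (hAn hb') a).mp ha, rfl⟩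
    intro x hx
    refine ⟨⟨x, hclK hx⟩, ?_, rfl⟩
    refine Subgroup.mem_sInf.mpr fun S hS => ?_
    obtain ⟨y, hy, he⟩ := key S hS.1 hS.2 hx
    rwa [← Subtype.ext (a1 := y) (a2 := ⟨x, hclK hx⟩) he]
  · rw [← Subgroup.map_subgroupOf_eq_of_le hclK]
    refine Subgroup.map_mono (sInf_le ⟨?_, ?_⟩)
    · intro x hx
      exact Subgroup.mem_subgroupOf.mpr
        (CfsgLib.Local.PRed.le_cl K Q (Subgroup.mem_subgroupOf.mp hx))
    · exact Subgroup.Normal.isSubnormal (CfsgLib.Local.PRed.subgroupOf_normal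
        (CfsgLib.Local.PRed.cl_normalized K Q))

end Cfsg.Agent.S2840
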