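import Cfsg.Statements.S2841
import Cfsg.Agent.Lib.LocalWeaklyClosed

set_option autoImplicit false
open Cfsg
open scoped commutatorElement Pointwise

namespace Cfsg.Agent.S2841

/-- Let Q be a nontrivial p-subgroup of the finite group H that is a weakly closed subgroup and N a normal subgroup of H. Then N = N_N(Q)·[N, Q] and [N, Q] = (Q ∩ [N, Q])·[N, Q, Q]. -/
theorem result {H : Type*} [Group H] [Finite H] {p : ℕ} [Fact p.Prime] (Q : Subgroup H) (hQp : IsPGroup p ↥Q) (hQ1 : Q ≠ ⊥) (hwc : Cfsg.IsWeaklyClosedSubgroup p Q) (N' : Subgroup H) [N'.Normal] : (∀ n : H, n ∈ N' → ∃ a ∈ N' ⊓ Subgroup.normalizer ((Q : Subgroup H) : Set H), ∃ b ∈ ⁅N', Q⁆, n = a * b) ∧ (∀ c : H, c ∈ ⁅N', Q⁆ → ∃ a ∈ Q ⊓ ⁅N', Q⁆, ∃ b ∈ ⁅⁅N', Q⁆, Q⁆, c = a * b) := by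
  have h := (CfsgLib.Local.WC.wClosed_iff hQp hQ1).mp hwc
  set M := (⁅N', Q⁆ : Subgroup H) with hM
  have hMN : M ≤ N' := Subgroup.commutator_le_left N' Q
  have hN'M : N' ≤ Subgroup.normalizer (M : Set H) :=
    CfsgLib.Core.le_normalizer_commutator_left N' Q
  have hQM : Q ≤ Subgroup.normalizer (M : Set H) :=
    CfsgLib.Core.le_normalizer_commutator_right N' Q
  have hclM : CfsgLib.Local.PRed.cl N' Q ≤ M ⊔ Q := by
    refine CfsgLib.Local.WC.cl_le_iff_conj fun n hn x hx => ?_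
    obtain ⟨q, hq, rfl⟩ := hx
    show n * q * n⁻¹ ∈ M ⊔ Q
    rw [show n * q * n⁻¹ = ⁅n, q⁆ * q by simp only [commutatorElement_def]; group]
    exact mul_mem (Subgroup.mem_sup_left (Subgroup.commutator_mem_commutator hn hq))
      (Subgroup.mem_sup_right hq)
  have hfac : ∀ n ∈ N', ∃ b ∈ M, b⁻¹ * n ∈ N' ⊓ Subgroup.normalizer (Q : Set H) := by
    intro n hn
    obtain ⟨a, ha, hb⟩ := h.factor hQp hQ1 (by rw [Subgroup.normalizer_eq_top]; exact le_top) hn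
    obtain ⟨haN, hac⟩ := Subgroup.mem_inf.mp ha
    obtain ⟨q, hq, m, hm, hqm⟩ := (CfsgLib.Core.mem_sup_iff_of_le_normalizer hQM).mp
      (sup_comm M Q ▸ hclM hac : a ∈ Q ⊔ M)
    have hqN : q ∈ N' := by
      have := N'.mul_mem haN (N'.inv_mem (hMN hm))
      rwa [← hqm, mul_inv_cancel_right] at this
    refine ⟨q * m * q⁻¹, CfsgLib.Local.PRed.conj_mem hQM hq hm, ?_⟩
    rw [show (q * m * q⁻¹)⁻¹ * n = q * ((q * m)⁻¹ * n) by group, hqm]
    exact Subgroup.mul_mem _ (Subgroup.mem_inf.mpr ⟨hqN, Subgroup.le_normalizer hq⟩) hb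
  refine ⟨fun n hn => ?_, fun c hc => ?_⟩
  · obtain ⟨b, hb, hbn⟩ := hfac n hn
    refine ⟨b⁻¹ * n, hbn, (b⁻¹ * n)⁻¹ * b * (b⁻¹ * n), ?_, by group⟩
    have := CfsgLib.Local.PRed.conj_mem hN'M (N'.inv_mem (Subgroup.mem_inf.mp hbn).1) hb
    rwa [inv_inv] at this
  · set M2 := (⁅M, Q⁆ : Subgroup H) with hM2
    have hQM2 : Q ≤ Subgroup.normalizer (M2 : Set H) :=
      CfsgLib.Core.le_normalizer_commutator_right M Q
    have hle : M ≤ Q ⊔ M2 := by
      refine Subgroup.commutator_le.mpr fun n hn q hq => ?_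
      obtain ⟨b, hb, hbn⟩ := hfac n hn
      set a := b⁻¹ * n with ha
      have hq' : a * q * a⁻¹ ∈ Q :=
        CfsgLib.Local.PRed.conj_mem (le_refl (Subgroup.normalizer (Q : Set H)))
          (Subgroup.mem_inf.mp hbn).2 hq
      rw [show ⁅n, q⁆ = ⁅b, a * q * a⁻¹⁆ * (a * q * a⁻¹ * q⁻¹) by
        simp only [commutatorElement_def, ha]; group]
      exact mul_mem (Subgroup.mem_sup_right (Subgroup.commutator_mem_commutator hb hq'))
        (Subgroup.mem_sup_left (Q.mul_mem hq' (Q.inv_mem hq)))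
    obtain ⟨q, hq, m, hm, rfl⟩ := (CfsgLib.Core.mem_sup_iff_of_le_normalizer hQM2).mp (hle hc)
    refine ⟨q, Subgroup.mem_inf.mpr ⟨hq, ?_⟩, m, hm, rfl⟩
    have hmM : m ∈ M := CfsgLib.Core.commutator_le_of_le_normalizer hQM hm
    have := M.mul_mem hc (M.inv_mem hmM)
    rwa [mul_inv_cancel_right] at this

end Cfsg.Agent.S2841
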