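import Cfsg.Statements.S2842
import Cfsg.Agent.Lib.LocalWeaklyClosed

set_option autoImplicit false
open Cfsg
open scoped commutatorElement Pointwise

namespace Cfsg.Agent.S2842

/-- Let Q be a nontrivial p-subgroup of the finite group H that is a weakly closed subgroup with C_H(Q) ≤ Q, and Q ≤ L ≤ H. Suppose H has characteristic p, or more generally that C_H(y) has characteristic p for some nonidentity y ∈ C_{O_p(L)}(Q). Then [Q, C_H(O_p(L))] ≤ Q ∩ O_p(L), C_H(O_p(L)) is a p-group, and L has characteristic p. -/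
theorem result {H : Type*} [Group H] [Finite H] {p : ℕ} [Fact p.Prime] (Q : Subgroup H) (hQp : IsPGroup p ↥Q) (hQ1 : Q ≠ ⊥) (hwc : Cfsg.IsWeaklyClosedSubgroup p Q) (hCQ : Subgroup.centralizer ((Q : Subgroup H) : Set H) ≤ Q) (L : Subgroup H) (hQL : Q ≤ L) (hyp : Subgroup.centralizer (Cfsg.pCore p H : Set H) ≤ Cfsg.pCore p H ∨ ∃ y : H, y ≠ 1 ∧ y ∈ (Cfsg.pCoreOf p L) ⊓ Subgroup.centralizer ((Q : Subgroup H) : Set H) ∧ Subgroup.centralizer (Cfsg.pCore p ↥(Subgroup.centralizer ({y} : Set H)) : Set ↥(Subgroup.centralizer ({y} : Set H))) ≤ Cfsg.pCore p ↥(Subgroup.centralizer ({y} : Set H))) : ⁅Q, Subgroup.centralizer (((Cfsg.pCoreOf p L) : Subgroup H) : Set H)⁆ ≤ Q ⊓ (Cfsg.pCoreOf p L) ∧ IsPGroup p ↥(Subgroup.centralizer (((Cfsg.pCoreOf p L) : Subgroup H) : Set H)) ∧ Subgroup.centralizer (Cfsg.pCore p ↥L : Set ↥L) ≤ Cfsg.pCore p ↥L := by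
  have h := (CfsgLib.Local.WC.wClosed_iff hQp hQ1).mp hwc
  set A := Cfsg.pCoreOf p L with hA
  set C := Subgroup.centralizer (A : Set H) with hC
  have hAn : L ≤ Subgroup.normalizer (A : Set H) := CfsgLib.Local.PRed.pCoreOf_normalized L
  have main : IsPGroup p ↥C ∧ L ⊓ C ≤ A := by
    rcases hyp with hchar | ⟨y, _, hy, hchar⟩
    · exact CfsgLib.Local.WC.centralizer_core_isPGroup' h hQp hQ1 hCQ hQL le_top
        (CfsgLib.Local.PRed.charP_top hchar) le_top
    · obtain ⟨hyA, hyQ⟩ := Subgroup.mem_inf.mp hy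
      refine CfsgLib.Local.WC.centralizer_core_isPGroup' h hQp hQ1 hCQ hQL ?_
        (CfsgLib.Local.PRed.charP_of hchar) ?_
      · intro q hq
        refine Subgroup.mem_centralizer_iff.mpr fun z hz => ?_
        rw [Set.mem_singleton_iff.mp hz]
        exact (Subgroup.mem_centralizer_iff.mp hyQ q hq).symm
      · intro c hc
        refine Subgroup.mem_centralizer_iff.mpr fun z hz => ?_
        rw [Set.mem_singleton_iff.mp hz]
        exact Subgroup.mem_centralizer_iff.mp hc y hyA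
  obtain ⟨hCp, hCL⟩ := main
  have hQC : Q ≤ Subgroup.normalizer (C : Set H) :=
    hQL.trans (CfsgLib.Core.le_normalizer_centralizer hAn)
  have hCQn : C ≤ Subgroup.normalizer (Q : Set H) :=
    CfsgLib.Local.WC.normalizes_of_normalized h hQp hCp hQC
  have h1 : ⁅Q, C⁆ ≤ Q ⊓ C := le_inf (CfsgLib.Core.commutator_le_of_le_normalizer hCQn)
    (by rw [Subgroup.commutator_comm]; exact CfsgLib.Core.commutator_le_of_le_normalizer hQC)
  refine ⟨le_inf (h1.trans inf_le_left) (h1.trans ((inf_le_inf_right C hQL).trans hCL)), hCp,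
    CfsgLib.Local.WC.charP_to_subtype hCL⟩

end Cfsg.Agent.S2842
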