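import Cfsg.Statements.S2843
import Cfsg.Agent.Lib.LocalWeaklyClosed

set_option autoImplicit false
open Cfsg
open scoped commutatorElement Pointwise

namespace Cfsg.Agent.S2843

/-- Let Q be a nontrivial large p-subgroup of the finite group H, Q ≤ L ≤ H, and Y a nontrivial p-subgroup of H normalized by L. Let L° be the weak closure of Q in L (generated by the conjugates of Q inside L). Then L° equals the weak closure of Q in L·C_H(Y), and [L°, C_H(Y)] ≤ O_p(L°); in particular C_H(Y) normalizes L°. -/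
theorem result {H : Type*} [Group H] [Finite H] {p : ℕ} [Fact p.Prime] (Q : Subgroup H) (hQp : IsPGroup p ↥Q) (hQ1 : Q ≠ ⊥) (hL : Cfsg.IsLarge Q) (L : Subgroup H) (hQL : Q ≤ L) (Y : Subgroup H) (hYp : IsPGroup p ↥Y) (hY1 : Y ≠ ⊥) (hLY : L ≤ Subgroup.normalizer ((Y : Subgroup H) : Set H)) : Cfsg.weakClosure Q L = Cfsg.weakClosure Q (L ⊔ Subgroup.centralizer ((Y : Subgroup H) : Set H)) ∧ ⁅Cfsg.weakClosure Q L, Subgroup.centralizer ((Y : Subgroup H) : Set H)⁆ ≤ (Cfsg.pCoreOf p (Cfsg.weakClosure Q L)) ∧ Subgroup.centralizer ((Y : Subgroup H) : Set H) ≤ Subgroup.normalizer (((Cfsg.weakClosure Q L) : Subgroup H) : Set H) := by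
  have h := CfsgLib.Local.WC.wClosed_of_isLarge (p := p) hQ1 hL
  set C := Subgroup.centralizer (Y : Set H) with hC
  have hCn : L ≤ Subgroup.normalizer (C : Set H) := CfsgLib.Core.le_normalizer_centralizer hLY
  have hCQ : C ≤ Subgroup.normalizer (Q : Set H) :=
    CfsgLib.Local.WC.centralizer_le_normalizer_large hQp hL hYp hY1 (hQL.trans hLY)
  have hw := CfsgLib.Local.WC.weakClosure_eq_cl h hQp hQ1 hQL
  rw [hw]
  set L0 := CfsgLib.Local.PRed.cl L Q with hL0
  have hL0L : L0 ≤ L := CfsgLib.Local.PRed.cl_le hQL Subgroup.le_normalizer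
  have hconj : ∀ l ∈ L, C ≤ Subgroup.normalizer ((MulAut.conj l • Q : Subgroup H) : Set H) := by
    intro l hl c hc
    have h1 : l⁻¹ * c * l ∈ Subgroup.normalizer (Q : Set H) := hCQ (by
      simpa using CfsgLib.Local.PRed.conj_mem hCn (L.inv_mem hl) hc)
    rw [← CfsgLib.Core.conj_smul_eq_self_iff, CfsgLib.Core.conj_smul_conj_smul,
      show c * l = l * (l⁻¹ * c * l) by group, ← CfsgLib.Core.conj_smul_conj_smul,
      CfsgLib.Core.conj_smul_of_mem_normalizer h1]
  have hCL0 : C ≤ Subgroup.normalizer (L0 : Set H) := by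
    refine CfsgLib.Local.PRed.le_normalizer_of_conj fun c hc x hx => ?_
    have hle : L0 ≤ L0.comap (MulAut.conj c).toMonoidHom :=
      CfsgLib.Local.WC.cl_le_iff_conj fun l hl y hy =>
        CfsgLib.Local.WC.conj_le_cl hl (CfsgLib.Local.PRed.conj_mem (hconj l hl) hc hy)
    exact hle hx
  have hCI : C ≤ Subgroup.normalizer ((L0 ⊓ C : Subgroup H) : Set H) :=
    CfsgLib.Core.le_normalizer_inf hCL0 Subgroup.le_normalizer
  refine ⟨?_, ?_, hCL0⟩
  · rw [CfsgLib.Local.WC.weakClosure_eq_cl h hQp hQ1 (hQL.trans le_sup_left)]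
    refine le_antisymm (CfsgLib.Local.WC.cl_le_iff_conj fun l hl =>
      CfsgLib.Local.WC.conj_le_cl (Subgroup.mem_sup_left hl))
      (CfsgLib.Local.WC.cl_le_iff_conj fun k hk => ?_)
    obtain ⟨l, hl, c, hc, rfl⟩ := (CfsgLib.Core.mem_sup_iff_of_le_normalizer hCn).mp hk
    rw [← CfsgLib.Core.conj_smul_conj_smul, CfsgLib.Core.conj_smul_of_mem_normalizer (hCQ hc)]
    exact CfsgLib.Local.WC.conj_le_cl hl
  · set O := Cfsg.pCoreOf p L0 with hO
    refine Subgroup.commutator_le.mpr fun x hx c hc => ?_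
    have hgen : ∀ l ∈ L, ∀ y ∈ MulAut.conj l • Q, y * c * y⁻¹ * c⁻¹ ∈ O := by
      intro l hl y hy
      have hV : (MulAut.conj l • Q) ⊓ C ≤ Cfsg.pCoreOf p (L0 ⊓ C) :=
        CfsgLib.Local.PRed.le_pCoreOf (inf_le_inf_right C (CfsgLib.Local.WC.conj_le_cl hl))
          (CfsgLib.Core.le_normalizer_inf (inf_le_right.trans (hconj l hl))
            (inf_le_right.trans Subgroup.le_normalizer))
          ((show IsPGroup p ↥(MulAut.conj l • Q : Subgroup H) by
            rw [CfsgLib.Core.conj_smul_eq_map]; exact hQp.map _).to_le inf_le_left)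
      have hLI : L0 ≤ Subgroup.normalizer ((L0 ⊓ C : Subgroup H) : Set H) :=
        CfsgLib.Core.le_normalizer_inf Subgroup.le_normalizer (hL0L.trans hCn)
      have hsub : Cfsg.pCoreOf p (L0 ⊓ C) ≤ O := by
        refine CfsgLib.Local.PRed.le_pCoreOf
          ((CfsgLib.Local.PRed.pCoreOf_le _).trans inf_le_left) ?_
          (CfsgLib.Local.PRed.isPGroup_pCoreOf _)
        haveI := CfsgLib.Local.pCore_normal' (G := ↥(L0 ⊓ C)) p
        refine CfsgLib.Local.PRed.le_normalizer_of_conj fun a ha z hz => ?_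
        obtain ⟨w, hw', rfl⟩ := hz
        refine ⟨⟨a * (w : H) * a⁻¹, CfsgLib.Local.PRed.conj_mem hLI ha w.2⟩, ?_, rfl⟩
        let e : ↥(L0 ⊓ C) ≃* ↥(L0 ⊓ C) :=
          { toFun := fun v => ⟨a * v * a⁻¹, CfsgLib.Local.PRed.conj_mem hLI ha v.2⟩
            invFun := fun v => ⟨a⁻¹ * v * a, by
              simpa using CfsgLib.Local.PRed.conj_mem hLI (L0.inv_mem ha) v.2⟩
            left_inv := fun v => Subtype.ext (by simp [mul_assoc])
            right_inv := fun v => Subtype.ext (by simp [mul_assoc])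
            map_mul' := fun a b => Subtype.ext (by simp [mul_assoc]) }
        rw [← CfsgLib.Core.map_pCore_of_mulEquiv p e]
        exact ⟨w, hw', rfl⟩
      have hyL : y ∈ L := hL0L (CfsgLib.Local.WC.conj_le_cl hl hy)
      refine hsub (hV (Subgroup.mem_inf.mpr ⟨?_, C.mul_mem
        (CfsgLib.Local.PRed.conj_mem hCn hyL hc) (C.inv_mem hc)⟩))
      have := Subgroup.mul_mem _ hy (CfsgLib.Local.PRed.conj_mem (hconj l hl) hc
        (Subgroup.inv_mem _ hy))
      simpa [mul_assoc] using this
    have hle : L0 ≤ { carrier := {y | y ∈ L0 ∧ y * c * y⁻¹ * c⁻¹ ∈ O}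
                      one_mem' := ⟨L0.one_mem, by simp⟩
                      mul_mem' := by
                        rintro a b ⟨ha, ha'⟩ ⟨hb, hb'⟩
                        refine ⟨L0.mul_mem ha hb, ?_⟩
                        have := O.mul_mem (CfsgLib.Local.PRed.conj_mem
                          (CfsgLib.Local.PRed.pCoreOf_normalized L0) ha hb') ha'
                        simpa [mul_assoc] using this
                      inv_mem' := by
                        rintro a ⟨ha, ha'⟩
                        refine ⟨L0.inv_mem ha, ?_⟩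
                        have := CfsgLib.Local.PRed.conj_mem
                          (CfsgLib.Local.PRed.pCoreOf_normalized L0) (L0.inv_mem ha) (O.inv_mem ha')
                        simpa [mul_assoc] using this } :=
      CfsgLib.Local.WC.cl_le_iff_conj fun l hl y hy =>
        ⟨CfsgLib.Local.WC.conj_le_cl hl hy, hgen l hl y hy⟩
    exact (hle hx).2

end Cfsg.Agent.S2843
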