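import Cfsg.Statements.S2844
import Cfsg.Agent.Lib.LocalWeaklyClosed

set_option autoImplicit false
open Cfsg
open scoped commutatorElement Pointwise

namespace Cfsg.Agent.S2844

/-- Let Q be a nontrivial large p-subgroup of the finite group H and Q• = O_p(N_H(Q)). Then for every g ∈ H outside N_H(Q): C_H(Q) ∩ C_H(gQg⁻¹) = 1, C_H(Q•) ∩ C_H(gQ•g⁻¹) = 1, Z(Q) ∩ Z(gQg⁻¹) = 1 and Z(Q•) ∩ Z(gQ•g⁻¹) = 1; moreover N_H(Q) = N_H(Q•) and Q• is large in H. -/
theorem result {H : Type*} [Group H] [Finite H] {p : ℕ} [Fact p.Prime] (Q : Subgroup H) (hQp : IsPGroup p ↥Q) (hQ1 : Q ≠ ⊥) (hL : Cfsg.IsLarge Q) (Qb : Subgroup H) (hQb : Qb = Cfsg.largeBullet p Q) : (∀ g : H, g ∉ Subgroup.normalizer ((Q : Subgroup H) : Set H) → Subgroup.centralizer ((Q : Subgroup H) : Set H) ⊓ Subgroup.centralizer ((((Q : Subgroup H).map (MulAut.conj (g : H)).toMonoidHom) : Subgroup H) : Set H) = ⊥ ∧ Subgroup.centralizer ((Qb : Subgroup H) : Set H) ⊓ Subgroup.centralizer ((((Qb : Subgroup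 H).map (MulAut.conj (g : H)).toMonoidHom) : Subgroup H) : Set H) = ⊥ ∧ (Q ⊓ Subgroup.centralizer ((Q : Subgroup H) : Set H)) ⊓ (((Q : Subgroup H).map (MulAut.conj (g : H)).toMonoidHom) ⊓ Subgroup.centralizer ((((Q : Subgroup H).map (MulAut.conj (g : H)).toMonoidHom) : Subgroup H) : Set H)) = ⊥ ∧ (Qb ⊓ Subgroup.centralizer ((Qb : Subgroup H) : Set H)) ⊓ (((Qb : Subgroup H).map (MulAut.conj (g : H)).toMonoidHom) ⊓ Subgroup.centralizer ((((Qb : Subgroup H).map (MulAut.conj (g : H)).toMonoidHom) : Subgroup H) : Set H)) = ⊥) ∧ Subgroup.normalizer ((Q : Subgroup H) : Set H) = Subgroup.normalizer ((Qb : Subgroup H) : Set H) ∧ Cfsg.IsLarge Qb := by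
  have h := CfsgLib.Local.WC.wClosed_of_isLarge (p := p) hQ1 hL
  subst hQb
  set Qb := Cfsg.largeBullet p Q with hQb
  have hQQb : Q ≤ Qb :=
    CfsgLib.Local.PRed.le_pCoreOf Subgroup.le_normalizer le_rfl hQp
  have hQbp : IsPGroup p ↥Qb := CfsgLib.Local.PRed.isPGroup_pCoreOf _
  have hN : Subgroup.normalizer (Q : Set H) = Subgroup.normalizer (Qb : Set H) :=
    le_antisymm (CfsgLib.Local.PRed.pCoreOf_normalized _) (h Qb hQbp hQQb)
  have hcb : Subgroup.centralizer (Qb : Set H) ≤ Subgroup.centralizer (Q : Set H) :=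
    CfsgLib.Local.PRed.centralizer_antitone hQQb
  refine ⟨fun g hg => ?_, hN, (hcb.trans (hL.1.trans hQQb)), fun U hU hU1 => ?_⟩
  · have key : Subgroup.centralizer (Q : Set H) ⊓
        Subgroup.centralizer ((MulAut.conj g • Q : Subgroup H) : Set H) = ⊥ := by
      by_contra hne
      apply hg
      set U := Subgroup.centralizer (Q : Set H) ⊓
        Subgroup.centralizer ((MulAut.conj g • Q : Subgroup H) : Set H) with hU
      have h1 : MulAut.conj g • Q ≤ Subgroup.normalizer (Q : Set H) :=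
        ((Subgroup.le_centralizer_iff.mp inf_le_right).trans
          (CfsgLib.Core.centralizer_le_normalizer U)).trans (hL.2 U inf_le_left hne)
      have hgp : IsPGroup p ↥(MulAut.conj g • Q : Subgroup H) := by
        rw [CfsgLib.Core.conj_smul_eq_map]; exact hQp.map _
      exact CfsgLib.Core.conj_smul_eq_self_iff.mp
        (h.eq_of_le hQp hQ1 (hQp.to_sup_of_normal_left' hgp h1) le_sup_left le_sup_right)
    have key2 : Subgroup.centralizer (Qb : Set H) ⊓
        Subgroup.centralizer ((MulAut.conj g • Qb : Subgroup H) : Set H) = ⊥ :=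
      le_bot_iff.mp ((inf_le_inf hcb (CfsgLib.Local.PRed.centralizer_antitone
        (CfsgLib.Core.conj_smul_le_conj_smul.mpr hQQb))).trans key.le)
    exact ⟨key, key2, le_bot_iff.mp ((inf_le_inf inf_le_right inf_le_right).trans key.le),
      le_bot_iff.mp ((inf_le_inf inf_le_right inf_le_right).trans key2.le)⟩
  · rw [← hN]
    exact hL.2 U (hU.trans hcb) hU1

end Cfsg.Agent.S2844
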