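import Cfsg.Statements.S2845
import Cfsg.Agent.Lib.LocalWeaklyClosed

set_option autoImplicit false
open Cfsg
open scoped commutatorElement Pointwise

namespace Cfsg.Agent.S2845

/-- Let Q be a nontrivial large p-subgroup of the finite group H. Then for every subgroup L ≥ Q with O_p(L) ≠ 1, C_H(O_p(L)) is a p-group and L has characteristic p, and either the weak closure L° of Q in L equals Q or C_H(L°) = 1; for every subgroup R of H containing a Sylow p-subgroup of H with O_p(R) ≠ 1, C_H(O_p(R)) ≤ O_p(R); and H has parabolic characteristic p. -/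
theorem result {H : Type*} [Group H] [Finite H] {p : ℕ} [Fact p.Prime] (Q : Subgroup H) (hQp : IsPGroup p ↥Q) (hQ1 : Q ≠ ⊥) (hL : Cfsg.IsLarge Q) : (∀ L : Subgroup H, Q ≤ L → Cfsg.pCore p ↥L ≠ ⊥ → IsPGroup p ↥(Subgroup.centralizer (((Cfsg.pCoreOf p L) : Subgroup H) : Set H)) ∧ Subgroup.centralizer (Cfsg.pCore p ↥L : Set ↥L) ≤ Cfsg.pCore p ↥L ∧ (Cfsg.weakClosure Q L = Q ∨ Subgroup.centralizer (((Cfsg.weakClosure Q L) : Subgroup H) : Set H) = ⊥)) ∧ (∀ R : Subgroup H, Cfsg.IsParabolic p R → Cfsg.pCore p ↥R ≠ ⊥ → Subgroup.centralizer (((Cfsg.pCoreOf p R) : Subgroup H) : Set H) ≤ (Cfsg.pCoreOf p R)) ∧ Cfsg.IsOfParabolicCharacteristic p H := by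
  have h := CfsgLib.Local.WC.wClosed_of_isLarge (p := p) hQ1 hL
  have hne' : ∀ L : Subgroup H, Cfsg.pCore p ↥L ≠ ⊥ → Cfsg.pCoreOf p L ≠ ⊥ := fun L hne hb =>
    hne ((Subgroup.map_eq_bot_iff_of_injective _ L.subtype_injective).mp hb)
  have hR : ∀ R : Subgroup H, Cfsg.IsParabolic p R → Cfsg.pCore p ↥R ≠ ⊥ →
      Subgroup.centralizer (Cfsg.pCoreOf p R : Set H) ≤ Cfsg.pCoreOf p R := by
    rintro R ⟨T, hTR⟩ hne
    obtain ⟨T', hT'⟩ := hQp.exists_le_sylow
    obtain ⟨g, hg⟩ := MulAction.exists_smul_eq H T' T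
    have hQ' : Cfsg.IsLarge (MulAut.conj g • Q) := CfsgLib.Local.WC.isLarge_conj hL g
    have hQ'p : IsPGroup p ↥(MulAut.conj g • Q : Subgroup H) := by
      rw [CfsgLib.Core.conj_smul_eq_map]; exact hQp.map _
    have hQ'R : MulAut.conj g • Q ≤ R := by
      refine le_trans ?_ hTR
      rw [← hg]
      exact CfsgLib.Core.conj_smul_le_conj_smul.mpr hT'
    obtain ⟨hCp, hchar⟩ :=
      CfsgLib.Local.WC.large_centralizer_core hQ'p hQ' hQ'R (hne' R hne)
    have hTC : (T : Subgroup H) ≤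
        Subgroup.normalizer (Subgroup.centralizer (Cfsg.pCoreOf p R : Set H) : Set H) :=
      hTR.trans (CfsgLib.Core.le_normalizer_centralizer
        (CfsgLib.Local.PRed.pCoreOf_normalized R))
    have hCT : Subgroup.centralizer (Cfsg.pCoreOf p R : Set H) ≤ (T : Subgroup H) := by
      have := T.is_maximal' (T.isPGroup'.to_sup_of_normal_right' hCp hTC) le_sup_left
      exact le_sup_right.trans this.le
    exact (le_inf (hCT.trans hTR) le_rfl).trans hchar
  refine ⟨fun L hQL hne => ?_, hR, fun R hRp hR1 hpar => ?_⟩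
  · obtain ⟨hCp, hchar⟩ := CfsgLib.Local.WC.large_centralizer_core hQp hL hQL (hne' L hne)
    refine ⟨hCp, CfsgLib.Local.WC.charP_to_subtype hchar, ?_⟩
    rw [CfsgLib.Local.WC.weakClosure_eq_cl h hQp hQ1 hQL]
    set L0 := CfsgLib.Local.PRed.cl L Q with hL0
    by_contra hcon
    push Not at hcon
    obtain ⟨hne0, hU⟩ := hcon
    set U := Subgroup.centralizer (L0 : Set H) with hUdef
    have hN : L0 ≤ Subgroup.normalizer (Q : Set H) :=
      ((Subgroup.le_centralizer_iff.mp le_rfl).trans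
        (CfsgLib.Core.centralizer_le_normalizer U)).trans
        (hL.2 U (CfsgLib.Local.PRed.centralizer_antitone (CfsgLib.Local.PRed.le_cl L Q)) hU)
    refine hne0 (le_antisymm (CfsgLib.Local.WC.cl_le_iff_conj fun l hl => ?_)
      (CfsgLib.Local.PRed.le_cl L Q))
    have hgp : IsPGroup p ↥(MulAut.conj l • Q : Subgroup H) := by
      rw [CfsgLib.Core.conj_smul_eq_map]; exact hQp.map _
    exact (h.eq_of_le hQp hQ1 (hQp.to_sup_of_normal_left' hgp
      ((CfsgLib.Local.WC.conj_le_cl hl).trans hN)) le_sup_left le_sup_right).le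
  · refine CfsgLib.Local.WC.charP_to_subtype (inf_le_right.trans (hR _ hpar ?_))
    intro hb
    refine hR1 ((Subgroup.subgroupOf_eq_bot.mp (le_bot_iff.mp (hb ▸ CfsgLib.Local.le_pCore'
      (N := R.subgroupOf (Subgroup.normalizer (R : Set H)))
      (CfsgLib.Local.PRed.subgroupOf_normal le_rfl)
      (CfsgLib.Local.PRed.isPGroup_subgroupOf hRp)))).eq_bot_of_le Subgroup.le_normalizer)

end Cfsg.Agent.S2845
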