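import Cfsg.Statements.S2846
import Cfsg.Agent.Lib.LocalBasicProperty
import Cfsg.Agent.S2843
import Cfsg.Agent.S2845

set_option autoImplicit false
open Cfsg
open scoped commutatorElement Pointwise

namespace Cfsg.Agent.S2846

/-- Let Q be a nontrivial large p-subgroup of the finite group H, S a Sylow p-subgroup containing Q, and L a subgroup containing S with O_p(L) ≠ 1 and C_H(O_p(L)) ≤ O_p(L). Then there are a subgroup M containing S having the basic property (M ∈ 𝔐_H, writing Y_X for the largest p-reduced normal subgroup of X and 𝓛_H for the set of subgroups X with O_p(X) ≠ 1 and C_H(O_p(X)) ≤ O_p(X): M ∈ 𝓛_H, M·C_H(Y_M) is the only maximal member of 𝓛_H containing M and its largest p-reduced normal subgroup is again Y_M, C_M(Y_M) is p-closed, and the image of C_M(Y_M) in M/O_p(M) lies in the Frattini subgroup of M/O_p(M)) and a subgroup L* with S ≤ L* ≤ M, O_p(L*) ≠ 1, C_H(O_p(L*)) ≤ O_p(L*), such that L·C_H(Y_L) = L*·C_H(Y_L),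 the weak closures of Q in L and in L* agree and lie in that of M, and Y_L = Y_{L*} ≤ Y_M. If moreover Q is not normal in L, then Q is normal in neither L* nor M. -/
theorem result {H : Type*} [Group H] [Finite H] {p : ℕ} [Fact p.Prime] (Q : Subgroup H) (hQp : IsPGroup p ↥Q) (hQ1 : Q ≠ ⊥) (hLg : Cfsg.IsLarge Q) (S : Sylow p H) (hQS : Q ≤ (S : Subgroup H)) (L : Subgroup H) (hSL : (S : Subgroup H) ≤ L) (hL : L ∈ Cfsg.charPSubgroups p H) : ∃ M Ls : Subgroup H, (S : Subgroup H) ≤ M ∧ Cfsg.IsInFrakM p M ∧ (S : Subgroup H) ≤ Ls ∧ Ls ≤ M ∧ Ls ∈ Cfsg.charPSubgroups p H ∧ L ⊔ Subgroup.centralizer (((Cfsg.largestPReducedOf p L) : Subgroup H) : Set H) = Ls ⊔ Subgroup.centralizer (((Cfsg.largestPReducedOf p L) : Subgroup H) : Set H) ∧ Cfsg.weakClosure Q L = Cfsg.weakClosure Q Ls ∧ Cfsg.weakClosure Q Ls ≤ Cfsg.weakClosure Q M ∧ (Cfsg.largestPReducedOf p L) = (Cfsg.largestPReducedOf p Ls) ∧ (Cfsg.largestPReducedOf p Ls) ≤ (Cfsg.largestPReducedOf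 p M) ∧ (¬ L ≤ Subgroup.normalizer ((Q : Subgroup H) : Set H) → ¬ Ls ≤ Subgroup.normalizer ((Q : Subgroup H) : Set H) ∧ ¬ M ≤ Subgroup.normalizer ((Q : Subgroup H) : Set H)) := by
  have hG : CfsgLib.Local.Basic.ParCore p H := fun R hR hne =>
    (Cfsg.Agent.S2845.result Q hQp hQ1 hLg).2.1 R hR
      fun hb => hne (by rw [Cfsg.pCoreOf, hb, Subgroup.map_bot])
  obtain ⟨M, Ls, hSM, hM, hSLs, hLsM, hLs, hY, hYle, hsup⟩ :=
    CfsgLib.Local.Basic.exists_pair hG S hSL hL
  have hr := CfsgLib.Local.PRed.red_largest (p := p) L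
  have hr' := CfsgLib.Local.PRed.red_largest (p := p) Ls
  have hYne := CfsgLib.Local.Basic.largest_ne_bot S (CfsgLib.Local.Basic.charP_of_mem hL) hSL
    (CfsgLib.Local.Basic.mem_charP_iff.mp hL).1
  have hYp := CfsgLib.Local.PRed.isPGroup_of_elem hr.elem
  have hLsY : Ls ≤ Subgroup.normalizer (Cfsg.largestPReducedOf p L : Set H) := by
    rw [hY]; exact hr'.normalized
  have h1 := (Cfsg.Agent.S2843.result Q hQp hQ1 hLg L (hQS.trans hSL) _ hYp hYne hr.normalized).1
  have h2 := (Cfsg.Agent.S2843.result Q hQp hQ1 hLg Ls (hQS.trans hSLs) _ hYp hYne hLsY).1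
  have hmono : Cfsg.weakClosure Q Ls ≤ Cfsg.weakClosure Q M :=
    iSup_le fun g => le_iSup_of_le ⟨g.1, g.2.trans hLsM⟩ le_rfl
  refine ⟨M, Ls, hSM, hM, hSLs, hLsM, hLs, hsup, h1.trans (hsup ▸ h2.symm), hmono, hY,
    hY ▸ hYle, fun hn => ?_⟩
  have hnLs : ¬ Ls ≤ Subgroup.normalizer (Q : Set H) := by
    intro h
    refine hn (le_sup_left.trans (hsup.le.trans (sup_le h ?_)))
    exact CfsgLib.Local.WC.centralizer_le_normalizer_large hQp hLg hYp hYne
      ((hQS.trans hSL).trans hr.normalized)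
  exact ⟨hnLs, fun h => hnLs (hLsM.trans h)⟩

end Cfsg.Agent.S2846
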