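import Cfsg.Statements.S2848
import Cfsg.Agent.Lib.LocalBasicProperty

set_option autoImplicit false
open Cfsg
open scoped commutatorElement Pointwise

namespace Cfsg.Agent.S2848

/-- Standing hypotheses: G a finite group, S a Sylow p-subgroup, Q a nontrivial large p-subgroup of G contained in S (C_G(Q) ≤ Q and N_G(U) ≤ N_G(Q) for all nontrivial U ≤ C_G(Q)), and M a subgroup containing S with the basic property (M ∈ 𝔐_G(S)); Y_M denotes the largest p-reduced normal subgroup of M and M† = M·C_G(Y_M). Then O_p(M) is a weakly closed subgroup of M† (for p): it is the only M†-conjugate of itself inside some Sylow p-subgroup of M† containing it. -/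
theorem result {G : Type*} [Group G] [Finite G] {p : ℕ} [Fact p.Prime] (S : Sylow p G) (Q : Subgroup G) (hQp : IsPGroup p ↥Q) (hQ1 : Q ≠ ⊥) (hQS : Q ≤ (S : Subgroup G)) (hQ : Cfsg.IsLarge Q) (M : Subgroup G) (hSM : (S : Subgroup G) ≤ M) (hM : Cfsg.IsInFrakM p M) : Cfsg.IsWeaklyClosedSubgroup p (((Cfsg.pCoreOf p M)).subgroupOf (M ⊔ Subgroup.centralizer (((Cfsg.largestPReducedOf p M) : Subgroup G) : Set G))) := by
  have hY := CfsgLib.Local.PRed.red_largest (p := p) M
  have hO := CfsgLib.Local.Basic.frakM_pCoreOf S hSM hM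
  set O := Cfsg.pCoreOf p M with hOdef
  set C := Subgroup.centralizer (Cfsg.largestPReducedOf p M : Set G) with hC
  have hn : M ⊔ C ≤ Subgroup.normalizer (C : Set G) :=
    CfsgLib.Core.le_normalizer_centralizer
      (sup_le hY.normalized (CfsgLib.Core.centralizer_le_normalizer _))
  refine ⟨S.subtype (hSM.trans le_sup_left), fun x hx => ?_, fun g hg => ?_⟩
  · exact (hO ▸ inf_le_left : O ≤ (S : Subgroup G)) hx
  · refine CfsgLib.Core.eq_of_le_of_card_le ?_ ?_
    · rintro _ ⟨x, hx, rfl⟩
      rw [Subgroup.mem_subgroupOf, hO]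
      refine Subgroup.mem_inf.mpr ⟨hg ⟨x, hx, rfl⟩, ?_⟩
      exact CfsgLib.Local.PRed.conj_mem hn g.2 ((hO ▸ inf_le_right : O ≤ C) hx)
    · rw [Subgroup.card_map_of_injective (MulEquiv.injective _)]

end Cfsg.Agent.S2848
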