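import Cfsg.Statements.S2849
import Cfsg.Agent.Lib.LocalBasicProperty

set_option autoImplicit false
open Cfsg
open scoped commutatorElement Pointwise

namespace Cfsg.Agent.S2849

/-- Standing hypotheses: G a finite group, S a Sylow p-subgroup, Q a nontrivial large p-subgroup of G contained in S (C_G(Q) ≤ Q and N_G(U) ≤ N_G(Q) for all nontrivial U ≤ C_G(Q)), and M a subgroup containing S with the basic property (M ∈ 𝔐_G(S)); Y_M denotes the largest p-reduced normal subgroup of M and M† = M·C_G(Y_M). Suppose Y_M is asymmetric in G. Then for every subgroup R with Y_M ≤ R ≤ M†, the normal closure of Y_M in N_G(R) is elementary abelian. -/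
theorem result {G : Type*} [Group G] [Finite G] {p : ℕ} [Fact p.Prime] (S : Sylow p G) (Q : Subgroup G) (hQp : IsPGroup p ↥Q) (hQ1 : Q ≠ ⊥) (hQS : Q ≤ (S : Subgroup G)) (hQ : Cfsg.IsLarge Q) (M : Subgroup G) (hSM : (S : Subgroup G) ≤ M) (hM : Cfsg.IsInFrakM p M) (hasym : ¬ Cfsg.IsSymmetricIn (Cfsg.largestPReducedOf p M)) (R : Subgroup G) (hYR : (Cfsg.largestPReducedOf p M) ≤ R) (hRM : R ≤ (M ⊔ Subgroup.centralizer (((Cfsg.largestPReducedOf p M) : Subgroup G) : Set G))) : Cfsg.IsElementaryAbelian p ((Subgroup.normalClosure ((((Cfsg.largestPReducedOf p M)).subgroupOf (Subgroup.normalizer ((R : Subgroup G) : Set G)) : Subgroup ↥(Subgroup.normalizer ((R : Subgroup G) : Set G))) : Set ↥(Subgroup.normalizer ((R : Subgroup G) : Set G)))).map (Subgroup.normalizer ((R : Subgroup G) : Set G)).subtype) := by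
  have hr := CfsgLib.Local.PRed.red_largest (p := p) M
  set Y := Cfsg.largestPReducedOf p M with hYdef
  set N := Subgroup.normalizer (R : Set G) with hN
  have hRY : R ≤ Subgroup.normalizer (Y : Set G) :=
    hRM.trans (sup_le hr.normalized (CfsgLib.Core.centralizer_le_normalizer Y))
  have hcomm : ∀ g ∈ N, ∀ a ∈ Y, ∀ b ∈ Y, Commute a (g * b * g⁻¹) := by
    intro g hg a ha b hb
    have hY'R : ∀ z ∈ Y.map (MulAut.conj g).toMonoidHom, z ∈ R := by
      rintro _ ⟨y, hy, rfl⟩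
      exact (Subgroup.mem_normalizer_iff.mp hg y).mp (hYR hy)
    have hle : ⁅Y, Y.map (MulAut.conj g).toMonoidHom⁆ ≤ Y ⊓ Y.map (MulAut.conj g).toMonoidHom := by
      refine Subgroup.commutator_le.mpr fun y hy z hz => Subgroup.mem_inf.mpr ⟨?_, ?_⟩
      · have h1 := Y.mul_mem hy
          ((Subgroup.mem_normalizer_iff.mp (hRY (hY'R z hz)) y⁻¹).mp (Y.inv_mem hy))
        simpa [commutatorElement_def, mul_assoc] using h1
      · obtain ⟨w, hw, rfl⟩ := hz
        have hyR : g⁻¹ * y * g ∈ R := by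
          have := (Subgroup.mem_normalizer_iff.mp (N.inv_mem hg) y).mp (hYR hy)
          simpa using this
        refine ⟨(g⁻¹ * y * g) * w * (g⁻¹ * y * g)⁻¹ * w⁻¹,
          Y.mul_mem ((Subgroup.mem_normalizer_iff.mp (hRY hyR) w).mp hw) (Y.inv_mem hw), ?_⟩
        simp [commutatorElement_def, mul_assoc]
    have hbot : ⁅Y, Y.map (MulAut.conj g).toMonoidHom⁆ = ⊥ :=
      by_contra fun h => hasym ⟨g, h, hle⟩
    have h1 : ⁅a, g * b * g⁻¹⁆ ∈ (⊥ : Subgroup G) :=
      hbot ▸ Subgroup.commutator_mem_commutator ha ⟨b, hb, rfl⟩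
    exact commutatorElement_eq_one_iff_commute.mp (Subgroup.mem_bot.mp h1)
  set s := Group.conjugatesOfSet ((Y.subgroupOf N : Subgroup ↥N) : Set ↥N) with hs
  have hmem : ∀ x ∈ s, ∃ g ∈ N, ∃ y ∈ Y, (x : G) = g * y * g⁻¹ := by
    intro x hx
    obtain ⟨a, ha, hc⟩ := Group.mem_conjugatesOfSet_iff.mp hx
    obtain ⟨c, rfl⟩ := isConj_iff.mp hc
    exact ⟨c, c.2, a, ha, by simp⟩
  have hcs : s ⊆ Subgroup.centralizer s := by
    intro x hx
    refine Subgroup.mem_centralizer_iff.mpr fun z hz => Subtype.ext ?_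
    obtain ⟨g, hg, a, ha, hxa⟩ := hmem x hx
    obtain ⟨h, hh, b, hb, hzb⟩ := hmem z hz
    have h1 := hcomm (g⁻¹ * h) (N.mul_mem (N.inv_mem hg) hh) a ha b hb
    rw [Subgroup.coe_mul, Subgroup.coe_mul, hxa, hzb]
    calc h * b * h⁻¹ * (g * a * g⁻¹)
        = g * ((g⁻¹ * h) * b * (g⁻¹ * h)⁻¹ * a) * g⁻¹ := by group
      _ = g * (a * ((g⁻¹ * h) * b * (g⁻¹ * h)⁻¹)) * g⁻¹ := by rw [h1.eq]
      _ = g * a * g⁻¹ * (h * b * h⁻¹) := by group
  set K := Subgroup.normalClosure ((Y.subgroupOf N : Subgroup ↥N) : Set ↥N) with hK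
  have hKs : K = Subgroup.closure s := rfl
  have h1 : Subgroup.closure s ≤ Subgroup.centralizer s := (Subgroup.closure_le _).mpr hcs
  have hKc : K ≤ Subgroup.centralizer (K : Set ↥N) := by
    rw [hKs, Subgroup.centralizer_closure]
    exact h1
  have hKp : ∀ x ∈ K, x ^ p = 1 := by
    intro x hx
    rw [hKs] at hx
    induction hx using Subgroup.closure_induction with
    | mem y hy =>
      obtain ⟨g, -, a, ha, hya⟩ := hmem y hy
      refine Subtype.ext ?_
      rw [Subgroup.coe_pow, hya, conj_pow, hr.elem.2 a ha]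
      simp
    | one => exact one_pow p
    | mul a b ha hb iha ihb =>
      rw [(show Commute a b from (Subgroup.mem_centralizer_iff.mp (hKc ha) b hb).symm).mul_pow,
        iha, ihb, one_mul]
    | inv a _ iha => rw [inv_pow, iha, inv_one]
  refine ⟨⟨⟨?_⟩⟩, ?_⟩
  · rintro ⟨_, a, ha, rfl⟩ ⟨_, b, hb, rfl⟩
    have := Subgroup.mem_centralizer_iff.mp (hKc hb) a ha
    exact Subtype.ext (congrArg Subtype.val this :)
  · rintro _ ⟨x, hx, rfl⟩
    simpa using congrArg Subtype.val (hKp x hx)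

end Cfsg.Agent.S2849
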