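import Cfsg.Statements.S2859
import Cfsg.Agent.Lib.LocalWeakProduct

set_option autoImplicit false
open Cfsg
open scoped commutatorElement Pointwise

namespace Cfsg.Agent.S2859

/-- Let Q be a nontrivial p-subgroup of the finite group H that is a weakly closed subgroup, H° the weak closure of Q in H (generated by the conjugates of Q) and H_∘ = O^p(H°). Suppose H₁, H₂ are normal subgroups of H° with H° = H₁H₂ and [H₁, H₂] ≤ N_H(Q), and put Kᵢ = O^p of the weak closure of Q in HᵢQ. Then for i = 1, 2: Kᵢ = [Kᵢ, Q] = [Kᵢ, Hᵢ] ≤ Hᵢ′ and Kᵢ is normal in H°; H_∘ = K₁K₂; and [K₁, K₂] ≤ O_p(H°). -/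
theorem result {G : Type*} [Group G] [Finite G] {p : ℕ} [Fact p.Prime] (Q : Subgroup G) (hQp : IsPGroup p ↥Q) (hQ1 : Q ≠ ⊥) (hwc : Cfsg.IsWeaklyClosedSubgroup p Q) (Hc : Subgroup G) (hHc : Hc = Cfsg.weakClosure Q ⊤) (H₁ H₂ : Subgroup G) (hn₁ : H₁ ≤ Hc ∧ Hc ≤ Subgroup.normalizer ((H₁ : Subgroup G) : Set G)) (hn₂ : H₂ ≤ Hc ∧ Hc ≤ Subgroup.normalizer ((H₂ : Subgroup G) : Set G)) (hprod : H₁ ⊔ H₂ = Hc) (hcomm : ⁅H₁, H₂⁆ ≤ Subgroup.normalizer ((Q : Subgroup G) : Set G)) (K₁ K₂ : Subgroup G) (hK₁ : K₁ = ((Cfsg.pResidual p ↥(Cfsg.weakClosure Q (H₁ ⊔ Q))).map ((Cfsg.weakClosure Q (H₁ ⊔ Q))).subtype)) (hK₂ : K₂ = ((Cfsg.pResidual p ↥(Cfsg.weakClosure Q (H₂ ⊔ Q))).map ((Cfsg.weakClosure Q (H₂ ⊔ Q))).subtype)) : (⁅K₁, Q⁆ = K₁ ∧ ⁅K₁, H₁⁆ = K₁ ∧ K₁ ≤ ⁅H₁, H₁⁆ ∧ Hc ≤ Subgroup.normalizer ((K₁ : Subgroup G) : Set G)) ∧ (⁅K₂, Q⁆ = K₂ ∧ ⁅K₂, H₂⁆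 = K₂ ∧ K₂ ≤ ⁅H₂, H₂⁆ ∧ Hc ≤ Subgroup.normalizer ((K₂ : Subgroup G) : Set G)) ∧ K₁ ⊔ K₂ = ((Cfsg.pResidual p ↥Hc).map (Hc).subtype) ∧ ⁅K₁, K₂⁆ ≤ (Cfsg.pCoreOf p Hc) := by
  have h : CfsgLib.Local.WC.WClosed p Q := (CfsgLib.Local.WC.wClosed_iff hQp hQ1).mp hwc
  rw [CfsgLib.Local.WC.weakClosure_eq_cl h hQp hQ1 le_top] at hHc
  have hQH : Q ≤ Hc := hHc ▸ CfsgLib.Local.PRed.le_cl ⊤ Q
  have hgen : Hc ≤ CfsgLib.Local.PRed.cl Hc Q := by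
    conv_lhs => rw [hHc]
    refine CfsgLib.Local.WC.cl_le_iff_conj fun g hg => ?_
    obtain ⟨k, hk, he⟩ := h.conj_in hQp hQ1 hQH (g := g)
      (hHc ▸ CfsgLib.Local.WC.conj_le_cl hg)
    rw [he]
    exact CfsgLib.Local.WC.conj_le_cl hk
  have hW : ∀ A : Subgroup G, A ≤ Hc → Hc ≤ Subgroup.normalizer (A : Set G) →
      Cfsg.weakClosure Q (A ⊔ Q) = CfsgLib.Local.PRed.cl A Q := by
    intro A hA hAn
    rw [CfsgLib.Local.WC.weakClosure_eq_cl h hQp hQ1 le_sup_right]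
    refine le_antisymm (CfsgLib.Local.WC.cl_le_iff_conj fun n hn => ?_)
      (CfsgLib.Local.WC.cl_le_iff_conj fun n hn =>
        CfsgLib.Local.WC.conj_le_cl (Subgroup.mem_sup_left hn))
    obtain ⟨q, hq, a, ha, rfl⟩ :=
      (CfsgLib.Core.mem_sup_iff_of_le_normalizer (hQH.trans hAn)).mp (sup_comm A Q ▸ hn)
    rw [show q * a = (q * a * q⁻¹) * q by group, ← CfsgLib.Core.conj_smul_conj_smul,
      CfsgLib.Core.conj_smul_of_mem_normalizer (Subgroup.le_normalizer hq)]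
    exact CfsgLib.Local.WC.conj_le_cl (CfsgLib.Local.PRed.conj_mem (hQH.trans hAn) hq ha)
  rw [hW H₁ hn₁.1 hn₁.2, CfsgLib.Local.PRed.map_pResidual] at hK₁
  rw [hW H₂ hn₂.1 hn₂.2, CfsgLib.Local.PRed.map_pResidual] at hK₂
  subst hK₁ hK₂
  obtain ⟨a1, a2, a3, a4, -, a6, a7, a8⟩ := CfsgLib.Local.WProd.factor h hQp hQ1 hQH hgen
    hn₁.1 hn₁.2 hn₂.1 hn₂.2 hprod hcomm
  obtain ⟨b1, b2, b3, b4, b5, -, b7, b8⟩ := CfsgLib.Local.WProd.factor h hQp hQ1 hQH hgen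
    hn₂.1 hn₂.2 hn₁.1 hn₁.2 (by rw [sup_comm]; exact hprod)
    (by rw [Subgroup.commutator_comm]; exact hcomm)
  refine ⟨⟨a1, a2, a3, a4⟩, ⟨b1, b2, b3, b4⟩, ?_,
    (Subgroup.commutator_mono le_rfl b5).trans a6⟩
  rw [CfsgLib.Local.PRed.map_pResidual]
  set K₁ := CfsgLib.Local.PRed.ORes p (CfsgLib.Local.PRed.cl H₁ Q) with hK₁
  set K₂ := CfsgLib.Local.PRed.ORes p (CfsgLib.Local.PRed.cl H₂ Q) with hK₂
  refine le_antisymm (sup_le a8 b8) ?_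
  set M := K₁ ⊔ K₂ with hM
  have hMn : Hc ≤ Subgroup.normalizer (M : Set G) :=
    CfsgLib.Core.le_normalizer_sup a4 b4
  have hle : Hc ≤ Q ⊔ M := by
    refine hgen.trans (CfsgLib.Local.WC.cl_le_iff_conj fun n hn => ?_)
    obtain ⟨a, ha, b, hb, rfl⟩ :=
      (CfsgLib.Core.mem_sup_iff_of_le_normalizer (hn₁.1.trans hn₂.2)).mp (hprod.ge hn)
    rw [← CfsgLib.Core.conj_smul_conj_smul]
    refine (CfsgLib.Core.conj_smul_le_conj_smul.mpr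
      ((CfsgLib.Local.WC.conj_le_cl hb).trans b7)).trans ?_
    rw [Subgroup.smul_sup, CfsgLib.Core.conj_smul_of_mem_normalizer (b4 (hn₁.1 ha))]
    exact sup_le (((CfsgLib.Local.WC.conj_le_cl ha).trans a7).trans
      (sup_le_sup_left le_sup_left _)) (le_sup_right.trans le_sup_right)
  refine CfsgLib.Local.WProd.oRes_le_of_pMod fun x hx => ?_
  exact CfsgLib.Local.PRed.pMod_sup (CfsgLib.Local.WProd.pMod_of_isPGroup hQp) (hQH.trans hMn) x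
    (hle hx)

end Cfsg.Agent.S2859
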