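import Cfsg.Statements.S2860
import Cfsg.Agent.Lib.LocalQuasiLarge
import Cfsg.Agent.S2843

set_option autoImplicit false
open Cfsg

namespace Cfsg.Agent.S2860

/-- Let Q be a nontrivial large p-subgroup of the finite group H, U a nontrivial elementary abelian p-subgroup of H, and Q ≤ E ≤ N_H(U) with Q not normal in E. Suppose O_p(E/C_E(U)) = 1 and O^p(E)·C_E(U)/C_E(U) is quasisimple. Let E° be the weak closure of Q in E (generated by the conjugates of Q inside E) and E_∘ = O^p(E°). Then O^p(E)·C_E(U) = E_∘·C_E(U); E_∘ is perfect and equals O^p(E_∘); E_∘/C_{E_∘}(U) and E_∘/O_p(E_∘) are quasisimple; and E_∘ = [E_∘, Y] for every p-subgroup Y of E not centralizing U. -/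
theorem result {G : Type*} [Group G] [Finite G] {p : ℕ} [Fact p.Prime] (Q : Subgroup G) (hQp : IsPGroup p ↥Q) (hQ1 : Q ≠ ⊥) (hQ : Cfsg.IsLarge Q) (U : Subgroup G) (hU : Cfsg.IsElementaryAbelian p U) (hU1 : U ≠ ⊥) (E : Subgroup G) (hQE : Q ≤ E) (hEU : E ≤ Subgroup.normalizer ((U : Subgroup G) : Set G)) (hQn : ¬ E ≤ Subgroup.normalizer ((Q : Subgroup G) : Set G)) [hn : ((Subgroup.centralizer ((U : Subgroup G) : Set G)).subgroupOf E).Normal] (hred : Cfsg.pCore p (↥E ⧸ (Subgroup.centralizer ((U : Subgroup G) : Set G)).subgroupOf E) = ⊥) (hqs : Cfsg.IsQuasisimple ↥(((Cfsg.pResidual p ↥E) ⊔ (Subgroup.centralizer ((U : Subgroup G) : Set G)).subgroupOf E).map (QuotientGroup.mk' ((Subgroup.centralizer ((U : Subgroup G) : Set G)).subgroupOf E)))) (Er : Subgroup G) (hEr : Er = ((Cfsg.pResidual p ↥(Cfsg.weakClosure Q E)).map ((Cfsg.weakClosure Q E)).subtype)) [hn2 : ((Subgroup.centralizer ((U : Subgroup G) : Set G)).subgroupOf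 Er).Normal] : ((Cfsg.pResidual p ↥E).map (E).subtype) ⊔ (E ⊓ Subgroup.centralizer ((U : Subgroup G) : Set G)) = Er ⊔ (E ⊓ Subgroup.centralizer ((U : Subgroup G) : Set G)) ∧ ⁅Er, Er⁆ = Er ∧ ((Cfsg.pResidual p ↥Er).map (Er).subtype) = Er ∧ Cfsg.IsQuasisimple (↥Er ⧸ (Subgroup.centralizer ((U : Subgroup G) : Set G)).subgroupOf Er) ∧ Cfsg.IsQuasisimple (↥Er ⧸ Cfsg.pCore p ↥Er) ∧ ∀ Y : Subgroup G, Y ≤ E → IsPGroup p ↥Y → ¬ Y ≤ Subgroup.centralizer ((U : Subgroup G) : Set G) → ⁅Er, Y⁆ = Er := by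
  have hwc := CfsgLib.Local.WC.wClosed_of_isLarge (p := p) hQ1 hQ
  have hW := CfsgLib.Local.WC.weakClosure_eq_cl hwc hQp hQ1 hQE
  set C := Subgroup.centralizer (U : Set G) with hC
  have hUp : IsPGroup p ↥U := CfsgLib.Local.PRed.isPGroup_of_elem hU
  obtain ⟨-, h2, -⟩ := Cfsg.Agent.S2843.result Q hQp hQ1 hQ E hQE U hUp hU1 hEU
  rw [CfsgLib.Local.PRed.map_pResidual] at hEr
  subst hEr
  set W := Cfsg.weakClosure Q E with hWdef
  rw [CfsgLib.Local.PRed.map_pResidual, CfsgLib.Local.PRed.map_pResidual]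
  have e1 : Cfsg.pResidual p ↥E = (CfsgLib.Local.PRed.ORes p E).subgroupOf E := by
    rw [← CfsgLib.Local.PRed.map_pResidual]
    exact (Subgroup.comap_map_eq_self_of_injective E.subtype_injective _).symm
  have e2 : ((Cfsg.pResidual p ↥E) ⊔ C.subgroupOf E).map (QuotientGroup.mk' (C.subgroupOf E)) =
      ((CfsgLib.Local.PRed.ORes p E).subgroupOf E).map (QuotientGroup.mk' (C.subgroupOf E)) := by
    rw [Subgroup.map_sup, QuotientGroup.map_mk'_self, sup_bot_eq, e1]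
  obtain ⟨h3, h4, h5, h6, h7, h8⟩ := CfsgLib.Local.QuasiLarge.main (U := U) hQp hQ1 hQ hQE hQn
    (QuotientGroup.mk' (C.subgroupOf E)) (QuotientGroup.mk'_surjective _) (QuotientGroup.ker_mk' _)
    hred (CfsgLib.Core.quasisimple_congr (MulEquiv.subgroupCongr e2) hqs) (W := W) hW
    ((Subgroup.commutator_mono le_rfl inf_le_right).trans h2)
  exact ⟨h3, h4, h5, h6, h7, h8⟩


end Cfsg.Agent.S2860
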