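import Cfsg.Statements.S2861
import Cfsg.Agent.Lib.LocalFrakLNormalizer
import Cfsg.Agent.Lib.LieSuzukiBridge

set_option autoImplicit false
open Cfsg

namespace Cfsg.Agent.S2861

open CfsgLib.Local.FrakL

/-- The reduction to a group isomorphic to `L/O_p(L)`. -/
theorem core {G : Type*} [Group G] [Finite G] {p : ℕ} [Fact p.Prime] {M L : Subgroup G}
    (hL : Cfsg.IsInFrakL p M L) {S : Type} [Group S] [Finite S] (π₀ : ↥L →* S)
    (hker : π₀.ker = Cfsg.pCore p ↥L) (hsur : Function.Surjective π₀) :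
    let Z := ((Cfsg.largestPReducedOf p M).subgroupOf L).map π₀
    Z ≠ ⊥ ∧ (Z ≠ ⊤ → ((L ⊓ Subgroup.normalizer (Cfsg.largestPReducedOf p M : Set G)).subgroupOf L).map π₀ =
      Subgroup.normalizer (Z : Set S)) ∧
    Nat.card Z = (Cfsg.largestPReducedOf p M ⊓ Cfsg.pCoreOf p L).relIndex (Cfsg.largestPReducedOf p M) ∧
    (∀ x ∈ Z, ∀ y ∈ Z, x * y = y * x) ∧ (∀ x ∈ Z, x ^ p = 1) ∧
    Z ≠ ⊤ ∧
    ∃ (D : Subgroup ↥L) (hn : D.Normal) (hle : D ≤ π₀.ker),
      Setup (QuotientGroup.lift D π₀ hle).ker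
        (((Cfsg.largestPReducedOf p M).subgroupOf L).map (QuotientGroup.mk' D))
        (((L ⊓ Subgroup.normalizer (Cfsg.largestPReducedOf p M : Set G)).subgroupOf L).map
          (QuotientGroup.mk' D)) ∧
      Function.Surjective (QuotientGroup.lift D π₀ hle) ∧
      (((Cfsg.largestPReducedOf p M).subgroupOf L).map (QuotientGroup.mk' D)).map
          (QuotientGroup.lift D π₀ hle) = Z ∧
      (∀ x ∈ ((Cfsg.largestPReducedOf p M).subgroupOf L).map (QuotientGroup.mk' D), x ^ p = 1) := by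
  intro Z
  have hL' := hL
  obtain ⟨hYL, -, hnorm, ⟨hcl, -⟩, -, ⟨hlt, -⟩, -⟩ := hL'
  set Y := Cfsg.largestPReducedOf p M
  set D := (Y ⊓ Subgroup.centralizer (L : Set G)).subgroupOf L with hD
  have hY : Cfsg.IsElementaryAbelian p Y := (CfsgLib.Local.PRed.red_largest (p := p) M).elem
  have hcent : ∀ d ∈ D, ∀ x : ↥L, x * d = d * x := fun d hd x =>
    Subtype.ext (Subgroup.mem_centralizer_iff.mp hd.2 x x.2)
  haveI hn : D.Normal := ⟨fun d hd x => by rwa [hcent d hd x, mul_inv_cancel_right]⟩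
  have hDp : D ≤ Cfsg.pCore p ↥L := by
    refine le_sSup ⟨inferInstance, ?_⟩
    intro d
    refine ⟨1, Subtype.ext (Subtype.ext ?_)⟩
    simpa using hY.2 _ d.2.1
  have hle : D ≤ π₀.ker := hker ▸ hDp
  set π := QuotientGroup.lift D π₀ hle
  have hπ : Function.Surjective π := fun x => by
    obtain ⟨y, rfl⟩ := hsur x; exact ⟨QuotientGroup.mk' D y, rfl⟩
  have hset := exists_setup hL hD π₀ hker hle
  have hmap : ∀ X : Subgroup ↥L, (X.map (QuotientGroup.mk' D)).map π = X.map π₀ := fun X => by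
    rw [Subgroup.map_map]; rfl
  have hc : ∀ x ∈ Z, ∀ y ∈ Z, x * y = y * x := by
    rintro _ ⟨x, hx, rfl⟩ _ ⟨y, hy, rfl⟩
    rw [← map_mul, ← map_mul,
      show x * y = y * x from Subtype.ext (CfsgLib.Local.PRed.comm_of_elem hY hx hy)]
  have he : ∀ x ∈ Z, x ^ p = 1 := by
    rintro _ ⟨x, hx, rfl⟩
    rw [← map_pow, show x ^ p = 1 from Subtype.ext (by simpa using hY.2 _ hx), map_one]
  have hne : Z ≠ ⊥ := by
    intro e
    rw [Subgroup.map_eq_bot_iff, hker] at e
    have h6 : Subgroup.normalClosure ((Y.subgroupOf L : Subgroup ↥L) : Set ↥L) ≤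
        Cfsg.pCore p ↥L := by
      haveI : (Cfsg.pCore p ↥L).Normal := by rw [← hker]; infer_instance
      exact Subgroup.normalClosure_le_normal e
    rw [hcl, top_le_iff] at h6
    refine hlt.ne (le_antisymm inf_le_left fun x hx => ⟨hx, hnorm ⟨⟨x, hx⟩, ?_, rfl⟩⟩)
    rw [h6]; exact Subgroup.mem_top _
  have hZ : Z ≠ ⊤ := by
    intro e
    -- `L` would normalise `Y`
    refine hlt.ne (le_antisymm inf_le_left fun x hx => ?_)
    have h1 : π₀ ⟨x, hx⟩ ∈ Z := e ▸ Subgroup.mem_top _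
    obtain ⟨y, hy, hyx⟩ := h1
    have h2 : y⁻¹ * ⟨x, hx⟩ ∈ Cfsg.pCore p ↥L := by
      rw [← hker, MonoidHom.mem_ker, map_mul, map_inv, hyx, inv_mul_cancel]
    refine ⟨hx, ?_⟩
    have h3 : ((y⁻¹ * ⟨x, hx⟩ : ↥L) : G) ∈ Subgroup.normalizer (Y : Set G) := hnorm ⟨_, h2, rfl⟩
    have h4 := mul_mem (Subgroup.le_normalizer (show (y : G) ∈ Y from hy)) h3
    simpa using h4
  refine ⟨hne, fun _ => ?_, ?_, hc, he, hZ, D, hn, hle, hset, hπ, hmap _, ?_⟩
  · have hnn : ¬ ((Y.subgroupOf L).map π₀).Normal := by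
      rw [← hmap]; exact hset.not_normal hπ (by rw [hmap]; exact hZ)
    refine le_antisymm ?_ fun s hs => ?_
    · refine le_trans (le_of_eq (hmap _).symm) ?_
      refine le_trans (Subgroup.map_mono hset.normalizes) ?_
      rw [show Z = ((Y.subgroupOf L).map (QuotientGroup.mk' D)).map π from (hmap _).symm]
      exact Subgroup.le_normalizer_map π
    · obtain ⟨g, rfl⟩ := hπ s
      have h1 := hset.comap_normalizer hπ (by rw [hmap]; exact hnn)
      rw [hmap] at h1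
      obtain ⟨x, hx, hxg⟩ := h1 hs
      exact ⟨x, hx, by rw [← hxg]; rfl⟩
  · rw [← Subgroup.relIndex_ker, hker, inf_comm Y, Subgroup.inf_relIndex_right,
      ← Subgroup.relIndex_subgroupOf hYL]
    congr 1
    exact (Subgroup.comap_map_eq_self_of_injective L.subtype_injective _).symm
  · rintro _ ⟨x, hx, rfl⟩
    rw [← map_pow, show x ^ p = 1 from Subtype.ext (by simpa using hY.2 _ hx), map_one]

theorem unique {G : Type*} [Group G] [Finite G] {p : ℕ} [Fact p.Prime] {M L : Subgroup G}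
    (hL : Cfsg.IsInFrakL p M L) : ∃ (S : Type) (_ : Group S) (_ : Finite S) (π₀ : ↥L →* S),
      π₀.ker = Cfsg.pCore p ↥L ∧ Function.Surjective π₀ ∧
      UniqueElem p (((Cfsg.largestPReducedOf p M).subgroupOf L).map π₀) := by
  classical
  have hL' := hL
  obtain ⟨-, -, -, -, -, -, hcase⟩ := hL'
  have ker_eq : ∀ {S : Type} [Group S] (e : ↥L ⧸ Cfsg.pCore p ↥L ≃* S),
      (e.toMonoidHom.comp (QuotientGroup.mk' (Cfsg.pCore p ↥L))).ker = Cfsg.pCore p ↥L := by
    intro S _ e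
    ext x
    simp [MonoidHom.mem_ker]
  have sur : ∀ {S : Type} [Group S] (e : ↥L ⧸ Cfsg.pCore p ↥L ≃* S),
      Function.Surjective (e.toMonoidHom.comp (QuotientGroup.mk' (Cfsg.pCore p ↥L))) := fun e =>
    e.surjective.comp (QuotientGroup.mk'_surjective _)
  rcases hcase with ⟨F, _, _, hcard, ⟨e⟩⟩ | ⟨rfl, F, _, _, m, hFcard, hcard, ⟨e⟩⟩ |
    ⟨rfl, r, hr, hr2, ⟨e⟩⟩
  · obtain ⟨-, -, hcard', hc, he, -⟩ := core hL _ (ker_eq e) (sur e)
    haveI : CharP F p := by
      obtain ⟨k, hk⟩ := (IsPGroup.iff_card.mp (show IsPGroup p ↥(((Cfsg.largestPReducedOf p M).subgroupOf L).map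
        (e.toMonoidHom.comp (QuotientGroup.mk' (Cfsg.pCore p ↥L)))) from
        fun x => ⟨1, Subtype.ext (by rw [SubmonoidClass.coe_pow, pow_one]; exact he x.1 x.2)⟩))
      rw [hcard', ← hcard] at hk
      exact charP_of_card_eq_prime_pow hk
    obtain ⟨c, hc0⟩ := exists_conj_upper (p := p) _ hc he
      (by rw [hcard', ← hcard, Nat.card_eq_fintype_card])
    exact ⟨_, inferInstance, inferInstance, _, ker_eq e, sur e,
      UniqueElem.of_conj c (hc0 ▸ unique_upper)⟩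
  · obtain rfl | hm := Nat.eq_zero_or_pos m
    · obtain ⟨-, -, hc2, -, -, hne, D, hn, hle, hset, hπ, hmap, he⟩ := core hL _ (ker_eq e) (sur e)
      haveI := hn
      refine ⟨_, inferInstance, inferInstance, _, ker_eq e, sur e, ?_⟩
      rw [← hmap]
      refine unique_two hset hπ (fun y hy => by simpa [pow_two] using he y hy) ?_ ?_
      · rw [hmap, hc2, ← hcard, hFcard]; norm_num
      · rw [hmap]; exact hne
    · have P := CfsgLib.Lie.SzOvoid.par_mk hm hFcard
      obtain ⟨φ, -⟩ := CfsgLib.Lie.SzOvoid.bridge P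
      set e₁ := e.trans φ.symm
      obtain ⟨-, -, hcard', -, he, -⟩ := core hL _ (ker_eq e₁) (sur e₁)
      obtain ⟨c, hc0⟩ := exists_conj_centerSub P _ (fun x hx => by simpa [pow_two] using he x hx)
      refine ⟨_, inferInstance, inferInstance, _, ker_eq e₁, sur e₁, UniqueElem.of_conj c ?_⟩
      rw [Subgroup.eq_of_le_of_card_ge hc0 ?_]
      · exact unique_centerSub P
      · rw [card_centerSub, Subgroup.card_map_of_injective (MulAut.conj c).injective, hcard',
          ← hcard, Nat.card_eq_fintype_card]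
  · haveI : NeZero r := ⟨hr.ne_zero⟩
    obtain ⟨hbot, -, -, hc, he, hne, D, hn, hle, hset, hπ, hmap, he'⟩ :=
      core hL _ (ker_eq e) (sur e)
    haveI := hn
    refine ⟨_, inferInstance, inferInstance, _, ker_eq e, sur e, ?_⟩
    rw [← hmap]
    refine unique_two hset hπ (fun y hy => by simpa [pow_two] using he' y hy) ?_ (by rw [hmap]; exact hne)
    rw [hmap]
    exact card_dihedral hr hr2 _ hc (fun x hx => by simpa [pow_two] using he x hx) hbot


/-- Standing hypotheses: G a finite group, S a Sylow p-subgroup, Q a nontrivial large p-subgroup of G contained in S, M a subgroup containing S with the basic property (M ∈ 𝔐_G(S)); Y_M the largest p-reduced normal subgroup of M and M† = M·C_G(Y_M). Let L ∈ 𝔏_G(Y_M) (L ∈ 𝔏_G(Y_M): Y_M ≤ L; O_p(L) is the normal closure in L of Y_M ∩ O_p(L) and normalizes Y_M; L is Y_M-minimal of characteristic p with N_L(Y_M) its unique maximal subgroup over Y_M; and L/O_p(L) ≅ SL₂(q) with q = |Y_M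 : Y_M ∩ O_p(L)|, or p = 2 and L/O_p(L) is a Suzuki group Sz(q) or dihedral of order 2r, r an odd prime) and A = O_p(L). Then Y_M·A/A is the unique nontrivial elementary abelian normal p-subgroup of N_L(Y_M)/A. -/
theorem result {G : Type*} [Group G] [Finite G] {p : ℕ} [Fact p.Prime] (S : Sylow p G) (Q : Subgroup G) (hQp : IsPGroup p ↥Q) (hQ1 : Q ≠ ⊥) (hQS : Q ≤ (S : Subgroup G)) (hQ : Cfsg.IsLarge Q) (M : Subgroup G) (hSM : (S : Subgroup G) ≤ M) (hM : Cfsg.IsInFrakM p M) (L : Subgroup G) (hL : Cfsg.IsInFrakL p M L) (NL : Subgroup G) (hNL : NL = L ⊓ Subgroup.normalizer (((Cfsg.largestPReducedOf p M) : Subgroup G) : Set G)) [hn : (((Cfsg.pCoreOf p L)).subgroupOf NL).Normal] : let Ybar : Subgroup (↥NL ⧸ ((Cfsg.pCoreOf p L)).subgroupOf NL) := (((Cfsg.largestPReducedOf p M)).subgroupOf NL).map (QuotientGroup.mk' (((Cfsg.pCoreOf p L)).subgroupOf NL)); Ybar ≠ ⊥ ∧ Ybar.Normal ∧ Cfsg.IsElementaryAbelian p Ybar ∧ ∀ (V : Subgroup (↥NL ⧸ ((Cfsg.pCoreOf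 p L)).subgroupOf NL)), V.Normal → Cfsg.IsElementaryAbelian p V → V ≠ ⊥ → V = Ybar := by
  intro Ybar
  subst hNL
  set Y := Cfsg.largestPReducedOf p M
  set NL := L ⊓ Subgroup.normalizer (Y : Set G)
  obtain ⟨T, _, _, π₀, hker, hsur, huniq⟩ := unique hL
  obtain ⟨hbot, hW, -, hc, he, hZtop, -⟩ := core hL π₀ hker hsur
  set Z := (Y.subgroupOf L).map π₀
  set mk := QuotientGroup.mk' ((Cfsg.pCoreOf p L).subgroupOf NL)
  let φ : ↥NL →* T := π₀.comp (Subgroup.inclusion inf_le_left)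
  have hφker : φ.ker = (Cfsg.pCoreOf p L).subgroupOf NL := by
    ext x
    rw [MonoidHom.mem_ker, Subgroup.mem_subgroupOf]
    refine ⟨fun h => ⟨Subgroup.inclusion inf_le_left x, by rw [← hker]; exact h, rfl⟩, fun h => ?_⟩
    obtain ⟨x', hx', e⟩ := h
    have : x' = Subgroup.inclusion inf_le_left x := Subtype.ext e
    have h2 := hker.ge hx'
    rw [this] at h2
    exact h2
  have hφrange : ∀ s ∈ Subgroup.normalizer (Z : Set T), ∃ x : ↥NL, φ x = s := by
    intro s hs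
    rw [← hW hZtop] at hs
    obtain ⟨x, hx, rfl⟩ := hs
    exact ⟨⟨x, hx⟩, rfl⟩
  have hφmem : ∀ x : ↥NL, φ x ∈ Subgroup.normalizer (Z : Set T) := by
    intro x
    rw [← hW hZtop]
    exact ⟨Subgroup.inclusion inf_le_left x, x.2, rfl⟩
  let ψ : ↥NL ⧸ (Cfsg.pCoreOf p L).subgroupOf NL →* T := QuotientGroup.lift _ φ hφker.ge
  have hψ : Function.Injective ψ := by
    rw [← MonoidHom.ker_eq_bot_iff, QuotientGroup.ker_lift, hφker]
    exact QuotientGroup.map_mk'_self _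
  have hZim : Ybar.map ψ = Z := by
    rw [Subgroup.map_map]
    refine le_antisymm ?_ ?_
    · rintro _ ⟨x, hx, rfl⟩
      exact ⟨Subgroup.inclusion inf_le_left x, hx, rfl⟩
    · rintro _ ⟨x, hx, rfl⟩
      exact ⟨⟨x, x.2, Subgroup.le_normalizer hx⟩, hx, rfl⟩
  have hnormY : Ybar.Normal := by
    refine Subgroup.Normal.map ⟨fun y hy g => ?_⟩ mk (QuotientGroup.mk'_surjective _)
    rw [Subgroup.mem_subgroupOf] at hy ⊢
    exact (Subgroup.mem_normalizer_iff.mp g.2.2 _).mp hy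
  refine ⟨fun e => hbot (by rw [← hZim, e, Subgroup.map_bot]), hnormY, ⟨⟨⟨fun a b => ?_⟩⟩, ?_⟩, ?_⟩
  · refine Subtype.ext (hψ ?_)
    simp only [Subgroup.coe_mul, map_mul]
    exact hc _ (hZim ▸ Subgroup.mem_map_of_mem ψ a.2) _ (hZim ▸ Subgroup.mem_map_of_mem ψ b.2)
  · intro a ha
    refine hψ ?_
    rw [map_pow, map_one]
    exact he _ (hZim ▸ Subgroup.mem_map_of_mem ψ ha)
  intro V hV hVe hVne
  refine Subgroup.map_injective hψ ?_
  rw [hZim]
  refine huniq _ ?_ ?_ ?_ ?_ ?_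
  · rintro _ ⟨v, -, rfl⟩
    obtain ⟨x, rfl⟩ := QuotientGroup.mk'_surjective _ v
    exact hφmem x
  · intro s hs
    obtain ⟨x, rfl⟩ := hφrange s hs
    have h1 : mk x ∈ Subgroup.normalizer (V : Set _) := by
      rw [Subgroup.normalizer_eq_top]; exact Subgroup.mem_top _
    exact Subgroup.le_normalizer_map ψ ⟨mk x, h1, rfl⟩
  · rintro _ ⟨a, ha, rfl⟩ _ ⟨b, hb, rfl⟩
    haveI := hVe.1
    rw [← map_mul, ← map_mul, setLike_mul_comm ha hb]
  · rintro _ ⟨a, ha, rfl⟩
    rw [← map_pow, hVe.2 a ha, map_one]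
  · exact fun e => hVne ((Subgroup.map_eq_bot_iff_of_injective _ hψ).mp e)


end Cfsg.Agent.S2861
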