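import Cfsg.Statements.S2863
import Cfsg.Agent.Lib.LocalFrakLSL2
import Cfsg.Agent.Lib.LocalFrakLSuzuki
import Cfsg.Agent.Lib.LieSuzukiBridge

set_option autoImplicit false
open Cfsg

namespace Cfsg.Agent.S2863

open CfsgLib.Local.FrakL
theorem core {G : Type*} [Group G] [Finite G] {p : ℕ} [Fact p.Prime] {M L : Subgroup G}
    (hL : Cfsg.IsInFrakL p M L) (h : ↥L) (hnp : ¬ ∃ k : ℕ, orderOf h = p ^ k) (a : ↥L)
    (ha : a ∈ Cfsg.pCore p ↥L)
    (hc : (h * a * h⁻¹ * a⁻¹ : ↥L) ∈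
      (Cfsg.largestPReducedOf p M ⊓ Subgroup.centralizer (L : Set G)).subgroupOf L) :
    a ∈ (Cfsg.largestPReducedOf p M ⊓ Subgroup.centralizer (L : Set G)).subgroupOf L := by
  classical
  have hL' := hL
  obtain ⟨hYL, -, -, -, -, ⟨hlt, -⟩, hcase⟩ := hL'
  set Y := Cfsg.largestPReducedOf p M
  set D := (Y ⊓ Subgroup.centralizer (L : Set G)).subgroupOf L with hD
  have hY : Cfsg.IsElementaryAbelian p Y := (CfsgLib.Local.PRed.red_largest (p := p) M).elem
  have hcent : ∀ d ∈ D, ∀ x : ↥L, x * d = d * x := fun d hd x =>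
    Subtype.ext (Subgroup.mem_centralizer_iff.mp hd.2 x x.2)
  haveI : D.Normal := ⟨fun d hd x => by rwa [hcent d hd x, mul_inv_cancel_right]⟩
  have hDp : D ≤ Cfsg.pCore p ↥L := by
    refine le_sSup ⟨inferInstance, ?_⟩
    intro d
    refine ⟨1, Subtype.ext (Subtype.ext ?_)⟩
    simpa using hY.2 _ d.2.1
  -- reduce to an element of prime order
  have hPp : IsPGroup p ↥(Cfsg.pCore p ↥L) := CfsgLib.Core.isPGroup_pCore p
  have main : ∀ {S : Type} [Group S] [Finite S] (π₀ : ↥L →* S), π₀.ker = Cfsg.pCore p ↥L →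
      Function.Surjective π₀ →
      (∀ (hle : D ≤ π₀.ker), ∀ (s : S) (r : ℕ), r.Prime → r ≠ p → orderOf s = r →
        Free (QuotientGroup.lift D π₀ hle) s) → a ∈ D := by
    intro S _ _ π₀ hker hsur hfree
    have hle : D ≤ π₀.ker := hker ▸ hDp
    set π := QuotientGroup.lift D π₀ hle
    obtain ⟨r, hr, hrp, hrd⟩ : ∃ r : ℕ, r.Prime ∧ r ≠ p ∧ r ∣ orderOf (π₀ h) := by
      by_contra hall
      push Not at hall
      refine hnp ?_
      obtain ⟨i, hi⟩ : ∃ i, orderOf (π₀ h) = p ^ i :=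
        ⟨_, Nat.eq_prime_pow_of_unique_prime_dvd (orderOf_pos _).ne' fun {d} hd hdd =>
          by_contra fun hne => hall d hd hne hdd⟩
      have h1 : h ^ p ^ i ∈ Cfsg.pCore p ↥L := by
        rw [← hker, MonoidHom.mem_ker, map_pow, ← hi, pow_orderOf_eq_one]
      obtain ⟨j, hj⟩ := hPp ⟨_, h1⟩
      have h2 : h ^ p ^ (i + j) = 1 := by
        rw [pow_add, pow_mul]; simpa using congrArg Subtype.val hj
      obtain ⟨k, -, hk⟩ := (Nat.dvd_prime_pow Fact.out).mp (orderOf_dvd_of_pow_eq_one h2)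
      exact ⟨k, hk⟩
    set n := orderOf (π₀ h)
    have hord : orderOf (π₀ h ^ (n / r)) = r := by
      rw [orderOf_pow_of_dvd (Nat.div_ne_zero_iff.mpr ⟨hr.ne_zero, Nat.le_of_dvd (orderOf_pos _) hrd⟩)
        (Nat.div_dvd_of_dvd hrd), Nat.div_div_self hrd (orderOf_pos _).ne']
    have hcomm : Commute (QuotientGroup.mk' D h) (QuotientGroup.mk' D a) := by
      have h1 : QuotientGroup.mk' D (h * a * h⁻¹ * a⁻¹) = 1 := (QuotientGroup.eq_one_iff _).mpr hc
      simp only [map_mul, map_inv] at h1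
      exact mul_inv_eq_iff_eq_mul.mp (mul_inv_eq_one.mp h1)
    have h3 := hfree hle (π₀ h ^ (n / r)) r hr hrp hord (QuotientGroup.mk' D h ^ (n / r))
      (by rw [map_pow]; rfl) (QuotientGroup.mk' D a)
      (by rw [MonoidHom.mem_ker]; exact (MonoidHom.mem_ker).mp (hker.ge ha))
      (hcomm.pow_left _).eq
    exact (QuotientGroup.eq_one_iff _).mp h3
  -- the data on `π(Y)`
  have ker_eq : ∀ {S : Type} [Group S] (e : ↥L ⧸ Cfsg.pCore p ↥L ≃* S),
      (e.toMonoidHom.comp (QuotientGroup.mk' (Cfsg.pCore p ↥L))).ker = Cfsg.pCore p ↥L := by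
    intro S _ e
    ext x
    simp [MonoidHom.mem_ker]
  have sur : ∀ {S : Type} [Group S] (e : ↥L ⧸ Cfsg.pCore p ↥L ≃* S),
      Function.Surjective (e.toMonoidHom.comp (QuotientGroup.mk' (Cfsg.pCore p ↥L))) := fun e =>
    e.surjective.comp (QuotientGroup.mk'_surjective _)
  have image : ∀ {S : Type} [Group S] (π₀ : ↥L →* S) (hle : D ≤ π₀.ker),
      π₀.ker = Cfsg.pCore p ↥L →
      ((Y.subgroupOf L).map (QuotientGroup.mk' D)).map (QuotientGroup.lift D π₀ hle) =
          (Y.subgroupOf L).map π₀ ∧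
        Nat.card ((Y.subgroupOf L).map π₀) = (Y ⊓ Cfsg.pCoreOf p L).relIndex Y ∧
        (∀ x ∈ (Y.subgroupOf L).map π₀, ∀ y ∈ (Y.subgroupOf L).map π₀, x * y = y * x) ∧
        (∀ x ∈ (Y.subgroupOf L).map π₀, x ^ p = 1) ∧
        (∀ x ∈ (Y.subgroupOf L).map (QuotientGroup.mk' D), x ^ p = 1) ∧
        IsPGroup p (QuotientGroup.lift D π₀ hle).ker ∧
        Function.Surjective (QuotientGroup.mk' D) := by
    intro S _ π₀ hle hker
    refine ⟨by rw [Subgroup.map_map]; rfl, ?_, ?_, ?_, ?_, ?_, QuotientGroup.mk'_surjective D⟩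
    · rw [← Subgroup.relIndex_ker, hker, inf_comm Y, Subgroup.inf_relIndex_right,
        ← Subgroup.relIndex_subgroupOf hYL]
      congr 1
      exact (Subgroup.comap_map_eq_self_of_injective L.subtype_injective _).symm
    · rintro _ ⟨x, hx, rfl⟩ _ ⟨y, hy, rfl⟩
      rw [← map_mul, ← map_mul,
        show x * y = y * x from Subtype.ext (CfsgLib.Local.PRed.comm_of_elem hY hx hy)]
    · rintro _ ⟨x, hx, rfl⟩
      rw [← map_pow, show x ^ p = 1 from Subtype.ext (by simpa using hY.2 _ hx), map_one]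
    · rintro _ ⟨x, hx, rfl⟩
      rw [← map_pow, show x ^ p = 1 from Subtype.ext (by simpa using hY.2 _ hx), map_one]
    · rw [QuotientGroup.ker_lift, hker]
      exact hPp.map _
  rcases hcase with ⟨F, _, _, hcard, ⟨e⟩⟩ | ⟨rfl, F, _, _, m, hFcard, hcard, ⟨e⟩⟩ |
    ⟨rfl, r', hr', hr'2, ⟨e⟩⟩
  · -- SL₂
    set π₁ := e.toMonoidHom.comp (QuotientGroup.mk' (Cfsg.pCore p ↥L))
    obtain ⟨-, hcard', hc', he', -, -, -⟩ := image π₁ ((ker_eq e).symm ▸ hDp) (ker_eq e)
    haveI : CharP F p := by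
      obtain ⟨k, hk⟩ := (IsPGroup.iff_card.mp (show IsPGroup p ↥((Y.subgroupOf L).map π₁) from
        fun x => ⟨1, Subtype.ext (by simpa using he' x.1 x.2)⟩))
      rw [hcard', ← hcard] at hk
      exact charP_of_card_eq_prime_pow hk
    obtain ⟨c, hc0⟩ := exists_conj_upper (p := p) ((Y.subgroupOf L).map π₁) hc' he'
      (by rw [hcard', ← hcard, Nat.card_eq_fintype_card])
    set e' := e.trans (MulAut.conj c)
    refine main (e'.toMonoidHom.comp (QuotientGroup.mk' (Cfsg.pCore p ↥L))) (ker_eq e') (sur e') ?_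
    intro hle s r hr hrp hs
    obtain ⟨h1, -, -, -, -, hP, -⟩ := image _ hle (ker_eq e')
    refine (exists_setup hL hD _ (ker_eq e') hle).free_sl2 ?_ hP ?_ hr hrp hs
    · intro x; obtain ⟨y, rfl⟩ := sur e' x; exact ⟨QuotientGroup.mk' D y, rfl⟩
    · rw [h1, ← hc0, Subgroup.map_map]; rfl
  · -- Sz
    obtain rfl | hm := Nat.eq_zero_or_pos m
    · refine main _ (ker_eq e) (sur e) ?_
      intro hle s r hr hrp hs
      obtain ⟨h1, h2, -, -, h5, hP, -⟩ := image _ hle (ker_eq e)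
      have hc2 : Nat.card (((Y.subgroupOf L).map (QuotientGroup.mk' D)).map
          (QuotientGroup.lift D _ hle)) = 2 := by
        rw [h1, h2, ← hcard, hFcard]; norm_num
      refine (exists_setup hL hD _ (ker_eq e) hle).free_two ?_ hP
        (fun y hy => by simpa [pow_two] using h5 y hy) hc2 ?_ ?_ ?_
      · intro x; obtain ⟨y, rfl⟩ := sur e x; exact ⟨QuotientGroup.mk' D y, rfl⟩
      · intro e1
        rw [e1, Subgroup.card_top] at hc2
        have h6 := orderOf_dvd_natCard s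
        rw [hc2, hs] at h6
        exact hrp ((Nat.prime_dvd_prime_iff_eq hr Nat.prime_two).mp h6)
      · rw [hs]; exact (Nat.coprime_primes hr Nat.prime_two).mpr hrp
      · intro e1; rw [e1, orderOf_one] at hs; exact hr.ne_one hs.symm
    · have P := CfsgLib.Lie.SzOvoid.par_mk hm hFcard
      obtain ⟨φ, -⟩ := CfsgLib.Lie.SzOvoid.bridge P
      set e₁ := e.trans φ.symm
      obtain ⟨-, hcard', -, he', -, -, -⟩ := image _ ((ker_eq e₁).symm ▸ hDp) (ker_eq e₁)
      obtain ⟨c, hc0⟩ := exists_conj_centerSub P ((Y.subgroupOf L).map _)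
        (fun x hx => by simpa [pow_two] using he' x hx)
      set e' := e₁.trans (MulAut.conj c)
      refine main (e'.toMonoidHom.comp (QuotientGroup.mk' (Cfsg.pCore 2 ↥L))) (ker_eq e') (sur e') ?_
      intro hle s r hr hrp hs
      obtain ⟨h1, h2, -, -, h5, hP, -⟩ := image _ hle (ker_eq e')
      haveI : Fact r.Prime := ⟨hr⟩
      refine Setup.free_sz P (exists_setup hL hD _ (ker_eq e') hle) ?_ hP
        (fun y hy => by simpa [pow_two] using h5 y hy) ?_ hrp hs
      · intro x; obtain ⟨y, rfl⟩ := sur e' x; exact ⟨QuotientGroup.mk' D y, rfl⟩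
      · refine Subgroup.eq_of_le_of_card_ge ?_ ?_
        · rw [h1]
          refine le_trans (le_of_eq ?_) hc0
          rw [Subgroup.map_map]; rfl
        · rw [card_centerSub, h1, h2, ← hcard, Nat.card_eq_fintype_card]
  · -- dihedral
    haveI : NeZero r' := ⟨hr'.ne_zero⟩
    refine main _ (ker_eq e) (sur e) ?_
    intro hle s r hr hrp hs
    obtain ⟨h1, h2, h3, h4, h5, hP, -⟩ := image _ hle (ker_eq e)
    have hne : (Y.subgroupOf L).map (e.toMonoidHom.comp (QuotientGroup.mk' (Cfsg.pCore 2 ↥L))) ≠ ⊥ := by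
      intro e1
      rw [Subgroup.map_eq_bot_iff, ker_eq e] at e1
      -- `Y` would lie in the core, whose normal closure is proper
      have h6 : Subgroup.normalClosure ((Y.subgroupOf L : Subgroup ↥L) : Set ↥L) ≤
          Cfsg.pCore 2 ↥L := by
        haveI : (Cfsg.pCore 2 ↥L).Normal := by rw [← ker_eq e]; infer_instance
        exact Subgroup.normalClosure_le_normal e1
      rw [hL.2.2.2.1.1, top_le_iff] at h6
      obtain ⟨x, hx⟩ := (sur e) (DihedralGroup.r 1)
      have h7 : e.toMonoidHom.comp (QuotientGroup.mk' (Cfsg.pCore 2 ↥L)) x = 1 :=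
        MonoidHom.mem_ker.mp (by rw [ker_eq e, h6]; exact Subgroup.mem_top x)
      rw [hx, DihedralGroup.one_def, DihedralGroup.r.injEq] at h7
      haveI : Fact r'.Prime := ⟨hr'⟩
      exact one_ne_zero h7
    have hc2 := card_dihedral hr' hr'2 _ h3 (fun x hx => by simpa [pow_two] using h4 x hx) hne
    refine (exists_setup hL hD _ (ker_eq e) hle).free_two ?_ hP
      (fun y hy => by simpa [pow_two] using h5 y hy) (by rw [h1]; exact hc2) ?_ ?_ ?_
    · intro x; obtain ⟨y, rfl⟩ := sur e x; exact ⟨QuotientGroup.mk' D y, rfl⟩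
    · rw [h1]; intro e1
      rw [e1, Subgroup.card_top, DihedralGroup.nat_card] at hc2
      have := hr'.two_le; omega
    · rw [hs]; exact (Nat.coprime_primes hr Nat.prime_two).mpr hrp
    · intro e1; rw [e1, orderOf_one] at hs; exact hr.ne_one hs.symm


/-- Standing hypotheses: G a finite group, S a Sylow p-subgroup, Q a nontrivial large p-subgroup of G contained in S, M a subgroup containing S with the basic property (M ∈ 𝔐_G(S)); Y_M the largest p-reduced normal subgroup of M and M† = M·C_G(Y_M). Let L ∈ 𝔏_G(Y_M) (L ∈ 𝔏_G(Y_M): Y_M ≤ L; O_p(L) is the normal closure in L of Y_M ∩ O_p(L) and normalizes Y_M; L is Y_M-minimal of characteristic p with N_L(Y_M) its unique maximal subgroup over Y_M; and L/O_p(L) ≅ SL₂(q) with q = |Y_M : Y_M ∩ O_p(L)|, or p = 2 and L/O_p(L) is a Suzuki group Sz(q) or dihedral of order 2r, r an odd prime), A = O_p(L), and C = C_{Y_M}(L). Then every element h of L whose order is not a power of p acts without nontrivial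 fixed points on A/C: for a ∈ A, hah⁻¹a⁻¹ ∈ C implies a ∈ C. -/
theorem result {G : Type*} [Group G] [Finite G] {p : ℕ} [Fact p.Prime] (S : Sylow p G) (Q : Subgroup G) (hQp : IsPGroup p ↥Q) (hQ1 : Q ≠ ⊥) (hQS : Q ≤ (S : Subgroup G)) (hQ : Cfsg.IsLarge Q) (M : Subgroup G) (hSM : (S : Subgroup G) ≤ M) (hM : Cfsg.IsInFrakM p M) (L : Subgroup G) (hL : Cfsg.IsInFrakL p M L) (h : G) (hh : h ∈ L) (hnp : ¬ ∃ k : ℕ, orderOf h = p ^ k) : ∀ a ∈ (Cfsg.pCoreOf p L), h * a * h⁻¹ * a⁻¹ ∈ (Cfsg.largestPReducedOf p M) ⊓ Subgroup.centralizer ((L : Subgroup G) : Set G) → a ∈ (Cfsg.largestPReducedOf p M) ⊓ Subgroup.centralizer ((L : Subgroup G) : Set G) := by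
  intro a ha hc
  obtain ⟨a', ha', rfl⟩ := ha
  exact core hL ⟨h, hh⟩ (by simpa [Subgroup.orderOf_mk] using hnp) a' ha' hc


end Cfsg.Agent.S2863
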