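import Cfsg.Statements.S2864
import Cfsg.Agent.Lib.LocalBasicProperty
import Cfsg.Agent.Lib.CoreCoprime2
import Cfsg.Agent.Lib.CorePGroup
import Cfsg.Agent.S2845

set_option autoImplicit false
open Cfsg
open scoped commutatorElement Pointwise

namespace Cfsg.Agent.S2864

/-- Standing hypotheses: G a finite group, S a Sylow p-subgroup, Q a nontrivial large p-subgroup of G contained in S, M a subgroup containing S with the basic property (M ∈ 𝔐_G(S)); Y_M the largest p-reduced normal subgroup of M and M† = M·C_G(Y_M). Let I be a nontrivial normal p-subgroup of M and Y ≤ O_p(M†); let L be a subgroup of G containing Y and A a normal p-subgroup of L with I ≤ A ≤ M. If [Y, A] ≤ [I, A], then Y ≤ O_p(L). -/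
theorem result {G : Type*} [Group G] [Finite G] {p : ℕ} [Fact p.Prime] (S : Sylow p G) (Q : Subgroup G) (hQp : IsPGroup p ↥Q) (hQ1 : Q ≠ ⊥) (hQS : Q ≤ (S : Subgroup G)) (hQ : Cfsg.IsLarge Q) (M : Subgroup G) (hSM : (S : Subgroup G) ≤ M) (hM : Cfsg.IsInFrakM p M) (I : Subgroup G) (hI1 : I ≠ ⊥) (hIp : IsPGroup p ↥I) (hIM : I ≤ M ∧ M ≤ Subgroup.normalizer ((I : Subgroup G) : Set G)) (Y : Subgroup G) (hY : Y ≤ (Cfsg.pCoreOf p (M ⊔ Subgroup.centralizer (((Cfsg.largestPReducedOf p M) : Subgroup G) : Set G)))) (L : Subgroup G) (hYL : Y ≤ L) (A : Subgroup G) (hAp : IsPGroup p ↥A) (hAL : A ≤ L ∧ L ≤ Subgroup.normalizer ((A : Subgroup G) : Set G)) (hIA : I ≤ A) (hAM : A ≤ M) (hc : ⁅Y, A⁆ ≤ ⁅I, A⁆) : Y ≤ (Cfsg.pCoreOf p L) := by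
  have hG : CfsgLib.Local.Basic.ParCore p G := fun R hR hne =>
    (Cfsg.Agent.S2845.result Q hQp hQ1 hQ).2.1 R hR
      fun hb => hne (by rw [Cfsg.pCoreOf, hb, Subgroup.map_bot])
  set Md := M ⊔ Subgroup.centralizer (Cfsg.largestPReducedOf p M : Set G) with hMd
  obtain ⟨X, hX, hNX⟩ := CfsgLib.Local.Basic.exists_max
    (hG.mem S (hSM.trans hIM.2) Subgroup.le_normalizer le_rfl hIp hI1)
  have hXe : X = Md := hM.2.2.1 X hX (hIM.2.trans hNX)
  set C := Subgroup.centralizer (A : Set G) with hC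
  have hCM : C ≤ Md := by
    rw [← hXe]
    exact (CfsgLib.Local.PRed.centralizer_antitone hIA).trans
      ((CfsgLib.Core.centralizer_le_normalizer I).trans hNX)
  set Φ := (frattini ↥A).map A.subtype with hΦ
  have hLn : ∀ l ∈ L, ∀ a ∈ Φ, l * a * l⁻¹ ∈ Φ := by
    rintro l hl _ ⟨a, ha, rfl⟩
    let e : ↥A ≃* ↥A :=
      { toFun := fun w => ⟨l * w * l⁻¹, CfsgLib.Local.PRed.conj_mem hAL.2 hl w.2⟩
        invFun := fun w => ⟨l⁻¹ * w * l, by
          simpa using CfsgLib.Local.PRed.conj_mem hAL.2 (L.inv_mem hl) w.2⟩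
        left_inv := fun w => Subtype.ext (by simp [mul_assoc])
        right_inv := fun w => Subtype.ext (by simp [mul_assoc])
        map_mul' := fun a b => Subtype.ext (by simp [mul_assoc]) }
    have h1 := frattini_characteristic.fixed e
    rw [← h1] at ha
    exact ⟨e a, ha, rfl⟩
  have hAA : ⁅A, A⁆ ≤ Φ := by
    rw [← Subgroup.map_subtype_commutator]
    exact Subgroup.map_mono (CfsgLib.Core.pgroup_commutator_le_frattini hAp)
  let D : Subgroup ↥L :=
    { carrier := {l | ∀ a ∈ A, (l : G) * a * (l : G)⁻¹ * a⁻¹ ∈ Φ}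
      one_mem' := fun a _ => by simp
      mul_mem' := fun {x y} hx hy a ha => by
        have := Φ.mul_mem (hLn x x.2 _ (hy a ha)) (hx a ha)
        simpa [mul_assoc] using this
      inv_mem' := fun {x} hx a ha => by
        have ha' : (x : G)⁻¹ * a * x ∈ A := by
          simpa using CfsgLib.Local.PRed.conj_mem hAL.2 (L.inv_mem x.2) ha
        have := Φ.inv_mem (hx _ ha')
        simpa [mul_assoc] using this }
  have hDn : D.Normal := ⟨fun l hl x a ha => by
    have ha' : (x : G)⁻¹ * a * x ∈ A := by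
      simpa using CfsgLib.Local.PRed.conj_mem hAL.2 (L.inv_mem x.2) ha
    have := hLn x x.2 _ (hl _ ha')
    simpa [mul_assoc] using this⟩
  have hYD : ∀ y : ↥L, (y : G) ∈ Y → y ∈ D := fun y hy a ha => by
    have h1 : ⁅(y : G), a⁆ ∈ Φ :=
      ((hc.trans (Subgroup.commutator_mono hIA le_rfl)).trans hAA)
        (Subgroup.commutator_mem_commutator hy ha)
    simpa [commutatorElement_def] using h1
  have hcop : ∀ z : ↥L, z ∈ D → (orderOf (z : G)).Coprime p → (z : G) ∈ C := by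
    intro z hz hzp
    refine CfsgLib.Core.le_centralizer_of_trivial_mod_frattini
      (A := Subgroup.zpowers (z : G)) (K := A)
      (Subgroup.zpowers_le.mpr (hAL.2 z.2)) ?_ ?_ (Subgroup.mem_zpowers _)
    · rw [Nat.card_zpowers]
      obtain ⟨n, hn⟩ := (hAp.to_subgroup (frattini ↥A)).exists_card_eq
      rw [hn]
      exact Nat.Coprime.pow_right n hzp
    · intro w hw a ha
      obtain ⟨i, rfl⟩ := Subgroup.mem_zpowers_iff.mp hw
      have h1 : ((z ^ i : ↥L) : G) * a * ((z ^ i : ↥L) : G)⁻¹ * a⁻¹ ∈ Φ := D.zpow_mem hz i a ha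
      rwa [Subgroup.coe_zpow] at h1
  have hCn : L ≤ Subgroup.normalizer (C : Set G) := CfsgLib.Core.le_normalizer_centralizer hAL.2
  have hCn' : (C.subgroupOf L).Normal := CfsgLib.Local.PRed.subgroupOf_normal hCn
  set O := Cfsg.pCore p ↥L with hO
  haveI hOn : O.Normal := CfsgLib.Local.pCore_normal' p
  set q := QuotientGroup.mk' O with hq
  have hqs : Function.Surjective q := QuotientGroup.mk'_surjective O
  set Od := Cfsg.pCoreOf p Md with hOd
  have hOdn : Md ≤ Subgroup.normalizer (Od : Set G) := CfsgLib.Local.PRed.pCoreOf_normalized Md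
  have hW : ∀ w : ↥L, (w : G) ∈ Od → (w : G) ∈ C → w ∈ O := by
    set W := ((Od ⊓ C).subgroupOf L).subgroupOf (C.subgroupOf L) with hWdef
    have hWn : W.Normal := by
      refine CfsgLib.Local.PRed.subgroupOf_normal fun c hc => ?_
      refine Subgroup.mem_normalizer_iff.mpr fun w => ?_
      have h2 := CfsgLib.Core.le_normalizer_inf (hCM.trans hOdn)
        (Subgroup.le_normalizer (H := C)) hc
      exact Subgroup.mem_normalizer_iff.mp h2 w
    have hWp : IsPGroup p ↥W := CfsgLib.Local.PRed.isPGroup_subgroupOf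
      (CfsgLib.Local.PRed.isPGroup_subgroupOf
        ((CfsgLib.Local.PRed.isPGroup_pCoreOf Md).to_le inf_le_left))
    intro w h1 h2
    exact CfsgLib.Core.pCore_map_subtype_le hCn'
      ⟨⟨w, h2⟩, CfsgLib.Local.le_pCore' (N := W) hWn hWp (Subgroup.mem_inf.mpr ⟨h1, h2⟩), rfl⟩
  set E := D.map q ⊓ Subgroup.centralizer ((C.subgroupOf L).map q : Set (↥L ⧸ O)) with hE
  haveI hEn : E.Normal := by
    haveI := hDn.map q hqs
    haveI := hCn'.map q hqs
    infer_instance
  have hpow : ∀ e : ↥E, ∃ k : ℕ, e ^ p ^ k ∈ Subgroup.center ↥E := by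
    intro e
    obtain ⟨d, hd, hde⟩ := (Subgroup.mem_inf.mp e.2).1
    set n := orderOf (d : G) with hn
    have hn0 : n ≠ 0 := (orderOf_pos _).ne'
    refine ⟨n.factorization p, Subgroup.mem_center_iff.mpr fun f => ?_⟩
    have hd' : ((d ^ p ^ n.factorization p : ↥L) : G) ∈ C := by
      refine hcop _ (D.pow_mem hd _) ?_
      rw [Subgroup.coe_pow, orderOf_pow_of_dvd (pow_ne_zero _ (Fact.out : p.Prime).ne_zero)
        (Nat.ordProj_dvd n p)]
      exact (Nat.coprime_ordCompl Fact.out hn0).symm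
    refine Subtype.ext ?_
    have h3 := Subgroup.mem_centralizer_iff.mp (Subgroup.mem_inf.mp f.2).2 _
      ⟨_, Subgroup.mem_subgroupOf.mpr hd', rfl⟩
    rw [map_pow, hde] at h3
    simpa using h3.symm
  have hEnil : Group.IsNilpotent ↥E := by
    refine Group.of_quotient_center_nilpotent ?_
    have : IsPGroup p (↥E ⧸ Subgroup.center ↥E) := by
      intro x
      obtain ⟨e, rfl⟩ := QuotientGroup.mk'_surjective _ x
      obtain ⟨k, hk⟩ := hpow e
      exact ⟨k, by rw [← map_pow]; exact (QuotientGroup.eq_one_iff _).mpr hk⟩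
    exact this.isNilpotent
  intro y hy
  have hyL : y ∈ L := hYL hy
  refine ⟨⟨y, hyL⟩, ?_, rfl⟩
  set yb := q ⟨y, hyL⟩ with hyb
  have hyE : yb ∈ E := by
    refine Subgroup.mem_inf.mpr ⟨⟨_, hYD _ hy, rfl⟩, Subgroup.mem_centralizer_iff.mpr ?_⟩
    rintro _ ⟨c, hc', rfl⟩
    rw [hyb, ← map_mul, ← map_mul, hq, QuotientGroup.mk'_apply, QuotientGroup.mk'_apply,
      QuotientGroup.eq]
    have h1 : y⁻¹ * (c : G)⁻¹ * y * c ∈ Od := by
      have := Od.mul_mem (Od.inv_mem (hY hy))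
        (CfsgLib.Local.PRed.conj_mem (hCM.trans hOdn) (C.inv_mem hc') (hY hy))
      simpa [mul_assoc] using this
    have h2 : y⁻¹ * (c : G)⁻¹ * y * c ∈ C := by
      have := C.mul_mem (CfsgLib.Local.PRed.conj_mem hCn (L.inv_mem hyL) (C.inv_mem hc')) hc'
      simpa [mul_assoc] using this
    exact hW _ (by simpa [mul_assoc] using h1) (by simpa [mul_assoc] using h2)
  have hyp : IsPGroup p ↥(Subgroup.zpowers (⟨yb, hyE⟩ : ↥E)) := by
    obtain ⟨k, hk⟩ := CfsgLib.Local.PRed.isPGroup_pCoreOf Md ⟨y, hY hy⟩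
    have hk1 : (⟨y, hyL⟩ : ↥L) ^ p ^ k = 1 := Subtype.ext (congrArg Subtype.val hk :)
    have hk3 : yb ^ p ^ k = 1 := by rw [hyb, ← map_pow, hk1, map_one]
    have hk2 : (⟨yb, hyE⟩ : ↥E) ^ p ^ k = 1 := Subtype.ext hk3
    intro z
    obtain ⟨i, hi⟩ := Subgroup.mem_zpowers_iff.mp z.2
    refine ⟨k, Subtype.ext ?_⟩
    rw [Subgroup.coe_pow, Subgroup.coe_one, ← hi, ← zpow_natCast, ← zpow_mul, mul_comm, zpow_mul,
      zpow_natCast, hk2, one_zpow]
  obtain ⟨P, hP⟩ := hyp.exists_le_sylow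
  have hPn : (P : Subgroup ↥E).Normal := Sylow.normal_of_normalizerCondition
    Group.normalizerCondition_of_isNilpotent P
  have h4 := CfsgLib.Core.pCore_map_subtype_le hEn
    ⟨_, CfsgLib.Local.le_pCore' hPn P.isPGroup' (hP (Subgroup.mem_zpowers _)), rfl⟩
  rw [CfsgLib.Core.pCore_quotient_pCore, Subgroup.mem_bot] at h4
  exact (QuotientGroup.eq_one_iff _).mp h4

end Cfsg.Agent.S2864
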