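import Cfsg.Statements.S2872
import Cfsg.Agent.Lib.CorePGroup

set_option autoImplicit false
open Cfsg

namespace Cfsg.Agent.S2872

theorem aux_two : Multiplicative.ofAdd (1 : ZMod 2) ≠ 1 ∧
    Multiplicative.ofAdd (1 : ZMod 2) * Multiplicative.ofAdd 1 = 1 ∧ ∀ b : Multiplicative (ZMod 2), b ^ 2 = 1 := by
  decide

/-- Let S be a Sylow 2-subgroup of the finite group G. Then G has a proper normal subgroup of 2-power index (O²(G) ≠ G), or Ω₁(Z(S)) is contained in the Frattini subgroup of S, or N_G(S) acts nontrivially on Ω₁(Z(S)) by conjugation. -/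
theorem result {G : Type*} [Group G] [Finite G] (S : Sylow 2 G) : Cfsg.pResidual 2 G ≠ ⊤ ∨ Cfsg.omegaOne 2 ((S : Subgroup G) ⊓ Subgroup.centralizer ((S : Subgroup G) : Set G)) ≤ (frattini ↥(S : Subgroup G)).map (S : Subgroup G).subtype ∨ ∃ g ∈ Subgroup.normalizer ((S : Subgroup G) : Set G), ∃ z ∈ Cfsg.omegaOne 2 ((S : Subgroup G) ⊓ Subgroup.centralizer ((S : Subgroup G) : Set G)), g * z * g⁻¹ ≠ z := by
  classical
  haveI : Fact (Nat.Prime 2) := ⟨Nat.prime_two⟩
  by_contra hcon
  push Not at hcon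
  obtain ⟨hres, hnle, hfix⟩ := hcon
  -- an element outside the Frattini subgroup
  obtain ⟨z, ⟨hzS, hz2⟩, hzΦ⟩ : ∃ z : G, (z ∈ (S : Subgroup G) ⊓ Subgroup.centralizer ((S : Subgroup G) : Set G) ∧ z ^ 2 = 1) ∧
      z ∉ (frattini ↥(S : Subgroup G)).map (S : Subgroup G).subtype := by
    by_contra hno
    push Not at hno
    exact hnle ((Subgroup.closure_le _).mpr fun x hx => hno x hx)
  obtain ⟨hzmem, hzc⟩ := Subgroup.mem_inf.mp hzS
  obtain ⟨M, hM, hzM⟩ : ∃ M : Subgroup ↥(S : Subgroup G), IsCoatom M ∧ (⟨z, hzmem⟩ : ↥(S : Subgroup G)) ∉ M := by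
    by_contra hno
    push Not at hno
    exact hzΦ ⟨⟨z, hzmem⟩, Subgroup.mem_iInf.mpr fun M => Subgroup.mem_iInf.mpr fun hM => hno M hM, rfl⟩
  obtain ⟨-, hMi⟩ := CfsgLib.Core.index_of_coatom_pgroup S.isPGroup' hM
  set a : Multiplicative (ZMod 2) := Multiplicative.ofAdd 1 with ha
  obtain ⟨ha1, ha2, hsq⟩ : a ≠ 1 ∧ a * a = 1 ∧ ∀ b : Multiplicative (ZMod 2), b ^ 2 = 1 := aux_two
  let ϕ : ↥(S : Subgroup G) →* Multiplicative (ZMod 2) :=
    { toFun := fun x => if x ∈ M then 1 else a
      map_one' := if_pos (one_mem M)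
      map_mul' := fun x y => by
        have h := Subgroup.mul_mem_iff_of_index_two hMi (a := x) (b := y)
        by_cases hx : x ∈ M <;> by_cases hy : y ∈ M <;> simp [hx, hy, h, ha2] }
  have hϕz : ϕ ⟨z, hzmem⟩ = a := if_neg hzM
  -- commutation with `S`
  have hcomm : ∀ s ∈ (S : Subgroup G), s * z = z * s := fun s hs => Subgroup.mem_centralizer_iff.mp hzc s hs
  have hzz : z * z = 1 := by rw [← sq]; exact hz2
  have hzinv : z⁻¹ = z := inv_eq_of_mul_eq_one_right hzz
  let Q := G ⧸ (S : Subgroup G)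
  haveI := Fintype.ofFinite Q
  let T : (S : Subgroup G).LeftTransversal := default
  let r : Q → G := fun q => (T.2.leftQuotientEquiv q : G)
  have hr : ∀ q : Q, (r q : Q) = q := fun q => T.2.quotientGroupMk_leftQuotientEquiv q
  have hmemf : ∀ q : Q, (r q)⁻¹ * (z * r (z • q)) ∈ (S : Subgroup G) := by
    intro q
    rw [← QuotientGroup.eq, hr]
    have : ((z * r (z • q) : G) : Q) = z • ((r (z • q) : G) : Q) := rfl
    rw [this, hr, smul_smul, hzz, one_smul]
  let f : Q → Multiplicative (ZMod 2) := fun q => ϕ ⟨_, hmemf q⟩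
  have htr : MonoidHom.transfer ϕ z = ∏ q : Q, f q := by
    rw [MonoidHom.transfer_def ϕ T]
    refine Finset.prod_congr (by ext; simp) fun q _ => congrArg ϕ (Subtype.ext ?_)
    show (r q)⁻¹ * ((z • T).2.leftQuotientEquiv q : G) = (r q)⁻¹ * (z * r (z • q))
    rw [Subgroup.smul_apply_eq_smul_apply_inv_smul, hzinv]
    rfl
  -- the fixed cosets
  let F : Finset Q := Finset.univ.filter fun q => z • q = q
  have hout : ∏ q ∈ Finset.univ.filter (fun q : Q => ¬ z • q = q), f q = 1 := by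
    refine Finset.prod_involution (fun q _ => z • q) ?_ ?_ ?_ ?_
    · intro q hq
      rw [← map_mul ϕ]
      refine (congrArg ϕ (Subtype.ext ?_)).trans (map_one ϕ)
      show (r q)⁻¹ * (z * r (z • q)) * ((r (z • q))⁻¹ * (z * r (z • z • q))) = 1
      rw [smul_smul, hzz, one_smul]
      calc (r q)⁻¹ * (z * r (z • q)) * ((r (z • q))⁻¹ * (z * r q)) = (r q)⁻¹ * (z * z) * r q := by group
        _ = 1 := by rw [hzz, mul_one, inv_mul_cancel]
    · intro q hq _
      exact (Finset.mem_filter.mp hq).2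
    · intro q hq
      refine Finset.mem_filter.mpr ⟨Finset.mem_univ _, fun h => (Finset.mem_filter.mp hq).2 ?_⟩
      rwa [smul_smul, hzz, one_smul, eq_comm] at h
    · intro q hq
      show z • z • q = q
      rw [smul_smul, hzz, one_smul]
  have hfF : ∀ q : Q, z • q = q → ∀ s : ↥(S : Subgroup G),
      z • ((s : G) • q) = (s : G) • q ∧ f ((s : G) • q) = f q := by
    intro q hq s
    have h1 : z • ((s : G) • q) = (s : G) • q := by
      rw [smul_smul, ← hcomm s s.2, ← smul_smul, hq]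
    refine ⟨h1, ?_⟩
    obtain ⟨t, htdef⟩ : ∃ t : ↥(S : Subgroup G), r ((s : G) • q) = (s : G) * r q * t := by
      refine ⟨⟨((s : G) * r q)⁻¹ * r ((s : G) • q), ?_⟩, ?_⟩
      · rw [← QuotientGroup.eq, hr]
        show (s : G) • ((r q : G) : Q) = (s : G) • q
        rw [hr]
      · show r ((s : G) • q) = (s : G) * r q * (((s : G) * r q)⁻¹ * r ((s : G) • q))
        rw [mul_inv_cancel_left]
    have heq : (⟨_, hmemf ((s : G) • q)⟩ : ↥(S : Subgroup G)) = t⁻¹ * ⟨_, hmemf q⟩ * t := by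
      refine Subtype.ext ?_
      show (r ((s : G) • q))⁻¹ * (z * r (z • ((s : G) • q))) = (t : G)⁻¹ * ((r q)⁻¹ * (z * r (z • q))) * t
      rw [h1, hq, htdef]
      calc ((s : G) * r q * t)⁻¹ * (z * ((s : G) * r q * t))
          = (t : G)⁻¹ * (r q)⁻¹ * (s : G)⁻¹ * (z * (s : G)) * r q * t := by group
        _ = (t : G)⁻¹ * (r q)⁻¹ * (s : G)⁻¹ * ((s : G) * z) * r q * t := by rw [hcomm s s.2]
        _ = _ := by group
    show ϕ _ = ϕ _
    rw [heq, map_mul, map_mul, map_inv, inv_mul_cancel_comm]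
  -- the fixed cosets with nontrivial value
  let P : Q → Prop := fun q => z • q = q ∧ f q = a
  letI : MulAction ↥(S : Subgroup G) {q : Q // P q} :=
    { smul := fun s q => ⟨(s : G) • (q : Q), (hfF q q.2.1 s).1, ((hfF q q.2.1 s).2).trans q.2.2⟩
      one_smul := fun q => Subtype.ext (one_smul G (q : Q))
      mul_smul := fun s t q => Subtype.ext (mul_smul (s : G) (t : G) (q : Q)) }
  have hmod := S.isPGroup'.card_modEq_card_fixedPoints {q : Q // P q}
  have hN : ∀ x : G, x ∈ Subgroup.normalizer ((S : Subgroup G) : Set G) → P (x : Q) := by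
    intro x hx
    have hfixz : ∀ g ∈ Subgroup.normalizer ((S : Subgroup G) : Set G), g * z * g⁻¹ = z := fun g hg =>
      hfix g hg z (Subgroup.subset_closure ⟨Subgroup.mem_inf.mpr ⟨hzmem, hzc⟩, hz2⟩)
    have hzx : z • (x : Q) = (x : Q) := by
      show ((z * x : G) : Q) = (x : Q)
      rw [QuotientGroup.eq]
      have h := hfixz x⁻¹ (inv_mem hx)
      rw [inv_inv] at h
      rw [mul_inv_rev, hzinv, h]
      exact hzmem
    refine ⟨hzx, ?_⟩
    obtain ⟨u, hu, hru⟩ : ∃ u ∈ (S : Subgroup G), r (x : Q) = x * u := by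
      refine ⟨x⁻¹ * r (x : Q), ?_, (mul_inv_cancel_left _ _).symm⟩
      rw [← QuotientGroup.eq, hr]
    have hrn : r (x : Q) ∈ Subgroup.normalizer ((S : Subgroup G) : Set G) :=
      hru ▸ mul_mem hx (Subgroup.le_normalizer hu)
    rw [← hϕz]
    refine congrArg ϕ (Subtype.ext ?_)
    show (r (x : Q))⁻¹ * (z * r (z • (x : Q))) = z
    have h := hfixz _ (inv_mem hrn)
    rw [inv_inv, mul_assoc] at h
    rw [hzx, h]
  let e : MulAction.fixedPoints ↥(S : Subgroup G) {q : Q // P q} ≃ MulAction.fixedPoints ↥(S : Subgroup G) Q :=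
    { toFun := fun q => ⟨q.1.1, fun s => congrArg Subtype.val (q.2 s)⟩
      invFun := fun q => ⟨⟨q.1, by
          obtain ⟨x, hx⟩ := QuotientGroup.mk_surjective q.1
          rw [← hx]
          exact hN x (Sylow.mem_fixedPoints_mul_left_cosets_iff_mem_normalizer.mp (hx ▸ q.2))⟩,
        fun s => Subtype.ext (q.2 s)⟩
      left_inv := fun q => rfl
      right_inv := fun q => rfl }
  have hodd : ¬ 2 ∣ Nat.card (MulAction.fixedPoints ↥(S : Subgroup G) {q : Q // P q}) := by
    rw [Nat.card_congr e, Nat.card_congr (Sylow.fixedPointsMulLeftCosetsEquivQuotient (S : Subgroup G))]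
    intro hd
    exact S.not_dvd_index (hd.trans (Subgroup.relIndex_dvd_index_of_le Subgroup.le_normalizer))
  have hcard : ¬ 2 ∣ Nat.card {q : Q // P q} := fun hd =>
    hodd ((Nat.ModEq.dvd_iff hmod dvd_rfl).mp hd)
  -- value of the transfer
  have hval : MonoidHom.transfer ϕ z = a := by
    rw [htr, ← Finset.prod_filter_mul_prod_filter_not (Finset.univ : Finset Q) (fun q => z • q = q), hout, mul_one]
    have h01 : ∀ q : Q, f q = 1 ∨ f q = a := fun q => by
      show (if _ then _ else _) = (1 : Multiplicative (ZMod 2)) ∨ (if _ then _ else _) = a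
      split_ifs
      · exact Or.inl rfl
      · exact Or.inr rfl
    rw [← Finset.prod_filter_mul_prod_filter_not (Finset.univ.filter fun q : Q => z • q = q) (fun q => f q = a),
      Finset.prod_eq_pow_card (b := a) (fun q hq => (Finset.mem_filter.mp hq).2),
      Finset.prod_eq_one (fun q hq => (h01 q).resolve_right (Finset.mem_filter.mp hq).2), mul_one,
      Finset.filter_filter]
    rw [show ((Finset.univ : Finset Q).filter fun q => z • q = q ∧ f q = a).card = Nat.card {q : Q // P q} by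
      rw [Nat.card_eq_fintype_card, Fintype.card_subtype]]
    obtain ⟨k, hk⟩ : Odd (Nat.card {q : Q // P q}) := Nat.not_even_iff_odd.mp (fun h => hcard h.two_dvd)
    rw [hk, pow_succ, pow_mul, sq, ha2, one_pow, one_mul]
  -- contradiction
  have htriv : MonoidHom.transfer ϕ z = 1 := by
    have hle : Cfsg.pResidual 2 G ≤ (MonoidHom.transfer ϕ).ker := by
      refine (Subgroup.closure_le _).mpr fun g hg => ?_
      rw [SetLike.mem_coe, MonoidHom.mem_ker]
      have h2 : (MonoidHom.transfer ϕ g) ^ 2 = 1 := by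
        exact hsq _
      have h1 := orderOf_map_dvd (MonoidHom.transfer ϕ) g
      exact orderOf_eq_one_iff.mp (Nat.eq_one_of_dvd_coprimes hg h1 (orderOf_dvd_of_pow_eq_one h2))
    exact hle (hres ▸ Subgroup.mem_top z)
  exact ha1 (hval.symm.trans htriv)

end Cfsg.Agent.S2872
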