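import Cfsg.Statements.S2873
import Cfsg.Agent.Lib.CoreBasic
import Mathlib

set_option autoImplicit false
open Cfsg

namespace Cfsg.Agent.S2873

/-- Let G be a finite group and r an odd prime such that G ⧸ O₂(G) is dihedral of order 2r, and let R be a Sylow r-subgroup of G with C_{O₂(G)}(R) = 1. Then N_G(R) is dihedral of order 2r; for any involution a of N_G(R), every involution of G outside O₂(G) is conjugate to a; and |C_{O₂(G)}(a)|² = |O₂(G)|. -/
theorem result {G : Type*} [Group G] [Finite G] {r : ℕ} [Fact r.Prime] (hr : r ≠ 2) [hN : (Cfsg.pCore 2 G).Normal] (hquot : Nonempty (G ⧸ Cfsg.pCore 2 G ≃* DihedralGroup r)) (R : Sylow r G) (hC : Cfsg.pCore 2 G ⊓ Subgroup.centralizer ((R : Subgroup G) : Set G) = ⊥) : Nonempty (↥(Subgroup.normalizer ((R : Subgroup G) : Set G)) ≃* DihedralGroup r) ∧ ∀ a : G, a ∈ Subgroup.normalizer ((R : Subgroup G) : Set G) → orderOf a = 2 → (∀ b : G, orderOf b = 2 → b ∉ Cfsg.pCore 2 G → ∃ g : G, g * a * g⁻¹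 = b) ∧ Nat.card ↥(Cfsg.pCore 2 G ⊓ Subgroup.centralizer ({a} : Set G)) ^ 2 = Nat.card ↥(Cfsg.pCore 2 G) := by
  classical
  haveI : NeZero r := ⟨(Fact.out : r.Prime).ne_zero⟩
  have hr2 : (2 : ZMod r) ≠ 0 := by
    intro h
    have h' : ((2 : ℕ) : ZMod r) = 0 := by exact_mod_cast h
    rw [ZMod.natCast_eq_zero_iff] at h'
    exact hr ((Nat.prime_dvd_prime_iff_eq Fact.out Nat.prime_two).mp h')
  set Q := Cfsg.pCore 2 G with hQdef
  obtain ⟨e⟩ := hquot
  set φ : G →* DihedralGroup r := e.toMonoidHom.comp (QuotientGroup.mk' Q) with hφdef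
  have hker : ∀ g, φ g = 1 ↔ g ∈ Q := fun g => by
    show e (QuotientGroup.mk' Q g) = 1 ↔ _
    rw [MulEquiv.map_eq_one_iff, QuotientGroup.mk'_apply, QuotientGroup.eq_one_iff]
  have hsurj : Function.Surjective φ := e.surjective.comp (QuotientGroup.mk'_surjective Q)
  obtain ⟨k, hk⟩ := IsPGroup.iff_card.mp (CfsgLib.Core.isPGroup_pCore (G := G) 2)
  have hcop : (2 ^ k).Coprime r := Nat.Coprime.pow_left k
    ((Nat.coprime_primes Nat.prime_two Fact.out).mpr (Ne.symm hr))
  have hcardR : Nat.card (R : Subgroup G) = r := by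
    rw [R.card_eq_multiplicity]
    have hG : Nat.card G = 2 ^ (k + 1) * r := by
      rw [← Subgroup.card_mul_index Q, hk, Subgroup.index, Nat.card_congr e.toEquiv, DihedralGroup.nat_card]
      ring
    rw [hG, Nat.factorization_mul (by positivity) (Fact.out : r.Prime).ne_zero, Finsupp.add_apply,
      Nat.factorization_eq_zero_of_not_dvd (n := 2 ^ (k + 1)), (Fact.out : r.Prime).factorization_self, zero_add, pow_one]
    exact fun h => hr ((Nat.prime_dvd_prime_iff_eq Fact.out Nat.prime_two).mp ((Fact.out : r.Prime).dvd_of_dvd_pow h))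
  have hRQ : (R : Subgroup G) ⊓ Q = ⊥ := Subgroup.inf_eq_bot_of_coprime (by rw [hcardR, hk]; exact hcop.symm)
  set N := Subgroup.normalizer ((R : Subgroup G) : Set G) with hN'
  have hNQ : ∀ x ∈ N, x ∈ Q → x = 1 := by
    intro x hxN hxQ
    refine Subgroup.mem_bot.mp (hC ▸ (⟨hxQ, fun y hy => ?_⟩ : x ∈ Q ⊓ Subgroup.centralizer ((R : Subgroup G) : Set G)))
    have h1 : x * y * x⁻¹ * y⁻¹ ∈ (R : Subgroup G) ⊓ Q := by
      refine ⟨mul_mem ((Subgroup.mem_normalizer_iff.mp hxN y).mp hy) ((R : Subgroup G).inv_mem hy), ?_⟩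
      rw [show x * y * x⁻¹ * y⁻¹ = x * (y * x⁻¹ * y⁻¹) by group]
      exact mul_mem hxQ (hN.conj_mem _ (inv_mem hxQ) y)
    rw [hRQ, Subgroup.mem_bot, mul_inv_eq_one, mul_inv_eq_iff_eq_mul] at h1
    exact h1.symm
  have hφR : Nat.card ((R : Subgroup G).map φ) = r := by
    refine Eq.trans ?_ hcardR
    refine (Nat.card_congr (Equiv.ofBijective (fun x : (R : Subgroup G) => (⟨φ x, x, x.2, rfl⟩ : (R : Subgroup G).map φ))
      ⟨fun a b h => ?_, fun ⟨_, x, hx, hxe⟩ => ⟨⟨x, hx⟩, Subtype.ext hxe⟩⟩)).symm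
    have h1 := congrArg Subtype.val h
    have h2 : (a : G) * (b : G)⁻¹ ∈ (R : Subgroup G) ⊓ Q :=
      ⟨mul_mem a.2 ((R : Subgroup G).inv_mem b.2), (hker _).mp (by simp only at h1; rw [map_mul, h1, map_inv, mul_inv_cancel])⟩
    rw [hRQ, Subgroup.mem_bot, mul_inv_eq_one] at h2
    exact Subtype.ext h2
  have hidx : ((R : Subgroup G).map φ).index = 2 := by
    have := Subgroup.card_mul_index ((R : Subgroup G).map φ)
    rw [hφR, DihedralGroup.nat_card, mul_comm 2 r] at this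
    exact Nat.eq_of_mul_eq_mul_left (Fact.out : r.Prime).pos this
  haveI := Subgroup.normal_of_index_eq_two hidx
  haveI : Finite (Sylow r ↥(((R : Subgroup G).map φ).comap φ)) := inferInstance
  have hfr := Sylow.normalizer_sup_eq_top' (N := ((R : Subgroup G).map φ).comap φ) R (Subgroup.le_comap_map _ _)
  have hNs : ∀ d, ∃ n ∈ N, φ n = d := by
    intro d
    obtain ⟨g, rfl⟩ := hsurj d
    have hg : g ∈ N ⊔ ((R : Subgroup G).map φ).comap φ := hfr ▸ Subgroup.mem_top g
    rw [sup_comm] at hg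
    obtain ⟨m, hm, n, hn, rfl⟩ := Subgroup.mem_sup_of_normal_left.mp hg
    obtain ⟨y, hy, hye⟩ := hm
    exact ⟨y * n, mul_mem (Subgroup.le_normalizer hy) hn, by rw [map_mul, map_mul, hye]⟩
  have hNinj : ∀ x ∈ N, ∀ y ∈ N, φ x = φ y → x = y := by
    intro x hx y hy h
    exact mul_inv_eq_one.mp (hNQ _ (mul_mem hx (inv_mem hy)) ((hker _).mp (by rw [map_mul, map_inv, h, mul_inv_cancel])))
  refine ⟨⟨MulEquiv.ofBijective (φ.comp N.subtype) ⟨fun a b h => Subtype.ext (hNinj a a.2 b b.2 h), fun d => ?_⟩⟩,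
    fun a haN ha => ?_⟩
  · obtain ⟨n, hn, hne⟩ := hNs d
    exact ⟨⟨n, hn⟩, hne⟩
  have haa : a * a = 1 := by rw [← pow_two, ← ha, pow_orderOf_eq_one]
  have ha1 : φ a ≠ 1 := fun h => by
    rw [hNQ a haN ((hker a).mp h), orderOf_one] at ha
    omega
  have hrefl : ∀ d : DihedralGroup r, d * d = 1 → d ≠ 1 → ∃ j, d = DihedralGroup.sr j := by
    rintro (j | j) hd hd1
    · exfalso
      rw [DihedralGroup.r_mul_r, DihedralGroup.one_def, DihedralGroup.r.injEq, ← two_mul] at hd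
      exact hd1 (by rw [(mul_eq_zero.mp hd).resolve_left hr2, DihedralGroup.one_def])
    · exact ⟨j, rfl⟩
  obtain ⟨i, hi⟩ := hrefl (φ a) (by rw [← map_mul, haa, map_one]) ha1
  -- conjugating reflections into one another
  have hmove : ∀ j, ∃ g ∈ N, φ g * DihedralGroup.sr j * (φ g)⁻¹ = DihedralGroup.sr i := by
    intro j
    obtain ⟨g, hg, hge⟩ := hNs (DihedralGroup.r ((j - i) * (2 : ZMod r)⁻¹))
    refine ⟨g, hg, ?_⟩
    rw [hge, DihedralGroup.inv_r, DihedralGroup.r_mul_sr, DihedralGroup.sr_mul_r, DihedralGroup.sr.injEq]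
    field_simp
    ring
  obtain ⟨a', ha'N, hia'⟩ := hNs (DihedralGroup.sr (i + 1))
  have ha'a' : a' * a' = 1 := hNinj _ (mul_mem ha'N ha'N) _ (one_mem N) (by rw [map_mul, hia', DihedralGroup.sr_mul_sr, map_one, sub_self, DihedralGroup.one_def])
  set x := a * a' with hx
  have hφx : φ x = DihedralGroup.r 1 := by
    rw [hx, map_mul, hi, hia', DihedralGroup.sr_mul_sr, add_sub_cancel_left]
  have hxR : x ∈ (R : Subgroup G) := by
    have h1 : DihedralGroup.r (1 : ZMod r) ∈ (R : Subgroup G).map φ := by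
      have := Subgroup.mul_self_mem_of_index_two hidx (DihedralGroup.r (2 : ZMod r)⁻¹)
      rwa [DihedralGroup.r_mul_r, ← two_mul, mul_inv_cancel₀ hr2] at this
    obtain ⟨x0, hx0, hx0e⟩ := h1
    rwa [hNinj x (mul_mem haN ha'N) x0 (Subgroup.le_normalizer hx0) (hφx.trans hx0e.symm)]
  have hxz : Subgroup.zpowers x = (R : Subgroup G) := by
    refine Subgroup.eq_of_le_of_card_ge (Subgroup.zpowers_le.mpr hxR) ?_
    rw [hcardR, Nat.card_zpowers]
    refine le_of_eq (orderOf_eq_prime ?_ ?_).symm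
    · rw [← hcardR]
      exact congrArg Subtype.val (pow_card_eq_one' (x := (⟨x, hxR⟩ : (R : Subgroup G))))
    · intro h
      rw [h, map_one, DihedralGroup.one_def, DihedralGroup.r.injEq] at hφx
      exact zero_ne_one hφx
  have hCx : ∀ q ∈ Q, q * x = x * q → q = 1 := by
    intro q hq h
    refine Subgroup.mem_bot.mp (hC ▸ (⟨hq, fun y hy => ?_⟩ : q ∈ Q ⊓ Subgroup.centralizer ((R : Subgroup G) : Set G)))
    rw [SetLike.mem_coe, ← hxz] at hy
    obtain ⟨n, rfl⟩ := hy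
    exact ((Commute.zpow_left (show Commute x q from h.symm) n)).eq
  -- every involution over `φ a` is a conjugate of `a` by an element fixing `a'`
  have key : ∀ b, b * b = 1 → φ b = φ a → ∃ q ∈ Q, q * a' = a' * q ∧ q * a * q⁻¹ = b := by
    intro b hb hφb
    let f : Q → Q := fun q => ⟨x⁻¹ * q * x * (q : G)⁻¹, mul_mem (by simpa using hN.conj_mem _ q.2 x⁻¹) (inv_mem q.2)⟩
    have hf : Function.Injective f := by
      intro q1 q2 h
      have h1 : x⁻¹ * q1 * x * (q1 : G)⁻¹ = x⁻¹ * q2 * x * (q2 : G)⁻¹ := congrArg Subtype.val h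
      have h2 := hCx ((q2 : G)⁻¹ * q1) (mul_mem (inv_mem q2.2) q1.2) (by
        calc (q2 : G)⁻¹ * q1 * x = (q2 : G)⁻¹ * x * (x⁻¹ * q1 * x * (q1 : G)⁻¹) * q1 := by group
          _ = (q2 : G)⁻¹ * x * (x⁻¹ * q2 * x * (q2 : G)⁻¹) * q1 := by rw [h1]
          _ = _ := by group)
      exact Subtype.ext (inv_mul_eq_one.mp h2).symm
    obtain ⟨q, hq⟩ := (Finite.injective_iff_surjective.mp hf) ⟨x⁻¹ * (b * a'), (hker _).mp (by rw [map_mul, map_inv, map_mul φ b a', hφb, hx, map_mul, inv_mul_cancel])⟩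
    have hy : (q : G) * x * (q : G)⁻¹ = b * a' := by
      have h1 : x⁻¹ * q * x * (q : G)⁻¹ = x⁻¹ * (b * a') := congrArg Subtype.val hq
      calc (q : G) * x * (q : G)⁻¹ = x * (x⁻¹ * q * x * (q : G)⁻¹) := by group
        _ = b * a' := by rw [h1, mul_inv_cancel_left]
    have hbinv : b⁻¹ = b := inv_eq_of_mul_eq_one_right hb
    have ha'inv : a'⁻¹ = a' := inv_eq_of_mul_eq_one_right ha'a'
    set b' := (q : G)⁻¹ * b * q with hb'
    have hinv : b' * x * b'⁻¹ = x⁻¹ := by
      calc b' * x * b'⁻¹ = (q : G)⁻¹ * (b * ((q : G) * x * (q : G)⁻¹) * b⁻¹) * q := by rw [hb']; group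
        _ = (q : G)⁻¹ * ((q : G) * x * (q : G)⁻¹)⁻¹ * q := by
          rw [hy, mul_inv_rev, hbinv, ha'inv, ← mul_assoc b b, hb, one_mul]
        _ = x⁻¹ := by group
    have hb'N : b' ∈ N := by
      refine Subgroup.mem_normalizer_iff.mpr fun h => ?_
      rw [← hxz, ← Subgroup.inv_mem_iff (x := b' * h * b'⁻¹)]
      constructor
      · rintro ⟨n, rfl⟩
        exact ⟨n, by simp only; rw [← conj_zpow, hinv, inv_zpow, inv_inv]⟩
      · rintro ⟨n, hn'⟩
        have hn : x ^ n = (b' * h * b'⁻¹)⁻¹ := hn'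
        refine ⟨n, ?_⟩
        have h3 : b' * x ^ n * b'⁻¹ = (x ^ n)⁻¹ := by rw [← conj_zpow, hinv, inv_zpow]
        have h4 : b' * h * b'⁻¹ = b' * x ^ n * b'⁻¹ := by rw [h3, hn, inv_inv]
        simpa using h4.symm
    have hqb : φ (q : G) = 1 := (hker _).mpr q.2
    have hb'a : b' = a := hNinj _ hb'N _ haN (by rw [hb', map_mul, map_mul, map_inv, hqb, inv_one, one_mul, mul_one, hφb])
    have hba : (q : G) * a * (q : G)⁻¹ = b := by rw [← hb'a, hb']; group
    refine ⟨q, q.2, ?_, hba⟩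
    have : (q : G) * a' * (q : G)⁻¹ = a' := by
      have h1 : (q : G) * a * (q : G)⁻¹ * ((q : G) * a' * (q : G)⁻¹) = b * a' := by rw [← hy, hx]; group
      rw [hba] at h1
      exact mul_left_cancel h1
    exact mul_inv_eq_iff_eq_mul.mp this
  refine ⟨fun b hb hbQ => ?_, ?_⟩
  · have hbb : b * b = 1 := by rw [← pow_two, ← hb, pow_orderOf_eq_one]
    obtain ⟨j, hj⟩ := hrefl (φ b) (by rw [← map_mul, hbb, map_one]) (fun h => hbQ ((hker b).mp h))
    obtain ⟨g, -, hg⟩ := hmove j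
    obtain ⟨q, -, -, hq⟩ := key (g * b * g⁻¹) (by rw [show g * b * g⁻¹ * (g * b * g⁻¹) = g * (b * b) * g⁻¹ by group, hbb]; group)
      (by rw [map_mul, map_mul, map_inv, hj, hg, hi])
    exact ⟨g⁻¹ * q, by rw [mul_inv_rev, inv_inv, show g⁻¹ * q * a * (q⁻¹ * g) = g⁻¹ * (q * a * q⁻¹) * g by group, hq]; group⟩
  · set C := Q ⊓ Subgroup.centralizer ({a} : Set G) with hCdef
    set C' := Q ⊓ Subgroup.centralizer ({a'} : Set G) with hC'def
    obtain ⟨g, hgN, hg⟩ := hmove (i + 1)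
    have hga : g * a' * g⁻¹ = a := hNinj _ (mul_mem (mul_mem hgN ha'N) (inv_mem hgN)) _ haN
      (by rw [map_mul, map_mul, map_inv, hia', hg, hi])
    have hcc : Nat.card C' = Nat.card C := by
      have : C = C'.map (MulAut.conj g).toMonoidHom := by
        ext z
        rw [Subgroup.mem_map_equiv, MulAut.conj_symm_apply, hCdef, hC'def, Subgroup.mem_inf, Subgroup.mem_inf,
          Subgroup.mem_centralizer_singleton_iff, Subgroup.mem_centralizer_singleton_iff]
        refine and_congr ⟨fun h => by simpa using hN.conj_mem _ h g⁻¹, fun h => by simpa [mul_assoc] using hN.conj_mem _ h g⟩ ?_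
        rw [← hga]
        constructor <;> intro h
        · calc g⁻¹ * z * g * a' = g⁻¹ * (z * (g * a' * g⁻¹)) * g := by group
            _ = g⁻¹ * (g * a' * g⁻¹ * z) * g := by rw [h]
            _ = _ := by group
        · calc z * (g * a' * g⁻¹) = g * (g⁻¹ * z * g * a') * g⁻¹ := by group
            _ = g * (a' * (g⁻¹ * z * g)) * g⁻¹ := by rw [h]
            _ = _ := by group
      rw [this, Subgroup.card_map_of_injective (MulAut.conj g).injective]
    have hbij : Function.Bijective (fun p : C' × C => (⟨(p.1 : G) * p.2, mul_mem p.1.2.1 p.2.2.1⟩ : Q)) := by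
      constructor
      · rintro ⟨c1, d1⟩ ⟨c2, d2⟩ h
        have h1 : (c1 : G) * d1 = c2 * d2 := congrArg Subtype.val h
        have h2 : (c2 : G)⁻¹ * c1 = d2 * (d1 : G)⁻¹ := by
          rw [inv_mul_eq_iff_eq_mul, ← mul_assoc, eq_mul_inv_iff_mul_eq, h1]
        have hm' : (c2 : G)⁻¹ * c1 ∈ C' := mul_mem (inv_mem c2.2) c1.2
        have hm : (c2 : G)⁻¹ * c1 ∈ C := h2 ▸ mul_mem d2.2 (inv_mem d1.2)
        have h3 := hCx _ hm.1 (by
          rw [hx, ← mul_assoc, Subgroup.mem_centralizer_singleton_iff.mp hm.2, mul_assoc,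
            Subgroup.mem_centralizer_singleton_iff.mp hm'.2, ← mul_assoc])
        have h4 : c1 = c2 := Subtype.ext (inv_mul_eq_one.mp h3).symm
        subst h4
        exact Prod.ext rfl (Subtype.ext (mul_left_cancel h1))
      · rintro ⟨q, hq⟩
        obtain ⟨q', hq', hqa', hqa⟩ := key (q * a * q⁻¹)
          (by rw [show q * a * q⁻¹ * (q * a * q⁻¹) = q * (a * a) * q⁻¹ by group, haa]; group)
          (by rw [map_mul, map_mul, map_inv, (hker q).mpr hq, one_mul, inv_one, mul_one])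
        refine ⟨(⟨q', hq', Subgroup.mem_centralizer_singleton_iff.mpr hqa'⟩,
          ⟨q'⁻¹ * q, Q.mul_mem (Q.inv_mem hq') hq, Subgroup.mem_centralizer_singleton_iff.mpr ?_⟩), ?_⟩
        · calc q'⁻¹ * q * a = q'⁻¹ * (q * a * q⁻¹) * q := by group
            _ = q'⁻¹ * (q' * a * q'⁻¹) * q := by rw [hqa]
            _ = _ := by group
        · simp
    have h5 := Nat.card_congr (Equiv.ofBijective _ hbij)
    rw [Nat.card_prod, hcc] at h5
    rw [← h5, sq]

end Cfsg.Agent.S2873
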