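import Cfsg.Statements.S2874
import Cfsg.Agent.Lib.FgsHomocyclicTwo
import Mathlib

set_option autoImplicit false
open Cfsg

namespace Cfsg.Agent.S2874

namespace CfsgLib.Local.AltFourGL
open Equiv Equiv.Perm
set_option synthInstance.maxSize 4000
set_option synthInstance.maxHeartbeats 100000
theorem alt4_a : ∀ g w : Perm (Fin 4), sign g = 1 → sign w = 1 → g * g = 1 → w ^ 3 = 1 → w ≠ 1 →
    ∃ v : Perm (Fin 4), sign v = 1 ∧ v * v = 1 ∧ g = v * w * v⁻¹ * w⁻¹ := by decide +kernel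
theorem alt4_b : ∀ x w : Perm (Fin 4), sign x = 1 → sign w = 1 → w ^ 3 = 1 → w ≠ 1 →
    ∃ g, sign g = 1 ∧ g * g = 1 ∧ ∃ i : Fin 3, x = g * w ^ (i : ℕ) := by decide +kernel
theorem alt4_c : ∀ g : Perm (Fin 4), sign g = 1 → g * g = 1 → ∃ a b : Perm (Fin 4), sign a = 1 ∧ sign b = 1 ∧ g = a * b * a⁻¹ * b⁻¹ := by decide +kernel
theorem alt4_d : ∃ w : Perm (Fin 4), sign w = 1 ∧ w ^ 3 = 1 ∧ w ≠ 1 := by decide +kernel
theorem alt4_e : (Finset.univ.filter fun g : Perm (Fin 4) => sign g = 1 ∧ g * g = 1).card = 4 := by decide +kernel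


variable {k : ℕ}

theorem half_sq (hk : 2 ≤ k) : ((2 ^ (k - 1) : ℕ) : ZMod (2 ^ k)) * ((2 ^ (k - 1) : ℕ) : ZMod (2 ^ k)) = 0 := by
  rw [← Nat.cast_mul, ← pow_add, ZMod.natCast_eq_zero_iff]
  exact pow_dvd_pow 2 (by omega)

theorem half_add (hk : 2 ≤ k) : ((2 ^ (k - 1) : ℕ) : ZMod (2 ^ k)) + ((2 ^ (k - 1) : ℕ) : ZMod (2 ^ k)) = 0 := by
  rw [← Nat.cast_add, ZMod.natCast_eq_zero_iff, ← two_mul, ← pow_succ', show k - 1 + 1 = k by omega]

theorem cases_of_add_self (hk : 2 ≤ k) {z : ZMod (2 ^ k)} (h : z + z = 0) :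
    ∃ i : Fin 2, z = (i : ℕ) • ((2 ^ (k - 1) : ℕ) : ZMod (2 ^ k)) := by
  haveI : NeZero (2 ^ k) := ⟨(pow_pos two_pos k).ne'⟩
  rcases CfsgLib.HomocyclicTwo.two_torsion (by omega) z h with h1 | h1
  · exact ⟨0, by rw [(ZMod.val_eq_zero z).mp h1]; simp⟩
  · exact ⟨1, by rw [← ZMod.natCast_rightInverse z, h1]; simp⟩

theorem two_by_two {R : Type*} [CommRing R] (x y : R) (h1 : x * y = 0) (h2 : x + x = 0) (h3 : y + y = 0) (a b : Fin 2) :
    (!![1, x; y, 1] * !![1, x; y, 1]) a b = (1 : Matrix (Fin 2) (Fin 2) R) a b := by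
  fin_cases a <;> fin_cases b <;> simp [Matrix.mul_apply, Fin.sum_univ_two, h1, h2, h3, mul_comm y x]

/-- The involutions congruent to one used as parameters. -/
def U (hk : 2 ≤ k) (ij : Fin 2 × Fin 2) : GL (Fin 2) (ZMod (2 ^ k)) :=
  have h : !![1, (ij.1 : ℕ) • ((2 ^ (k - 1) : ℕ) : ZMod (2 ^ k)); (ij.2 : ℕ) • ((2 ^ (k - 1) : ℕ) : ZMod (2 ^ k)), 1] *
      !![1, (ij.1 : ℕ) • ((2 ^ (k - 1) : ℕ) : ZMod (2 ^ k)); (ij.2 : ℕ) • ((2 ^ (k - 1) : ℕ) : ZMod (2 ^ k)), 1] = 1 := by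
    ext a b
    exact two_by_two _ _ (by rw [smul_mul_assoc, mul_smul_comm, half_sq hk, smul_zero, smul_zero])
      (by rw [← smul_add, half_add hk, smul_zero]) (by rw [← smul_add, half_add hk, smul_zero]) a b
  ⟨_, _, h, h⟩

theorem commutator_mem (hk : 2 ≤ k) {v w : GL (Fin 2) (ZMod (2 ^ k))} (hv : v * v = 1)
    (hd : Matrix.GeneralLinearGroup.det v = 1) :
    ∃ ij, v * w * v⁻¹ * w⁻¹ = U hk ij * w * (U hk ij)⁻¹ * w⁻¹ := by
  set M : Matrix (Fin 2) (Fin 2) (ZMod (2 ^ k)) := (v : Matrix (Fin 2) (Fin 2) (ZMod (2 ^ k))) with hM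
  have hdet : M.det = 1 := congrArg Units.val hd
  have hMM : M * M = 1 := congrArg Units.val hv
  have hadj : M.adjugate = M := by
    calc M.adjugate = M.adjugate * (M * M) := by rw [hMM, mul_one]
      _ = M := by rw [← mul_assoc, Matrix.adjugate_mul, hdet, one_smul, one_mul]
  have e00 := congrFun (congrFun hadj 0) 0
  have e01 := congrFun (congrFun hadj 0) 1
  have e10 := congrFun (congrFun hadj 1) 0
  simp [Matrix.adjugate_fin_two] at e00 e01 e10
  obtain ⟨i, hi⟩ := cases_of_add_self hk (z := M 0 1) (neg_eq_iff_add_eq_zero.mp e01)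
  obtain ⟨j, hj⟩ := cases_of_add_self hk (z := M 1 0) (neg_eq_iff_add_eq_zero.mp e10)
  set h : ZMod (2 ^ k) := ((2 ^ (k - 1) : ℕ) : ZMod (2 ^ k)) with hh
  have ha : M 0 0 * M 0 0 = 1 := by
    have := congrFun (congrFun hMM 0) 0
    simp [Matrix.mul_apply, Fin.sum_univ_two] at this
    rwa [hi, hj, smul_mul_assoc, mul_smul_comm, half_sq hk, smul_zero, smul_zero, add_zero] at this
  have hah : M 0 0 * h = h := by
    obtain ⟨t, ht⟩ := cases_of_add_self hk (z := M 0 0 * h) (by rw [← mul_add, half_add hk, mul_zero])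
    fin_cases t
    · exfalso
      simp at ht
      have : h = 0 := by rw [← one_mul h, ← ha, mul_assoc, ht, mul_zero]
      rw [hh, ZMod.natCast_eq_zero_iff] at this
      have := (Nat.pow_dvd_pow_iff_le_right (by norm_num : 1 < 2)).mp this
      omega
    · simpa [hh] using ht
  have hrest : (v : Matrix (Fin 2) (Fin 2) (ZMod (2 ^ k))) = M 0 0 • (U hk (i, j) : Matrix (Fin 2) (Fin 2) (ZMod (2 ^ k))) := by
    ext a b
    fin_cases a <;> fin_cases b
    · simp [U, ← hM]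
    · simp [U, ← hM, hi, mul_smul_comm, hah, ← hh, -Nat.cast_pow, -nsmul_eq_mul]
    · simp [U, ← hM, hj, mul_smul_comm, hah, ← hh, -Nat.cast_pow, -nsmul_eq_mul]
    · simpa [U, ← hM] using e00
  refine ⟨(i, j), ?_⟩
  obtain ⟨s, hs⟩ : ∃ s : GL (Fin 2) (ZMod (2 ^ k)), v = s * U hk (i, j) := ⟨v * (U hk (i, j))⁻¹, by group⟩
  have hsM : (s : Matrix (Fin 2) (Fin 2) (ZMod (2 ^ k))) = M 0 0 • 1 := by
    have h1 : s = v * (U hk (i, j))⁻¹ := by rw [hs]; group
    rw [h1, Units.val_mul, hrest, smul_mul_assoc]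
    congr 1
    exact (U hk (i, j)).mul_inv
  have hc : ∀ z : GL (Fin 2) (ZMod (2 ^ k)), s * z = z * s := fun z => Units.ext (by
    rw [Units.val_mul, Units.val_mul, hsM, smul_mul_assoc, one_mul, mul_smul_comm, mul_one])
  rw [hs, mul_inv_rev]
  calc s * U hk (i, j) * w * ((U hk (i, j))⁻¹ * s⁻¹) * w⁻¹
      = (s * (U hk (i, j) * w * (U hk (i, j))⁻¹)) * s⁻¹ * w⁻¹ := by simp only [mul_assoc]
    _ = _ := by rw [hc, mul_inv_cancel_right]

/-- The set determined by an element of order three. -/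
noncomputable def C (hk : 2 ≤ k) (w : GL (Fin 2) (ZMod (2 ^ k))) : Set (GL (Fin 2) (ZMod (2 ^ k))) :=
  Set.range fun ij => U hk ij * w * (U hk ij)⁻¹ * w⁻¹

theorem structure_of_embedding (hk : 2 ≤ k) (H : Subgroup (GL (Fin 2) (ZMod (2 ^ k))))
    (e : alternatingGroup (Fin 4) ≃* H) {w : GL (Fin 2) (ZMod (2 ^ k))} (hwH : w ∈ H) (hw : w ^ 3 = 1)
    (hw1 : w ≠ 1) : H = Subgroup.closure (C hk w ∪ {w}) := by
  classical
  haveI : NeZero (2 ^ k) := ⟨(pow_pos two_pos k).ne'⟩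
  set f : alternatingGroup (Fin 4) →* GL (Fin 2) (ZMod (2 ^ k)) := H.subtype.comp e.toMonoidHom with hf
  have hinj : Function.Injective f := H.subtype_injective.comp e.injective
  obtain ⟨w', hw'⟩ := e.surjective ⟨w, hwH⟩
  have hfw : f w' = w := congrArg Subtype.val hw'
  have hw3 : (w' : Perm (Fin 4)) ^ 3 = 1 := by
    have : w' ^ 3 = 1 := hinj (by rw [map_pow, hfw, hw, map_one])
    exact congrArg Subtype.val this
  have hwne : (w' : Perm (Fin 4)) ≠ 1 := fun h => hw1 (by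
    rw [← hfw, show w' = 1 from Subtype.ext h, map_one])
  have hdet : ∀ g : alternatingGroup (Fin 4), g * g = 1 → Matrix.GeneralLinearGroup.det (f g) = 1 := by
    intro g hg
    obtain ⟨a, b, ha, hb, hgab⟩ := alt4_c g g.2 (congrArg Subtype.val hg)
    rw [show g = ⟨a, ha⟩ * ⟨b, hb⟩ * ⟨a, ha⟩⁻¹ * ⟨b, hb⟩⁻¹ from Subtype.ext hgab]
    simp [map_mul, map_inv, mul_comm, mul_assoc]
  have hsub : ∀ g : alternatingGroup (Fin 4), g * g = 1 → f g ∈ C hk w := by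
    intro g hg
    obtain ⟨v, hv, hvv, hgv⟩ := alt4_a g w' g.2 w'.2 (congrArg Subtype.val hg) hw3 hwne
    have hvv' : (⟨v, hv⟩ : alternatingGroup (Fin 4)) * ⟨v, hv⟩ = 1 := Subtype.ext hvv
    obtain ⟨ij, hij⟩ := commutator_mem hk (w := w) (v := f ⟨v, hv⟩) (by rw [← map_mul, hvv', map_one])
      (hdet _ hvv')
    refine ⟨ij, ?_⟩
    show U hk ij * w * (U hk ij)⁻¹ * w⁻¹ = _
    rw [← hij, ← hfw, ← map_inv, ← map_inv, ← map_mul, ← map_mul, ← map_mul]
    exact congrArg f (Subtype.ext hgv.symm)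
  have hCH : C hk w ⊆ (H : Set (GL (Fin 2) (ZMod (2 ^ k)))) := by
    set T : Finset (GL (Fin 2) (ZMod (2 ^ k))) :=
      (Finset.univ.filter fun g : alternatingGroup (Fin 4) => g * g = 1).image f with hT
    have hle : T ⊆ Finset.univ.image fun ij => U hk ij * w * (U hk ij)⁻¹ * w⁻¹ := by
      intro x hx
      obtain ⟨g, hg, rfl⟩ := Finset.mem_image.mp hx
      obtain ⟨ij, hij⟩ := hsub g (Finset.mem_filter.mp hg).2
      exact Finset.mem_image.mpr ⟨ij, Finset.mem_univ _, hij⟩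
    have hcard : T.card = 4 := by
      rw [hT, Finset.card_image_of_injective _ hinj]
      refine Eq.trans (Finset.card_bij (t := Finset.univ.filter fun g : Perm (Fin 4) => sign g = 1 ∧ g * g = 1)
        (fun g _ => (g : Perm (Fin 4))) ?_ ?_ ?_) alt4_e
      · intro g hg
        exact Finset.mem_filter.mpr ⟨Finset.mem_univ _, g.2, congrArg Subtype.val (Finset.mem_filter.mp hg).2⟩
      · intro a _ b _ h
        exact Subtype.ext h
      · intro g hg
        exact ⟨⟨g, (Finset.mem_filter.mp hg).2.1⟩, Finset.mem_filter.mpr ⟨Finset.mem_univ _, Subtype.ext (Finset.mem_filter.mp hg).2.2⟩, rfl⟩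
    have heq := Finset.eq_of_subset_of_card_le hle (by
      refine Finset.card_image_le.trans ?_
      simp [hcard])
    rintro x ⟨ij, rfl⟩
    obtain ⟨g, -, hg⟩ := Finset.mem_image.mp (heq.ge (Finset.mem_image.mpr ⟨ij, Finset.mem_univ _, rfl⟩))
    show U hk ij * w * _ * _ ∈ H
    rw [← hg]
    exact (e g).2
  refine le_antisymm ?_ ((Subgroup.closure_le H).mpr (Set.union_subset hCH (Set.singleton_subset_iff.mpr hwH)))
  intro x hx
  obtain ⟨x', hx'⟩ := e.surjective ⟨x, hx⟩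
  obtain ⟨g, hg, hgg, i, hi⟩ := alt4_b x' w' x'.2 w'.2 hw3 hwne
  have hx2 : x = f (⟨g, hg⟩ * w' ^ (i : ℕ)) := by
    rw [show x = f x' from (congrArg Subtype.val hx').symm]
    exact congrArg f (Subtype.ext hi)
  rw [hx2, map_mul, map_pow, hfw]
  exact mul_mem (Subgroup.subset_closure (Or.inl (hsub _ (Subtype.ext hgg))))
    (pow_mem (Subgroup.subset_closure (show w ∈ C hk w ∪ {w} from Or.inr rfl)) _)

theorem card_ker_pow_two (hk : 2 ≤ k) {w : GL (Fin 2) (ZMod (2 ^ k))} (hw : w ^ 3 = 1)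
    (h : Matrix.GeneralLinearGroup.map (ZMod.castHom (dvd_pow_self 2 (by omega : k ≠ 0)) (ZMod 2)) w = 1) : w = 1 := by
  haveI : NeZero (2 ^ k) := ⟨(pow_pos two_pos k).ne'⟩
  set R := ZMod (2 ^ k)
  -- `w = 1 + 2 A`; squaring repeatedly reaches one
  have hA : ∃ A : Matrix (Fin 2) (Fin 2) R, (w : Matrix (Fin 2) (Fin 2) R) = 1 + (2 : R) • A := by
    have hent : ∀ a b, ∃ t : R, (w : Matrix (Fin 2) (Fin 2) R) a b = (1 : Matrix (Fin 2) (Fin 2) R) a b + 2 * t := by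
      intro a b
      have h1 : ((Matrix.GeneralLinearGroup.map (ZMod.castHom (dvd_pow_self 2 (by omega : k ≠ 0)) (ZMod 2)) w :
          GL (Fin 2) (ZMod 2)) : Matrix (Fin 2) (Fin 2) (ZMod 2)) a b =
          ((1 : GL (Fin 2) (ZMod 2)) : Matrix (Fin 2) (Fin 2) (ZMod 2)) a b := by rw [h]
      have h2 : ZMod.castHom (dvd_pow_self 2 (by omega : k ≠ 0)) (ZMod 2)
          ((w : Matrix (Fin 2) (Fin 2) R) a b - (1 : Matrix (Fin 2) (Fin 2) R) a b) = 0 := by
        rw [map_sub, sub_eq_zero]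
        refine h1.trans ?_
        show (1 : Matrix (Fin 2) (Fin 2) (ZMod 2)) a b = _
        rw [Matrix.one_apply, Matrix.one_apply]
        split
        · exact (map_one _).symm
        · exact (map_zero _).symm
      obtain ⟨z, hz⟩ := ZMod.natCast_zmod_surjective ((w : Matrix (Fin 2) (Fin 2) R) a b - (1 : Matrix (Fin 2) (Fin 2) R) a b)
      rw [← hz, map_natCast, ZMod.natCast_eq_zero_iff] at h2
      obtain ⟨t, rfl⟩ := h2
      refine ⟨t, ?_⟩
      rw [eq_add_of_sub_eq hz.symm, Nat.cast_mul, add_comm]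
      simp
    choose t ht using hent
    exact ⟨Matrix.of t, by ext a b; simp [ht]⟩
  obtain ⟨A, hA⟩ := hA
  have key : ∀ m : ℕ, ∃ B : Matrix (Fin 2) (Fin 2) R,
      ((w ^ 2 ^ m : GL (Fin 2) R) : Matrix (Fin 2) (Fin 2) R) = 1 + ((2 : R) ^ (m + 1)) • B := by
    intro m
    induction m with
    | zero => exact ⟨A, by simpa using hA⟩
    | succ m ih =>
      obtain ⟨B, hB⟩ := ih
      refine ⟨B + (2 : R) ^ m • (B * B), ?_⟩
      rw [pow_succ, pow_mul, pow_two, Units.val_mul, hB]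
      simp only [mul_add, add_mul, one_mul, mul_one, smul_mul_assoc, mul_smul_comm, smul_add, smul_smul]
      rw [show (2 : R) ^ (m + 1 + 1) = 2 ^ (m + 1) + 2 ^ (m + 1) by ring, add_smul,
        show ((2 : R) ^ (m + 1) + 2 ^ (m + 1)) * 2 ^ m = 2 ^ (m + 1) * 2 ^ (m + 1) by ring]
      abel
  obtain ⟨B, hB⟩ := key k
  have h2k : w ^ 2 ^ k = 1 := Units.ext (by
    rw [hB, show (2 : R) ^ (k + 1) = 0 by
      rw [pow_succ, show (2 : R) = ((2 : ℕ) : R) by norm_num, ← Nat.cast_pow, ZMod.natCast_self, zero_mul]]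
    simp)
  have := pow_gcd_eq_one.mpr ⟨hw, h2k⟩
  rwa [((Nat.coprime_primes Nat.prime_three Nat.prime_two).mpr (by norm_num)).pow_right k |>.gcd_eq_one, pow_one] at this

theorem exists_conj_order_three (hk : 2 ≤ k) {a b : GL (Fin 2) (ZMod (2 ^ k))} (ha : a ^ 3 = 1) (ha1 : a ≠ 1)
    (hb : b ^ 3 = 1) (hb1 : b ≠ 1) : ∃ g, g * a * g⁻¹ = b ∨ g * a * g⁻¹ = b⁻¹ := by
  classical
  haveI : NeZero (2 ^ k) := ⟨(pow_pos two_pos k).ne'⟩
  haveI : Fact (Nat.Prime 3) := ⟨Nat.prime_three⟩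
  set π := Matrix.GeneralLinearGroup.map (n := Fin 2) (ZMod.castHom (dvd_pow_self 2 (by omega : k ≠ 0)) (ZMod 2))
  obtain ⟨Pa, hPa⟩ : ∃ P : Sylow 3 (GL (Fin 2) (ZMod (2 ^ k))), Subgroup.zpowers a ≤ P :=
    (IsPGroup.of_card (n := 1) (by rw [Nat.card_zpowers, orderOf_eq_prime ha ha1, pow_one])).exists_le_sylow
  obtain ⟨Pb, hPb⟩ : ∃ P : Sylow 3 (GL (Fin 2) (ZMod (2 ^ k))), Subgroup.zpowers b ≤ P :=
    (IsPGroup.of_card (n := 1) (by rw [Nat.card_zpowers, orderOf_eq_prime hb hb1, pow_one])).exists_le_sylow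
  have hcard : ∀ P : Sylow 3 (GL (Fin 2) (ZMod (2 ^ k))), Nat.card (P : Subgroup (GL (Fin 2) (ZMod (2 ^ k)))) ≤ 3 := by
    intro P
    have hker : ∀ x : (P : Subgroup (GL (Fin 2) (ZMod (2 ^ k)))), π x = 1 → x = 1 := by
      intro x hx
      by_contra hne
      obtain ⟨j, hj⟩ := IsPGroup.iff_orderOf.mp P.2 x
      rcases j with _ | j
      · exact hne (orderOf_eq_one_iff.mp (by simpa using hj))
      have hy : ((x : GL (Fin 2) (ZMod (2 ^ k))) ^ 3 ^ j) ^ 3 = 1 := by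
        rw [← pow_mul, ← pow_succ, ← SubmonoidClass.coe_pow, ← hj, pow_orderOf_eq_one]; rfl
      have h1 := card_ker_pow_two hk hy (by rw [map_pow, hx, one_pow])
      rw [← SubmonoidClass.coe_pow] at h1
      have h2 : orderOf x ∣ 3 ^ j := orderOf_dvd_of_pow_eq_one (Subtype.ext h1)
      rw [hj] at h2
      have := (Nat.pow_dvd_pow_iff_le_right (by norm_num : 1 < 3)).mp h2
      omega
    set φ := π.comp (P : Subgroup (GL (Fin 2) (ZMod (2 ^ k)))).subtype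
    have hφ : Function.Injective φ := (injective_iff_map_eq_one φ).mpr hker
    obtain ⟨j, hj⟩ := IsPGroup.iff_card.mp P.2
    have hd : 3 ^ j ∣ 6 := by
      rw [← hj, Nat.card_congr (MonoidHom.ofInjective hφ).toEquiv]
      refine (Subgroup.card_subgroup_dvd_card _).trans (dvd_of_eq ?_)
      rw [Nat.card_eq_fintype_card]
      decide +kernel
    rw [hj]
    rcases j with _ | _ | j
    · norm_num
    · norm_num
    · exact absurd (Nat.le_of_dvd (by norm_num) ((dvd_pow_self 3 (n := j + 2) (by omega)).trans hd)) (by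
        intro h
        have h9 : 9 ∣ 6 := (pow_dvd_pow 3 (by omega : 2 ≤ j + 2)).trans hd
        norm_num at h9)
  have hPaeq : Subgroup.zpowers a = Pa := Subgroup.eq_of_le_of_card_ge hPa
    (by rw [Nat.card_zpowers, orderOf_eq_prime ha ha1]; exact hcard Pa)
  have hPbeq : Subgroup.zpowers b = Pb := Subgroup.eq_of_le_of_card_ge hPb
    (by rw [Nat.card_zpowers, orderOf_eq_prime hb hb1]; exact hcard Pb)
  obtain ⟨g, hg⟩ := MulAction.exists_smul_eq (GL (Fin 2) (ZMod (2 ^ k))) Pa Pb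
  refine ⟨g, ?_⟩
  have hm : g * a * g⁻¹ ∈ Subgroup.zpowers b := by
    rw [hPbeq, ← hg, Sylow.coe_subgroup_smul, ← hPaeq]
    exact ⟨a, Subgroup.mem_zpowers a, rfl⟩
  obtain ⟨i, hi⟩ := Subgroup.mem_zpowers_iff.mp hm
  have hne : g * a * g⁻¹ ≠ 1 := by simpa using ha1
  have hb3 : b ^ (3 : ℤ) = 1 := by exact_mod_cast hb
  have hi' : b ^ (i % 3) = g * a * g⁻¹ := by
    rw [← hi]
    conv_rhs => rw [← Int.emod_add_mul_ediv i 3, zpow_add, zpow_mul, hb3, one_zpow, mul_one]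
  have h3 : i % 3 = 0 ∨ i % 3 = 1 ∨ i % 3 = 2 := by omega
  rcases h3 with h | h | h <;> rw [h] at hi'
  · exact absurd hi'.symm (by simpa using hne)
  · left; rw [← hi', zpow_one]
  · right
    rw [← hi', eq_inv_iff_mul_eq_one, ← zpow_add_one]
    exact hb3

end CfsgLib.Local.AltFourGL
open CfsgLib.Local.AltFourGL


/-- For k ≥ 2, any two subgroups of GL₂(ℤ/2ᵏℤ) (the automorphism group of the homocyclic group ℤ/2ᵏ × ℤ/2ᵏ) that are isomorphic to the alternating group of degree 4 are conjugate. -/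
theorem result (k : ℕ) (hk : 2 ≤ k) (H₁ H₂ : Subgroup (GL (Fin 2) (ZMod (2 ^ k)))) (h₁ : Nonempty (↥H₁ ≃* ↥(alternatingGroup (Fin 4)))) (h₂ : Nonempty (↥H₂ ≃* ↥(alternatingGroup (Fin 4)))) : ∃ g : GL (Fin 2) (ZMod (2 ^ k)), H₂ = H₁.map (MulAut.conj g).toMonoidHom := by
  classical
  obtain ⟨e₁⟩ := h₁
  obtain ⟨e₂⟩ := h₂
  obtain ⟨w, hw, hw3, hw1⟩ := alt4_d
  set a : GL (Fin 2) (ZMod (2 ^ k)) := ((e₁.symm ⟨w, hw⟩ : H₁) : GL (Fin 2) (ZMod (2 ^ k))) with ha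
  have ha3 : a ^ 3 = 1 := by
    rw [ha, ← SubmonoidClass.coe_pow, ← map_pow, show (⟨w, hw⟩ : alternatingGroup (Fin 4)) ^ 3 = 1 from Subtype.ext hw3,
      map_one]
    rfl
  have ha1 : a ≠ 1 := fun h => hw1 (by
    have : e₁.symm ⟨w, hw⟩ = 1 := Subtype.ext h
    simpa using congrArg Subtype.val (congrArg e₁ this))
  set b : GL (Fin 2) (ZMod (2 ^ k)) := ((e₂.symm ⟨w, hw⟩ : H₂) : GL (Fin 2) (ZMod (2 ^ k))) with hb
  have hb3 : b ^ 3 = 1 := by
    rw [hb, ← SubmonoidClass.coe_pow, ← map_pow, show (⟨w, hw⟩ : alternatingGroup (Fin 4)) ^ 3 = 1 from Subtype.ext hw3,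
      map_one]
    rfl
  have hb1 : b ≠ 1 := fun h => hw1 (by
    have : e₂.symm ⟨w, hw⟩ = 1 := Subtype.ext h
    simpa using congrArg Subtype.val (congrArg e₂ this))
  obtain ⟨g, hg⟩ := exists_conj_order_three hk ha3 ha1 hb3 hb1
  refine ⟨g, ?_⟩
  set H₁' := H₁.map (MulAut.conj g).toMonoidHom with hH'
  have hcm : g * a * g⁻¹ ∈ H₂ := by
    rcases hg with h | h <;> rw [h]
    · exact (e₂.symm ⟨w, hw⟩).2
    · exact inv_mem (e₂.symm ⟨w, hw⟩).2
  have hc3 : (g * a * g⁻¹) ^ 3 = 1 := by rw [conj_pow, ha3, mul_one, mul_inv_cancel]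
  have hc1 : g * a * g⁻¹ ≠ 1 := by simpa using ha1
  have hcm' : g * a * g⁻¹ ∈ H₁' := ⟨a, (e₁.symm ⟨w, hw⟩).2, rfl⟩
  rw [structure_of_embedding hk H₂ e₂.symm hcm hc3 hc1, structure_of_embedding hk H₁'
    (e₁.symm.trans (H₁.equivMapOfInjective _ (MulAut.conj g).injective)) hcm' hc3 hc1]


end Cfsg.Agent.S2874
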