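import Cfsg.Statements.S2879
import Cfsg.Agent.Lib.TransferQuatSection
import Cfsg.Agent.Lib.TwoFusionQD
import Cfsg.Agent.Lib.TwoFusionEssentialCube
import Cfsg.Agent.Lib.CoreLayer
import Mathlib

set_option autoImplicit false
open Cfsg
open scoped commutatorElement Pointwise

namespace Cfsg.Agent.S2879

open Subgroup in
/-- A dihedral or semidihedral `2`-group of order at least `8`: a cyclic maximal subgroup outside of
which all elements have order at most `4`, and it is not abelian. -/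
theorem two_struct {S : Type*} [Group S] [Finite S]
    (h : (∃ n : ℕ, 4 ≤ n ∧ Nonempty (S ≃* DihedralGroup n)) ∨ Cfsg.IsQuasiDihedral S) :
    ∃ C : Subgroup S, IsCyclic C ∧ C.index = 2 ∧ (∀ x ∉ C, x ^ 4 = 1) ∧ ∃ a b : S, a * b ≠ b * a := by
  rcases h with ⟨n, hn, ⟨e⟩⟩ | h
  · haveI : NeZero n := ⟨by omega⟩
    refine ⟨Subgroup.zpowers (e.symm (.r 1)), inferInstance, ?_, ?_, e.symm (.r 1), e.symm (.sr 0), ?_⟩
    · have h := Subgroup.card_mul_index (Subgroup.zpowers (e.symm (.r 1)))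
      rw [Nat.card_zpowers, MulEquiv.orderOf_eq, DihedralGroup.orderOf_r_one, Nat.card_congr e.toEquiv,
        DihedralGroup.nat_card, mul_comm 2] at h
      exact Nat.eq_of_mul_eq_mul_left (by omega) h
    · intro x hx
      obtain ⟨i, hi⟩ | ⟨i, hi⟩ : (∃ i, e x = .r i) ∨ (∃ i, e x = .sr i) := by
        cases e x with
        | r i => exact Or.inl ⟨i, rfl⟩
        | sr i => exact Or.inr ⟨i, rfl⟩
      · exfalso; apply hx
        refine Subgroup.mem_zpowers_iff.mpr ⟨(i.val : ℤ), ?_⟩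
        rw [zpow_natCast, ← map_pow, DihedralGroup.r_one_pow, ZMod.natCast_zmod_val, ← hi,
          MulEquiv.symm_apply_apply]
      · apply e.injective
        rw [map_pow, map_one, hi, show 4 = 2 * 2 from rfl, pow_mul, pow_two (DihedralGroup.sr i),
          DihedralGroup.sr_mul_sr, sub_self, ← DihedralGroup.one_def, one_pow]
    · intro h
      have h' := congrArg e h
      simp only [map_mul, MulEquiv.apply_symm_apply, DihedralGroup.r_mul_sr, DihedralGroup.sr_mul_r,
        DihedralGroup.sr.injEq, zero_sub, zero_add] at h'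
      have h2 : ((2 : ℕ) : ZMod n) = 0 := by
        push_cast
        rw [← sub_eq_zero.mpr h'.symm]; ring
      rw [ZMod.natCast_eq_zero_iff] at h2
      have := Nat.le_of_dvd (by norm_num) h2
      omega
  · obtain ⟨d⟩ := CfsgLib.TwoFusion.nonempty_qd h
    refine ⟨Subgroup.zpowers d.x, inferInstance, ?_, ?_, d.x, d.y, ?_⟩
    · have h := Subgroup.card_mul_index (Subgroup.zpowers d.x)
      rw [Nat.card_zpowers, d.ox, d.card, pow_succ] at h
      exact Nat.eq_of_mul_eq_mul_left (by positivity) h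
    · intro x hx
      obtain ⟨i, rfl | rfl⟩ := d.cases' x
      · exact absurd (Subgroup.mem_zpowers_iff.mpr ⟨i, rfl⟩) hx
      · rw [show 4 = 2 * 2 from rfl, pow_mul, pow_two (d.x ^ i * d.y)]
        by_cases h2 : (2 : ℤ) ∣ i
        · rw [d.sq_even h2, one_pow]
        · rw [d.sq_odd h2, pow_two, d.z_sq]
    · intro h
      have h1 := d.y_mul_zpow 1
      rw [zpow_one, ← h, mul_one] at h1
      have h2 := mul_right_cancel h1
      have h3 : d.x ^ (1 : ℤ) = d.x ^ d.a := by rw [zpow_one]; exact h2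
      rw [d.zpow_eq, CfsgLib.TwoFusion.QD.a] at h3
      obtain ⟨k, hk⟩ := h3
      obtain ⟨r, hr⟩ := d.two_dvd_q
      rw [hr] at hk
      ring_nf at hk
      omega

/-- An odd-order automorphism of a cyclic `2`-group is trivial. -/
theorem odd_conj_cyclic {G : Type*} [Group G] [Finite G] {D : Subgroup G} [IsCyclic D]
    (hD : IsPGroup 2 D) {g : G} (hg : ∀ x ∈ D, g * x * g⁻¹ ∈ D) (hodd : Odd (orderOf g)) :
    ∀ x ∈ D, g * x * g⁻¹ = x := by
  haveI : Fact (Nat.Prime 2) := ⟨Nat.prime_two⟩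
  have hgn : g ∈ Subgroup.normalizer (D : Set G) := Subgroup.mem_normalizer_fintype hg
  have h1 : orderOf (D.normalizerMonoidHom ⟨g, hgn⟩) ∣ orderOf g := by
    rw [← Subgroup.orderOf_mk g hgn]
    exact orderOf_map_dvd _ _
  have h2 : orderOf (D.normalizerMonoidHom ⟨g, hgn⟩) ∣ Nat.totient (Nat.card D) := by
    rw [← IsCyclic.card_mulAut D]
    exact orderOf_dvd_natCard _
  obtain ⟨k, hk⟩ := IsPGroup.iff_card.mp hD
  rw [hk] at h2
  have h3 : orderOf (D.normalizerMonoidHom ⟨g, hgn⟩) = 1 := by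
    refine Nat.eq_one_of_dvd_coprimes ?_ h1 h2
    rcases k with _ | k
    · simp
    · rw [Nat.totient_prime_pow_succ Nat.prime_two, show (2 : ℕ) - 1 = 1 from rfl, mul_one]
      exact (Nat.coprime_two_right.mpr hodd).pow_right k
  rw [orderOf_eq_one_iff] at h3
  intro x hx
  exact congrArg Subtype.val (DFunLike.congr_fun h3 ⟨x, hx⟩)


/-- Let G be a finite solvable group with O(G) = 1 whose Sylow 2-subgroup T is dihedral of order at least 8 or semidihedral, with G ≠ T and Z(T) normal in G. Then G has a normal subgroup isomorphic to SL₂(3). -/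
theorem result {G : Type*} [Group G] [Finite G] (hsol : IsSolvable G) (hO : Cfsg.oddCore G = ⊥) (T : Sylow 2 G) (hT : (∃ n : ℕ, 4 ≤ n ∧ Nonempty (↥(T : Subgroup G) ≃* DihedralGroup n)) ∨ Cfsg.IsQuasiDihedral ↥(T : Subgroup G)) (hne : (T : Subgroup G) ≠ ⊤) (hZ : ((T : Subgroup G) ⊓ Subgroup.centralizer ((T : Subgroup G) : Set G)).Normal) : ∃ U : Subgroup G, U.Normal ∧ Nonempty (↥U ≃* Matrix.SpecialLinearGroup (Fin 2) (ZMod 3)) := by
  classical
  haveI : Fact (Nat.Prime 2) := ⟨Nat.prime_two⟩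
  haveI : Group.IsSolvable G := hsol
  obtain ⟨C₀, hC₀, hCi, hC4, a₀, b₀, hab⟩ := two_struct hT
  let C : Subgroup G := C₀.map (T : Subgroup G).subtype
  haveI : IsCyclic C₀ := hC₀
  haveI hCcyc : IsCyclic C := isCyclic_of_surjective
    ((C₀.equivMapOfInjective _ (T : Subgroup G).subtype_injective).toMonoidHom)
    (C₀.equivMapOfInjective _ (T : Subgroup G).subtype_injective).surjective
  have hCT : C ≤ (T : Subgroup G) := Subgroup.map_subtype_le _
  have hCmem : ∀ x (hx : x ∈ (T : Subgroup G)), x ∈ C ↔ (⟨x, hx⟩ : ↥(T : Subgroup G)) ∈ C₀ := fun x hx =>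
    ⟨fun ⟨y, hy, he⟩ => by rwa [show (⟨x, hx⟩ : ↥(T : Subgroup G)) = y from Subtype.ext he.symm],
      fun h => ⟨_, h, rfl⟩⟩
  have h4 : ∀ x ∈ (T : Subgroup G), x ∉ C → x ^ 4 = 1 := fun x hx hxC => by
    have := hC4 ⟨x, hx⟩ (fun h => hxC ((hCmem x hx).mpr h))
    simpa using congrArg Subtype.val this
  have hmulC : ∀ x ∈ (T : Subgroup G), ∀ y ∈ (T : Subgroup G), x ∉ C → y ∉ C → x * y ∈ C := by
    intro x hx y hy hxC hyC
    rw [hCmem _ (mul_mem hx hy)]
    have h := (Subgroup.mul_mem_iff_of_index_two hCi (a := ⟨x, hx⟩) (b := ⟨y, hy⟩)).mpr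
      (iff_of_false (fun h => hxC ((hCmem x hx).mpr h)) (fun h => hyC ((hCmem y hy).mpr h)))
    exact h
  -- the central involution
  set Z := (T : Subgroup G) ⊓ Subgroup.centralizer ((T : Subgroup G) : Set G) with hZdef
  have hT2 : IsPGroup 2 ↥(T : Subgroup G) := T.2
  have hZC : Z ≤ C := by
    intro x hx
    by_contra hxC
    have hxT := (Subgroup.mem_inf.mp hx).1
    have hxc := Subgroup.mem_centralizer_iff.mp (Subgroup.mem_inf.mp hx).2
    apply hab
    have hcom : ∀ y : ↥(T : Subgroup G), ∃ c ∈ C, (y : G) = c ∨ (y : G) = c * x := by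
      intro y
      by_cases hy : (y : G) ∈ C
      · exact ⟨y, hy, Or.inl rfl⟩
      · refine ⟨(y : G) * x⁻¹, hmulC _ y.2 _ (inv_mem hxT) hy (fun h => hxC (by simpa using inv_mem h)),
          Or.inr (by group)⟩
    obtain ⟨c, hc, hca⟩ := hcom a₀
    obtain ⟨c', hc', hcb⟩ := hcom b₀
    have hcc : c * c' = c' * c :=
      congrArg Subtype.val ((IsCyclic.commGroup (α := C)).mul_comm ⟨c, hc⟩ ⟨c', hc'⟩)
    have hxc1 : x * c = c * x := (hxc c (hCT hc)).symm
    have hxc2 : x * c' = c' * x := (hxc c' (hCT hc')).symm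
    apply Subtype.ext
    simp only [Subgroup.coe_mul]
    rcases hca with ha | ha <;> rcases hcb with hb | hb <;> rw [ha, hb]
    · exact hcc
    · rw [← mul_assoc, hcc, mul_assoc, mul_assoc, hxc1]
    · rw [mul_assoc, hxc2, ← mul_assoc, hcc, mul_assoc]
    · calc c * x * (c' * x) = c * (x * c') * x := by group
        _ = (c * c') * x * x := by rw [hxc2]; group
        _ = c' * (c * x) * x := by rw [hcc]; group
        _ = c' * (x * c) * x := by rw [hxc1]
        _ = _ := by group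
  have hTnt : Nontrivial ↥(T : Subgroup G) := ⟨⟨a₀ * b₀, b₀ * a₀, hab⟩⟩
  obtain ⟨z, hzZ, hz2⟩ : ∃ z ∈ Z, orderOf z = 2 := by
    have h1 : Nontrivial (Subgroup.center ↥(T : Subgroup G)) := hT2.center_nontrivial
    obtain ⟨k, hk⟩ := IsPGroup.iff_card.mp (hT2.to_subgroup (Subgroup.center ↥(T : Subgroup G)))
    have hk0 : k ≠ 0 := by
      intro h; subst h
      exact absurd hk (Finite.one_lt_card (α := Subgroup.center ↥(T : Subgroup G))).ne'
    obtain ⟨w, hw⟩ := exists_prime_orderOf_dvd_card' (G := Subgroup.center ↥(T : Subgroup G)) 2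
      (hk ▸ dvd_pow_self 2 hk0)
    refine ⟨((w : ↥(T : Subgroup G)) : G), Subgroup.mem_inf.mpr ⟨(w : ↥(T : Subgroup G)).2,
      Subgroup.mem_centralizer_iff.mpr fun y hy =>
        congrArg Subtype.val (Subgroup.mem_center_iff.mp w.2 ⟨y, hy⟩)⟩, ?_⟩
    rw [Subgroup.orderOf_coe, Subgroup.orderOf_coe]; exact hw
  have huniq : ∀ x ∈ C, x ^ 2 = 1 → x = 1 ∨ x = z := by
    intro x hx hx2
    by_cases hx1 : x = 1
    · exact Or.inl hx1
    refine Or.inr ?_
    by_contra hxz
    haveI := Fintype.ofFinite C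
    have h := IsCyclic.card_pow_eq_one_le (α := C) two_pos
    have hsub : ({1, ⟨z, hZC hzZ⟩, ⟨x, hx⟩} : Finset C) ⊆ Finset.univ.filter (fun a : C => a ^ 2 = 1) := by
      intro a ha
      simp only [Finset.mem_insert, Finset.mem_singleton] at ha
      rw [Finset.mem_filter]
      refine ⟨Finset.mem_univ _, ?_⟩
      rcases ha with rfl | rfl | rfl
      · exact one_pow 2
      · exact Subtype.ext (by simp [← hz2, pow_orderOf_eq_one])
      · exact Subtype.ext (by simpa using hx2)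
    have hne0 : z ≠ 1 := fun h => by rw [h, orderOf_one] at hz2; exact absurd hz2 (by norm_num)
    have h3 : ({1, ⟨z, hZC hzZ⟩, ⟨x, hx⟩} : Finset C).card = 3 :=
      Finset.card_eq_three.mpr ⟨_, _, _, fun e => hne0 (congrArg Subtype.val e).symm,
        fun e => hx1 (congrArg Subtype.val e).symm, fun e => hxz (congrArg Subtype.val e).symm, rfl⟩
    have := (Finset.card_le_card hsub).trans h
    omega
  have hz1 : z ≠ 1 := fun h => by rw [h, orderOf_one] at hz2; exact absurd hz2 (by norm_num)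
  have hzfix : ∀ g : G, g * z * g⁻¹ = z := fun g => by
    rcases huniq _ (hZC (hZ.conj_mem z hzZ g)) (by rw [conj_pow, ← hz2, pow_orderOf_eq_one, mul_one, mul_inv_cancel]) with h | h
    · rw [conj_eq_one_iff] at h; exact absurd h hz1
    · exact h
  -- the 2-core
  set F := Cfsg.pCore 2 G with hFdef
  haveI hFn : F.Normal := CfsgLib.Core.normal_pCore _
  have hFT : F ≤ (T : Subgroup G) := CfsgLib.Core.pCore_le_sylow T
  have hCF : Subgroup.centralizer (F : Set G) ≤ F := CfsgLib.Core.centralizer_pCore_le hO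
  have hF2 : IsPGroup 2 F := CfsgLib.Core.isPGroup_pCore 2
  -- an element of odd prime order
  obtain ⟨q, hq, hqd⟩ : ∃ q, q.Prime ∧ q ∣ (T : Subgroup G).index :=
    Nat.exists_prime_and_dvd (fun h => hne (Subgroup.index_eq_one.mp h))
  haveI : Fact q.Prime := ⟨hq⟩
  have hq2 : q ≠ 2 := by
    rintro rfl
    exact T.not_dvd_index hqd
  obtain ⟨g, hgq⟩ := exists_prime_orderOf_dvd_card' (G := G) q
    (hqd.trans (Subgroup.index_dvd_card _))
  have hgodd : Odd (orderOf g) := hgq ▸ hq.odd_of_ne_two hq2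
  have hgF : g ∉ F := fun h => by
    obtain ⟨k, hk⟩ := IsPGroup.iff_orderOf.mp hF2 ⟨g, h⟩
    rw [Subgroup.orderOf_mk, hgq] at hk
    exact hq2 ((Nat.prime_dvd_prime_iff_eq hq Nat.prime_two).mp (hq.dvd_of_dvd_pow (dvd_of_eq hk)))
  have hgnc : ∃ f ∈ F, g * f * g⁻¹ ≠ f := by
    by_contra hcon
    push Not at hcon
    exact hgF (hCF (Subgroup.mem_centralizer_iff.mpr fun f hf => (mul_inv_eq_iff_eq_mul.mp (hcon f hf)).symm))
  have hgconj : ∀ f ∈ F, g * f * g⁻¹ ∈ F := fun f hf => hFn.conj_mem f hf g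
  set D := F ⊓ C with hDdef
  haveI hDcyc : IsCyclic D := isCyclic_of_injective (Subgroup.inclusion (inf_le_right : D ≤ C))
    (Subgroup.inclusion_injective _)
  have hD2 : IsPGroup 2 D := hF2.to_le inf_le_left
  -- `D` is moved by `g`
  have hDmove : ∃ d ∈ D, g * d * g⁻¹ ∉ C := by
    by_contra hcon
    push Not at hcon
    have hfix : ∀ x ∈ D, g * x * g⁻¹ = x := odd_conj_cyclic hD2
      (fun x hx => Subgroup.mem_inf.mpr ⟨hgconj x (Subgroup.mem_inf.mp hx).1, hcon x hx⟩) hgodd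
    obtain ⟨f, hf, hfne⟩ := hgnc
    apply hfne
    have hfC : f ∉ C := fun h => hfne (hfix f (Subgroup.mem_inf.mpr ⟨hf, h⟩))
    by_cases h' : g * f * g⁻¹ ∈ C
    · exact absurd ((mul_left_cancel (mul_right_cancel (hfix _ (Subgroup.mem_inf.mpr ⟨hgconj f hf, h'⟩)))) ▸ h') hfC
    set e := f⁻¹ * (g * f * g⁻¹) with he
    have heD : e ∈ D := Subgroup.mem_inf.mpr ⟨mul_mem (inv_mem hf) (hgconj f hf),
      hmulC _ (inv_mem (hFT hf)) _ (hFT (hgconj f hf)) (fun h => hfC (by simpa using inv_mem h)) h'⟩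
    have hit : ∀ k : ℕ, g ^ k * f * (g ^ k)⁻¹ = f * e ^ k := by
      intro k
      induction k with
      | zero => simp
      | succ k ih =>
        have hk : g * e ^ k * g⁻¹ = e ^ k := hfix _ (pow_mem heD k)
        calc g ^ (k + 1) * f * (g ^ (k + 1))⁻¹ = g * (g ^ k * f * (g ^ k)⁻¹) * g⁻¹ := by
              rw [pow_succ']; group
          _ = (g * f * g⁻¹) * (g * e ^ k * g⁻¹) := by rw [ih]; group
          _ = f * e * e ^ k := by rw [hk, he]; group
          _ = f * e ^ (k + 1) := by rw [mul_assoc, ← pow_succ']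
    have h1 := hit (orderOf g)
    rw [pow_orderOf_eq_one, one_mul, inv_one, mul_one] at h1
    have h2 : orderOf e ∣ orderOf g := orderOf_dvd_of_pow_eq_one (mul_eq_left.mp h1.symm)
    obtain ⟨k, hk⟩ := IsPGroup.iff_orderOf.mp hD2 ⟨e, heD⟩
    rw [Subgroup.orderOf_mk] at hk
    rw [hk] at h2
    have h3 : 2 ^ k = 1 := Nat.eq_one_of_dvd_coprimes ((Nat.coprime_two_left.mpr hgodd).pow_left k)
      dvd_rfl h2
    rw [h3, orderOf_eq_one_iff] at hk
    rw [he, inv_mul_eq_one] at hk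
    exact hk.symm
  obtain ⟨dg, hdgen⟩ := IsCyclic.exists_generator (α := D)
  set d := (dg : G) with hddef
  have hd : d ∈ D := dg.2
  have hdgen' : ∀ x ∈ D, ∃ i : ℤ, d ^ i = x := fun x hx => by
    obtain ⟨i, hi⟩ := Subgroup.mem_zpowers_iff.mp (hdgen ⟨x, hx⟩)
    exact ⟨i, by simpa using congrArg Subtype.val hi⟩
  set v := g * d * g⁻¹ with hvdef
  have hvC : v ∉ C := by
    intro h
    obtain ⟨x, hx, hxC⟩ := hDmove
    obtain ⟨i, rfl⟩ := hdgen' x hx
    apply hxC
    rw [← conj_zpow]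
    exact zpow_mem h i
  have hvF : v ∈ F := hgconj d (Subgroup.mem_inf.mp hd).1
  have hd4 : d ^ 4 = 1 := by
    have := h4 v (hFT hvF) hvC
    rw [hvdef, conj_pow, conj_eq_one_iff] at this
    exact this
  have hd2 : d ^ 2 = z := by
    rcases huniq (d ^ 2) (pow_mem (Subgroup.mem_inf.mp hd).2 2) (by rw [← pow_mul]; exact hd4) with h | h
    · exfalso
      rcases huniq d (Subgroup.mem_inf.mp hd).2 h with h' | h'
      · exact hvC (by rw [hvdef, h']; simp)
      · exact hvC (by rw [hvdef, h', hzfix]; exact hZC hzZ)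
    · exact h
  have hod : orderOf d = 4 := by
    refine orderOf_eq_prime_pow (p := 2) (n := 1) ?_ (by simpa using hd4)
    rw [pow_one, hd2]; exact hz1
  have hv2 : v ^ 2 = z := by rw [hvdef, conj_pow, hd2, hzfix]
  have hcardD : Nat.card D = 4 := by
    rw [← orderOf_eq_card_of_forall_mem_zpowers hdgen, ← Subgroup.orderOf_coe]; exact hod
  have hcardF : Nat.card F = 8 := by
    have h := CfsgLib.Core.card_mul_relIndex (inf_le_left : D ≤ F)
    have hi : D.relIndex F = 2 := by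
      rw [Subgroup.relIndex, Subgroup.index_eq_two_iff]
      refine ⟨⟨v, hvF⟩, fun b => ?_⟩
      simp only [Subgroup.mem_subgroupOf, Subgroup.coe_mul]
      by_cases hb : (b : G) ∈ D
      · refine Or.inr ⟨hb, fun h => hvC ?_⟩
        have h1 := mul_mem (inv_mem hb) h
        rw [inv_mul_cancel_left] at h1
        exact h1.2
      · refine Or.inl ⟨Subgroup.mem_inf.mpr ⟨mul_mem b.2 hvF, hmulC _ (hFT b.2) _ (hFT hvF)
          (fun h' => hb (Subgroup.mem_inf.mpr ⟨b.2, h'⟩)) hvC⟩, hb⟩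
    rw [hi, hcardD] at h
    omega
  have hFna : ¬ IsMulCommutative F := by
    intro hc
    have hcd : d * v = v * d :=
      congrArg Subtype.val (hc.is_comm.comm (⟨d, (Subgroup.mem_inf.mp hd).1⟩ : F) ⟨v, hvF⟩)
    set w := d * v with hw
    have hwF : w ∈ F := mul_mem (Subgroup.mem_inf.mp hd).1 hvF
    have hwC : w ∉ C := fun h => hvC (by
      have := mul_mem (inv_mem (Subgroup.mem_inf.mp hd).2) h
      rwa [hw, inv_mul_cancel_left] at this)
    have hzz : z * z = 1 := by rw [← pow_two, ← hz2, pow_orderOf_eq_one]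
    have hw2 : w ^ 2 = 1 := by
      rw [hw, (show Commute d v from hcd).mul_pow, hd2, hv2, hzz]
    have hinvol : ∀ y ∈ F, y ^ 2 = 1 → y ∉ C → y = w ∨ y = w * z := by
      intro y hy hy2 hyC
      have hyw : y * w ∈ D := Subgroup.mem_inf.mpr ⟨mul_mem hy hwF,
        hmulC _ (hFT hy) _ (hFT hwF) hyC hwC⟩
      have hcw : Commute y w := congrArg Subtype.val (hc.is_comm.comm (⟨y, hy⟩ : F) ⟨w, hwF⟩)
      have h1 : (y * w) ^ 2 = 1 := by rw [hcw.mul_pow, hy2, hw2, one_mul]
      rw [pow_two] at hw2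
      rcases huniq _ hyw.2 h1 with h | h
      · exact Or.inl (by rw [eq_inv_of_mul_eq_one_left h]; exact inv_eq_of_mul_eq_one_left hw2)
      · refine Or.inr ?_
        have : y = z * w := by rw [← h, mul_assoc, hw2, mul_one]
        rw [this]
        exact congrArg Subtype.val (hc.is_comm.comm (⟨z, hd2 ▸ pow_mem (Subgroup.mem_inf.mp hd).1 2⟩ : F) ⟨w, hwF⟩)
    set w' := g * w * g⁻¹ with hw'
    have hw'C : w' ∉ C := by
      intro h
      rcases huniq w' h (by rw [hw', conj_pow, hw2, mul_one, mul_inv_cancel]) with e | e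
      · rw [hw', conj_eq_one_iff] at e; exact hwC (e ▸ one_mem C)
      · rw [hw', ← hzfix g] at e
        exact hwC (by rw [mul_left_cancel (mul_right_cancel e)]; exact hZC hzZ)
    have hgw : g * w * g⁻¹ = w := by
      rcases hinvol w' (hgconj w hwF) (by rw [hw', conj_pow, hw2, mul_one, mul_inv_cancel]) hw'C with e | e
      · exact e
      · exfalso
        have hit : ∀ k : ℕ, g ^ k * w * (g ^ k)⁻¹ = w * z ^ k := by
          intro k
          induction k with
          | zero => simp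
          | succ k ih =>
            calc g ^ (k + 1) * w * (g ^ (k + 1))⁻¹ = g * (g ^ k * w * (g ^ k)⁻¹) * g⁻¹ := by
                  rw [pow_succ']; group
              _ = (g * w * g⁻¹) * (g * z * g⁻¹) ^ k := by rw [ih, conj_pow]; group
              _ = w * z ^ (k + 1) := by rw [hzfix, ← hw', e, mul_assoc, ← pow_succ']
        have h1 := hit (orderOf g)
        rw [pow_orderOf_eq_one, one_mul, inv_one, mul_one] at h1
        have h2 := orderOf_dvd_of_pow_eq_one (mul_eq_left.mp h1.symm)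
        rw [hz2] at h2
        exact Nat.not_even_iff_odd.mpr hgodd (even_iff_two_dvd.mpr h2)
    -- `g²` fixes `d`
    have hgv : g * v * g⁻¹ = d := by
      have h1 : v * (g * v * g⁻¹) = d * v := by
        calc v * (g * v * g⁻¹) = g * d * g⁻¹ * (g * v * g⁻¹) := by rw [← hvdef]
          _ = g * (d * v) * g⁻¹ := by group
          _ = g * w * g⁻¹ := by rw [← hw]
          _ = d * v := hgw.trans hw
      exact mul_left_cancel (h1.trans hcd)
    have h2 : ∀ k : ℕ, (g ^ 2) ^ k * d * ((g ^ 2) ^ k)⁻¹ = d := by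
      intro k
      induction k with
      | zero => simp
      | succ k ih =>
        calc (g ^ 2) ^ (k + 1) * d * ((g ^ 2) ^ (k + 1))⁻¹
            = g ^ 2 * ((g ^ 2) ^ k * d * ((g ^ 2) ^ k)⁻¹) * (g ^ 2)⁻¹ := by rw [pow_succ' (g ^ 2)]; group
          _ = g * (g * d * g⁻¹) * g⁻¹ := by rw [ih, pow_two]; group
          _ = d := by rw [← hvdef, hgv]
    obtain ⟨j, hj⟩ := hgodd
    have h3 := h2 (j + 1)
    rw [← pow_mul, show 2 * (j + 1) = orderOf g + 1 by omega, pow_succ, pow_orderOf_eq_one, one_mul,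
      ← hvdef] at h3
    exact hvC (h3.symm ▸ (Subgroup.mem_inf.mp hd).2)
  -- `F` is quaternion
  obtain ⟨eF⟩ := CfsgLib.TwoFusion.EssentialCube.quaternion_of_gens (H := ↥F) hcardF
    (u := ⟨d, (Subgroup.mem_inf.mp hd).1⟩) (v := ⟨v, hvF⟩)
    (by rw [Subgroup.orderOf_mk]; exact hod)
    (by
      rw [Subgroup.orderOf_mk]
      exact (orderOf_eq_prime_pow (p := 2) (n := 1) (by rw [pow_one, hv2]; exact hz1)
        (by simpa using h4 v (hFT hvF) hvC)))
    (fun h => by
      obtain ⟨i, hi⟩ := Subgroup.mem_zpowers_iff.mp h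
      exact hvC ((by simpa using congrArg Subtype.val hi : d ^ i = v) ▸ zpow_mem (Subgroup.mem_inf.mp hd).2 i))
    hFna
  -- the automizer
  have hidx : F.index ∣ 6 := by
    have h := CfsgLib.TwoFusion.quat_automizer_dvd F eF
    rw [Subgroup.normalizer_eq_top, sup_eq_left.mpr hCF, Subgroup.relIndex_top_right] at h
    exact h
  have hg3 : orderOf g = 3 := by
    have h1 : q ∣ Nat.card G := hgq ▸ orderOf_dvd_natCard g
    rw [← F.card_mul_index, hcardF] at h1
    rcases hq.dvd_mul.mp h1 with h | h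
    · exact absurd ((Nat.prime_dvd_prime_iff_eq hq Nat.prime_two).mp (hq.dvd_of_dvd_pow (show q ∣ 2 ^ 3 from h))) hq2
    · have h6 := h.trans hidx
      rcases (hq.dvd_mul (m := 2) (n := 3)).mp h6 with h' | h'
      · exact absurd ((Nat.prime_dvd_prime_iff_eq hq Nat.prime_two).mp h') hq2
      · rw [hgq]; exact (Nat.prime_dvd_prime_iff_eq hq Nat.prime_three).mp h'
  have hg3' : g ^ 3 = 1 := hg3 ▸ pow_orderOf_eq_one g
  set U := F ⊔ Subgroup.zpowers g with hUdef
  have hcardU : Nat.card U = 24 := by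
    rw [hUdef, sup_comm, CfsgLib.Core.card_sup_of_disjoint (by rw [Subgroup.normalizer_eq_top]; exact le_top)
      (CfsgLib.Core.inf_eq_bot_of_coprime (by rw [Nat.card_zpowers, hg3, hcardF]; norm_num)),
      Nat.card_zpowers, hg3, hcardF]
  refine ⟨U, ?_, ?_⟩
  · have h := U.card_mul_index
    rw [← F.card_mul_index, hcardU, hcardF] at h
    have h6 : F.index ≤ 6 := Nat.le_of_dvd (by norm_num) hidx
    have h0 : U.index ≠ 0 := Subgroup.index_ne_zero_of_finite
    rcases (show U.index = 1 ∨ U.index = 2 by omega) with h1 | h1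
    · rw [Subgroup.index_eq_one.mp h1]; infer_instance
    · exact Subgroup.normal_of_index_eq_two h1
  -- identify `U`
  set u : QuaternionGroup 2 := eF ⟨d, (Subgroup.mem_inf.mp hd).1⟩ with hu
  have hsq1 : ∀ x : F, ((x : G)) ^ 2 ≠ 1 → eF x * eF x ≠ 1 := fun x hx h => hx (by
    rw [← map_mul, MulEquiv.map_eq_one_iff] at h
    rw [pow_two]; simpa using congrArg Subtype.val h)
  have hne' : ∀ x y : F, (x : G) ≠ y → eF x ≠ eF y := fun x y h e => h (congrArg Subtype.val (eF.injective e))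
  set w := g * v * g⁻¹ with hwdef
  have hwF : w ∈ F := hgconj v hvF
  have hgw : g * w * g⁻¹ = d := by
    rw [hwdef, hvdef, show g * (g * (g * d * g⁻¹) * g⁻¹) * g⁻¹ = g ^ 3 * d * (g ^ 3)⁻¹ by
        rw [pow_succ, pow_two]; group,
      hg3', one_mul, inv_one, mul_one]
  have hdu : d ^ 2 ≠ 1 := hd2 ▸ hz1
  have hvu : v ^ 2 ≠ 1 := hv2 ▸ hz1
  have hwu : w ^ 2 ≠ 1 := by rw [hwdef, conj_pow, hv2, hzfix]; exact hz1
  have hdC := (Subgroup.mem_inf.mp hd).2
  have hvd : v ≠ d := fun h => hvC (h ▸ hdC)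
  have hvd' : v ≠ d⁻¹ := fun h => hvC (h ▸ inv_mem hdC)
  have hwd : w ≠ d := fun h => hvd (by
    rw [h, ← hvdef] at hgw
    exact hgw)
  have hwd' : w ≠ d⁻¹ := fun h => hvd' (by
    rw [h] at hgw
    have : v⁻¹ = d := by rw [← hgw, hvdef]; group
    rw [← this, inv_inv])
  have hwv : w ≠ v := fun h => hvd (mul_left_cancel (mul_right_cancel (h : g * v * g⁻¹ = g * d * g⁻¹)))
  have hwv' : w ≠ v⁻¹ := fun h => hvd' (by
    have h' : g * v * g⁻¹ = g * d⁻¹ * g⁻¹ := by rw [← hwdef, h, hvdef]; group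
    exact mul_left_cancel (mul_right_cancel h'))
  obtain ⟨γ, v', w', hγ3, hγU, hγv, hγw, hv'2, hv'd, hv'd', hw'⟩ : ∃ (γ : G) (v' w' : F), γ ^ 3 = 1 ∧
      Subgroup.zpowers γ = Subgroup.zpowers g ∧
      γ * d * γ⁻¹ = v' ∧ γ * (v' : G) * γ⁻¹ = w' ∧ (v' : G) ^ 2 ≠ 1 ∧ (v' : G) ≠ d ∧ (v' : G) ≠ d⁻¹ ∧
      eF w' = u * eF v' := by
    rcases CfsgLib.QuatSection.q8_pair_third u (eF ⟨v, hvF⟩) (eF ⟨w, hwF⟩) (hsq1 _ hdu) (hsq1 _ hvu)
      (hne' _ _ hvd) (by rw [hu, ← map_inv]; exact hne' _ _ hvd') (hsq1 _ hwu) (hne' _ _ hwd)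
      (by rw [hu, ← map_inv]; exact hne' _ _ hwd') (hne' _ _ hwv)
      (by rw [← map_inv]; exact hne' _ _ hwv') with h | h
    · exact ⟨g, ⟨v, hvF⟩, ⟨w, hwF⟩, hg3', rfl, rfl, rfl, hvu, hvd, hvd', h⟩
    · refine ⟨g⁻¹, ⟨w, hwF⟩, ⟨v, hvF⟩, by rw [inv_pow, hg3', inv_one], Subgroup.zpowers_inv, ?_, ?_,
        hwu, hwd, hwd', h.symm⟩
      · show g⁻¹ * d * g⁻¹⁻¹ = w
        conv_lhs => rw [← hgw]
        group
      · show g⁻¹ * w * g⁻¹⁻¹ = v
        rw [hwdef]; group
  have hm := CfsgLib.QuatSection.q8_pair_hom u (eF v') (hsq1 _ hdu) (hsq1 _ hv'2)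
    (hne' _ _ hv'd) (by rw [hu, ← map_inv]; exact hne' _ _ hv'd')
  have hi := CfsgLib.QuatSection.q8_pair_inj u (eF v') (hsq1 _ hdu) (hsq1 _ hv'2)
    (hne' _ _ hv'd) (by rw [hu, ← map_inv]; exact hne' _ _ hv'd')
  have ea : CfsgLib.ZStar.qMap u (eF v') (.a 1) = u := pow_one u
  have eb : CfsgLib.ZStar.qMap u (eF v') (.xa 0) = eF v' := mul_one _
  let ψ : QuaternionGroup 2 →* G := F.subtype.comp
    (eF.symm.toMonoidHom.comp (MonoidHom.mk' (CfsgLib.ZStar.qMap u (eF v')) hm))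
  have hψ : Function.Injective ψ := fun x y h => hi x y (eF.symm.injective (Subtype.ext h))
  have hψF : ∀ x, ψ x ∈ F := fun x => (eF.symm (CfsgLib.ZStar.qMap u (eF v') x)).2
  obtain ⟨Φ, hΦ, hΦ1, hΦ2⟩ := CfsgLib.QuatSection.exists_lift ψ hψ γ hγ3
    (fun ⟨x, hx⟩ => hgF (by
      have h1 : g ∈ Subgroup.zpowers γ := hγU ▸ Subgroup.mem_zpowers g
      exact Subgroup.zpowers_le.mpr (hx ▸ hψF x) h1))
    (by
      show γ * (eF.symm (CfsgLib.ZStar.qMap u (eF v') (.a 1)) : G) * γ⁻¹ =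
        eF.symm (CfsgLib.ZStar.qMap u (eF v') (.xa 0))
      rw [ea, eb, hu, MulEquiv.symm_apply_apply, MulEquiv.symm_apply_apply]
      exact hγv)
    (by
      show γ * (eF.symm (CfsgLib.ZStar.qMap u (eF v') (.xa 0)) : G) * γ⁻¹ =
        eF.symm (CfsgLib.ZStar.qMap u (eF v') (.a 1 * .xa 0))
      rw [hm, ea, eb, ← hw', MulEquiv.symm_apply_apply, MulEquiv.symm_apply_apply]
      exact hγw)
  have hUr : U ≤ Φ.range := by
    refine sup_le (fun f hf => hΦ1 ?_) (hγU ▸ Subgroup.zpowers_le.mpr hΦ2)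
    obtain ⟨x, hx⟩ := ((Finite.injective_iff_bijective).1
      (show Function.Injective (CfsgLib.ZStar.qMap u (eF v')) from fun a b h => hi a b h)).2 (eF ⟨f, hf⟩)
    exact ⟨x, by show ((eF.symm (CfsgLib.ZStar.qMap u (eF v') x)) : G) = f; rw [hx, MulEquiv.symm_apply_apply]⟩
  have hUeq : Φ.range = U := by
    refine (Subgroup.eq_of_le_of_card_ge hUr ?_).symm
    rw [hcardU, ← Nat.card_congr (MonoidHom.ofInjective hΦ).toEquiv, SemidirectProduct.card,
      Nat.card_eq_fintype_card, QuaternionGroup.card, Nat.card_eq_fintype_card (α := Multiplicative (ZMod 3))]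
    simp
  obtain ⟨E⟩ := CfsgLib.QuatSection.nonempty_sl
  exact ⟨((MulEquiv.subgroupCongr hUeq.symm).trans (MonoidHom.ofInjective hΦ).symm).trans E⟩


end Cfsg.Agent.S2879
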