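import Cfsg.Statements.S2880
import Cfsg.Agent.Lib.TransferExtraspecialCount
import Cfsg.Agent.Lib.CoreExtraspecialRank

set_option autoImplicit false
open Cfsg
universe u

namespace Cfsg.Agent.S2880

open CfsgLib.Extraspecial CfsgLib.ExtraspecialCount CfsgLib.Core.ExRank in
theorem sqOne_of_plus : ∀ (n : ℕ) {P : Type u} [Group P] [Finite P] {z : P}, Ex 2 z n → Plus P n →
    sqOne P = 2 ^ (2 * n) + 2 ^ n := by
  intro n
  induction n with
  | zero =>
    intro P _ _ z h _
    rw [sqOne_zero h]; norm_num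
  | succ n ih =>
    intro P _ _ z h hp
    obtain ⟨A, hA, hcard⟩ := hp
    have hle : ¬ A ≤ Subgroup.zpowers z := fun hle => by
      have h1 := (Subgroup.card_le_of_le hle).trans_eq (card_zpowers_z h)
      have h2 : 2 ^ 2 ≤ 2 ^ (n + 1 + 1) := Nat.pow_le_pow_right two_pos (by omega)
      omega
    obtain ⟨a, ha, haz⟩ := SetLike.not_le_iff_exists.1 hle
    obtain ⟨b, hab, hb2, C, hCc, ⟨hz, hC⟩, hdec, -, K, hK, hAK⟩ := descend h hA ha haz
    have hPC : Plus C n := ⟨K, hK, by rw [pow_succ' 2 (n + 1)] at hcard; omega⟩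
    rw [sqOne_step h hab (hA.2 a ha) hb2 hCc hC hdec, ih hC hPC,
      show 2 * (n + 1) = (2 * n + 1) + 1 by ring, pow_succ 2 (2 * n + 1), pow_succ 2 (2 * n), pow_succ 2 n]
    ring

/-- Let E be an extraspecial 2-group of order 2^(2m+1) of plus type, that is, containing an elementary abelian subgroup of order 2^(m+1) (equivalently, a central product of m dihedral groups of order 8). Then E has exactly 2^(2m) − 2^m elements of order 4. -/
theorem result {E : Type*} [Group E] [Finite E] (m : ℕ) (hm : 1 ≤ m) (hE : Cfsg.IsExtraspecial 2 E) (hcard : Nat.card E = 2 ^ (2 * m + 1)) (hplus : ∃ A : Subgroup E, Cfsg.IsElementaryAbelian 2 A ∧ Nat.card A = 2 ^ (m + 1)) : Nat.card {x : E // orderOf x = 4} = 2 ^ (2 * m) - 2 ^ m := by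
  haveI : Fact (Nat.Prime 2) := ⟨Nat.prime_two⟩
  classical
  obtain ⟨z, n, hz⟩ := CfsgLib.Extraspecial.exists_ex hE
  obtain rfl : n = m := by
    have h := hz.card.symm.trans hcard
    have := Nat.pow_right_injective le_rfl h
    omega
  obtain ⟨A, hA, hAc⟩ := hplus
  have hs : CfsgLib.ExtraspecialCount.sqOne E = 2 ^ (2 * n) + 2 ^ n :=
    sqOne_of_plus n hz ⟨A, hA, hAc.ge⟩
  have h4 : ∀ x : E, orderOf x = 4 ↔ ¬ x ^ 2 = 1 := fun x => by
    constructor
    · intro h e
      have := orderOf_le_of_pow_eq_one two_pos e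
      omega
    · intro h
      refine orderOf_eq_prime_pow (p := 2) (n := 1) (by simpa using h) ?_
      obtain ⟨k, hk⟩ := Subgroup.mem_zpowers_iff.mp (hz.pow_mem x)
      rw [pow_succ, pow_one, pow_mul, ← hk, ← zpow_natCast, ← zpow_mul, mul_comm, zpow_mul,
        zpow_natCast, hz.zp, one_zpow]
  haveI := Fintype.ofFinite E
  rw [Nat.card_congr (Equiv.subtypeEquivRight h4), Nat.card_eq_fintype_card, Fintype.card_subtype_compl,
    ← Nat.card_eq_fintype_card, ← Nat.card_eq_fintype_card]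
  rw [show Nat.card {x : E // x ^ 2 = 1} = CfsgLib.ExtraspecialCount.sqOne E from rfl, hs, hcard,
    pow_succ]
  omega

end Cfsg.Agent.S2880
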