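import Cfsg.Statements.S2881
import Cfsg.Agent.S2880

set_option autoImplicit false
open Cfsg

namespace Cfsg.Agent.S2881

/-- Let E be an extraspecial 2-group of order 2^(2m+1) of plus type (containing an elementary abelian subgroup of order 2^(m+1)), and let ω be an automorphism of E of order 5 whose fixed points are exactly the centre of E. Then m is divisible by 4. -/
theorem result {E : Type*} [Group E] [Finite E] (m : ℕ) (hm : 1 ≤ m) (hE : Cfsg.IsExtraspecial 2 E) (hcard : Nat.card E = 2 ^ (2 * m + 1)) (hplus : ∃ A : Subgroup E, Cfsg.IsElementaryAbelian 2 A ∧ Nat.card A = 2 ^ (m + 1)) (ω : E ≃* E) (hω : orderOf ω = 5) (hfix : ∀ x : E, ω x = x ↔ x ∈ Subgroup.center E) : 4 ∣ m := by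
  haveI : Fact (Nat.Prime 2) := ⟨Nat.prime_two⟩
  haveI : Fact (Nat.Prime 5) := ⟨by norm_num⟩
  have h := Cfsg.Agent.S2880.result m hm hE hcard hplus
  obtain ⟨z, n, hz⟩ := CfsgLib.Extraspecial.exists_ex hE
  haveI := Fintype.ofFinite E
  classical
  let f : {x : E // orderOf x = 4} → {x : E // orderOf x = 4} := fun x =>
    ⟨ω x, by rw [MulEquiv.orderOf_eq]; exact x.2⟩
  have hit : ∀ (k : ℕ) x, ((f^[k]) x : E) = (ω ^ k) (x : E) := by
    intro k
    induction k with
    | zero => intro x; simp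
    | succ k ih =>
      intro x
      rw [Function.iterate_succ_apply', pow_succ']
      show ω _ = _
      rw [ih x]
      rfl
  have hf : f^[5 ^ 1] = id := funext fun x => Subtype.ext (by
    rw [pow_one, hit, ← hω, pow_orderOf_eq_one]; rfl)
  have hmod : Nat.card {x : E // orderOf x = 4} ≡ Nat.card (Function.fixedPoints f) [MOD 5] := by
    simpa [Nat.card_eq_fintype_card] using Equiv.Perm.card_fixedPoints_modEq (p := 5) (n := 1) hf
  have hfix0 : Nat.card (Function.fixedPoints f) = 0 := by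
    rw [Nat.card_eq_zero]
    refine Or.inl ⟨fun ⟨x, hx⟩ => ?_⟩
    have h1 : ω x = x := congrArg Subtype.val hx
    have h2 : (x : E) ∈ Subgroup.zpowers z := hz.center_eq.le ((hfix x).mp h1)
    obtain ⟨k, hk⟩ := Subgroup.mem_zpowers_iff.mp h2
    have h3 : (x : E) ^ 2 = 1 := by
      rw [← hk, ← zpow_natCast, ← zpow_mul, mul_comm, zpow_mul, zpow_natCast, hz.zp, one_zpow]
    have := orderOf_le_of_pow_eq_one two_pos h3
    rw [x.2] at this
    omega
  rw [hfix0, h, two_mul, pow_add] at hmod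
  have hd : 5 ∣ 2 ^ m * 2 ^ m - 2 ^ m := Nat.modEq_zero_iff_dvd.mp hmod
  rw [← Nat.mul_sub_one] at hd
  have hd' : 5 ∣ 2 ^ m - 1 := by
    refine (Nat.Coprime.dvd_of_dvd_mul_left ?_ hd)
    exact Nat.Coprime.pow_right m (by norm_num)
  have key : 2 ^ m % 5 = 2 ^ (m % 4) % 5 := by
    conv_lhs => rw [← Nat.div_add_mod m 4, pow_add, pow_mul, Nat.mul_mod, Nat.pow_mod]
    norm_num
  have h1 : 1 ≤ 2 ^ m := Nat.one_le_two_pow
  have h2 := Nat.mod_lt m (show 4 > 0 by norm_num)
  interval_cases h3 : m % 4 <;> norm_num at key <;> omega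

end Cfsg.Agent.S2881
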