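import Cfsg.Statements.S2910
import Cfsg.Agent.S1946

set_option autoImplicit false
open Cfsg

namespace Cfsg.Agent.S2910

/-- Let p be an odd prime dividing the order of the finite group G and P a Sylow p-subgroup of G. If Ω₁(P) (generated by the elements of order dividing p) is contained in the centre of G, then G has a normal p-complement. In particular, if G is quasisimple then Ω₁(P) is not central in G. -/
theorem result {G : Type*} [Group G] [Finite G] {p : ℕ} [Fact p.Prime] (hp : p ≠ 2) (hdiv : p ∣ Nat.card G) (P : Sylow p G) (hZ : Cfsg.omegaOne p (P : Subgroup G) ≤ Subgroup.center G) : Cfsg.HasNormalPComplement p G ∧ ¬ Cfsg.IsQuasisimple G := by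
  have hN : Cfsg.HasNormalPComplement p G := by
    refine (Cfsg.Agent.S1946.result P).2 fun a ha hsm g _ => ⟨1, one_mem _, ?_⟩
    rcases hsm with h | ⟨h, _⟩
    · have hc := Subgroup.mem_center_iff.1 (hZ (Subgroup.subset_closure ⟨ha, h⟩)) g
      rw [hc]; group
    · exact absurd h hp
  refine ⟨hN, fun hq => ?_⟩
  obtain ⟨N, hNn, hcop, k, hk⟩ := CfsgLib.Core.hasNormalPComplement_iff.1 hN
  haveI := hNn
  have hpg : IsPGroup p (G ⧸ N) := IsPGroup.of_card (by rw [← Subgroup.index_eq_card, hk])
  haveI := hpg.isNilpotent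
  have hne : N ≠ ⊤ := by
    intro e
    rw [e, Subgroup.card_top] at hcop
    exact ((Fact.out : p.Prime).coprime_iff_not_dvd.1 hcop.symm) hdiv
  haveI : Nontrivial (G ⧸ N) := QuotientGroup.nontrivial_iff.2 hne
  refine (Group.IsSolvable.commutator_lt_top_of_nontrivial (G ⧸ N)).ne ?_
  haveI := hq.1
  have h1 : commutator G = ⊤ := Group.IsPerfect.commutator_eq_top
  rw [commutator_def, ← Subgroup.map_top_of_surjective _ (QuotientGroup.mk'_surjective N),
    ← Subgroup.map_commutator, ← commutator_def, h1, Subgroup.map_top_of_surjective _ (QuotientGroup.mk'_surjective N)]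

end Cfsg.Agent.S2910
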