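import Cfsg.Statements.S2968
import Cfsg.Agent.Lib.LocalIsolated

set_option autoImplicit false
open Cfsg

namespace Cfsg.Agent.S2968

theorem zpowers_pgroup {G : Type*} [Group G] {p : ℕ} [Fact p.Prime] {x : G}
    (hx : ∃ k : ℕ, orderOf x = p ^ k) : IsPGroup p ↥(Subgroup.zpowers x) := by
  obtain ⟨k, hk⟩ := hx
  exact IsPGroup.of_card (n := k) (by rw [Nat.card_zpowers, hk])


/-- Let G be a finite group, p a prime, P a Sylow p-subgroup of G and x ∈ P an element of p-power order which is isolated in G (the only conjugate of x commuting with x is x itself). Then x lies in the centre of P, and the subgroup generated by x is both strongly closed and weakly closed in P with respect to G. -/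
theorem result {G : Type*} [Group G] [Finite G] {p : ℕ} [Fact p.Prime] (P : Sylow p G) (x : G) (hxP : x ∈ (P : Subgroup G)) (hx : ∃ k : ℕ, orderOf x = p ^ k) (hiso : Cfsg.IsIsolated x) : x ∈ (P : Subgroup G) ⊓ Subgroup.centralizer ((P : Subgroup G) : Set G) ∧ Cfsg.IsStronglyClosed (Subgroup.zpowers x) (P : Subgroup G) ∧ Cfsg.IsWeaklyClosed (Subgroup.zpowers x) (P : Subgroup G) := by
  have hc := CfsgLib.Local.Isolated.comm_of_mem hiso P.2 hxP
  have hcen : x ∈ Subgroup.centralizer ((P : Subgroup G) : Set G) :=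
    Subgroup.mem_centralizer_iff.2 hc
  have hsc : Cfsg.IsStronglyClosed (Subgroup.zpowers x) (P : Subgroup G) := by
    refine ⟨Subgroup.zpowers_le.2 hxP, ?_⟩
    intro y hy g hg
    obtain ⟨i, rfl⟩ := Subgroup.mem_zpowers_iff.1 hy
    have h1 : x ∈ Subgroup.centralizer ({g * x ^ i * g⁻¹} : Set G) := by
      rw [Subgroup.mem_centralizer_singleton_iff]
      exact (hc _ hg).symm
    have h2 : g * x * g⁻¹ ∈ Subgroup.centralizer ({g * x ^ i * g⁻¹} : Set G) := by
      rw [Subgroup.mem_centralizer_singleton_iff]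
      have e : x * x ^ i = x ^ i * x := ((Commute.refl x).zpow_right i).eq
      calc (g * x * g⁻¹) * (g * x ^ i * g⁻¹) = g * (x * x ^ i) * g⁻¹ := by group
        _ = (g * x ^ i * g⁻¹) * (g * x * g⁻¹) := by rw [e]; group
    obtain ⟨n, hn, e⟩ := CfsgLib.Local.Isolated.exists_conj_in (zpowers_pgroup hx) hiso h1 h2
    rw [Subgroup.mem_centralizer_singleton_iff] at hn
    have e2 : (n * g) * x ^ i * (n * g)⁻¹ = x ^ i := by
      rw [← conj_zpow, e]
    have e3 : g * x ^ i * g⁻¹ = x ^ i := by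
      calc g * x ^ i * g⁻¹ = g * x ^ i * g⁻¹ * n * n⁻¹ := by group
        _ = n * (g * x ^ i * g⁻¹) * n⁻¹ := by rw [hn]
        _ = (n * g) * x ^ i * (n * g)⁻¹ := by group
        _ = x ^ i := e2
    rw [e3]
    exact hy
  refine ⟨⟨hxP, hcen⟩, hsc, Subgroup.zpowers_le.2 hxP, ?_⟩
  intro g hg
  rw [MonoidHom.map_zpowers] at hg ⊢
  have h1 := CfsgLib.Local.Isolated.eq_of_mem hiso P.2 hxP (hg (Subgroup.mem_zpowers _))
  simp only [MulEquiv.coe_toMonoidHom, MulAut.conj_apply]
  rw [h1]

end Cfsg.Agent.S2968
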