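import Cfsg.Statements.S2971
import Cfsg.Agent.Lib.LocalIsolated
import Cfsg.Agent.Lib.CoreTransfer

set_option autoImplicit false
open Cfsg

namespace Cfsg.Agent.S2971

theorem zpowers_pgroup {G : Type*} [Group G] {p : ℕ} [Fact p.Prime] {x : G}
    (hx : orderOf x = p) : IsPGroup p ↥(Subgroup.zpowers x) :=
  IsPGroup.of_card (n := 1) (by rw [Nat.card_zpowers, hx, pow_one])

theorem ne_one {G : Type*} [Group G] {p : ℕ} [hp : Fact p.Prime] {x : G}
    (hx : orderOf x = p) : x ≠ 1 := fun h => by
  rw [h, orderOf_one] at hx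
  exact hp.out.ne_one hx.symm


/-- Let G be a finite group and p an odd prime such that G has p-rank at most 1 (no elementary abelian subgroup of order p²). If x ∈ G is an isolated element of order p, then x is central modulo the largest normal subgroup of G of order prime to p. -/
theorem result {G : Type*} [Group G] [Finite G] {p : ℕ} [Fact p.Prime] (hp : p ≠ 2) (hrk : Cfsg.PRankLE p 1 G) (x : G) (hx : orderOf x = p) (hiso : Cfsg.IsIsolated x) : Cfsg.InZStar p x := by
  have hcyc : ∀ P : Sylow p G, IsCyclic ↥(P : Subgroup G) := fun P =>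
    CfsgLib.Local.Isolated.isCyclic_of_pRankLE_one hp hrk P.2
  obtain ⟨P, N, hN, hc⟩ := CfsgLib.Local.Isolated.hasNormalPComplement (zpowers_pgroup hx) hiso
    (ne_one hx) hcyc
  have hle : N ≤ Cfsg.pPrimeCore p G := by
    refine CfsgLib.Core.le_pPrimeCore hN ?_
    rw [← hc.index_eq_card]
    exact (((Fact.out : p.Prime).coprime_iff_not_dvd).2 P.not_dvd_index).symm
  intro g
  apply hle
  haveI := hN
  rw [← QuotientGroup.eq_one_iff]
  have hcq : IsCyclic (G ⧸ N) := by
    haveI := hcyc P
    exact isCyclic_of_surjective ((QuotientGroup.mk' N).comp (P : Subgroup G).subtype) (by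
      intro q
      obtain ⟨y, rfl⟩ := QuotientGroup.mk_surjective q
      have hy := (hc.sup_eq_top).ge (Subgroup.mem_top y)
      obtain ⟨n, hn, s, hs, rfl⟩ := Subgroup.mem_sup_of_normal_left.1 hy
      exact ⟨⟨s, hs⟩, by simp [(QuotientGroup.eq_one_iff n).2 hn]⟩)
  simp only [QuotientGroup.mk_mul, QuotientGroup.mk_inv]
  rw [hcq.isMulCommutative.is_comm.comm (QuotientGroup.mk g : G ⧸ N) (QuotientGroup.mk x)]
  group

end Cfsg.Agent.S2971
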