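import Cfsg.Statements.S2972
import Cfsg.Agent.Lib.LocalIsolated

set_option autoImplicit false
open Cfsg

namespace Cfsg.Agent.S2972

theorem zpowers_pgroup {G : Type*} [Group G] {p : ℕ} [Fact p.Prime] {x : G}
    (hx : orderOf x = p) : IsPGroup p ↥(Subgroup.zpowers x) :=
  IsPGroup.of_card (n := 1) (by rw [Nat.card_zpowers, hx, pow_one])

theorem ne_one {G : Type*} [Group G] {p : ℕ} [hp : Fact p.Prime] {x : G}
    (hx : orderOf x = p) : x ≠ 1 := fun h => by
  rw [h, orderOf_one] at hx
  exact hp.out.ne_one hx.symm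

theorem normal_eq_top {G : Type*} [Group G] [Finite G] {p : ℕ} [Fact p.Prime] {x : G}
    (hxp : IsPGroup p ↥(Subgroup.zpowers x)) (hiso : Cfsg.IsIsolated x) (hnz : ¬ Cfsg.InZStar p x)
    (hmin : ∀ (H : Subgroup G) (hxH : x ∈ H), H ≠ ⊤ → Cfsg.InZStar p (⟨x, hxH⟩ : ↥H))
    (hO : Cfsg.pPrimeCore p G = ⊥) (hnc : x ∉ Subgroup.center G) (H : Subgroup G) (hxH : x ∈ H)
    (hHn : H.Normal) : H = ⊤ := by
  by_contra hne
  have hz := hmin H hxH hne
  have hcen : ∀ h ∈ H, h * x = x * h := by
    intro h hh
    have h1 := CfsgLib.Core.pPrimeCore_map_subtype_le hHn ⟨_, hz ⟨h, hh⟩, rfl⟩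
    rw [hO, Subgroup.mem_bot] at h1
    have h2 : h * x * h⁻¹ * x⁻¹ = 1 := h1
    calc h * x = (h * x * h⁻¹ * x⁻¹) * (x * h) := by group
      _ = x * h := by rw [h2, one_mul]
  apply hnc
  rw [Subgroup.mem_center_iff]
  intro g
  have hg : g * x * g⁻¹ ∈ H := hHn.conj_mem x hxH g
  have := hiso g (hcen _ hg).symm
  calc g * x = (g * x * g⁻¹) * g := by group
    _ = x * g := by rw [this]

/-- The core of a quotient by a central `p`-subgroup pulls back into that subgroup. -/
theorem central_preimage {G : Type*} [Group G] [Finite G] {p : ℕ} [hp : Fact p.Prime]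
    {N : Subgroup G} [N.Normal] (hNp : IsPGroup p ↥N) (hNc : N ≤ Subgroup.center G)
    (hO : Cfsg.pPrimeCore p G = ⊥) {m : G}
    (hm : m ∈ (Cfsg.pPrimeCore p (G ⧸ N)).comap (QuotientGroup.mk' N)) : m ∈ N := by
  set M := (Cfsg.pPrimeCore p (G ⧸ N)).comap (QuotientGroup.mk' N) with hM
  haveI := CfsgLib.Core.normal_pPrimeCore (G := G ⧸ N) p
  haveI hMn : M.Normal := inferInstance
  have hNM : N ≤ M := fun y hy => by
    rw [hM, Subgroup.mem_comap, QuotientGroup.mk'_apply, (QuotientGroup.eq_one_iff y).2 hy]
    exact one_mem _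
  obtain ⟨a, ha⟩ := hNp.exists_card_eq
  have hidx : (Nat.card ↥(N.subgroupOf M)).Coprime (N.subgroupOf M).index := by
    rw [Nat.card_congr (Subgroup.subgroupOfEquivOfLe hNM).toEquiv, ha]
    have h2 : N.relIndex M = Nat.card (Cfsg.pPrimeCore p (G ⧸ N)) := by
      conv_lhs => rw [← QuotientGroup.ker_mk' N]
      rw [Subgroup.relIndex_ker, hM,
        Subgroup.map_comap_eq_self_of_surjective (QuotientGroup.mk'_surjective _)]
    show (p ^ a).Coprime (N.relIndex M)
    rw [h2]
    exact (CfsgLib.Core.coprime_card_pPrimeCore p).symm.pow_left a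
  -- the `p'`-elements of `M` form a normal subgroup
  obtain ⟨K, hK⟩ := Subgroup.exists_right_complement'_of_coprime hidx
  have hKn : K.Normal := by
    refine ⟨fun k hk g => ?_⟩
    obtain ⟨⟨⟨n, hn⟩, ⟨j, hj⟩⟩, e⟩ := hK.2 g
    simp only at e
    have hnc : ∀ y, n * y = y * n := fun y =>
      Subtype.ext ((Subgroup.mem_center_iff.1 (hNc (Subgroup.mem_subgroupOf.1 hn)) y).symm)
    rw [← e, show n * j * k * (n * j)⁻¹ = n * (j * k * j⁻¹) * n⁻¹ by group, hnc, mul_inv_cancel_right]
    exact mul_mem (mul_mem hj hk) (inv_mem hj)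
  have hKc : (Nat.card K).Coprime p := by
    rw [← hK.symm.index_eq_card]
    have h2 : N.relIndex M = Nat.card (Cfsg.pPrimeCore p (G ⧸ N)) := by
      conv_lhs => rw [← QuotientGroup.ker_mk' N]
      rw [Subgroup.relIndex_ker, hM,
        Subgroup.map_comap_eq_self_of_surjective (QuotientGroup.mk'_surjective _)]
    show (N.relIndex M).Coprime p
    rw [h2]
    exact CfsgLib.Core.coprime_card_pPrimeCore p
  have h3 := (Subgroup.map_mono (CfsgLib.Core.le_pPrimeCore hKn hKc) :
    K.map M.subtype ≤ (Cfsg.pPrimeCore p ↥M).map M.subtype).trans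
      (CfsgLib.Core.pPrimeCore_map_subtype_le hMn)
  rw [hO, le_bot_iff, Subgroup.map_eq_bot_iff_of_injective _ M.subtype_injective] at h3
  subst h3
  have htop : N.subgroupOf M = ⊤ := Subgroup.isComplement'_bot_right.1 hK
  exact Subgroup.mem_subgroupOf.1 (htop.ge (Subgroup.mem_top ⟨m, hm⟩))

set_option maxHeartbeats 1000000 in
/-- The minimal normal subgroup is simple. -/
theorem isSimple_of_minimal {G : Type*} [Group G] [Finite G] {p : ℕ} [hp : Fact p.Prime] {x : G}
    (hx : orderOf x = p) (hxp : IsPGroup p ↥(Subgroup.zpowers x)) (hiso : Cfsg.IsIsolated x)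
    (hO : Cfsg.pPrimeCore p G = ⊥) (hnc : x ∉ Subgroup.center G) (D : Subgroup G) (hDn : D.Normal)
    (hD : D ≠ ⊥) (hmin : ∀ N : Subgroup G, N.Normal → N ≠ ⊥ → D ≤ N)
    (htop : D ⊔ Subgroup.zpowers x = ⊤) : IsSimpleGroup ↥D := by
  haveI : Nontrivial ↥D := (Subgroup.nontrivial_iff_ne_bot D).2 hD
  refine ⟨fun L₀ hL₀ => or_iff_not_imp_left.2 fun hne₀ => ?_⟩
  obtain ⟨L, hLle, ⟨hLn, hLne⟩, hLmin⟩ := (Set.toFinite {L : Subgroup ↥D | L.Normal ∧ L ≠ ⊥}).exists_le_minimal
    (a := L₀) ⟨hL₀, hne₀⟩
  -- `L₁` is the image in `G`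
  set L₁ := L.map D.subtype with hL₁
  have hL₁D : L₁ ≤ D := Subgroup.map_subtype_le L
  have hDL : D ≤ Subgroup.normalizer (L₁ : Set G) := by
    intro d hd
    rw [Subgroup.mem_normalizer_iff]
    intro y
    constructor
    · rintro ⟨l, hl, rfl⟩
      exact ⟨_, hLn.conj_mem l hl ⟨d, hd⟩, rfl⟩
    · rintro ⟨l, hl, e⟩
      refine ⟨_, hLn.conj_mem l hl (⟨d, hd⟩ : ↥D)⁻¹, ?_⟩
      simp only [Subgroup.coe_subtype] at e
      simp [e, mul_assoc]
  by_cases hxL : x ∈ Subgroup.normalizer (L₁ : Set G)
  · have hLG : L₁.Normal := Subgroup.normalizer_eq_top_iff.1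
      (top_unique (htop ▸ sup_le hDL (Subgroup.zpowers_le.2 hxL)))
    have hne1 : L₁ ≠ ⊥ := by
      rwa [hL₁, Ne, Subgroup.map_eq_bot_iff_of_injective _ D.subtype_injective]
    have h1 : D ≤ L₁ := hmin L₁ hLG hne1
    have h2 : L = ⊤ := by
      rw [eq_top_iff]
      intro d _
      obtain ⟨l, hl, e⟩ := h1 d.2
      rwa [← Subtype.ext e]
    exact top_unique (h2 ▸ hLle)
  exfalso
  -- the images of `L` under powers of `x` commute pairwise
  let φ : MulAut ↥D := MulAut.conjNormal x
  have hφ : ∀ (i : ℕ) (d : ↥D), ((φ ^ i) d : G) = x ^ i * d * (x ^ i)⁻¹ := by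
    intro i
    induction i with
    | zero => intro d; simp
    | succ i ih =>
      intro d
      rw [pow_succ', MulAut.mul_apply, pow_succ' x]
      show x * ((φ ^ i) d : G) * x⁻¹ = _
      rw [ih]; group
  have hperiod : φ ^ p = 1 := by
    ext d
    rw [hφ, ← hx, pow_orderOf_eq_one]
    simp
  set T : ℕ → Subgroup ↥D := fun i => L.map (φ ^ i).toMonoidHom with hT
  have hTn : ∀ i, (T i).Normal := fun i => hLn.map _ (φ ^ i).surjective
  have hTmin : ∀ i j, T i ≠ T j → ∀ a ∈ T i, ∀ b ∈ T j, Commute a b := by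
    intro i j hij
    have hdis : Disjoint (T i) (T j) := by
      rw [disjoint_iff]
      by_contra hb
      haveI := hTn i
      haveI := hTn j
      apply hij
      have key : ∀ k, ∀ M : Subgroup ↥D, M.Normal → M ≠ ⊥ → M ≤ T k → M = T k := by
        intro k M hMn hMb hMT
        have h3 : M.map (φ ^ k)⁻¹.toMonoidHom ≤ L := by
          refine (Subgroup.map_mono hMT).trans ?_
          rw [hT, Subgroup.map_map]
          rintro _ ⟨l, hl, rfl⟩
          simpa using hl
        have h4 : M.map (φ ^ k)⁻¹.toMonoidHom ≠ ⊥ := by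
          rwa [Ne, Subgroup.map_eq_bot_iff_of_injective _ (φ ^ k)⁻¹.injective]
        have h5 := hLmin ⟨hMn.map _ (φ ^ k)⁻¹.surjective, h4⟩ h3
        refine le_antisymm hMT ?_
        rintro _ ⟨l, hl, rfl⟩
        obtain ⟨m, hm, e⟩ := h5 hl
        rw [← e]
        simpa using hm
      have hn2 : (T i ⊓ T j).Normal := inferInstance
      rw [← key i _ hn2 hb inf_le_left, key j _ hn2 hb inf_le_right]
    intro a ha b hb
    exact Subgroup.commute_of_normal_of_disjoint _ _ (hTn i) (hTn j) hdis a b ha hb
  -- distinct indices below `p` give distinct images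
  have hT0 : ∀ i, i % p ≠ 0 → T i ≠ T 0 := by
    intro i hi he
    apply hxL
    have hxi : x ^ i ∈ Subgroup.normalizer (L₁ : Set G) := by
      rw [Subgroup.mem_normalizer_iff_map_conj_eq (H := L₁)]
      apply le_antisymm
      · rintro _ ⟨_, ⟨l, hl, rfl⟩, rfl⟩
        have hli : (φ ^ i) l ∈ T 0 := he ▸ ⟨l, hl, rfl⟩
        obtain ⟨l', hl', e⟩ := hli
        exact ⟨l', hl', by simpa [hφ, ← map_pow] using congrArg Subtype.val e⟩
      · rintro _ ⟨l, hl, rfl⟩
        have hli : l ∈ T i := he ▸ ⟨l, hl, by simp⟩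
        obtain ⟨l', hl', e⟩ := hli
        exact ⟨_, ⟨l', hl', rfl⟩, by simp [← e, hφ, ← map_pow]⟩
    have hxm : x ∈ Subgroup.zpowers (x ^ i) := by
      obtain ⟨m, hm⟩ := exists_pow_eq_self_of_coprime (n := i) (x := x) (by
        rw [hx]
        exact (((Fact.out : p.Prime).coprime_iff_not_dvd).2
          (fun hd => hi (Nat.mod_eq_zero_of_dvd hd))).symm)
      exact ⟨(m : ℤ), by simpa using hm⟩
    exact Subgroup.zpowers_le.2 hxi hxm
  -- an element of order `p` in `L`
  have hpL : p ∣ Nat.card L₁ := by
    by_contra hn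
    have hcopL : (Nat.card L).Coprime p := by
      rw [← Subgroup.card_map_of_injective D.subtype_injective]
      exact (((Fact.out : p.Prime).coprime_iff_not_dvd).2 hn).symm
    have h5 := (Subgroup.map_mono (CfsgLib.Core.le_pPrimeCore hLn hcopL) :
      L₁ ≤ (Cfsg.pPrimeCore p ↥D).map D.subtype).trans (CfsgLib.Core.pPrimeCore_map_subtype_le hDn)
    rw [hO, le_bot_iff, Subgroup.map_eq_bot_iff_of_injective _ D.subtype_injective] at h5
    exact hLne h5
  obtain ⟨⟨c₁, hc₁⟩, hcord⟩ := exists_prime_orderOf_dvd_card' p hpL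
  obtain ⟨c, hcL, rfl⟩ := hc₁
  rw [← Subgroup.orderOf_coe] at hcord
  change orderOf ((c : ↥D) : G) = p at hcord
  rw [Subgroup.orderOf_coe] at hcord
  -- `a` shifts by the product `d` of the images of `c`
  set f : ℕ → ↥D := fun i => (φ ^ i) c with hf
  have hfcomm : ∀ i j, Commute (f i) (f j) := by
    intro i j
    by_cases e : T i = T j
    · have hk : ∀ k, f k = f (k % p) := fun k => by
        simp only [hf]
        conv_lhs => rw [← Nat.mod_add_div k p, pow_add, pow_mul, hperiod, one_pow, mul_one]
      have hij : i % p = j % p := by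
        by_contra hne
        apply hT0 (i % p + (p - j % p)) ?_ ?_
        · have hi' := Nat.mod_lt i hp.out.pos
          have hj' := Nat.mod_lt j hp.out.pos
          intro h0
          obtain ⟨t, ht⟩ := Nat.dvd_of_mod_eq_zero h0
          have : t = 1 := by
            rcases Nat.lt_or_ge t 1 with h | h
            · interval_cases t; omega
            · rcases Nat.lt_or_ge 1 t with h' | h'
              · have : 2 * p ≤ p * t := by nlinarith
                omega
              · omega
          subst this; omega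
        · have hadd : ∀ a b, T (a + b) = (T b).map (φ ^ a).toMonoidHom := fun a b => by
            simp only [hT, Subgroup.map_map, pow_add]; rfl
          have hmod : ∀ k, T k = T (k % p) := fun k => by
            simp only [hT]
            conv_lhs => rw [← Nat.mod_add_div k p, pow_add, pow_mul, hperiod, one_pow, mul_one]
          have hj' := Nat.mod_lt j hp.out.pos
          rw [add_comm, hadd, ← hmod i, e, hmod j, ← hadd, show p - j % p + j % p = p by omega,
            hmod, Nat.mod_self]
      rw [hk i, hk j, hij]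
    · exact hTmin i j e _ ⟨c, hcL, rfl⟩ _ ⟨c, hcL, rfl⟩
  set E := Subgroup.closure (Set.range f) with hE
  haveI hEc : IsMulCommutative ↥E := Subgroup.isMulCommutative_closure (by
    rintro _ ⟨i, rfl⟩ _ ⟨j, rfl⟩; exact (hfcomm i j).eq)
  letI : CommGroup ↥E := { Subgroup.toGroup E with mul_comm := mul_comm' }
  let F : ℕ → ↥E := fun i => ⟨f i, Subgroup.subset_closure ⟨i, rfl⟩⟩
  set A : ↥E := ∏ i ∈ Finset.range p, F i ^ i with hA
  set B : ↥E := ∏ i ∈ Finset.range p, F (i + 1) ^ i with hB
  set d : ↥E := A * B⁻¹ with hd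
  have hcp : ∀ i, F i ^ p = 1 := fun i => Subtype.ext (by
    show f i ^ p = 1
    rw [hf, ← map_pow, ← hcord, pow_orderOf_eq_one, map_one])
  have hF0 : F p = F 0 := Subtype.ext (by simp [F, hf, hperiod])
  have hsum : d = ∏ i ∈ Finset.range p, F i := by
    have h1 : B * ∏ i ∈ Finset.range p, F (i + 1) = ∏ i ∈ Finset.range p, F (i + 1) ^ (i + 1) := by
      rw [hB, ← Finset.prod_mul_distrib]
      exact Finset.prod_congr rfl fun i _ => (pow_succ _ _).symm
    have h2 : ∏ i ∈ Finset.range p, F (i + 1) ^ (i + 1) = A := by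
      have := Finset.prod_range_succ' (fun i => F i ^ i) p
      rw [Finset.prod_range_succ, hcp p, mul_one] at this
      rw [hA, this]; simp
    have h3 : ∏ i ∈ Finset.range p, F (i + 1) = ∏ i ∈ Finset.range p, F i := by
      have ha := Finset.prod_range_succ' F p
      rw [Finset.prod_range_succ, hF0] at ha
      exact (mul_right_cancel ha).symm
    rw [hd, ← h2, ← h1, h3, mul_comm B, mul_inv_cancel_right]
  -- conjugating `A` by `x` gives `B`
  have hshift : x * ((A : ↥D) : G) * x⁻¹ = ((B : ↥D) : G) := by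
    have e1 : ((φ ^ 1) (A : ↥D)) = (B : ↥D) := by
      have e2 : ∀ n, (φ ^ 1) ((∏ i ∈ Finset.range n, F i ^ i : ↥E) : ↥D)
          = ((∏ i ∈ Finset.range n, F (i + 1) ^ i : ↥E) : ↥D) := by
        intro n
        induction n with
        | zero => simp
        | succ n ih =>
          rw [Finset.prod_range_succ, Finset.prod_range_succ, Subgroup.coe_mul, Subgroup.coe_mul,
            map_mul, ih, SubmonoidClass.coe_pow, SubmonoidClass.coe_pow, map_pow]
          simp [F, hf, add_comm n 1, pow_add]
      exact e2 p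
    rw [← e1, hφ, pow_one]
  have hdfix : x * ((d : ↥D) : G) * x⁻¹ = ((d : ↥D) : G) := by
    have e1 : (φ ^ 1) ((∏ i ∈ Finset.range p, F i : ↥E) : ↥D)
        = ((∏ i ∈ Finset.range p, F (i + 1) : ↥E) : ↥D) := by
      have e2 : ∀ n, (φ ^ 1) ((∏ i ∈ Finset.range n, F i : ↥E) : ↥D)
          = ((∏ i ∈ Finset.range n, F (i + 1) : ↥E) : ↥D) := by
        intro n
        induction n with
        | zero => simp
        | succ n ih =>
          rw [Finset.prod_range_succ, Finset.prod_range_succ, Subgroup.coe_mul, Subgroup.coe_mul,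
            map_mul, ih]
          simp [F, hf, add_comm n 1, pow_add]
      exact e2 p
    have h3 : ∏ i ∈ Finset.range p, F (i + 1) = ∏ i ∈ Finset.range p, F i := by
      have ha := Finset.prod_range_succ' F p
      rw [Finset.prod_range_succ, hF0] at ha
      exact (mul_right_cancel ha).symm
    rw [hsum]
    conv_rhs => rw [← h3, ← e1, hφ, pow_one]
  have hd1 : d ≠ 1 := by
    intro h
    have h0 : f 0 ∈ T 0 := ⟨c, hcL, rfl⟩
    set C := Subgroup.centralizer (T 0 : Set ↥D) with hC
    have hrest : ∀ i ∈ Finset.range p, i ≠ 0 → f i ∈ C := by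
      intro i hi hi0
      rw [hC, Subgroup.mem_centralizer_iff]
      intro u hu
      refine (hTmin 0 i (Ne.symm (hT0 i ?_)) u hu (f i) ⟨c, hcL, rfl⟩).eq
      rwa [Nat.mod_eq_of_lt (Finset.mem_range.1 hi)]
    have hfC : f 0 ∈ C := by
      rw [hsum, ← Finset.mul_prod_erase _ _ (Finset.mem_range.2 hp.out.pos)] at h
      have hmem : ∏ i ∈ (Finset.range p).erase 0, F i ∈ C.subgroupOf E :=
        Subgroup.prod_mem _ fun i hi => Subgroup.mem_subgroupOf.2
          (hrest i (Finset.mem_of_mem_erase hi) (Finset.ne_of_mem_erase hi))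
      have e := eq_inv_of_mul_eq_one_left h
      have h6 : F 0 ∈ C.subgroupOf E := e ▸ inv_mem hmem
      exact Subgroup.mem_subgroupOf.1 h6
    -- so `L` meets the centre of `D`
    have hcz : f 0 ∈ Subgroup.center ↥D := by
      set M := T 0 ⊓ C with hM
      haveI := hTn 0
      haveI : C.Normal := inferInstance
      haveI hMn : M.Normal := inferInstance
      have hMne : M ≠ ⊥ := fun hb => by
        have : f 0 ∈ M := ⟨h0, hfC⟩
        rw [hb, Subgroup.mem_bot] at this
        simp only [hf, pow_zero, MulAut.one_apply] at this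
        rw [this, orderOf_one] at hcord
        exact hp.out.ne_one hcord.symm
      have hML : M ≤ L := fun u hu => by
        obtain ⟨l, hl, rfl⟩ := hu.1
        simpa using hl
      have hLC : L ≤ C := (hLmin ⟨hMn, hMne⟩ hML).trans inf_le_right
      have hTC : ∀ i, f 0 ∈ Subgroup.centralizer (T i : Set ↥D) := by
        intro i
        by_cases e : T i = T 0
        · rw [e]; exact hfC
        · rw [Subgroup.mem_centralizer_iff]
          intro u hu
          exact (hTmin i 0 e u hu _ h0).eq
      -- the join of the `T i` is everything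
      set W := ⨆ i, T i with hW
      haveI hWn : (W.map D.subtype).Normal := by
        rw [← Subgroup.normalizer_eq_top_iff, eq_top_iff, ← htop]
        refine sup_le ?_ (Subgroup.zpowers_le.2 ?_)
        · have hWN : W.Normal := by
            refine ⟨fun w hw g => ?_⟩
            have key : W ≤ W.comap (MulAut.conj g).toMonoidHom := iSup_le fun i v hv =>
              (le_iSup T i) ((hTn i).conj_mem v hv g)
            exact key hw
          intro g hg
          rw [Subgroup.mem_normalizer_iff_map_conj_eq (H := W.map D.subtype)]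
          apply le_antisymm
          · rintro _ ⟨_, ⟨w, hw, rfl⟩, rfl⟩
            exact ⟨_, hWN.conj_mem w hw ⟨g, hg⟩, by simp⟩
          · rintro _ ⟨w, hw, rfl⟩
            exact ⟨_, ⟨_, hWN.conj_mem w hw (⟨g, hg⟩ : ↥D)⁻¹, rfl⟩, by simp [mul_assoc]⟩
        · rw [Subgroup.mem_normalizer_iff_map_conj_eq (H := W.map D.subtype)]
          have hWφ : W.map φ.toMonoidHom = W := by
            have hstep : ∀ i, (T i).map φ.toMonoidHom = T (i + 1) := fun i => by
              simp only [hT, Subgroup.map_map, pow_succ']; rfl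
            refine le_antisymm ?_ ?_
            · rw [hW, Subgroup.map_iSup]
              exact iSup_le fun i => (hstep i).le.trans (le_iSup T (i + 1))
            · refine iSup_le fun i => ?_
              have hper : T (i + p) = T i := by
                simp only [hT, pow_add, hperiod, mul_one]
              rw [← hper, show i + p = (i + p - 1) + 1 by have := hp.out.pos; omega, ← hstep]
              exact Subgroup.map_mono (le_iSup T _)
          conv_rhs => rw [← hWφ]
          rw [Subgroup.map_map, Subgroup.map_map]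
          rfl
      have hWtop : W = ⊤ := by
        have hne : W.map D.subtype ≠ ⊥ := by
          rw [Ne, Subgroup.map_eq_bot_iff_of_injective _ D.subtype_injective]
          intro hb
          apply hLne
          rw [eq_bot_iff, ← hb]
          refine le_trans ?_ (le_iSup T 0)
          intro l hl
          exact ⟨l, hl, by simp⟩
        rw [eq_top_iff]
        intro w _
        obtain ⟨w', hw', e⟩ := hmin _ hWn hne w.2
        rwa [← Subtype.ext e]
      rw [Subgroup.mem_center_iff]
      intro u
      have hu : u ∈ Subgroup.centralizer ({f 0} : Set ↥D) := by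
        refine (iSup_le fun i => ?_ : W ≤ _) (hWtop.ge (Subgroup.mem_top u))
        intro v hv
        rw [Subgroup.mem_centralizer_singleton_iff]
        exact Subgroup.mem_centralizer_iff.1 (hTC i) v hv
      exact Subgroup.mem_centralizer_singleton_iff.1 hu
    have hZ : ((Subgroup.center ↥D).map D.subtype).Normal :=
      CfsgLib.Core.map_subtype_normal_of_characteristic hDn inferInstance
    have hZne : (Subgroup.center ↥D).map D.subtype ≠ ⊥ := by
      rw [Ne, Subgroup.map_eq_bot_iff_of_injective _ D.subtype_injective]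
      intro hb
      rw [hb, Subgroup.mem_bot] at hcz
      simp only [hf, pow_zero, MulAut.one_apply] at hcz
      rw [hcz, orderOf_one] at hcord
      exact hp.out.ne_one hcord.symm
    have hDab : ∀ a b : ↥D, a * b = b * a := fun a b => by
      obtain ⟨z, hz, e⟩ := hmin _ hZ hZne b.2
      rw [← Subtype.ext e]
      exact Subgroup.mem_center_iff.1 hz a
    -- then every subgroup of `D` is normalised by `D`, and `c` would commute with everything
    have hLT : L = ⊤ → False := fun hl => by
      apply hxL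
      rw [hL₁, hl, ← MonoidHom.range_eq_map, Subgroup.range_subtype]
      exact hDn.conj_mem |> fun _ => by
        rw [Subgroup.normalizer_eq_top_iff.2 hDn]; trivial
    -- an abelian `D` is a `p`-group, so `x` is central
    haveI : IsMulCommutative ↥D := ⟨⟨hDab⟩⟩
    obtain ⟨Q⟩ := (inferInstance : Nonempty (Sylow p ↥D))
    haveI : (Q : Subgroup ↥D).Characteristic := Sylow.characteristic_of_normal Q inferInstance
    have hQn := CfsgLib.Core.map_subtype_normal_of_characteristic hDn
      (inferInstance : (Q : Subgroup ↥D).Characteristic)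
    have hQne : (Q : Subgroup ↥D).map D.subtype ≠ ⊥ := by
      rw [Ne, Subgroup.map_eq_bot_iff_of_injective _ D.subtype_injective]
      intro hb
      have := Q.not_dvd_index
      rw [hb, Subgroup.index_bot] at this
      exact this (hcord ▸ orderOf_dvd_natCard c)
    have h12 : IsPGroup p ↥D := (Q.2.map _).to_le (hmin _ hQn hQne)
    have h13 : IsPGroup p ↥(D ⊔ Subgroup.zpowers x) := h12.to_sup_of_normal_left hxp
    rw [htop] at h13
    apply hnc
    rw [Subgroup.mem_center_iff]
    intro g
    exact CfsgLib.Local.Isolated.comm_of_mem hiso h13 (Subgroup.mem_top x) g (Subgroup.mem_top g)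
  -- now a conjugate of `x` commutes with it
  set a : G := ((A : ↥D) : G)
  have hconj : a * x * a⁻¹ = ((d : ↥D) : G) * x := by
    rw [hd, Subgroup.coe_mul, Subgroup.coe_inv, Subgroup.coe_mul, Subgroup.coe_inv, ← hshift]
    show a * x * a⁻¹ = a * (x * a * x⁻¹)⁻¹ * x
    group
  have hcm : Commute x (a * x * a⁻¹) := by
    rw [hconj]
    have : x * ((d : ↥D) : G) = ((d : ↥D) : G) * x := by
      calc x * ((d : ↥D) : G) = (x * ((d : ↥D) : G) * x⁻¹) * x := by group
        _ = _ := by rw [hdfix]
    exact (show Commute x _ from this).mul_right (Commute.refl x)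
  have := hiso a hcm
  rw [hconj, mul_eq_right] at this
  exact hd1 (Subtype.ext (Subtype.ext this))


/-- Let G be a finite group, p a prime and x ∈ G an isolated element of order p (the only conjugate of x commuting with x is x) which is not central modulo the largest normal subgroup of order prime to p, while x is central modulo the largest normal subgroup of order prime to p in every proper subgroup containing x, and the image of x is so in every quotient of G by a nontrivial normal subgroup (a minimal counterexample to the Z*_p statement). Then the derived subgroup G' is a non-abelian simple group and G = G'⟨x⟩. -/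
theorem result {G : Type*} [Group G] [Finite G] {p : ℕ} [Fact p.Prime] (x : G) (hx : orderOf x = p) (hiso : Cfsg.IsIsolated x) (hnz : ¬ Cfsg.InZStar p x) (hmin : ∀ (H : Subgroup G) (hxH : x ∈ H), H ≠ ⊤ → Cfsg.InZStar p (⟨x, hxH⟩ : ↥H)) (hquot : ∀ (N : Subgroup G) [N.Normal], N ≠ ⊥ → Cfsg.InZStar p (QuotientGroup.mk x : G ⧸ N)) : IsSimpleGroup ↥(commutator G) ∧ ¬ IsMulCommutative ↥(commutator G) ∧ commutator G ⊔ Subgroup.zpowers x = ⊤ := by
  have hxp := zpowers_pgroup hx
  have hx1 := ne_one hx
  have hO : Cfsg.pPrimeCore p G = ⊥ := by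
    by_contra h
    haveI := CfsgLib.Core.normal_pPrimeCore (G := G) p
    have hz := hquot _ h
    apply hnz
    intro g
    rw [← QuotientGroup.eq_one_iff]
    have := hz (QuotientGroup.mk g)
    rw [CfsgLib.Core.pPrimeCore_quotient_pPrimeCore, Subgroup.mem_bot] at this
    exact this
  have hnc : x ∉ Subgroup.center G := by
    intro hc
    apply hnz
    intro g
    rw [Subgroup.mem_center_iff.1 hc g]
    simpa using (Cfsg.pPrimeCore p G).one_mem
  have hprop : ∀ (H : Subgroup G) (hxH : x ∈ H), H.Normal → H = ⊤ :=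
    fun H hxH hHn => normal_eq_top hxp hiso hnz hmin hO hnc H hxH hHn
  have hX : ∀ N : Subgroup G, N.Normal → N ≠ ⊥ → N ⊔ Subgroup.zpowers x = ⊤ := by
    intro N hN hNb
    by_contra htop
    set H := N ⊔ Subgroup.zpowers x with hH
    have hxH : x ∈ H := Subgroup.mem_sup_right (Subgroup.mem_zpowers x)
    have hz := hmin H hxH htop
    haveI := hN
    -- commutators of `N` with `x` are killed
    have hcomm : ∀ n ∈ N, n * x = x * n := by
      intro n hn
      have h1 := hz ⟨n, Subgroup.mem_sup_left hn⟩
      set c : ↥H := (⟨n, Subgroup.mem_sup_left hn⟩ : ↥H) * ⟨x, hxH⟩ *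
        (⟨n, Subgroup.mem_sup_left hn⟩ : ↥H)⁻¹ * (⟨x, hxH⟩ : ↥H)⁻¹ with hc
      have h2 : (c : G) ∈ N := by
        show n * x * n⁻¹ * x⁻¹ ∈ N
        have e : n * x * n⁻¹ * x⁻¹ = n * (x * n⁻¹ * x⁻¹) := by group
        rw [e]
        exact N.mul_mem hn (hN.conj_mem _ (N.inv_mem hn) x)
      -- the part of the core inside `N` is normal in `G`
      set K := (Cfsg.pPrimeCore p ↥H).map H.subtype ⊓ N with hK
      have hKle : K ≤ Cfsg.pPrimeCore p G := by
        have hKN : (K.subgroupOf N).Normal := by
          refine ⟨fun k hk y => ?_⟩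
          rw [Subgroup.mem_subgroupOf] at hk ⊢
          refine Subgroup.mem_inf.2 ⟨?_, ((y * k * y⁻¹ : ↥N)).2⟩
          obtain ⟨k', hk', e⟩ := (Subgroup.mem_inf.1 hk).1
          haveI := CfsgLib.Core.normal_pPrimeCore (G := ↥H) p
          refine ⟨⟨y, Subgroup.mem_sup_left y.2⟩ * k' * (⟨y, Subgroup.mem_sup_left y.2⟩ : ↥H)⁻¹,
            ‹(Cfsg.pPrimeCore p ↥H).Normal›.conj_mem k' hk' _, ?_⟩
          simp [show (k' : G) = k from e]
        have hKc : (Nat.card (K.subgroupOf N)).Coprime p := by
          rw [Nat.card_congr (Subgroup.subgroupOfEquivOfLe (show K ≤ N from inf_le_right)).toEquiv]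
          refine Nat.Coprime.coprime_dvd_left (Subgroup.card_dvd_of_le (show K ≤ _ from inf_le_left)) ?_
          rw [Subgroup.card_subtype]
          exact CfsgLib.Core.coprime_card_pPrimeCore p
        have h3 := CfsgLib.Core.le_pPrimeCore hKN hKc
        intro k hk
        exact CfsgLib.Core.pPrimeCore_map_subtype_le hN
          ⟨⟨k, (Subgroup.mem_inf.1 hk).2⟩, h3 (Subgroup.mem_subgroupOf.2 hk), rfl⟩
      have h4 : (c : G) ∈ Cfsg.pPrimeCore p G :=
        hKle (Subgroup.mem_inf.2 ⟨⟨c, h1, rfl⟩, h2⟩)
      rw [hO, Subgroup.mem_bot] at h4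
      have h5 : n * x * n⁻¹ * x⁻¹ = 1 := h4
      calc n * x = (n * x * n⁻¹ * x⁻¹) * (x * n) := by group
        _ = x * n := by rw [h5, one_mul]
    have hC : Subgroup.centralizer (N : Set G) = ⊤ :=
      hprop _ (Subgroup.mem_centralizer_iff.2 hcomm) inferInstance
    have hNc : N ≤ Subgroup.center G := by
      intro n hn
      rw [Subgroup.mem_center_iff]
      intro g
      exact (Subgroup.mem_centralizer_iff.1 (hC.ge (Subgroup.mem_top g)) n hn).symm
    -- so `N` is a central `p`-group
    haveI : IsMulCommutative ↥N := ⟨⟨fun a b => Subtype.ext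
      (Subgroup.mem_center_iff.1 (hNc b.2) a)⟩⟩
    have hNp : IsPGroup p ↥N := by
      rw [IsPGroup.iff_card]
      refine ⟨_, (Nat.eq_prime_pow_of_unique_prime_dvd Nat.card_pos.ne' fun {q} hq hqd => ?_)⟩
      by_contra hqp
      haveI := Fact.mk hq
      obtain ⟨y, hy⟩ := exists_prime_orderOf_dvd_card' q hqd
      haveI hzn : (Subgroup.zpowers (y : G)).Normal := ⟨fun a ha g => by
        rw [Subgroup.mem_center_iff.1 (hNc (Subgroup.zpowers_le.2 y.2 ha)) g, mul_inv_cancel_right]
        exact ha⟩
      have h6 := CfsgLib.Core.le_pPrimeCore (p := p) hzn (by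
        rw [Nat.card_zpowers, Subgroup.orderOf_coe, hy]
        exact (Nat.coprime_primes hq Fact.out).2 hqp)
      rw [hO, le_bot_iff, Subgroup.zpowers_eq_bot] at h6
      rw [← Subgroup.orderOf_coe, h6, orderOf_one] at hy
      exact hq.ne_one hy.symm
    have hz2 := hquot N hNb
    apply hnc
    rw [Subgroup.mem_center_iff]
    intro g
    have h7 : g * x * g⁻¹ * x⁻¹ ∈ N := by
      have hmem : g * x * g⁻¹ * x⁻¹ ∈ (Cfsg.pPrimeCore p (G ⧸ N)).comap (QuotientGroup.mk' N) := by
        simpa [QuotientGroup.mk_mul, QuotientGroup.mk_inv] using hz2 (QuotientGroup.mk g)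
      exact central_preimage hNp hNc hO hmem
    have h8 : Commute x (g * x * g⁻¹) := by
      have e : g * x * g⁻¹ = (g * x * g⁻¹ * x⁻¹) * x := by group
      rw [e]
      exact (show Commute x _ from (Subgroup.mem_center_iff.1 (hNc h7) x)).mul_right (Commute.refl x)
    calc g * x = (g * x * g⁻¹) * g := by group
      _ = x * g := by rw [hiso g h8]
  have hidx : ∀ N : Subgroup G, N.Normal → N ≠ ⊥ → commutator G ≤ N := by
    intro N hN hNb
    haveI := hN
    rw [commutator_def, Subgroup.commutator_le]
    intro a _ b _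
    rw [← QuotientGroup.eq_one_iff]
    have hgen : ∀ q : G ⧸ N, q ∈ Subgroup.zpowers (QuotientGroup.mk x : G ⧸ N) := by
      intro q
      obtain ⟨y, rfl⟩ := QuotientGroup.mk_surjective q
      obtain ⟨n, hn, w, hw, rfl⟩ :=
        Subgroup.mem_sup_of_normal_left.1 ((hX N hN hNb).ge (Subgroup.mem_top y))
      obtain ⟨i, rfl⟩ := Subgroup.mem_zpowers_iff.1 hw
      exact ⟨i, by simp [(QuotientGroup.eq_one_iff n).2 hn]⟩
    obtain ⟨i, hi⟩ := hgen (QuotientGroup.mk a)
    obtain ⟨j, hj⟩ := hgen (QuotientGroup.mk b)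
    simp only [commutatorElement_def, QuotientGroup.mk_mul, QuotientGroup.mk_inv, ← hi, ← hj]
    group
  have hGne : commutator G ≠ ⊥ := by
    intro h
    rw [commutator_eq_bot_iff_center_eq_top] at h
    exact hnc (h ▸ Subgroup.mem_top x)
  have htop := hX _ inferInstance hGne
  have hna : ¬ IsMulCommutative ↥(commutator G) := by
    intro hab
    -- an abelian minimal normal subgroup is a `p`-group, so the group is a `p`-group
    obtain ⟨P, hP⟩ := hxp.exists_le_sylow
    have hPn : ∀ Q : Sylow p ↥(commutator G),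
        ((Q : Subgroup ↥(commutator G)).map (commutator G).subtype).Normal := fun Q => by
      haveI := hab
      haveI : (Q : Subgroup ↥(commutator G)).Characteristic :=
        Sylow.characteristic_of_normal Q inferInstance
      exact CfsgLib.Core.map_subtype_normal_of_characteristic inferInstance inferInstance
    obtain ⟨Q⟩ := (inferInstance : Nonempty (Sylow p ↥(commutator G)))
    by_cases hQ : (Q : Subgroup ↥(commutator G)).map (commutator G).subtype = ⊥
    · have h9 := CfsgLib.Core.le_pPrimeCore (p := p) (N := commutator G) inferInstance (by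
        rw [Subgroup.map_eq_bot_iff_of_injective _ (Subgroup.subtype_injective _)] at hQ
        have h10 := Q.not_dvd_index
        rw [hQ, Subgroup.index_bot] at h10
        exact (((Fact.out : p.Prime).coprime_iff_not_dvd).2 h10).symm)
      rw [hO, le_bot_iff] at h9
      exact hGne h9
    · have h11 := hidx _ (hPn Q) hQ
      have h12 : IsPGroup p ↥(commutator G) := (Q.2.map _).to_le h11
      have h13 : IsPGroup p ↥(commutator G ⊔ Subgroup.zpowers x) := h12.to_sup_of_normal_left hxp
      rw [htop] at h13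
      apply hnc
      rw [Subgroup.mem_center_iff]
      intro g
      exact CfsgLib.Local.Isolated.comm_of_mem hiso h13 (Subgroup.mem_top x) g (Subgroup.mem_top g)
  refine ⟨?_, hna, htop⟩
  haveI : Nontrivial ↥(commutator G) := (Subgroup.nontrivial_iff_ne_bot _).2 hGne
  exact isSimple_of_minimal hx hxp hiso hO hnc (commutator G) inferInstance hGne hidx htop

end Cfsg.Agent.S2972
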