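import Cfsg.Statements.S2975
import Cfsg.Agent.Lib.LocalIsolated
import Cfsg.Agent.Lib.CoreTransfer

set_option autoImplicit false
open Cfsg

namespace Cfsg.Agent.S2975

theorem zpowers_pgroup {G : Type*} [Group G] {p : ℕ} [Fact p.Prime] {x : G}
    (hx : orderOf x = p) : IsPGroup p ↥(Subgroup.zpowers x) :=
  IsPGroup.of_card (n := 1) (by rw [Nat.card_zpowers, hx, pow_one])

theorem ne_one {G : Type*} [Group G] {p : ℕ} [hp : Fact p.Prime] {x : G}
    (hx : orderOf x = p) : x ≠ 1 := fun h => by
  rw [h, orderOf_one] at hx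
  exact hp.out.ne_one hx.symm

/-- A proper invariant `q`-subgroup grows inside its normalizer. -/
theorem grow {G : Type*} [Group G] [Finite G] {p q : ℕ} [hp : Fact p.Prime] [hq : Fact q.Prime]
    {x : G} (hx : orderOf x = p) (Q : Subgroup G) (hQ : IsPGroup q ↥Q)
    (hxQ : x ∈ Subgroup.normalizer (Q : Set G))
    (hz : Cfsg.InZStar p (⟨x, hxQ⟩ : ↥(Subgroup.normalizer (Q : Set G))))
    (S : Sylow q G) (hS : Q ≤ (S : Subgroup G)) (hne : (S : Subgroup G) ≠ Q) (hqp : q ≠ p) :
    ∃ V : Subgroup G, IsPGroup q ↥V ∧ (x ∈ Subgroup.normalizer (V : Set G) ∧ Q ≤ V) ∧ ¬ V ≤ Q := by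
  set H := Subgroup.normalizer (Q : Set G) with hH
  set x' : ↥H := ⟨x, hxQ⟩ with hx'
  set K := Cfsg.pPrimeCore p ↥H with hK
  haveI hKn : K.Normal := CfsgLib.Core.normal_pPrimeCore p
  set A := Subgroup.zpowers x' with hA
  have hQH : Q ≤ H := Subgroup.le_normalizer
  set Q' := Q.subgroupOf H with hQ'
  haveI hQ'n : Q'.Normal := Subgroup.normal_in_normalizer
  have hQ'p : IsPGroup q ↥Q' := hQ.comap_of_injective H.subtype H.subtype_injective
  have hQK : Q' ≤ K := by
    refine CfsgLib.Core.le_pPrimeCore hQ'n ?_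
    obtain ⟨k, hk⟩ := hQ'p.exists_card_eq
    rw [hk]
    exact ((Nat.coprime_primes hq.out hp.out).2 hqp).pow_left k
  have hcard : Nat.card A = p := by
    rw [hA, Nat.card_zpowers, hx', ← Subgroup.orderOf_coe]
    exact hx
  haveI : IsCyclic ↥A := isCyclic_of_prime_card hcard
  have hsol : Group.IsSolvable ↥A := by
    haveI : IsMulCommutative ↥A := inferInstance
    exact isSolvable_of_comm fun a b => mul_comm' a b
  have hcop : (Nat.card A).Coprime (Nat.card K) := by
    rw [hcard]; exact (CfsgLib.Core.coprime_card_pPrimeCore p).symm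
  obtain ⟨P, hQP, hPA⟩ := CfsgLib.Core.exists_invariant_sylow_ge q
    (A := A) (K := K) (U := Q') (fun a _ => by rw [Subgroup.normalizer_eq_top]; trivial) hcop
    (Or.inl hsol) hQK hQ'p (fun a _ => by rw [Subgroup.normalizer_eq_top]; trivial)
  set P' := (P : Subgroup ↥K).map K.subtype with hP'
  by_cases hbig : P' ≤ Q'
  swap
  · refine ⟨P'.map H.subtype, (P.2.map K.subtype).map _, ⟨?_, ?_⟩, ?_⟩
    · have h1 : x' ∈ Subgroup.normalizer (P' : Set ↥H) := hPA (Subgroup.mem_zpowers _)
      exact Subgroup.le_normalizer_map H.subtype ⟨x', h1, rfl⟩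
    · rw [← Subgroup.map_subgroupOf_eq_of_le hQH]
      exact Subgroup.map_mono hQP
    · intro hle
      apply hbig
      intro v hv
      exact Subgroup.mem_subgroupOf.2 (hle ⟨v, hv, rfl⟩)
  · -- the core has no more room: grow by an element centralising `x`
    have hPQ : P' = Q' := le_antisymm hbig hQP
    have hlt : Q < (S : Subgroup G) := lt_of_le_of_ne hS (Ne.symm hne)
    haveI : Group.IsNilpotent ↥(S : Subgroup G) := S.2.isNilpotent
    have hlt' : Q.subgroupOf (S : Subgroup G) < ⊤ := by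
      rw [lt_top_iff_ne_top, Ne, Subgroup.subgroupOf_eq_top]
      exact not_le_of_gt hlt
    obtain ⟨⟨u, huS⟩, hu, huQ⟩ :=
      SetLike.exists_of_lt (Group.normalizerCondition_of_isNilpotent _ hlt')
    rw [← Subgroup.subgroupOf_normalizer_eq hlt.le] at hu
    have huH : u ∈ H := hu
    have huQ' : (⟨u, huH⟩ : ↥H) ∉ Q' := huQ
    set u' : ↥H := ⟨u, huH⟩ with hu'
    obtain ⟨j, hj⟩ : ∃ j, u' ^ q ^ j = 1 := by
      obtain ⟨j, hj⟩ := S.2 ⟨u, huS⟩
      exact ⟨j, Subtype.ext (by simpa using congrArg Subtype.val hj)⟩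
    -- correct `u'` by an element of the core so that it commutes with `x'`
    set M := K ⊔ Subgroup.zpowers u' with hM
    have hxM : x' ∈ Subgroup.normalizer (M : Set ↥H) := by
      have key : ∀ i : ℤ, x' ^ i * u' * (x' ^ i)⁻¹ ∈ M := by
        intro i
        have h1 : (QuotientGroup.mk x' : ↥H ⧸ K) ∈ Subgroup.center (↥H ⧸ K) := by
          rw [Subgroup.mem_center_iff]
          intro w
          obtain ⟨w, rfl⟩ := QuotientGroup.mk_surjective w
          have h2 := (QuotientGroup.eq_one_iff (N := K) _).2 (hz w)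
          simp only [QuotientGroup.mk_mul, QuotientGroup.mk_inv] at h2
          calc (QuotientGroup.mk w : ↥H ⧸ K) * QuotientGroup.mk x'
              = (QuotientGroup.mk w * QuotientGroup.mk x' * (QuotientGroup.mk w)⁻¹ *
                  (QuotientGroup.mk x')⁻¹) * (QuotientGroup.mk x' * QuotientGroup.mk w) := by group
            _ = _ := by rw [h2, one_mul]
        have h3 : (QuotientGroup.mk (x' ^ i * u' * (x' ^ i)⁻¹ * u'⁻¹) : ↥H ⧸ K) = 1 := by
          simp only [QuotientGroup.mk_mul, QuotientGroup.mk_inv, QuotientGroup.mk_zpow]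
          rw [← Subgroup.mem_center_iff.1 ((Subgroup.center _).zpow_mem h1 i)]
          group
        have h4 := (QuotientGroup.eq_one_iff _).1 h3
        have : x' ^ i * u' * (x' ^ i)⁻¹ = (x' ^ i * u' * (x' ^ i)⁻¹ * u'⁻¹) * u' := by group
        rw [this]
        exact mul_mem (Subgroup.mem_sup_left h4)
          (Subgroup.mem_sup_right (Subgroup.mem_zpowers u'))
      apply (CfsgLib.Core.le_normalizer_iff_forall (A := Subgroup.zpowers x') (K := M)).2 ?_
        (Subgroup.mem_zpowers x')
      intro a ha m hm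
      obtain ⟨i, rfl⟩ := Subgroup.mem_zpowers_iff.1 ha
      obtain ⟨k, hk, w, hw, rfl⟩ := Subgroup.mem_sup_of_normal_left.1 hm
      obtain ⟨l, rfl⟩ := Subgroup.mem_zpowers_iff.1 hw
      have e : x' ^ i * (k * u' ^ l) * (x' ^ i)⁻¹
          = (x' ^ i * k * (x' ^ i)⁻¹) * (x' ^ i * u' * (x' ^ i)⁻¹) ^ l := by
        rw [conj_zpow]; group
      rw [e]
      exact mul_mem (Subgroup.mem_sup_left (hKn.conj_mem k hk _)) (M.zpow_mem (key i) l)
    have hcopM : (Nat.card A).Coprime (Nat.card M) := by
      have h1 := CfsgLib.Core.card_sup_dvd_mul (A := Subgroup.zpowers u') (K := K)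
        (fun a _ => by rw [Subgroup.normalizer_eq_top]; trivial)
      rw [sup_comm] at h1
      refine Nat.Coprime.coprime_dvd_right h1 ?_
      obtain ⟨m, -, hm⟩ := (Nat.dvd_prime_pow hq.out).1 (orderOf_dvd_of_pow_eq_one hj)
      rw [show Nat.card (Subgroup.zpowers u') = q ^ m by rw [Nat.card_zpowers, hm]]
      refine Nat.Coprime.mul_right ?_ hcop
      rw [hcard]
      exact ((Nat.coprime_primes hp.out hq.out).2 hqp.symm).pow_right m
    obtain ⟨R, hQR, hRA⟩ := CfsgLib.Core.exists_invariant_sylow_ge q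
      (A := A) (K := M) (U := Q') (Subgroup.zpowers_le.2 hxM) hcopM
      (Or.inl hsol) (hQK.trans le_sup_left) hQ'p
      (fun a _ => by rw [Subgroup.normalizer_eq_top]; trivial)
    set R' := (R : Subgroup ↥M).map M.subtype with hR'
    refine ⟨R'.map H.subtype, (R.2.map M.subtype).map _, ⟨?_, ?_⟩, ?_⟩
    · exact Subgroup.le_normalizer_map H.subtype ⟨x', hRA (Subgroup.mem_zpowers _), rfl⟩
    · rw [← Subgroup.map_subgroupOf_eq_of_le hQH]
      exact Subgroup.map_mono hQR
    · intro hle
      have hRQ : R' ≤ Q' := fun v hv => Subgroup.mem_subgroupOf.2 (hle ⟨v, hv, rfl⟩)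
      -- then every `q`-subgroup of `M` lies in `Q'`
      obtain ⟨T, hT⟩ := ((IsPGroup.of_card (p := q)
        (n := (Nat.dvd_prime_pow hq.out).1 (orderOf_dvd_of_pow_eq_one hj) |>.choose) (by
          rw [Nat.card_zpowers]
          exact ((Nat.dvd_prime_pow hq.out).1 (orderOf_dvd_of_pow_eq_one hj)).choose_spec.2) :
        IsPGroup q ↥(Subgroup.zpowers u')).comap_of_injective M.subtype M.subtype_injective).exists_le_sylow
      obtain ⟨m, hm⟩ := MulAction.exists_smul_eq ↥M T R
      apply huQ'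
      have huM : u' ∈ M := Subgroup.mem_sup_right (Subgroup.mem_zpowers u')
      have h1 : m * ⟨u', huM⟩ * m⁻¹ ∈ (R : Subgroup ↥M) := by
        rw [← hm, Sylow.coe_subgroup_smul]
        exact ⟨⟨u', huM⟩, hT (Subgroup.mem_zpowers u'), rfl⟩
      have h2 : (m : ↥H) * u' * (m : ↥H)⁻¹ ∈ Q' := hRQ ⟨_, h1, rfl⟩
      have := hQ'n.conj_mem _ h2 (m : ↥H)⁻¹
      simpa [mul_assoc] using this


/-- Let G be a finite group, p a prime and x ∈ G an isolated element of order p (the only conjugate of x commuting with x is x) which is not central modulo the largest normal subgroup of order prime to p, while x is central modulo the largest normal subgroup of order prime to p in every proper subgroup containing x, and the image of x is so in every quotient of G by a nontrivial normal subgroup (a minimal counterexample to the Z*_p statement). Then for every prime q, every q-subgroup of G that is normalized by x and maximal among the q-subgroups normalized by x is either trivial or a Sylow q-subgroup of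 G; and C_G(x) permutes the x-invariant Sylow q-subgroups of G transitively by conjugation. -/
theorem result {G : Type*} [Group G] [Finite G] {p : ℕ} [Fact p.Prime] (x : G) (hx : orderOf x = p) (hiso : Cfsg.IsIsolated x) (hnz : ¬ Cfsg.InZStar p x) (hmin : ∀ (H : Subgroup G) (hxH : x ∈ H), H ≠ ⊤ → Cfsg.InZStar p (⟨x, hxH⟩ : ↥H)) (hquot : ∀ (N : Subgroup G) [N.Normal], N ≠ ⊥ → Cfsg.InZStar p (QuotientGroup.mk x : G ⧸ N)) (q : ℕ) [Fact q.Prime] : (∀ Q : Subgroup G, IsPGroup q ↥Q → x ∈ Subgroup.normalizer (Q : Set G) → (∀ R : Subgroup G, IsPGroup q ↥R → x ∈ Subgroup.normalizer (R : Set G) → Q ≤ R → R = Q) → Q = ⊥ ∨ ∃ S : Sylow q G, (S : Subgroup G) = Q) ∧ (∀ S₁ S₂ : Sylow q G, x ∈ Subgroup.normalizer ((S₁ : Subgroup G) : Set G) → x ∈ Subgroup.normalizer ((S₂ : Subgroup G) : Set G) → ∃ c ∈ Subgroup.centralizer ({x} : Set G), (S₁ : Subgroup G).map (MulAut.conj c).toMonoidHom = (S₂ : Subgroup G)) := by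
  have hxp := zpowers_pgroup hx
  constructor
  · intro Q hQ hxQ hmax
    rcases eq_or_ne Q ⊥ with h | h
    · exact Or.inl h
    right
    obtain ⟨S, hS⟩ := hQ.exists_le_sylow
    rcases eq_or_ne q p with rfl | hqp
    · have hxQ' : x ∈ Q := by
        have h1 := hmax (Subgroup.zpowers x ⊔ Q)
          (hxp.to_sup_of_normal_right' hQ (Subgroup.zpowers_le.2 hxQ))
          (Subgroup.le_normalizer (Subgroup.mem_sup_left (Subgroup.mem_zpowers x))) le_sup_right
        exact h1.le (Subgroup.mem_sup_left (Subgroup.mem_zpowers x))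
      refine ⟨S, hmax _ S.2 ?_ hS⟩
      exact Subgroup.le_normalizer (hS hxQ')
    refine ⟨S, ?_⟩
    by_contra hne
    set H := Subgroup.normalizer (Q : Set G) with hH
    by_cases htop : H = ⊤
    · haveI hQn : Q.Normal := Subgroup.normalizer_eq_top_iff.1 (hH ▸ htop)
      have hz := hquot Q h
      apply hnz
      intro g
      set M := (Cfsg.pPrimeCore p (G ⧸ Q)).comap (QuotientGroup.mk' Q) with hM
      haveI := CfsgLib.Core.normal_pPrimeCore (G := G ⧸ Q) p
      refine CfsgLib.Core.le_pPrimeCore (N := M) inferInstance ?_ ?_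
      · have hQM : Q ≤ M := fun y hy => by
          rw [hM, Subgroup.mem_comap, QuotientGroup.mk'_apply, (QuotientGroup.eq_one_iff y).2 hy]
          exact one_mem _
        have h2 : Q.relIndex M = Nat.card (Cfsg.pPrimeCore p (G ⧸ Q)) := by
          conv_lhs => rw [← QuotientGroup.ker_mk' Q]
          rw [Subgroup.relIndex_ker, hM,
            Subgroup.map_comap_eq_self_of_surjective (QuotientGroup.mk'_surjective _)]
        obtain ⟨k, hk⟩ := hQ.exists_card_eq
        rw [← CfsgLib.Core.card_mul_relIndex hQM, h2, hk]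
        exact (((Nat.coprime_primes Fact.out Fact.out).2 hqp).pow_left k).mul_left
          (CfsgLib.Core.coprime_card_pPrimeCore p)
      · simpa [hM, QuotientGroup.mk_mul, QuotientGroup.mk_inv] using hz (QuotientGroup.mk g)
    · obtain ⟨V, hV1, hV2, hV3⟩ := grow hx Q hQ hxQ (hmin H hxQ htop)
        S hS hne hqp
      exact hV3 (hmax V hV1 hV2.1 hV2.2).le
  · intro S₁ S₂ h₁ h₂
    obtain ⟨g, hg⟩ := MulAction.exists_smul_eq G S₁ S₂
    have hg' : (S₂ : Subgroup G) = (S₁ : Subgroup G).map (MulAut.conj g).toMonoidHom := by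
      rw [← hg, Sylow.coe_subgroup_smul]; rfl
    have h3 : g * x * g⁻¹ ∈ Subgroup.normalizer ((S₂ : Subgroup G) : Set G) := by
      rw [hg', ← Subgroup.map_equiv_normalizer_eq]
      exact ⟨x, h₁, rfl⟩
    obtain ⟨n, hn, e⟩ := CfsgLib.Local.Isolated.exists_conj_in hxp hiso h₂ h3
    refine ⟨n * g, ?_, ?_⟩
    · rw [Subgroup.mem_centralizer_singleton_iff]
      calc n * g * x = (n * g * x * (n * g)⁻¹) * (n * g) := by group
        _ = x * (n * g) := by rw [e]
    · have e2 : (MulAut.conj (n * g)).toMonoidHom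
          = (MulAut.conj n).toMonoidHom.comp (MulAut.conj g).toMonoidHom := by
        ext y; simp [mul_assoc]
      rw [e2, ← Subgroup.map_map, ← hg']
      exact CfsgLib.Core.conj_smul_of_mem_normalizer hn

end Cfsg.Agent.S2975
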