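import Cfsg.Statements.S3076
import Cfsg.Agent.Lib.CentricCoreIndex
import Cfsg.Agent.Lib.CoreSystem

set_option autoImplicit false
open Cfsg

namespace Cfsg.Agent.S3076

/-- Let P be a Sylow p-subgroup of the finite group G and H ≤ P a subgroup with N_P(H) a Sylow p-subgroup of N_G(H). Let N be the preimage in N_G(H) of O_p(N_G(H)/C_G(H)). Then H is a Sylow p-subgroup of N if and only if C_P(H) ≤ H and O_{p',p}(N_G(H)) = H·C_G(H). -/
theorem result {G : Type*} [Group G] [Finite G] {p : ℕ} [Fact p.Prime]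
    (P : Sylow p G) (H : Subgroup G) (hHP : H ≤ (P : Subgroup G))
    (hSyl : ¬ p ∣ ((P : Subgroup G) ⊓ Subgroup.normalizer (H : Set G)).relIndex (Subgroup.normalizer (H : Set G)))
    [hC : ((Subgroup.centralizer (H : Set G)).subgroupOf (Subgroup.normalizer (H : Set G))).Normal] :
    (H ≤ ((Cfsg.pCore p (↥(Subgroup.normalizer (H : Set G)) ⧸
              (Subgroup.centralizer (H : Set G)).subgroupOf (Subgroup.normalizer (H : Set G)))).comap
            (QuotientGroup.mk' _)).map (Subgroup.normalizer (H : Set G)).subtype ∧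
      ¬ p ∣ H.relIndex (((Cfsg.pCore p (↥(Subgroup.normalizer (H : Set G)) ⧸
              (Subgroup.centralizer (H : Set G)).subgroupOf (Subgroup.normalizer (H : Set G)))).comap
            (QuotientGroup.mk' _)).map (Subgroup.normalizer (H : Set G)).subtype)) ↔
    ((P : Subgroup G) ⊓ Subgroup.centralizer (H : Set G) ≤ H ∧
      (Cfsg.pPrimePCore p ↥(Subgroup.normalizer (H : Set G))).map (Subgroup.normalizer (H : Set G)).subtype =
        H ⊔ Subgroup.centralizer (H : Set G)) := by
  set N := Subgroup.normalizer (H : Set G) with hN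
  set C := Subgroup.centralizer (H : Set G) with hCdef
  have hHN : H ≤ N := Subgroup.le_normalizer
  have hCN : C ≤ N := Subgroup.centralizer_le_normalizer _
  haveI : (H.subgroupOf N).Normal := Subgroup.normal_in_normalizer
  have hH' : IsPGroup p ↥(H.subgroupOf N) :=
    ((P.isPGroup'.to_le hHP)).comap_of_injective N.subtype N.subtype_injective
  have hC' : ∀ c, c ∈ C.subgroupOf N ↔ ∀ h ∈ H.subgroupOf N, h * c = c * h := fun c => by
    rw [Subgroup.mem_subgroupOf, hCdef, Subgroup.mem_centralizer_iff]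
    exact ⟨fun h x hx => Subtype.ext (h x hx), fun h x hx =>
      congrArg Subtype.val (h ⟨x, hHN hx⟩ hx)⟩
  have key := CfsgLib.CentricCore.criterion (H.subgroupOf N) (C.subgroupOf N) hH' hC'
    (((P : Subgroup G) ⊓ N).subgroupOf N)
    ((P.isPGroup'.to_le inf_le_left).comap_of_injective N.subtype N.subtype_injective)
    (fun h => hSyl (h.trans (CfsgLib.Core.relIndex_dvd_index_right_normal _ _)))
  have e : (H.subgroupOf N).map N.subtype = H := Subgroup.map_subgroupOf_eq_of_le hHN
  have e' : (C.subgroupOf N).map N.subtype = C := Subgroup.map_subgroupOf_eq_of_le hCN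
  set K := (Cfsg.pCore p (↥N ⧸ C.subgroupOf N)).comap (QuotientGroup.mk' (C.subgroupOf N)) with hK
  have h1 : H ≤ K.map N.subtype ↔ H.subgroupOf N ≤ K := by
    conv_lhs => rw [← e]
    exact Subgroup.map_le_map_iff_of_injective N.subtype_injective
  have h2 : H.relIndex (K.map N.subtype) = (H.subgroupOf N).relIndex K := by
    conv_lhs => rw [← e]
    exact Subgroup.relIndex_map_map_of_injective _ _ N.subtype_injective
  have h3 : (P : Subgroup G) ⊓ C ≤ H ↔
      ((P : Subgroup G) ⊓ N).subgroupOf N ⊓ C.subgroupOf N ≤ H.subgroupOf N :=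
    ⟨fun h x hx => h ⟨(Subgroup.mem_subgroupOf.1 hx.1).1, Subgroup.mem_subgroupOf.1 hx.2⟩,
      fun h x hx => Subgroup.mem_subgroupOf.1
        (h (x := ⟨x, hCN hx.2⟩) ⟨⟨hx.1, hCN hx.2⟩, hx.2⟩)⟩
  have h4 : (Cfsg.pPrimePCore p ↥N).map N.subtype = H ⊔ C ↔
      Cfsg.pPrimePCore p ↥N = H.subgroupOf N ⊔ C.subgroupOf N := by
    conv_lhs => rw [← e, ← e', ← Subgroup.map_sup]
    exact (Subgroup.map_injective N.subtype_injective).eq_iff
  rw [h1, h2, h3, h4]
  exact key

end Cfsg.Agent.S3076
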