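import Cfsg.Statements.S3494


set_option autoImplicit false
open Cfsg
open scoped Pointwise

namespace Cfsg.Agent.S3494

/-- Manning's Theorem on extremely primitive groups. Let a finite group G act faithfully and primitively on a finite set Ω with non-trivial point stabilizers, and suppose every point stabilizer G_α acts primitively on each of its orbits. Then G_α acts faithfully on each of its orbits other than {α}: an element of G_α fixing every point of one such orbit is the identity. -/
theorem result {G : Type*} [Group G] [Finite G] {Ω : Type*} [Fintype Ω] [MulAction G Ω] [FaithfulSMul G Ω] (hprim : MulAction.IsPreprimitive G Ω) (hH : ∀ α : Ω, MulAction.stabilizer G α ≠ ⊥) (hep : ∀ (α : Ω) (ω : Ω), MulAction.IsPreprimitive (MulAction.stabilizer G α) (MulAction.orbit (MulAction.stabilizer G α) ω))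
    (α ω : Ω) (hω : ω ≠ α) (h : MulAction.stabilizer G α) (hfix : ∀ x ∈ MulAction.orbit (MulAction.stabilizer G α) ω, h • x = x) : h = 1 := by
  classical
  obtain ⟨hv, hvA⟩ := h
  haveI := hprim
  haveI : Nontrivial Ω := ⟨⟨ω, α, hω⟩⟩
  set A := MulAction.stabilizer G α with hA
  have hAmax : ∀ x : Ω, IsCoatom (MulAction.stabilizer G x) :=
    fun x => MulAction.IsPreprimitive.isCoatom_stabilizer_of_isPreprimitive G x
  set O := MulAction.orbit A ω with hO
  -- the orbital digraph
  let E : Ω → Ω → Prop := fun x y => ∃ k : G, k • α = x ∧ k • ω = y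
  have hEmap : ∀ (k : G) x y, E x y → E (k • x) (k • y) := by
    rintro k x y ⟨l, rfl, rfl⟩
    exact ⟨k * l, mul_smul _ _ _, mul_smul _ _ _⟩
  have hOE : ∀ y, y ∈ O ↔ E α y := by
    intro y
    constructor
    · rintro ⟨g, rfl⟩; exact ⟨g, g.2, rfl⟩
    · rintro ⟨k, hk, rfl⟩; exact ⟨⟨k, hk⟩, rfl⟩
  have hin : ∀ y, Set.ncard {x | E x y} = O.ncard := by
    intro y
    obtain ⟨k, rfl⟩ := MulAction.exists_smul_eq G ω y
    have h1 : {x | E x (k • ω)} = (fun x => k • x) '' MulAction.orbit (MulAction.stabilizer G ω) α := by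
      ext x
      constructor
      · rintro ⟨l, rfl, hl⟩
        refine ⟨(k⁻¹ * l) • α, ⟨⟨k⁻¹ * l, ?_⟩, rfl⟩, by simp [smul_smul]⟩
        rw [MulAction.mem_stabilizer_iff, mul_smul, hl, inv_smul_smul]
      · rintro ⟨_, ⟨l, rfl⟩, rfl⟩
        exact ⟨k * l, mul_smul _ _ _, by rw [mul_smul, MulAction.mem_stabilizer_iff.1 l.2]⟩
    rw [h1, Set.ncard_image_of_injective _ (MulAction.injective k)]
    obtain ⟨g₀, hg₀⟩ := MulAction.exists_smul_eq G α ω
    have hc : Nat.card (MulAction.stabilizer G ω) = Nat.card A :=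
      (Nat.card_congr (MulAction.stabilizerEquivStabilizer hg₀.symm).toEquiv).symm
    have e1 := (MulAction.stabilizer A ω).index_mul_card
    have e2 := (MulAction.stabilizer (MulAction.stabilizer G ω) α).index_mul_card
    rw [MulAction.index_stabilizer] at e1 e2
    have h3 : Nat.card (MulAction.stabilizer A ω) = Nat.card (MulAction.stabilizer (MulAction.stabilizer G ω) α) :=
      Nat.card_congr
        { toFun := fun g => ⟨⟨g.1.1, g.2⟩, g.1.2⟩
          invFun := fun g => ⟨⟨g.1.1, g.2⟩, g.1.2⟩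
          left_inv := fun g => rfl
          right_inv := fun g => rfl }
    rw [hc, ← h3] at e2
    exact Nat.eq_of_mul_eq_mul_right Nat.card_pos (e2.trans e1.symm)
  have hOα : α ∉ O := by
    rintro ⟨g, hg⟩
    exact hω (by
      have h1 : (g : G) • ω = (g : G) • α := hg.trans (MulAction.mem_stabilizer_iff.1 g.2).symm
      exact MulAction.injective (g : G) h1)
  have huniq : ∀ y z, {x | E x y} = O → {x | E x z} = O → y = z := by
    intro y z hy hz
    by_contra hne
    obtain ⟨l, hl⟩ := MulAction.exists_smul_eq G y z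
    let St : Subgroup G := MulAction.stabilizer G O
    have hmove : ∀ (l : G) (y z : Ω), l • y = z → {x | E x y} = O → {x | E x z} = O → l ∈ St := by
      intro l y z hl hy hz
      rw [MulAction.mem_stabilizer_iff]
      refine Set.eq_of_subset_of_ncard_le ?_ (by rw [Set.ncard_smul_set]) (Set.toFinite _)
      rintro _ ⟨x, hx, rfl⟩
      rw [← hz, ← hl]
      rw [← hy] at hx
      exact hEmap l x y hx
    have h1 : MulAction.stabilizer G y ≤ St := fun g hg => hmove g y y hg hy hy
    have h2 : l ∈ St := hmove l y z hl hy hz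
    have htop : St = ⊤ := by
      rcases (hAmax y).le_iff.1 h1 with h | h
      · exact h
      · exact absurd ((h ▸ h2 : l ∈ MulAction.stabilizer G y)) (fun e => hne ((MulAction.mem_stabilizer_iff.1 e).symm.trans hl))
    obtain ⟨g, hg⟩ := MulAction.exists_smul_eq G ω α
    have h3 : g • O = O := MulAction.mem_stabilizer_iff.1 (htop.ge (Subgroup.mem_top g))
    exact hOα (h3 ▸ ⟨ω, MulAction.mem_orbit_self _, hg⟩)
  -- the kernel on the suborbit
  let K : Subgroup G :=
    { carrier := {k | k ∈ A ∧ ∀ x ∈ O, k • x = x}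
      one_mem' := ⟨one_mem _, fun x _ => one_smul _ x⟩
      mul_mem' := fun {a b} ha hb => ⟨mul_mem ha.1 hb.1, fun x hx => by rw [mul_smul, hb.2 x hx, ha.2 x hx]⟩
      inv_mem' := fun {a} ha => ⟨inv_mem ha.1, fun x hx => inv_smul_eq_iff.2 (ha.2 x hx).symm⟩ }
  have hKA : ∀ g ∈ A, ∀ k ∈ K, g * k * g⁻¹ ∈ K := by
    intro g hg k hk
    refine ⟨mul_mem (mul_mem hg hk.1) (inv_mem hg), fun x hx => ?_⟩
    have h1 : g⁻¹ • x ∈ O := by
      obtain ⟨m, rfl⟩ := hx
      exact ⟨⟨g⁻¹, inv_mem hg⟩ * m, by simp [mul_smul, Subgroup.smul_def]⟩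
    rw [mul_smul, mul_smul, hk.2 _ h1, smul_inv_smul]
  -- `K` fixes the suborbit of `ω` as well
  have hKω : ∀ k ∈ K, ∀ γ, E ω γ → k • γ = γ := by
    intro k hk γ hγ
    by_contra hmv
    haveI := hep α γ
    haveI : (K.subgroupOf A).Normal := ⟨fun d hd g => Subgroup.mem_subgroupOf.2 (hKA g g.2 d hd)⟩
    have htr := MulAction.IsQuasiPreprimitive.isPretransitive_of_normal (G := A) (X := MulAction.orbit A γ)
      (N := K.subgroupOf A) (fun hfx => hmv (by
        have := hfx.symm ▸ Set.mem_univ (⟨γ, MulAction.mem_orbit_self _⟩ : MulAction.orbit A γ)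
        exact congrArg Subtype.val (this ⟨⟨k, hk.1⟩, hk⟩)))
    have hall : ∀ g ∈ A, E ω (g • γ) := by
      intro g hg
      obtain ⟨m, hm⟩ := htr.exists_smul_eq ⟨γ, MulAction.mem_orbit_self _⟩ ⟨g • γ, ⟨⟨g, hg⟩, rfl⟩⟩
      have e : ((m : A) : G) • γ = g • γ := congrArg Subtype.val hm
      have := hEmap ((m : A) : G) ω γ hγ
      rwa [show ((m : A) : G) • ω = ω from (Subgroup.mem_subgroupOf.1 m.2).2 ω (MulAction.mem_orbit_self _), e] at this
    have hS : ∀ g ∈ A, {x | E x (g • γ)} = O := by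
      intro g hg
      refine (Set.eq_of_subset_of_ncard_le ?_ (hin _).le (Set.toFinite _)).symm
      rintro _ ⟨m, rfl⟩
      have := hEmap (m : G) ω _ (hall ((m : G)⁻¹ * g) (mul_mem (inv_mem m.2) hg))
      rwa [smul_smul, mul_inv_cancel_left] at this
    exact hmv (huniq _ _ (hS k hk.1) (by simpa using hS 1 A.one_mem))
  obtain ⟨g₀, hg₀⟩ := MulAction.exists_smul_eq G α ω
  have hg₀K : ∀ k ∈ K, g₀⁻¹ * k * g₀ ∈ K := by
    intro k hk
    refine ⟨?_, fun x hx => ?_⟩
    · rw [MulAction.mem_stabilizer_iff, mul_smul, mul_smul, hg₀, hk.2 ω (MulAction.mem_orbit_self _), ← hg₀, inv_smul_smul]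
    · have h1 := hEmap g₀ α x ((hOE x).1 hx)
      rw [hg₀] at h1
      rw [mul_smul, mul_smul, hKω k hk _ h1, inv_smul_smul]
  have hnorm : Subgroup.normalizer (K : Set G) = ⊤ := by
    have h1 : A ≤ Subgroup.normalizer (K : Set G) := fun g hg => Subgroup.mem_normalizer_iff.2 fun y =>
      ⟨fun hy => hKA g hg y hy, fun hy => by simpa [mul_assoc] using hKA g⁻¹ (inv_mem hg) _ hy⟩
    rcases (hAmax α).le_iff.1 h1 with h | h
    · exact h
    · exfalso
      have himg : K.map (MulAut.conj g₀⁻¹).toMonoidHom = K := by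
        refine Subgroup.eq_of_le_of_card_ge ?_ (Subgroup.card_map_of_injective (MulAut.conj g₀⁻¹).injective).ge
        rintro _ ⟨k, hk, rfl⟩
        simpa [MulAut.conj_apply] using hg₀K k hk
      have h2 : g₀⁻¹ ∈ Subgroup.normalizer (K : Set G) := Subgroup.mem_normalizer_iff.2 fun y => by
        constructor
        · intro hy; simpa [MulAut.conj_apply] using hg₀K y hy
        · intro hy
          rw [← himg] at hy
          obtain ⟨z, hz, e⟩ := hy
          have : z = y := (MulAut.conj g₀⁻¹).injective e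
          exact this ▸ hz
      rw [h, inv_mem_iff, MulAction.mem_stabilizer_iff, hg₀] at h2
      exact hω h2
  have hKn : K.Normal := Subgroup.normalizer_eq_top_iff.1 hnorm
  refine Subtype.ext (eq_of_smul_eq_smul fun y : Ω => ?_)
  obtain ⟨g, rfl⟩ := MulAction.exists_smul_eq G α y
  have hk : hv ∈ K := ⟨hvA, hfix⟩
  have := (hKn.conj_mem _ hk g⁻¹).1
  rw [MulAction.mem_stabilizer_iff, inv_inv, mul_smul, mul_smul, inv_smul_eq_iff] at this
  show hv • g • α = (1 : G) • g • α
  rw [one_smul]; exact this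

end Cfsg.Agent.S3494
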