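import Cfsg.Statements.S3497
import Mathlib
import Cfsg.Agent.S3494
import Cfsg.Agent.Lib.CoreFitting
import Cfsg.Agent.Lib.FgsAutFrattini

set_option autoImplicit false
open Cfsg

namespace Cfsg.Agent.S3497

/-- Automorphisms of an elementary abelian group act linearly. -/
theorem exists_addMonoidEnd_embedding {W : Type*} [AddCommGroup W] [Finite W] (p e : ℕ) [Fact p.Prime]
    [Module (ZMod p) W] (he : Nat.card W = p ^ e) :
    ∃ ψ : (AddMonoid.End W)ˣ →* GL (Fin e) (ZMod p), Function.Injective ψ := by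
  have hd : Module.finrank (ZMod p) W = e := by
    have h1 := Module.natCard_eq_pow_finrank (K := ZMod p) (V := W)
    rw [Nat.card_zmod, he] at h1
    exact (Nat.pow_right_injective (Fact.out : p.Prime).two_le h1).symm
  let b := Module.finBasisOfFinrankEq (ZMod p) W hd
  let χ : AddMonoid.End W →* Module.End (ZMod p) W :=
    { toFun := fun α => AddMonoidHom.toZModLinearMap p α
      map_one' := rfl
      map_mul' := fun α β => rfl }
  refine ⟨Units.map ((LinearMap.toMatrixAlgEquiv b).toAlgHom.toMonoidHom.comp χ), fun α β h => ?_⟩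
  have h1 : χ α = χ β := (LinearMap.toMatrixAlgEquiv b).injective (congrArg Units.val h)
  exact Units.ext (DFunLike.ext _ _ fun x => LinearMap.congr_fun h1 x)

/-- Automorphisms of a finite group of prime exponent embed in a linear group. -/
theorem exists_mulAut_embedding {V : Type*} [CommGroup V] [Finite V] (p e : ℕ) [Fact p.Prime]
    (he : Nat.card V = p ^ e) (hexp : ∀ x : V, x ^ p = 1) :
    ∃ ψ : MulAut V →* GL (Fin e) (ZMod p), Function.Injective ψ := by
  have hz : ∀ x : Additive V, p • x = 0 := fun x =>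
    Additive.toMul.injective (by simpa using hexp (Additive.toMul x))
  haveI : Finite (Additive V) := inferInstanceAs (Finite V)
  obtain ⟨ψ, hψ⟩ := @exists_addMonoidEnd_embedding (Additive V) _ _ p e _ (AddCommGroup.zmodModule hz) he
  let χ : MulAut V →* AddMonoid.End (Additive V) :=
    { toFun := fun α => MonoidHom.toAdditive (α : V ≃* V).toMonoidHom
      map_one' := rfl
      map_mul' := fun α β => rfl }
  refine ⟨ψ.comp χ.toHomUnits, fun α β h => ?_⟩
  have h1 := congrArg Units.val (hψ h)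
  exact MulEquiv.ext fun x => congrArg Additive.toMul (DFunLike.congr_fun h1 (Additive.ofMul x))

/-- Restrictions on the point stabilizer of an extremely primitive group. Let a finite group G act faithfully and primitively on a finite set Ω with point stabilizers H = G_α whose order is neither 1 nor a prime, each acting primitively on every one of its orbits. Then H has trivial center, the Fitting subgroup F(H) is an elementary abelian p-group for some prime p, and if F(H) ≠ 1 has order p ^ e then p ^ e divides the number of points minus one and H / F(H) embeds in GL_e(p) (there is a homomorphism from H to GL_e(p) with kernel exactly F(H)). -/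
theorem result {G : Type*} [Group G] [Finite G] {Ω : Type*} [Fintype Ω] [MulAction G Ω] [FaithfulSMul G Ω] (hprim : MulAction.IsPreprimitive G Ω) (hep : ∀ (α : Ω) (ω : Ω), MulAction.IsPreprimitive (MulAction.stabilizer G α) (MulAction.orbit (MulAction.stabilizer G α) ω)) (α : Ω)
    (hH1 : MulAction.stabilizer G α ≠ ⊥) (hHp : ¬ (Nat.card (MulAction.stabilizer G α)).Prime) :
    Subgroup.center (MulAction.stabilizer G α) = ⊥ ∧
    IsMulCommutative (Cfsg.fittingSubgroup (MulAction.stabilizer G α)) ∧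
    ∃ p e : ℕ, p.Prime ∧ Nat.card (Cfsg.fittingSubgroup (MulAction.stabilizer G α)) = p ^ e ∧
      (∀ x ∈ Cfsg.fittingSubgroup (MulAction.stabilizer G α), x ^ p = 1) ∧
      (Cfsg.fittingSubgroup (MulAction.stabilizer G α) ≠ ⊥ →
        p ^ e ∣ Fintype.card Ω - 1 ∧
        ∃ φ : MulAction.stabilizer G α →* GL (Fin e) (ZMod p), φ.ker = Cfsg.fittingSubgroup (MulAction.stabilizer G α)) := by
  classical
  haveI := hprim
  set H := MulAction.stabilizer G α with hHdef
  have hall : ∀ β : Ω, MulAction.stabilizer G β ≠ ⊥ := by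
    intro β hβ
    obtain ⟨g, hg⟩ := MulAction.exists_smul_eq G α β
    refine hH1 ?_
    rw [hHdef, ← Subgroup.card_eq_one, Nat.card_congr (MulAction.stabilizerEquivStabilizer hg.symm).toEquiv, hβ]
    exact Subgroup.card_bot
  have hman : ∀ (ω : Ω), ω ≠ α → ∀ h : H, (∀ x ∈ MulAction.orbit H ω, h • x = x) → h = 1 :=
    fun ω hω h hfix => Cfsg.Agent.S3494.result hprim hall hep α ω hω h hfix
  have htrans : ∀ A : Subgroup H, A.Normal → A ≠ ⊥ → ∀ ω, ω ≠ α → ∀ x ∈ MulAction.orbit H ω,
      ∃ a ∈ A, a • ω = x := by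
    intro A hA hA1 ω hω x hx
    haveI := hA
    haveI := hep α ω
    have htr := MulAction.IsQuasiPreprimitive.isPretransitive_of_normal (G := H) (X := MulAction.orbit H ω)
      (N := A) (fun hfx => hA1 ((Subgroup.eq_bot_iff_forall _).2 fun a ha => hman ω hω a fun y hy =>
        congrArg Subtype.val ((hfx.symm ▸ Set.mem_univ (⟨y, hy⟩ : MulAction.orbit H ω)) ⟨a, ha⟩)))
    obtain ⟨a, ha⟩ := htr.exists_smul_eq ⟨ω, MulAction.mem_orbit_self _⟩ ⟨x, hx⟩
    exact ⟨a, a.2, congrArg Subtype.val ha⟩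
  have hfree : ∀ A : Subgroup H, A.Normal → A ≠ ⊥ → ∀ ω, ω ≠ α → ∀ c : H,
      (∀ a ∈ A, a * c = c * a) → c • ω = ω → c = 1 := by
    intro A hA hA1 ω hω c hc hcω
    refine hman ω hω c fun x hx => ?_
    obtain ⟨a, ha, rfl⟩ := htrans A hA hA1 ω hω x hx
    rw [smul_smul, ← hc a ha, ← smul_smul, hcω]
  obtain ⟨ω₀, hω₀⟩ : ∃ ω : Ω, ω ≠ α := by
    by_contra hc
    push Not at hc
    refine hH1 ((Subgroup.eq_bot_iff_forall _).2 fun g _ => eq_of_smul_eq_smul fun y : Ω => ?_)
    rw [hc (g • y), hc ((1 : G) • y)]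
  have hcent : ∀ A : Subgroup H, A.Normal → A ≠ ⊥ → (∀ a ∈ A, ∀ b ∈ A, a * b = b * a) →
      Subgroup.centralizer (A : Set H) ≤ A := by
    intro A hA hA1 hab c hc
    obtain ⟨a, ha, e⟩ := htrans A hA hA1 ω₀ hω₀ (c • ω₀) (MulAction.mem_orbit _ c)
    have h1 : a⁻¹ * c = 1 := hfree A hA hA1 ω₀ hω₀ _ (fun b hb => by
      have h2 := Subgroup.mem_centralizer_iff.1 hc b hb
      rw [← mul_assoc, hab b hb a⁻¹ (A.inv_mem ha), mul_assoc, h2, mul_assoc]) (by rw [mul_smul, ← e, inv_smul_smul])
    rw [inv_mul_eq_one] at h1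
    exact h1 ▸ ha
  have hcenter : Subgroup.center H = ⊥ := by
    by_contra hZ
    have hZtop : ∀ g : H, g ∈ Subgroup.center H := fun g => hcent (Subgroup.center H) inferInstance hZ
      (fun a _ b hb => Subgroup.mem_center_iff.1 hb a)
      (Subgroup.mem_centralizer_iff.2 fun z hz => (Subgroup.mem_center_iff.1 hz g).symm)
    have hcomm : ∀ a b : H, a * b = b * a := fun a b => Subgroup.mem_center_iff.1 (hZtop b) a
    have hn1 : Nat.card H ≠ 1 := mt Subgroup.card_eq_one.1 hH1
    obtain ⟨q, hq, hqd⟩ := Nat.exists_prime_and_dvd hn1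
    haveI := Fact.mk hq
    obtain ⟨x, hx⟩ := exists_prime_orderOf_dvd_card' q hqd
    have hx1 : Subgroup.zpowers x ≠ ⊥ := fun h => by
      rw [Subgroup.zpowers_eq_bot] at h; rw [h, orderOf_one] at hx; exact hq.ne_one hx.symm
    have hn : (Subgroup.zpowers x).Normal := ⟨fun a ha g => by rw [hcomm g a, mul_inv_cancel_right]; exact ha⟩
    have htop : Subgroup.zpowers x = ⊤ := top_le_iff.1 fun g _ =>
      hcent _ hn hx1 (fun a _ b _ => hcomm a b) (Subgroup.mem_centralizer_iff.2 fun z _ => hcomm z g)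
    refine hHp ?_
    rw [← Subgroup.card_top (G := H), ← htop, Nat.card_zpowers, hx]
    exact hq
  set F := Cfsg.fittingSubgroup H with hFdef
  by_cases hF : F = ⊥
  · have hone : ∀ x : F, x = 1 := fun x => Subtype.ext (by
      have : (x : H) ∈ (⊥ : Subgroup H) := hF ▸ x.2
      simpa using this)
    refine ⟨hcenter, ⟨⟨fun a b => by rw [hone a, hone b]⟩⟩, 2, 0, Nat.prime_two, ?_, fun x hx => ?_, fun h => absurd hF h⟩
    · rw [pow_zero]; exact Subgroup.card_eq_one.2 hF
    · rw [show x = 1 by simpa using (hF ▸ hx : x ∈ (⊥ : Subgroup H))]; simp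
  haveI hFchar : F.Characteristic := CfsgLib.Core.characteristic_fittingSubgroup
  haveI : Group.IsNilpotent F := CfsgLib.Core.isNilpotent_fittingSubgroup
  haveI : Nontrivial F := (Subgroup.nontrivial_iff_ne_bot F).2 hF
  set Z : Subgroup H := (Subgroup.center F).map F.subtype
  have hZn : Z.Normal := ⟨by
    rintro _ ⟨z, hz, rfl⟩ g
    refine ⟨⟨g * (z : H) * g⁻¹, Subgroup.Normal.conj_mem inferInstance _ z.2 g⟩, Subgroup.mem_center_iff.mpr fun n => Subtype.ext ?_, rfl⟩
    have h := congrArg Subtype.val (Subgroup.mem_center_iff.mp hz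
      ⟨g⁻¹ * (n : H) * g, by simpa using Subgroup.Normal.conj_mem (inferInstance : F.Normal) _ n.2 g⁻¹⟩)
    show (n : H) * (g * (z : H) * g⁻¹) = g * (z : H) * g⁻¹ * n
    calc (n : H) * (g * (z : H) * g⁻¹) = g * ((g⁻¹ * (n : H) * g) * z) * g⁻¹ := by group
      _ = g * ((z : H) * (g⁻¹ * (n : H) * g)) * g⁻¹ := by rw [show (g⁻¹ * (n : H) * g) * z = z * (g⁻¹ * (n : H) * g) from h]
      _ = g * (z : H) * g⁻¹ * n := by group⟩
  have hZ1 : Z ≠ ⊥ := fun h => (Group.IsNilpotent.center_ne_bot (G := F))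
    ((Subgroup.map_eq_bot_iff_of_injective _ F.subtype_injective).1 h)
  have hFZ : F ≤ Z := by
    refine le_trans ?_ (hcent Z hZn hZ1 ?_)
    · intro f hf
      refine Subgroup.mem_centralizer_iff.2 ?_
      rintro _ ⟨z, hz, rfl⟩
      exact (congrArg Subtype.val (Subgroup.mem_center_iff.1 hz ⟨f, hf⟩)).symm
    · rintro _ ⟨a, ha, rfl⟩ _ ⟨b, hb, rfl⟩
      exact congrArg Subtype.val (Subgroup.mem_center_iff.1 hb a)
  haveI hFc : IsMulCommutative F := ⟨⟨fun a b => by
    obtain ⟨b', hb', e⟩ := hFZ b.2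
    have : b' = b := F.subtype_injective e
    exact Subgroup.mem_center_iff.1 (this ▸ hb') a⟩⟩
  have hFab : ∀ a ∈ F, ∀ b ∈ F, a * b = b * a := fun a ha b hb =>
    congrArg Subtype.val (hFc.is_comm.comm (⟨a, ha⟩ : F) ⟨b, hb⟩)
  have hCF : Subgroup.centralizer (F : Set H) ≤ F := hcent F inferInstance hF hFab
  have hmin : ∀ M : Subgroup H, M.Normal → M ≤ F → M = ⊥ ∨ M = F := by
    intro M hM hMF
    by_cases h : M = ⊥
    · exact Or.inl h
    refine Or.inr (le_antisymm hMF fun f hf => hcent M hM h (fun a ha b hb => hFab a (hMF ha) b (hMF hb)) ?_)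
    exact Subgroup.mem_centralizer_iff.2 fun m hm => hFab m (hMF hm) f hf
  haveI : Group.IsSolvable F := Group.isSolvable_of_comm fun a b => hFc.is_comm.comm a b
  obtain ⟨p, hp, hexp⟩ := CfsgLib.Core.exists_prime_pow_eq_one_of_minimal_normal hF hmin
  haveI := Fact.mk hp
  obtain ⟨e, he⟩ := IsPGroup.iff_card.1 (show IsPGroup p F from fun g => ⟨1, Subtype.ext (by simpa using hexp g g.2)⟩)
  refine ⟨hcenter, hFc, p, e, hp, he, hexp, fun _ => ⟨?_, ?_⟩⟩
  · -- free action off `α`
    have h1 : Fintype.card Ω - 1 = Nat.card {x : Ω // x ≠ α} := by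
      rw [Nat.card_eq_fintype_card, Fintype.card_subtype_compl]; simp
    rw [h1, ← he]
    letI : MulAction F {x : Ω // x ≠ α} :=
      { smul := fun f x => ⟨(((f : H)) : G) • x.1, fun h => x.2 (by
          have : (((f : H)) : G) • x.1 = (((f : H)) : G) • α := h.trans (MulAction.mem_stabilizer_iff.1 (f : H).2).symm
          exact MulAction.injective _ this)⟩
        one_smul := fun x => Subtype.ext (one_smul G x.1)
        mul_smul := fun f g x => Subtype.ext (mul_smul (((f : H)) : G) _ x.1) }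
    refine CfsgLib.FgsAutFrattini.card_dvd_of_free fun f x hfx => Subtype.ext ?_
    exact hfree F inferInstance hF x.1 x.2 f (fun a ha => hFab a ha f f.2) (congrArg Subtype.val hfx)
  · letI : CommGroup F := { (inferInstance : Group F) with mul_comm := fun a b => hFc.is_comm.comm a b }
    obtain ⟨ψ, hψ⟩ := exists_mulAut_embedding p e he (fun x : F => Subtype.ext (by simpa using hexp _ x.2))
    refine ⟨ψ.comp (MulAut.conjNormal : H →* MulAut F), ?_⟩
    ext h
    rw [MonoidHom.mem_ker, MonoidHom.comp_apply, map_eq_one_iff _ hψ]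
    constructor
    · intro h1
      refine hCF (Subgroup.mem_centralizer_iff.2 fun f hf => ?_)
      have h2 : h * f * h⁻¹ = f := congrArg Subtype.val (DFunLike.congr_fun h1 (⟨f, hf⟩ : F))
      conv_lhs => rw [← h2]
      group
    · intro hh
      refine MulEquiv.ext fun x => Subtype.ext ?_
      show h * (x : H) * h⁻¹ = (x : H)
      rw [hFab h hh _ x.2, mul_inv_cancel_right]

end Cfsg.Agent.S3497
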