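import Cfsg.Statements.S3501
import Cfsg.Agent.Lib.PermDerangement
import Cfsg.Agent.Lib.CharCN5

set_option autoImplicit false
open Cfsg MulAction

namespace Cfsg.Agent.S3501

set_option maxHeartbeats 1000000 in
/-- Let a finite group G act faithfully and primitively on a finite set Ω with at least two points, and suppose G is not almost simple (it has no non-abelian simple normal subgroup with trivial centralizer). Then the derangements of G form a single conjugacy class if and only if G is sharply 2-transitive (2-transitive, and no non-identity element fixes two points). -/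
theorem result {G : Type*} [Group G] [Finite G] {Ω : Type*} [Fintype Ω] [MulAction G Ω] [FaithfulSMul G Ω] (hΩ : 2 ≤ Fintype.card Ω) (hprim : MulAction.IsPreprimitive G Ω) (hnas : ¬ ∃ T : Subgroup G, T.Normal ∧ IsSimpleGroup T ∧ ¬ IsMulCommutative T ∧ Subgroup.centralizer (T : Set G) = ⊥) :
    Nat.card {c : ConjClasses G // ∃ g : G, ConjClasses.mk g = c ∧ ∀ ω : Ω, g • ω ≠ ω} = 1 ↔ (MulAction.IsMultiplyPretransitive G Ω 2 ∧ ∀ g : G, g ≠ 1 → ∀ a b : Ω, a ≠ b → g • a = a → g • b ≠ b) := by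
  classical
  haveI := hprim
  haveI : Nontrivial Ω := Fintype.one_lt_card_iff_nontrivial.1 hΩ
  haveI : Fintype G := Fintype.ofFinite G
  obtain ⟨a⟩ : Nonempty Ω := inferInstance
  haveI : Nontrivial G := by
    obtain ⟨a, b, hab⟩ := exists_pair_ne Ω
    obtain ⟨g, hg⟩ := exists_smul_eq G a b
    exact ⟨⟨g, 1, fun e => hab (by rw [← hg, e, one_smul])⟩⟩
  -- Burnside count
  have hcount : ∑ g : G, Fintype.card (fixedBy Ω g) = Fintype.card G := by
    haveI : Fintype (orbitRel.Quotient G Ω) := Fintype.ofFinite _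
    haveI : Subsingleton (orbitRel.Quotient G Ω) :=
      (pretransitive_iff_subsingleton_quotient G Ω).mp inferInstance
    haveI : Nonempty (orbitRel.Quotient G Ω) := ⟨Quotient.mk'' a⟩
    rw [sum_card_fixedBy_eq_card_orbits_mul_card_group G Ω,
      Fintype.card_eq_one_iff_nonempty_unique.2 ⟨uniqueOfSubsingleton (Quotient.mk'' a)⟩, one_mul]
  set D : Finset G := Finset.univ.filter fun g => ∀ ω : Ω, g • ω ≠ ω with hDdef
  have hfix1 : Fintype.card (fixedBy Ω (1 : G)) = Fintype.card Ω :=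
    Fintype.card_congr (Equiv.subtypeUnivEquiv fun x => one_smul G x)
  have hfix0 : ∀ g ∈ D, Fintype.card (fixedBy Ω g) = 0 := fun g hg =>
    Fintype.card_eq_zero_iff.2 ⟨fun x => (Finset.mem_filter.1 hg).2 x x.2⟩
  have hsplit : Fintype.card Ω + ∑ g ∈ (Finset.univ \ D).erase 1, Fintype.card (fixedBy Ω g) =
      ((Finset.univ \ D).erase 1).card + D.card + 1 := by
    have h1 : (1 : G) ∈ Finset.univ \ D :=
      Finset.mem_sdiff.2 ⟨Finset.mem_univ _, fun h => (Finset.mem_filter.1 h).2 a (one_smul G a)⟩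
    rw [Finset.card_erase_of_mem h1, Finset.card_sdiff_of_subset (Finset.subset_univ _), Finset.card_univ]
    have h2 : D.card ≤ Fintype.card G := Finset.card_le_univ D
    have h3 : 1 ≤ Fintype.card G - D.card := by
      rw [← Finset.card_univ, ← Finset.card_sdiff_of_subset (Finset.subset_univ _)]
      exact Finset.card_pos.2 ⟨1, h1⟩
    rw [← hcount, ← Finset.sum_sdiff (Finset.subset_univ D),
      Finset.sum_eq_zero hfix0, add_zero, ← Finset.add_sum_erase _ _ h1, hfix1] at h2 h3 ⊢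
    omega
  constructor
  swap
  · rintro ⟨h2, hfree⟩
    -- every non-identity element fixes at most one point
    have hD : D.card + 1 = Fintype.card Ω := by
      have : ∑ g ∈ (Finset.univ \ D).erase 1, Fintype.card (fixedBy Ω g) =
          ((Finset.univ \ D).erase 1).card := by
        rw [Finset.card_eq_sum_ones]
        refine Finset.sum_congr rfl fun g hg => ?_
        obtain ⟨hg1, hg2⟩ := Finset.mem_erase.1 hg
        have hgD : ¬ ∀ ω : Ω, g • ω ≠ ω := fun h =>
          (Finset.mem_sdiff.1 hg2).2 (Finset.mem_filter.2 ⟨Finset.mem_univ _, h⟩)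
        push Not at hgD
        obtain ⟨x, hx⟩ := hgD
        exact Fintype.card_eq_one_iff.2 ⟨⟨x, hx⟩, fun y => Subtype.ext (by
          by_contra hne
          exact hfree g hg1 x y (fun e => hne e.symm) hx y.2)⟩
      omega
    have hn2 : 2 ≤ Fintype.card Ω := hΩ
    obtain ⟨d, hd⟩ : D.Nonempty := Finset.card_pos.1 (by omega)
    have hdd := (Finset.mem_filter.1 hd).2
    -- order of the group
    have hGcard : Nat.card G = Fintype.card Ω * (Fintype.card Ω - 1) := by
      have h1 := card_orbit_mul_card_stabilizer_eq_card_group G a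
      have h3 : Fintype.card (orbit G a) = Fintype.card Ω :=
        Fintype.card_congr (Equiv.subtypeUnivEquiv fun x => by rw [orbit_eq_univ]; trivial)
      rw [h3] at h1
      rw [Nat.card_eq_fintype_card, ← h1]
      congr 1
      obtain ⟨b, hb⟩ := exists_ne a
      let f : stabilizer G a → {x : Ω // x ≠ a} := fun g => ⟨(g : G) • b, fun e => hb
        (MulAction.injective (g : G) (e.trans g.2.symm))⟩
      have hf : Function.Bijective f := by
        constructor
        · intro g g' hgg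
          have e : (g : G) • b = (g' : G) • b := congrArg Subtype.val hgg
          by_contra hne
          refine hfree ((g' : G)⁻¹ * g) (fun h => hne (Subtype.ext (inv_mul_eq_one.1 h).symm)) a b hb.symm ?_ ?_
          · exact (stabilizer G a).mul_mem ((stabilizer G a).inv_mem g'.2) g.2
          · rw [mul_smul, e, inv_smul_smul]
        · intro x
          obtain ⟨g, hga, hgb⟩ := is_two_pretransitive_iff.1 h2 hb.symm x.2.symm
          exact ⟨⟨g, hga⟩, Subtype.ext hgb⟩
      rw [Fintype.card_of_bijective hf, Fintype.card_subtype_compl, Fintype.card_subtype_eq]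
    have hC : Nat.card (Subgroup.centralizer ({d} : Set G)) ≤ Fintype.card Ω := by
      rw [← Nat.card_eq_fintype_card]
      refine Nat.card_le_card_of_injective (fun c => (c : G) • a) fun c c' h => ?_
      by_contra hne
      refine hfree ((c' : G)⁻¹ * c) (fun e => hne (Subtype.ext (inv_mul_eq_one.1 e).symm))
        a (d • a) (fun e => hdd a e.symm) ?_ ?_
      · have h' : (c : G) • a = (c' : G) • a := h
        rw [mul_smul, h', inv_smul_smul]
      · have h' : (c : G) • a = (c' : G) • a := h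
        have hcom : ((c' : G)⁻¹ * c) * d = d * ((c' : G)⁻¹ * c) :=
          Subgroup.mem_centralizer_singleton_iff.1 (mul_mem (inv_mem c'.2) c.2)
        rw [smul_smul, hcom, mul_smul, mul_smul, h', inv_smul_smul]
    have hsub : (ConjClasses.mk d).carrier.toFinset ⊆ D := by
      intro x hx
      rw [Set.mem_toFinset, ConjClasses.mem_carrier_iff_mk_eq, ConjClasses.mk_eq_mk_iff_isConj] at hx
      obtain ⟨g, rfl⟩ := isConj_iff.1 hx.symm
      refine Finset.mem_filter.2 ⟨Finset.mem_univ _, fun ω h => hdd (g⁻¹ • ω) ?_⟩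
      rw [mul_smul, mul_smul] at h
      rwa [← eq_inv_smul_iff] at h
    have hcl : (ConjClasses.mk d).carrier.toFinset = D := by
      refine Finset.eq_of_subset_of_card_le hsub ?_
      have h1 : Nat.card (orbit (ConjAct G) d) * Nat.card (stabilizer (ConjAct G) d) = Nat.card G := by
        rw [← Nat.card_prod, Nat.card_congr (orbitProdStabilizerEquivGroup (ConjAct G) d)]
        exact Nat.card_congr ConjAct.ofConjAct.toEquiv
      have h3 : Nat.card (stabilizer (ConjAct G) d) = Nat.card (Subgroup.centralizer ({d} : Set G)) := by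
        rw [ConjAct.stabilizer_eq_centralizer]; exact Nat.card_congr (Equiv.refl _)
      have h4 : (ConjClasses.mk d).carrier.toFinset.card = Nat.card (orbit (ConjAct G) d) := by
        rw [← Nat.card_eq_card_toFinset, ConjAct.orbit_eq_carrier_conjClasses]
      rw [h3, hGcard, ← h4] at h1
      by_contra hlt
      push Not at hlt
      have h5 := Nat.mul_le_mul (show (ConjClasses.mk d).carrier.toFinset.card + 1 ≤ Fintype.card Ω - 1 by omega) hC
      rw [Nat.add_mul, one_mul, h1] at h5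
      have h6 : Fintype.card Ω * (Fintype.card Ω - 1) = (Fintype.card Ω - 1) * Fintype.card Ω := Nat.mul_comm _ _
      have h7 : 0 < Nat.card (Subgroup.centralizer ({d} : Set G)) := Nat.card_pos
      omega
    rw [Nat.card_eq_one_iff_unique]
    refine ⟨⟨fun x y => Subtype.ext ?_⟩, ⟨⟨ConjClasses.mk d, d, rfl, hdd⟩⟩⟩
    obtain ⟨g, hg, hgd⟩ := x.2
    obtain ⟨g', hg', hgd'⟩ := y.2
    have key : ∀ g : G, (∀ ω : Ω, g • ω ≠ ω) → ConjClasses.mk g = ConjClasses.mk d := fun g h => by
      have : g ∈ (ConjClasses.mk d).carrier.toFinset := hcl ▸ Finset.mem_filter.2 ⟨Finset.mem_univ _, h⟩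
      exact ConjClasses.mem_carrier_iff_mk_eq.1 (Set.mem_toFinset.1 this)
    rw [← hg, ← hg', key g hgd, key g' hgd']
  intro h1
  rw [Nat.card_eq_one_iff_unique] at h1
  haveI := h1.1
  have hcls : ∀ g g' : G, (∀ ω : Ω, g • ω ≠ ω) → (∀ ω : Ω, g' • ω ≠ ω) → IsConj g g' := fun g g' h h' =>
    ConjClasses.mk_eq_mk_iff_isConj.1 (congrArg Subtype.val (Subsingleton.elim
      (⟨_, g, rfl, h⟩ : {c : ConjClasses G // ∃ g : G, ConjClasses.mk g = c ∧ ∀ ω : Ω, g • ω ≠ ω})
      ⟨_, g', rfl, h'⟩))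
  -- a subgroup all whose non-identity elements are derangements is abelian or absent
  have hpg : ∀ R : Subgroup G, R ≠ ⊥ → (∀ r ∈ R, r ≠ 1 → ∀ ω : Ω, r • ω ≠ ω) →
      Subgroup.center R ≠ ⊥ := by
    intro R hR hder
    haveI : Nontrivial R := (Subgroup.nontrivial_iff_ne_bot R).2 hR
    obtain ⟨q, hq, hqd⟩ := Nat.exists_prime_and_dvd (Finite.one_lt_card (α := R)).ne'
    haveI : Fact q.Prime := ⟨hq⟩
    obtain ⟨x, hx⟩ := exists_prime_orderOf_dvd_card' q hqd
    have hx1 : (x : G) ≠ 1 := fun e => by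
      rw [← Subgroup.orderOf_coe, e, orderOf_one] at hx; exact hq.ne_one hx.symm
    have hP : IsPGroup q R := by
      intro r
      by_cases hr : r = 1
      · exact ⟨0, by rw [hr, one_pow]⟩
      · refine ⟨1, ?_⟩
        obtain ⟨c, hc⟩ := isConj_iff.1 (hcls x r (hder x x.2 hx1) (hder r r.2 fun e => hr (Subtype.ext e)))
        have : orderOf (r : G) = q := by
          rw [← hc, show c * (x : G) * c⁻¹ = MulAut.conj c x from rfl, MulEquiv.orderOf_eq, Subgroup.orderOf_coe, hx]
        rw [pow_one]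
        exact Subtype.ext (by
          show (r : G) ^ q = 1
          rw [← this, pow_orderOf_eq_one])
    intro h
    have := hP.center_nontrivial
    rw [h] at this
    exact not_nontrivial _ this
  obtain ⟨N, ⟨hNn, hN1⟩, hmin⟩ := Set.Finite.exists_minimal
    (s := {R : Subgroup G | R.Normal ∧ R ≠ ⊥}) (Set.toFinite _) ⟨⊤, inferInstance, top_ne_bot⟩
  haveI := hNn
  have hminN : ∀ R : Subgroup G, R.Normal → R ≠ ⊥ → R ≤ N → R = N := fun R h1 h2 h3 =>
    le_antisymm h3 (hmin ⟨h1, h2⟩ h3)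
  have htrans : ∀ R : Subgroup G, R.Normal → R ≠ ⊥ → IsPretransitive R Ω := by
    intro R hR hne
    haveI := hR
    refine IsQuasiPreprimitive.isPretransitive_of_normal fun h => hne ?_
    rw [Subgroup.eq_bot_iff_forall]
    intro g hg
    refine eq_of_smul_eq_smul fun y : Ω => ?_
    rw [one_smul]
    exact (h.symm ▸ Set.mem_univ y : y ∈ fixedPoints R Ω) ⟨g, hg⟩
  haveI hNt := htrans N hNn hN1
  by_cases hab : IsMulCommutative N
  · -- affine type
    have hNreg : ∀ r ∈ N, ∀ ω : Ω, r • ω = ω → r = 1 := by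
      intro r hr ω hrω
      refine eq_of_smul_eq_smul fun y : Ω => ?_
      obtain ⟨s, rfl⟩ := exists_smul_eq N ω y
      show r • (s : G) • ω = (1 : G) • (s : G) • ω
      rw [smul_smul, show r * (s : G) = s * r from congrArg Subtype.val (hab.is_comm.comm (⟨r, hr⟩ : N) s),
        ← smul_smul, hrω, one_smul]
    haveI : Nontrivial N := (Subgroup.nontrivial_iff_ne_bot N).2 hN1
    obtain ⟨n₀, hn₀⟩ := exists_ne (1 : N)
    have hn₀' : (n₀ : G) ≠ 1 := fun e => hn₀ (Subtype.ext e)
    have hderN : ∀ r ∈ N, r ≠ 1 → ∀ ω : Ω, r • ω ≠ ω := fun r hr hr1 ω e => hr1 (hNreg r hr ω e)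
    have hDN : D = (Finset.univ.filter fun g => g ∈ N).erase 1 := by
      ext g
      simp only [hDdef, Finset.mem_filter, Finset.mem_univ, true_and, Finset.mem_erase]
      refine ⟨fun h => ⟨fun e => h a (by rw [e, one_smul]), ?_⟩, fun h => hderN g h.2 h.1⟩
      obtain ⟨c, hc⟩ := isConj_iff.1 (hcls n₀ g (hderN _ n₀.2 hn₀') h)
      exact hc ▸ hNn.conj_mem _ n₀.2 c
    have hNcard : Nat.card N = Fintype.card Ω := by
      rw [← Nat.card_eq_fintype_card]
      refine Nat.card_congr (Equiv.ofBijective (fun r : N => (r : G) • a) ⟨fun r r' h => ?_, fun y => ?_⟩)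
      · have h' : (r : G) • a = (r' : G) • a := h
        exact (inv_mul_eq_one.1 (Subtype.ext (hNreg ((r' : G)⁻¹ * r) (mul_mem (inv_mem r'.2) r.2) a
          (by rw [mul_smul, h', inv_smul_smul])) : r'⁻¹ * r = 1)).symm
      · exact exists_smul_eq N a y
    have hD : D.card + 1 = Fintype.card Ω := by
      rw [hDN, Finset.card_erase_of_mem (Finset.mem_filter.2 ⟨Finset.mem_univ _, one_mem N⟩),
        ← Fintype.card_subtype, ← Nat.card_eq_fintype_card, ← hNcard]
      exact Nat.sub_add_cancel Nat.card_pos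
    have hone : ∀ g ∈ (Finset.univ \ D).erase 1, Fintype.card (fixedBy Ω g) = 1 := by
      have hge : ∀ g ∈ (Finset.univ \ D).erase 1, 1 ≤ Fintype.card (fixedBy Ω g) := by
        intro g hg
        have hgD : ¬ ∀ ω : Ω, g • ω ≠ ω := fun h =>
          (Finset.mem_sdiff.1 (Finset.mem_erase.1 hg).2).2 (Finset.mem_filter.2 ⟨Finset.mem_univ _, h⟩)
        push Not at hgD
        obtain ⟨x, hx⟩ := hgD
        exact Fintype.card_pos_iff.2 ⟨⟨x, hx⟩⟩
      have heq : ∑ g ∈ (Finset.univ \ D).erase 1, (1 : ℕ) =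
          ∑ g ∈ (Finset.univ \ D).erase 1, Fintype.card (fixedBy Ω g) := by
        rw [← Finset.card_eq_sum_ones]; omega
      exact fun g hg => ((Finset.sum_eq_sum_iff_of_le hge).1 heq g hg).symm
    constructor
    · rw [is_two_pretransitive_iff]
      intro x y x' y' hxy hxy'
      obtain ⟨u, hu⟩ := exists_smul_eq G x a
      obtain ⟨v, hv⟩ := exists_smul_eq G x' a
      obtain ⟨r, hr⟩ := exists_smul_eq N a (u • y)
      obtain ⟨r', hr'⟩ := exists_smul_eq N a (v • y')
      have hr1 : (r : G) ≠ 1 := fun e => hxy (MulAction.injective u (hu.trans (by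
        show a = u • y
        rw [← hr]; show a = (r : G) • a; rw [e, one_smul])))
      have hr1' : (r' : G) ≠ 1 := fun e => hxy' (MulAction.injective v (hv.trans (by
        show a = v • y'
        rw [← hr']; show a = (r' : G) • a; rw [e, one_smul])))
      obtain ⟨c, hc⟩ := isConj_iff.1 (hcls r r' (hderN _ r.2 hr1) (hderN _ r'.2 hr1'))
      obtain ⟨m, hm⟩ := exists_smul_eq N a (c • a)
      have hcm : ((m : G)⁻¹ * c) • a = a := by
        rw [mul_smul, ← hm]; exact inv_smul_smul (m : G) a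
      have hcr : ((m : G)⁻¹ * c) * r * ((m : G)⁻¹ * c)⁻¹ = r' := by
        have hcom : (r' : G) * m = m * r' := congrArg Subtype.val (hab.is_comm.comm r' m)
        calc ((m : G)⁻¹ * c) * r * ((m : G)⁻¹ * c)⁻¹ = (m : G)⁻¹ * (c * r * c⁻¹) * m := by group
          _ = (m : G)⁻¹ * (r' * m) := by rw [hc, mul_assoc]
          _ = r' := by rw [hcom, inv_mul_cancel_left]
      refine ⟨v⁻¹ * ((m : G)⁻¹ * c) * u, by rw [mul_smul, mul_smul, hu, hcm, ← hv, inv_smul_smul], ?_⟩
      rw [mul_smul, mul_smul, ← hr]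
      show v⁻¹ • ((m : G)⁻¹ * c) • (r : G) • a = y'
      rw [smul_smul ((m : G)⁻¹ * c), show ((m : G)⁻¹ * c) * r = r' * ((m : G)⁻¹ * c) by rw [← hcr]; group,
        mul_smul, hcm]
      rw [show (r' : G) • a = v • y' from hr', inv_smul_smul]
    · intro g hg x y hxy hx hy
      have hgD : g ∉ D := fun h => (Finset.mem_filter.1 h).2 x hx
      have := hone g (Finset.mem_erase.2 ⟨hg, Finset.mem_sdiff.2 ⟨Finset.mem_univ _, hgD⟩⟩)
      obtain ⟨z, hz⟩ := Fintype.card_eq_one_iff.1 this
      exact hxy ((congrArg Subtype.val (hz ⟨x, hx⟩)).trans (congrArg Subtype.val (hz ⟨y, hy⟩)).symm)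
  exfalso
  set A := stabilizer G a with hAdef
  -- a minimal subgroup normalised by `N`
  obtain ⟨T, ⟨hTN, hT1, hTn⟩, hTmin⟩ := Set.Finite.exists_minimal
    (s := {R : Subgroup G | R ≤ N ∧ R ≠ ⊥ ∧ ∀ n ∈ N, ∀ r ∈ R, n * r * n⁻¹ ∈ R}) (Set.toFinite _)
    ⟨N, le_rfl, hN1, fun n hn r hr => N.mul_mem (N.mul_mem hn hr) (N.inv_mem hn)⟩
  have hminT : ∀ R : Subgroup G, R ≤ T → (∀ n ∈ N, ∀ r ∈ R, n * r * n⁻¹ ∈ R) → R = ⊥ ∨ R = T := by
    intro R hle hR
    by_cases h : R = ⊥
    · exact Or.inl h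
    · exact Or.inr (le_antisymm hle (hTmin ⟨hle.trans hTN, h, hR⟩ hle))
  let cT : G → Subgroup G := fun g => T.map (MulAut.conj g).toMonoidHom
  have mem_cT : ∀ g x : G, x ∈ cT g ↔ g⁻¹ * x * g ∈ T := by
    intro g x
    constructor
    · rintro ⟨y, hy, rfl⟩
      simpa [MulAut.conj_apply, mul_assoc] using hy
    · intro h
      exact ⟨_, h, by simp [MulAut.conj_apply, mul_assoc]⟩
  have conj_cT : ∀ g : G, ∀ x ∈ T, g * x * g⁻¹ ∈ cT g := fun g x hx => by
    rw [mem_cT]; simpa [mul_assoc] using hx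
  have cT_le : ∀ g, cT g ≤ N := by
    intro g x hx
    have := hNn.conj_mem _ (hTN ((mem_cT g x).1 hx)) g
    simpa [mul_assoc] using this
  have cT_norm : ∀ g, ∀ n ∈ N, ∀ x ∈ cT g, n * x * n⁻¹ ∈ cT g := by
    intro g n hn x hx
    rw [mem_cT] at hx ⊢
    have := hTn (g⁻¹ * n * g) (by simpa using hNn.conj_mem n hn g⁻¹) _ hx
    simpa [mul_assoc] using this
  have cT_card : ∀ g, Nat.card (cT g) = Nat.card T := fun g =>
    Subgroup.card_map_of_injective (MulAut.conj g).injective
  have cT_disj : ∀ g, cT g = T ∨ cT g ⊓ T = ⊥ := by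
    intro g
    rcases hminT (cT g ⊓ T) inf_le_right
      (fun n hn r hr => ⟨cT_norm g n hn r hr.1, hTn n hn r hr.2⟩) with h | h
    · exact Or.inr h
    · refine Or.inl (Subgroup.eq_of_le_of_card_ge ?_ (cT_card g).le).symm
      exact h ▸ inf_le_left
  have cT_comm : ∀ g, cT g ≠ T → ∀ x ∈ cT g, ∀ y ∈ T, x * y = y * x := by
    intro g hg x hx y hy
    have h0 := (cT_disj g).resolve_left hg
    have h1 : x * y * x⁻¹ * y⁻¹ ∈ cT g ⊓ T := by
      refine ⟨?_, T.mul_mem (hTn x (cT_le g hx) y hy) (T.inv_mem hy)⟩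
      have := cT_norm g y (hTN hy) x⁻¹ ((cT g).inv_mem hx)
      show x * y * x⁻¹ * y⁻¹ ∈ cT g
      have e : x * y * x⁻¹ * y⁻¹ = x * (y * x⁻¹ * y⁻¹) := by group
      rw [e]; exact (cT g).mul_mem hx this
    rw [h0, Subgroup.mem_bot, mul_inv_eq_one, mul_inv_eq_iff_eq_mul] at h1
    exact h1
  have hsup : (⨆ g, cT g) = N := by
    refine hminN _ ⟨fun x hx k => ?_⟩ ?_ (iSup_le cT_le)
    · induction hx using Subgroup.iSup_induction' with
      | hp g y hy =>
        refine le_iSup cT (k * g) ?_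
        rw [mem_cT] at hy ⊢
        simpa [mul_assoc] using hy
      | h1 => simp
      | hmul y z _ _ hy hz =>
        have e : k * (y * z) * k⁻¹ = (k * y * k⁻¹) * (k * z * k⁻¹) := by group
        rw [e]; exact mul_mem hy hz
    · intro h
      refine hT1 (le_bot_iff.1 (h ▸ le_trans ?_ (le_iSup cT 1)))
      intro x hx; rw [mem_cT]; simpa using hx
  set K := N ⊓ Subgroup.centralizer (T : Set G) with hKdef
  have hK : ∀ g, cT g ≠ T → cT g ≤ K := fun g hg x hx =>
    ⟨cT_le g hx, Subgroup.mem_centralizer_iff.2 fun y hy => (cT_comm g hg x hx y hy).symm⟩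
  have hKn : ∀ n ∈ N, ∀ c ∈ K, n * c * n⁻¹ ∈ K := by
    intro n hn c hc
    refine ⟨N.mul_mem (N.mul_mem hn hc.1) (N.inv_mem hn), Subgroup.mem_centralizer_iff.2 fun y hy => ?_⟩
    have h1 := Subgroup.mem_centralizer_iff.1 hc.2 (n⁻¹ * y * n)
      (by simpa using hTn n⁻¹ (N.inv_mem hn) y hy)
    calc y * (n * c * n⁻¹) = n * ((n⁻¹ * y * n) * c) * n⁻¹ := by group
      _ = n * (c * (n⁻¹ * y * n)) * n⁻¹ := by rw [h1]
      _ = n * c * n⁻¹ * y := by group
  have hNTK : N ≤ T ⊔ K := by
    conv_lhs => rw [← hsup]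
    refine iSup_le fun g => ?_
    by_cases hg : cT g = T
    · rw [hg]; exact le_sup_left
    · exact (hK g hg).trans le_sup_right
  have hTna : ¬ IsMulCommutative T := by
    intro hc
    have hTc : T ≤ Subgroup.centralizer (T : Set G) := fun x hx => Subgroup.mem_centralizer_iff.2
      fun y hy => congrArg Subtype.val (hc.is_comm.comm (⟨y, hy⟩ : T) ⟨x, hx⟩)
    have hall : N ≤ Subgroup.centralizer (T : Set G) :=
      hNTK.trans (sup_le hTc inf_le_right)
    refine hab ⟨⟨fun x y => Subtype.ext ?_⟩⟩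
    have hcc : N ≤ Subgroup.centralizer (N : Set G) := by
      conv_lhs => rw [← hsup]
      refine iSup_le fun g z hz => Subgroup.mem_centralizer_iff.2 fun w hw => ?_
      have h1 := Subgroup.mem_centralizer_iff.1 (hall (by simpa using hNn.conj_mem w hw g⁻¹ : g⁻¹ * w * g ∈ N))
        _ ((mem_cT g z).1 hz)
      calc w * z = g * ((g⁻¹ * w * g) * (g⁻¹ * z * g)) * g⁻¹ := by group
        _ = g * ((g⁻¹ * z * g) * (g⁻¹ * w * g)) * g⁻¹ := by rw [h1]
        _ = z * w := by group
    exact (Subgroup.mem_centralizer_iff.1 (hcc x.2) y y.2).symm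
  have hTK : T ⊓ K = ⊥ := by
    rcases hminT (T ⊓ K) inf_le_left
      (fun n hn r hr => ⟨hTn n hn r hr.1, hKn n hn r hr.2⟩) with h | h
    · exact h
    · refine absurd (⟨⟨fun x y => Subtype.ext ?_⟩⟩ : IsMulCommutative T) hTna
      exact (Subgroup.mem_centralizer_iff.1 ((h ▸ inf_le_right : T ≤ K) y.2).2 x x.2)
  have hTs : IsSimpleGroup T := by
    haveI : Nontrivial T := (Subgroup.nontrivial_iff_ne_bot T).2 hT1
    refine ⟨fun R hR => ?_⟩
    have hinv : ∀ n ∈ N, ∀ r ∈ R.map T.subtype, n * r * n⁻¹ ∈ R.map T.subtype := by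
      have hle : T ⊔ K ≤ Subgroup.normalizer (R.map T.subtype : Set G) := by
        refine sup_le (fun w hw => ?_) (fun w hw => ?_)
        · have key : ∀ w ∈ T, ∀ r ∈ R.map T.subtype, w * r * w⁻¹ ∈ R.map T.subtype := by
            rintro w hw _ ⟨r, hr, rfl⟩
            exact ⟨(⟨w, hw⟩ : T) * r * (⟨w, hw⟩ : T)⁻¹, hR.conj_mem r hr _, rfl⟩
          refine Subgroup.mem_normalizer_iff.2 fun y => ⟨fun hy => key w hw y hy, fun hy => ?_⟩
          simpa [mul_assoc] using key w⁻¹ (T.inv_mem hw) _ hy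
        · have key : ∀ w ∈ K, ∀ r ∈ R.map T.subtype, w * r * w⁻¹ = r := by
            rintro w hw _ ⟨r, hr, rfl⟩
            rw [mul_inv_eq_iff_eq_mul]
            exact (Subgroup.mem_centralizer_iff.1 hw.2 r r.2).symm
          refine Subgroup.mem_normalizer_iff.2 fun y => ⟨fun hy => (key w hw y hy).symm ▸ hy, fun hy => ?_⟩
          have := key w⁻¹ (K.inv_mem hw) _ hy
          have e : y = w * y * w⁻¹ := by simpa [mul_assoc] using this
          exact e ▸ hy
      intro n hn r hr
      exact (Subgroup.mem_normalizer_iff.1 (hle (hNTK hn)) r).1 hr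
    rcases hminT (R.map T.subtype) (Subgroup.map_subtype_le _) hinv with h | h
    · exact Or.inl ((Subgroup.map_eq_bot_iff_of_injective _ T.subtype_injective).1 h)
    · refine Or.inr (Subgroup.map_injective T.subtype_injective ?_)
      rw [h, ← MonoidHom.range_eq_map, Subgroup.range_subtype]
  set R₀ := N ⊓ A with hR₀
  have hcenN : ∀ R : Subgroup G, R.Normal → R ≠ ⊥ → R ≤ N → (∀ r ∈ R, r ≠ 1 → ∀ ω : Ω, r • ω ≠ ω) → False := by
    intro R hR hR1 hRN hder
    obtain rfl := hminN R hR hR1 hRN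
    refine hab ?_
    have hc := hpg _ hR1 hder
    have he : (Subgroup.center R).map R.subtype = R := hminN _
      (ConjAct.normal_of_characteristic_of_normal) (by
        rwa [ne_eq, Subgroup.map_eq_bot_iff_of_injective _ R.subtype_injective]) (Subgroup.map_subtype_le _)
    refine ⟨⟨fun x y => ?_⟩⟩
    obtain ⟨z, hz, hzy⟩ := he.ge y.2
    obtain rfl : z = y := Subtype.ext hzy
    exact Subgroup.mem_center_iff.1 hz x
  by_cases hK1 : K = ⊥
  · have hTN' : T = N := le_antisymm hTN (by rw [← sup_bot_eq T, ← hK1]; exact hNTK)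
    subst hTN'
    refine hnas ⟨T, hNn, hTs, hab, ?_⟩
    by_contra hC
    haveI := htrans (Subgroup.centralizer (T : Set G)) inferInstance hC
    refine hcenN T hNn hN1 le_rfl fun r hr hr1 ω hω => hr1 ?_
    refine eq_of_smul_eq_smul fun y : Ω => ?_
    obtain ⟨c, rfl⟩ := exists_smul_eq (Subgroup.centralizer (T : Set G)) ω y
    show r • (c : G) • ω = (1 : G) • (c : G) • ω
    rw [smul_smul, Subgroup.mem_centralizer_iff.1 c.2 r hr, ← smul_smul, hω, one_smul]
  obtain ⟨s, hsK, hs1⟩ : ∃ s ∈ K, s ≠ 1 := by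
    by_contra h
    push Not at h
    exact hK1 ((Subgroup.eq_bot_iff_forall _).2 h)
  have hTcomm : ∀ x ∈ T, ∀ k ∈ K, k * x = x * k := fun x hx k hk =>
    (Subgroup.mem_centralizer_iff.1 hk.2 x hx).symm
  have hNdec : ∀ n ∈ N, ∃ x ∈ T, ∃ k ∈ K, x * k = n := by
    intro n hn
    have hn' := hNTK hn
    rw [← SetLike.mem_coe, Subgroup.coe_mul_of_left_le_normalizer_right] at hn'
    · exact hn'
    · intro x hx
      exact Subgroup.mem_normalizer_iff.2 fun k => ⟨fun hk => hKn x (hTN hx) k hk, fun hk => by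
        simpa [mul_assoc] using hKn x⁻¹ (inv_mem (hTN hx)) _ hk⟩
  -- a derangement of `T` stays one after multiplying by `K`
  obtain ⟨t, htT, ht1, htK⟩ : ∃ t ∈ T, t ≠ 1 ∧ ∀ k ∈ K, ∀ ω : Ω, (t * k) • ω ≠ ω := by
    set B : Subgroup T := (R₀ ⊔ K).subgroupOf T with hBdef
    by_cases hB : B = ⊤
    · -- `T` normalises `T ⊓ R₀`
      have hTle : T ≤ R₀ ⊔ K := Subgroup.subgroupOf_eq_top.1 hB
      have hnorm : ∀ n ∈ N, ∀ r ∈ T ⊓ R₀, n * r * n⁻¹ ∈ T ⊓ R₀ := by
        have hle : R₀ ⊔ K ≤ Subgroup.normalizer ((T ⊓ R₀ : Subgroup G) : Set G) := by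
          refine sup_le (fun w hw => ?_) (fun w hw => ?_)
          · exact Subgroup.mem_normalizer_iff.2 fun r =>
              ⟨fun hr => ⟨hTn w hw.1 r hr.1, R₀.mul_mem (R₀.mul_mem hw hr.2) (R₀.inv_mem hw)⟩, fun hr => by
                have h1 := hTn w⁻¹ (N.inv_mem hw.1) _ hr.1
                have h2 := R₀.mul_mem (R₀.mul_mem (R₀.inv_mem hw) hr.2) hw
                exact ⟨by simpa [mul_assoc] using h1, by simpa [mul_assoc] using h2⟩⟩
          · have key : ∀ r ∈ T, w * r * w⁻¹ = r := fun r hr => by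
              rw [hTcomm r hr w hw, mul_inv_cancel_right]
            exact Subgroup.mem_normalizer_iff.2 fun r => ⟨fun hr => (key r hr.1).symm ▸ hr, fun hr => by
              have h1 : r ∈ T := by simpa [mul_assoc] using hTn w⁻¹ (inv_mem hw.1) _ hr.1
              rwa [key r h1] at hr⟩
        intro n hn r hr
        exact (Subgroup.mem_normalizer_iff.1 ((hNTK.trans (sup_le (hTle.trans hle) (le_sup_right.trans hle))) hn) r).1 hr
      rcases hminT (T ⊓ R₀) inf_le_left hnorm with h | h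
      · -- then every element of `T` is a derangement
        exfalso
        have hder : ∀ r ∈ T, r ≠ 1 → ∀ ω : Ω, r • ω ≠ ω := by
          intro r hr hr1 ω hω
          obtain ⟨n, rfl⟩ := exists_smul_eq N a ω
          have h2 : (n : G)⁻¹ * r * n ∈ T ⊓ R₀ := by
            refine ⟨by simpa using hTn (n : G)⁻¹ (inv_mem n.2) r hr,
              N.mul_mem (N.mul_mem (N.inv_mem n.2) (hTN hr)) n.2, ?_⟩
            show ((n : G)⁻¹ * r * n) • a = a
            rw [mul_smul, mul_smul]
            exact inv_smul_eq_iff.2 hω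
          rw [h, Subgroup.mem_bot] at h2
          apply hr1
          calc r = (n : G) * ((n : G)⁻¹ * r * n) * (n : G)⁻¹ := by group
            _ = 1 := by rw [h2]; group
        refine hpg T hT1 hder ?_
        haveI := hTs
        exact (IsSimpleGroup.eq_bot_or_eq_top_of_normal (Subgroup.center T) inferInstance).resolve_right fun e =>
          hTna ⟨⟨fun x y => Subgroup.mem_center_iff.1 (e ▸ Subgroup.mem_top y) x⟩⟩
      · exfalso
        have hle : T ≤ A := fun x hx => (h.ge hx).2.2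
        refine hT1 ((Subgroup.eq_bot_iff_forall _).2 fun x hx => eq_of_smul_eq_smul fun y : Ω => ?_)
        obtain ⟨n, rfl⟩ := exists_smul_eq N a y
        have h2 := hle (by simpa using hTn (n : G)⁻¹ (inv_mem n.2) x hx : (n : G)⁻¹ * x * n ∈ T)
        rw [mem_stabilizer_iff, mul_smul, mul_smul, inv_smul_eq_iff] at h2
        rw [one_smul]; exact h2
    · haveI : Nontrivial (T ⧸ B) := by
        rw [← Finite.one_lt_card_iff_nontrivial]
        exact Subgroup.one_lt_index_of_ne_top hB
      haveI hdt : IsPretransitive (Cfsg.Agent.PermDerangement.derSub T (T ⧸ B)) (T ⧸ B) :=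
        PermDerangement.der_transitive
      obtain ⟨t, ht⟩ : ∃ t : T, ∀ q : T ⧸ B, t • q ≠ q := by
        by_contra hno
        push Not at hno
        have hbot : Cfsg.Agent.PermDerangement.derSub T (T ⧸ B) = ⊥ :=
          (Subgroup.closure_eq_bot_iff).2 fun x hx => by obtain ⟨q, hq⟩ := hno x; exact (hx q hq).elim
        obtain ⟨q, q', hqq⟩ := exists_pair_ne (T ⧸ B)
        obtain ⟨⟨x, hx⟩, hxq⟩ := exists_smul_eq (Cfsg.Agent.PermDerangement.derSub T (T ⧸ B)) q q'
        rw [hbot, Subgroup.mem_bot] at hx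
        subst hx
        exact hqq (by rw [← hxq]; exact (one_smul T q).symm)
      refine ⟨t, t.2, fun e => ht (QuotientGroup.mk 1) ?_, fun k hk ω hω => ?_⟩
      · rw [show t = 1 from Subtype.ext e, one_smul]
      obtain ⟨n, rfl⟩ := exists_smul_eq N a ω
      obtain ⟨x, hx, l, hl, hxl⟩ := hNdec n n.2
      refine ht (QuotientGroup.mk ⟨x, hx⟩) ?_
      change QuotientGroup.mk (t * ⟨x, hx⟩) = _
      rw [eq_comm, QuotientGroup.eq, hBdef, Subgroup.mem_subgroupOf]
      have h1 : (n : G)⁻¹ * (t * k) * n ∈ R₀ := by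
        refine ⟨N.mul_mem (N.mul_mem (N.inv_mem n.2) (N.mul_mem (hTN t.2) hk.1)) n.2, ?_⟩
        show ((n : G)⁻¹ * (t * k) * n) • a = a
        rw [mul_smul, mul_smul]
        exact inv_smul_eq_iff.2 hω
      show x⁻¹ * ((t : G) * x) ∈ R₀ ⊔ K
      have e : x⁻¹ * ((t : G) * x) = l * ((n : G)⁻¹ * (t * k) * n) * (l⁻¹ * (x⁻¹ * k * x)⁻¹) := by
        rw [← hxl]; group
      rw [e]
      exact mul_mem (mul_mem (Subgroup.mem_sup_right hl) (Subgroup.mem_sup_left h1))
        (Subgroup.mem_sup_right (mul_mem (inv_mem hl) (inv_mem (by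
          simpa using hKn x⁻¹ (inv_mem (hTN hx)) k hk))))
  have hd1 : ∀ ω : Ω, t • ω ≠ ω := fun ω => by simpa using htK 1 (one_mem K) ω
  obtain ⟨g, hg⟩ := isConj_iff.1 (hcls t (t * s) hd1 (htK s hsK))
  have hmem : t * s ∈ cT g := hg ▸ conj_cT g t htT
  by_cases hgT : cT g = T
  · rw [hgT] at hmem
    have : s ∈ T ⊓ K := ⟨by simpa using mul_mem (inv_mem htT) hmem, hsK⟩
    exact hs1 (Subgroup.mem_bot.1 (hTK ▸ this))
  · have : t ∈ T ⊓ K := ⟨htT, by simpa using mul_mem (hK g hgT hmem) (inv_mem hsK)⟩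
    exact ht1 (Subgroup.mem_bot.1 (hTK ▸ this))

end Cfsg.Agent.S3501
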