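import Cfsg.Statements.S3554
import Cfsg.Agent.Lib.PermSmallFacts

set_option autoImplicit false
open Cfsg

namespace Cfsg.Agent.S3554

/-- Let G act faithfully and transitively on a finite set and suppose G has a non-trivial cyclic normal subgroup. Then some element of G of prime order fixes no point. -/
theorem result {G Ω : Type*} [Group G] [Finite G] [MulAction G Ω] [FaithfulSMul G Ω] [Finite Ω]
    (htrans : MulAction.IsPretransitive G Ω) (C : Subgroup G) (hC : C.Normal) (hC1 : C ≠ ⊥) (hcyc : IsCyclic ↥C) :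
    ∃ g : G, (orderOf g).Prime ∧ ∀ ω : Ω, g • ω ≠ ω := by
  classical
  obtain ⟨r, hr, hrd⟩ := Nat.exists_prime_and_dvd (n := Nat.card C)
    (fun h => hC1 (Subgroup.card_eq_one.1 h))
  haveI := Fact.mk hr
  haveI := hcyc
  obtain ⟨g, hg⟩ := exists_prime_orderOf_dvd_card' r hrd
  refine ⟨g, by rw [Subgroup.orderOf_coe, hg]; exact hr, fun ω hω => ?_⟩
  have hgord : orderOf (g : G) = r := by rw [Subgroup.orderOf_coe, hg]
  -- every conjugate of `g` fixes `ω`
  have hall : ∀ x : G, (g : G) • x • ω = x • ω := by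
    intro x
    have hmem : x⁻¹ * (g : G) * x ∈ C := by
      simpa using hC.conj_mem (g : G) g.2 x⁻¹
    have h1 : orderOf (⟨_, hmem⟩ : C) = r := by
      rw [← Subgroup.orderOf_coe]
      show orderOf (x⁻¹ * (g : G) * x) = r
      rw [← hgord, show x⁻¹ * (g : G) * x = MulAut.conj x⁻¹ (g : G) by simp, MulEquiv.orderOf_eq]
    have hz : Subgroup.zpowers (⟨_, hmem⟩ : C) = Subgroup.zpowers g :=
      CfsgLib.SmallPerm.zpowers_eq_of_isCyclic (by rw [h1, hg])
    obtain ⟨k, hk⟩ := Subgroup.mem_zpowers_iff.1 (hz ▸ Subgroup.mem_zpowers (⟨_, hmem⟩ : C))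
    have hk' : (g : G) ^ k = x⁻¹ * (g : G) * x := by
      have := congrArg Subtype.val hk
      simpa using this
    have hfix : (x⁻¹ * (g : G) * x) • ω = ω := by
      rw [← hk']
      exact MulAction.mem_stabilizer_iff.1 (Subgroup.zpow_mem _ (MulAction.mem_stabilizer_iff.2 hω) k)
    calc (g : G) • x • ω = x • ((x⁻¹ * (g : G) * x) • ω) := by
          rw [smul_smul, smul_smul]; congr 1; group
      _ = x • ω := by rw [hfix]
  haveI := htrans
  have h1 : (g : G) = 1 := FaithfulSMul.eq_of_smul_eq_smul fun y : Ω => by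
    obtain ⟨x, rfl⟩ := MulAction.exists_smul_eq G ω y
    rw [hall x, one_smul]
  rw [h1, orderOf_one] at hgord
  exact hr.ne_one hgord.symm

end Cfsg.Agent.S3554
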