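import Cfsg.Statements.S3556
import Cfsg.Agent.Lib.PermTwoModFour
import Cfsg.Agent.Lib.CorePrimitive
import Cfsg.Agent.Lib.FgsConjCover

set_option autoImplicit false
open Cfsg
open scoped Pointwise

namespace Cfsg.Agent.S3556

/-- Let G act faithfully and primitively on a finite set with at least two points, and suppose that for some fixed prime p every element of G fixing no point has order a power of p. Then G is of affine type (it has a regular normal subgroup that is an elementary abelian r-group for some prime r) or almost simple (it has a non-abelian simple normal subgroup with trivial centralizer). -/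
theorem result {G Ω : Type*} [Group G] [Finite G] [MulAction G Ω] [FaithfulSMul G Ω] [Finite Ω]
    (hprim : MulAction.IsPreprimitive G Ω) (hΩ : 2 ≤ Nat.card Ω) (p : ℕ) (hp : p.Prime)
    (hder : ∀ g : G, (∀ ω : Ω, g • ω ≠ ω) → ∃ k : ℕ, orderOf g = p ^ k) :
    (∃ (N : Subgroup G) (r : ℕ), r.Prime ∧ N.Normal ∧ Cfsg.IsElementaryAbelian r N ∧
      MulAction.IsPretransitive N Ω ∧ ∀ a : Ω, MulAction.stabilizer N a = ⊥) ∨
    (∃ T : Subgroup G, T.Normal ∧ IsSimpleGroup ↥T ∧ ¬ IsMulCommutative ↥T ∧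
      Subgroup.centralizer (T : Set G) = ⊥) := by
  classical
  haveI := hprim
  haveI : Fact p.Prime := ⟨hp⟩
  haveI : Nontrivial Ω := Finite.one_lt_card_iff_nontrivial.1 (by omega)
  have hGne : (⊤ : Subgroup G) ≠ ⊥ := by
    intro h
    obtain ⟨a, b, hab⟩ := exists_pair_ne Ω
    obtain ⟨g, hg⟩ := MulAction.exists_smul_eq G a b
    have : g = 1 := by rw [← Subgroup.mem_bot, ← h]; exact Subgroup.mem_top g
    exact hab (by rw [← hg, this, one_smul])
  obtain ⟨N, -, hNn, hNne, hNmin⟩ := CfsgLib.TwoModFour.exists_minimal_normal (⊤ : Subgroup G) hGne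
  haveI := hNn
  have htr : ∀ M : Subgroup G, M.Normal → M ≠ ⊥ → MulAction.IsPretransitive M Ω := by
    intro M hM hMne
    haveI := hM
    refine MulAction.IsQuasiPreprimitive.isPretransitive_of_normal fun h => hMne ?_
    rw [Subgroup.eq_bot_iff_forall]
    intro g hg
    refine eq_of_smul_eq_smul fun y : Ω => ?_
    rw [one_smul]
    exact (h.symm ▸ Set.mem_univ y : y ∈ MulAction.fixedPoints M Ω) ⟨g, hg⟩
  haveI := htr N hNn hNne
  by_cases hab : IsMulCommutative N
  · left
    have hc : ∀ a ∈ N, ∀ b ∈ N, a * b = b * a := fun a ha b hb =>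
      congrArg Subtype.val (hab.is_comm.comm (⟨a, ha⟩ : N) ⟨b, hb⟩)
    obtain ⟨r, -, hr, -, -, hpow⟩ := CfsgLib.Core.Primitive.elementary_of_minimal N hNne hc hNmin
    exact ⟨N, r, hr, hNn, ⟨hab, hpow⟩, inferInstance,
      fun a => CfsgLib.Core.Primitive.abelian_regular inferInstance hc a⟩
  right
  -- a semiregular subgroup consists of `p`-elements
  have hfree : ∀ M : Subgroup G, (∀ m ∈ M, ∀ ω : Ω, m • ω = ω → m = 1) → IsPGroup p M := by
    intro M hM m
    by_cases h1 : m = 1
    · exact ⟨0, by simp [h1]⟩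
    obtain ⟨k, hk⟩ := hder m (fun ω hω => h1 (Subtype.ext (hM m m.2 ω hω)))
    exact ⟨k, Subtype.ext (by rw [← hk]; exact pow_orderOf_eq_one _)⟩
  -- nonabelian minimal normal subgroups of a normal subgroup are not `p`-groups
  have hnotp : ∀ M : Subgroup G, M.Normal → ∀ T : Subgroup M, T.Normal → ¬ IsMulCommutative T →
      (∀ K : Subgroup M, K.Normal → K ≤ T → K = ⊥ ∨ K = T) → ¬ IsPGroup p T := by
    intro M hM T hT hTab hTmin hpT
    haveI := hT
    haveI : Nontrivial T := not_subsingleton_iff_nontrivial.1 fun h => hTab ⟨⟨fun a b => h.elim _ _⟩⟩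
    haveI := hpT.center_nontrivial
    have hne : (Subgroup.center T).map T.subtype ≠ ⊥ := by
      rw [Ne, Subgroup.map_eq_bot_iff_of_injective _ T.subtype_injective]
      exact (Subgroup.nontrivial_iff_ne_bot _).1 inferInstance
    rcases hTmin ((Subgroup.center T).map T.subtype) inferInstance (Subgroup.map_subtype_le _) with h | h
    · exact hne h
    · refine hTab ⟨⟨fun a b => ?_⟩⟩
      obtain ⟨a', ha', ea⟩ : (a : M) ∈ (Subgroup.center T).map T.subtype := h.symm ▸ a.2
      rw [← T.subtype_injective ea]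
      exact (Subgroup.mem_center_iff.1 ha' b).symm
  have hNC : Subgroup.centralizer (N : Set G) = ⊥ := by
    by_contra hC
    haveI := htr (Subgroup.centralizer (N : Set G)) inferInstance hC
    have hpN : IsPGroup p N := hfree N fun m hm ω hω => by
      refine eq_of_smul_eq_smul fun y : Ω => ?_
      obtain ⟨c, rfl⟩ := MulAction.exists_smul_eq (Subgroup.centralizer (N : Set G)) ω y
      have hcm : m * (c : G) = (c : G) * m := Subgroup.mem_centralizer_iff.1 c.2 m hm
      show m • (c : G) • ω = (1 : G) • (c : G) • ω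
      rw [smul_smul, hcm, ← smul_smul, hω, one_smul]
    haveI : Nontrivial N := (Subgroup.nontrivial_iff_ne_bot N).2 hNne
    haveI := hpN.center_nontrivial
    have hne : (Subgroup.center N).map N.subtype ≠ ⊥ := by
      rw [Ne, Subgroup.map_eq_bot_iff_of_injective _ N.subtype_injective]
      exact (Subgroup.nontrivial_iff_ne_bot _).1 inferInstance
    rcases hNmin ((Subgroup.center N).map N.subtype) inferInstance (Subgroup.map_subtype_le _) with h | h
    · exact hne h
    · refine hab ⟨⟨fun a b => ?_⟩⟩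
      obtain ⟨a', ha', ea⟩ : (a : G) ∈ (Subgroup.center N).map N.subtype := h.symm ▸ a.2
      rw [← N.subtype_injective ea]
      exact (Subgroup.mem_center_iff.1 ha' b).symm
  refine ⟨N, hNn, ?_, hab, hNC⟩
  haveI : Nontrivial N := (Subgroup.nontrivial_iff_ne_bot N).2 hNne
  obtain ⟨T, -, hTn, hTne, hTmin⟩ := CfsgLib.TwoModFour.exists_minimal_normal (⊤ : Subgroup N) top_ne_bot
  haveI := hTn
  by_cases hTtop : T = ⊤
  · refine ⟨fun H hH => ?_⟩
    rcases hTmin H hH (hTtop ▸ le_top) with h | h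
    · exact Or.inl h
    · exact Or.inr (h.trans hTtop)
  exfalso
  -- conjugates of `T`
  have hconj : ∀ g : G, ∀ x : N, (MulAut.conjNormal g x : N).1 = g * x * g⁻¹ := fun g x => MulAut.conjNormal_apply g x
  let cT : G → Subgroup N := fun g => T.map (MulAut.conjNormal g : MulAut N).toMonoidHom
  have hcTn : ∀ g, (cT g).Normal := fun g => hTn.map _ (MulAut.conjNormal g : MulAut N).surjective
  have hcTmin : ∀ g, ∀ K : Subgroup N, K.Normal → K ≤ cT g → K = ⊥ ∨ K = cT g := by
    intro g K hK hle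
    set e : MulAut N := MulAut.conjNormal g with he
    rcases hTmin (K.comap e.toMonoidHom) (hK.comap _)
      (fun x hx => by
        obtain ⟨y, hy, hyx⟩ := hle hx
        exact e.injective hyx ▸ hy) with h | h
    · left
      rw [← Subgroup.map_comap_eq_self_of_surjective (f := e.toMonoidHom) e.surjective K, h, Subgroup.map_bot]
    · right
      rw [← Subgroup.map_comap_eq_self_of_surjective (f := e.toMonoidHom) e.surjective K, h]
  have hdist : ∀ g, cT g ≠ T → ∀ t ∈ T, ∀ u ∈ cT g, t * u = u * t := by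
    intro g hne t ht u hu
    haveI := hcTn g
    refine (Subgroup.commute_of_normal_of_disjoint T (cT g) hTn (hcTn g) (disjoint_iff.2 ?_) t u ht hu).eq
    rcases hTmin (T ⊓ cT g) inferInstance inf_le_left with h | h
    · exact h
    rcases hcTmin g (T ⊓ cT g) inferInstance inf_le_right with h' | h'
    · exact h'
    · exact absurd (h'.symm.trans h) hne
  -- `N` is generated by the conjugates
  have hgen : ∀ K : Subgroup N, (∀ g, cT g ≤ K) → K = ⊤ := by
    intro K hK
    let L : Subgroup G := Subgroup.normalClosure ((T.map N.subtype : Subgroup G) : Set G)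
    have hLN : L ≤ N := Subgroup.normalClosure_le_normal (Subgroup.map_subtype_le T)
    have hLK : L ≤ K.map N.subtype := by
      refine Subgroup.closure_le _ |>.2 ?_
      intro x hx
      obtain ⟨y, hy, hyx⟩ := Group.mem_conjugatesOfSet_iff.1 hx
      obtain ⟨g, rfl⟩ := isConj_iff.1 hyx
      obtain ⟨t, ht, rfl⟩ := hy
      exact ⟨MulAut.conjNormal g t, hK g ⟨t, ht, rfl⟩, hconj g t⟩
    rcases hNmin L inferInstance hLN with h | h
    · exfalso
      refine hTne ((Subgroup.eq_bot_iff_forall _).2 fun t ht => Subtype.ext ?_)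
      have : (t : G) ∈ L := Subgroup.subset_normalClosure ⟨t, ht, rfl⟩
      rwa [h, Subgroup.mem_bot] at this
    · rw [eq_top_iff]
      intro x _
      obtain ⟨k, hk, hkx⟩ := hLK (h.symm ▸ x.2 : (x : G) ∈ L)
      exact N.subtype_injective hkx ▸ hk
  have hTnab : ¬ IsMulCommutative T := by
    intro hT
    have hTc : ∀ a ∈ T, ∀ b ∈ T, a * b = b * a := fun a ha b hb =>
      congrArg Subtype.val (hT.is_comm.comm (⟨a, ha⟩ : T) ⟨b, hb⟩)
    have hcen : T ≤ Subgroup.center N := by
      intro t ht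
      rw [Subgroup.mem_center_iff]
      have : (⊤ : Subgroup N) ≤ Subgroup.centralizer ({t} : Set N) := le_of_eq (hgen _ fun g u hu => by
        rw [Subgroup.mem_centralizer_singleton_iff]
        by_cases hg : cT g = T
        · exact hTc u (hg ▸ hu) t ht
        · exact (hdist g hg t ht u hu).symm).symm
      intro x
      exact Subgroup.mem_centralizer_singleton_iff.1 (this (Subgroup.mem_top x))
    have hcg : ∀ g, cT g ≤ Subgroup.center N := by
      rintro g _ ⟨t, ht, rfl⟩
      rw [Subgroup.mem_center_iff]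
      intro x
      obtain ⟨y, rfl⟩ := (MulAut.conjNormal g : MulAut N).surjective x
      show MulAut.conjNormal g y * MulAut.conjNormal g t = MulAut.conjNormal g t * MulAut.conjNormal g y
      rw [← map_mul, ← map_mul, Subgroup.mem_center_iff.1 (hcen ht) y]
    refine hab ⟨⟨fun a b => ?_⟩⟩
    exact (Subgroup.mem_center_iff.1 ((hgen _ hcg).symm ▸ Subgroup.mem_top a) b).symm
  have hTp : ¬ IsPGroup p T := hnotp N hNn T hTn hTnab hTmin
  obtain ⟨s, x₀, hs, hsp, hx₀⟩ : ∃ (s : ℕ) (x : T), s.Prime ∧ s ≠ p ∧ orderOf x = s := by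
    by_contra h
    push Not at h
    refine hTp (IsPGroup.iff_card.2 ⟨(Nat.card T).primeFactorsList.length, ?_⟩)
    refine Nat.eq_prime_pow_of_unique_prime_dvd Nat.card_pos.ne' fun {d} hd hdvd => ?_
    by_contra hdp
    haveI : Fact d.Prime := ⟨hd⟩
    obtain ⟨x, hx⟩ := exists_prime_orderOf_dvd_card' d hdvd
    exact h d x hd hdp hx
  obtain ⟨g₀, hg₀⟩ : ∃ g, cT g ≠ T := by
    by_contra h
    push Not at h
    exact hTtop (hgen T fun g => le_of_eq (h g))
  set c₀ : N := MulAut.conjNormal g₀ (x₀ : N) with hc₀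
  have hc₀T : ∀ t ∈ T, t * c₀ = c₀ * t := fun t ht => hdist g₀ hg₀ t ht c₀ ⟨x₀, x₀.2, rfl⟩
  have hc₀o : orderOf c₀ = s := by
    rw [hc₀, MulEquiv.orderOf_eq, Subgroup.orderOf_coe, hx₀]
  have hdecomp : ∀ n : N, ∃ u ∈ T, ∃ e : N, (∀ t ∈ T, t * e = e * t) ∧ n = u * e := by
    intro n
    have h : T ⊔ Subgroup.centralizer (T : Set N) = ⊤ := hgen _ fun g => by
      by_cases hg : cT g = T
      · exact hg ▸ le_sup_left
      · exact le_trans (fun u hu => Subgroup.mem_centralizer_iff.2 fun t ht => hdist g hg t ht u hu) le_sup_right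
    obtain ⟨u, hu, e, he, rfl⟩ := Subgroup.mem_sup_of_normal_left.1 (h.symm ▸ Subgroup.mem_top n : n ∈ T ⊔ Subgroup.centralizer (T : Set N))
    exact ⟨u, hu, e, fun t ht => Subgroup.mem_centralizer_iff.1 he t ht, rfl⟩
  obtain ⟨a⟩ : Nonempty Ω := inferInstance
  let R : Subgroup T :=
    { carrier := {t | ∃ e : N, (∀ u ∈ T, u * e = e * u) ∧ ((t : N) * e) • a = a}
      one_mem' := ⟨1, fun u _ => by simp, by simp⟩
      mul_mem' := by
        rintro t t' ⟨e, he, hea⟩ ⟨e', he', hea'⟩
        refine ⟨e * e', fun u hu => by rw [← mul_assoc, he u hu, mul_assoc, he' u hu, mul_assoc], ?_⟩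
        have : ((t * t' : T) : N) * (e * e') = ((t : N) * e) * ((t' : N) * e') := by
          rw [Subgroup.coe_mul]
          calc (t : N) * t' * (e * e') = (t : N) * ((t' : N) * e) * e' := by group
            _ = _ := by rw [he t' t'.2]; group
        rw [this, mul_smul, hea', hea]
      inv_mem' := by
        rintro t ⟨e, he, hea⟩
        refine ⟨e⁻¹, fun u hu => ?_, ?_⟩
        · exact (Commute.inv_right (he u hu : Commute u e)).eq
        · have : ((t⁻¹ : T) : N) * e⁻¹ = ((t : N) * e)⁻¹ := by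
            rw [Subgroup.coe_inv, mul_inv_rev]
            exact (Commute.inv_inv (he t t.2 : Commute (t : N) e)).eq
          rw [this, inv_smul_eq_iff, hea] }
  by_cases hR : R = ⊤
  · -- `T` is semiregular
    refine hTp fun t => ?_
    have hfix : ∀ x : T, (x : N) • a = a → x = 1 := by
      intro x hx
      refine Subtype.ext (Subtype.ext (eq_of_smul_eq_smul fun y : Ω => ?_))
      obtain ⟨n, rfl⟩ := MulAction.exists_smul_eq N a y
      obtain ⟨u, hu, e, he, hn⟩ := hdecomp n⁻¹
      obtain ⟨e', he', hea⟩ : (⟨u, hu⟩ : T) ∈ R := hR ▸ Subgroup.mem_top _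
      show (x : N) • n • a = (1 : N) • n • a
      rw [one_smul, smul_smul]
      suffices (n⁻¹ * ((x : N) * n)) • a = a by
        rwa [mul_smul, inv_smul_eq_iff] at this
      have h1 : n⁻¹ * ((x : N) * n) = (u * e') * (x : N) * (u * e')⁻¹ := by
        have hx' : n⁻¹ * ((x : N) * n) = u * (e * (x : N) * e⁻¹) * u⁻¹ := by
          rw [show n = (u * e)⁻¹ by rw [← hn, inv_inv]]; group
        rw [hx', ← he x x.2]
        calc u * ((x : N) * e * e⁻¹) * u⁻¹ = u * ((x : N) * e' * e'⁻¹) * u⁻¹ := by group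
          _ = u * (e' * (x : N) * e'⁻¹) * u⁻¹ := by rw [he' x x.2]
          _ = _ := by group
      rw [h1, mul_smul, mul_smul, inv_smul_eq_iff.2 hea.symm, hx, hea]
    by_cases ht1 : t = 1
    · exact ⟨0, by simp [ht1]⟩
    obtain ⟨k, hk⟩ := hder ((t : N) : G) (fun ω hω => ht1 (by
      obtain ⟨n, rfl⟩ := MulAction.exists_smul_eq N a ω
      obtain ⟨w, hw⟩ : ∃ w : T, (w : N) = n⁻¹ * (t : N) * n :=
        ⟨⟨_, by simpa using hTn.conj_mem _ t.2 n⁻¹⟩, rfl⟩
      have hw1 := hfix w (by
        rw [hw, mul_smul, mul_smul, inv_smul_eq_iff]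
        exact hω)
      refine Subtype.ext ?_
      calc (t : N) = n * (w : N) * n⁻¹ := by rw [hw]; group
        _ = 1 := by rw [hw1]; simp))
    refine ⟨k, Subtype.ext (Subtype.ext ?_)⟩
    show (((t : N) : G)) ^ (p ^ k) = 1
    rw [← hk]
    exact pow_orderOf_eq_one _
  · obtain ⟨t, ht⟩ := CfsgLib.Fgs.exists_not_mem_conj hR
    have hder' : ∀ c : N, (∀ u ∈ T, u * c = c * u) → ∃ k, orderOf ((t : N) * c) = p ^ k := by
      intro c hc
      obtain ⟨k, hk⟩ := hder (((t : N) * c : N) : G) (fun ω hω => by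
        obtain ⟨n, rfl⟩ := MulAction.exists_smul_eq N a ω
        obtain ⟨u, hu, e, he, rfl⟩ := hdecomp n
        refine ht ⟨u, hu⟩ ?_
        rw [Subgroup.mem_pointwise_smul_iff_inv_smul_mem]
        refine ⟨e⁻¹ * c * e, fun v hv => ?_, ?_⟩
        · exact (((Commute.inv_right (he v hv : Commute v e))).mul_right (hc v hv : Commute v c)).mul_right (he v hv : Commute v e) |>.eq
        · have e1 : (((MulAut.conj (⟨u, hu⟩ : T))⁻¹ • t : T) : N) = u⁻¹ * (t : N) * u := by simp [MulAut.smul_def]
          rw [e1]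
          have e2 : u⁻¹ * (t : N) * u * (e⁻¹ * c * e) = (u * e)⁻¹ * ((t : N) * c) * (u * e) := by
            have hw : (u⁻¹ * (t : N) * u) * e⁻¹ = e⁻¹ * (u⁻¹ * (t : N) * u) :=
              (Commute.inv_right (he _ (T.mul_mem (T.mul_mem (T.inv_mem hu) t.2) hu) : Commute _ e)).eq
            calc u⁻¹ * (t : N) * u * (e⁻¹ * c * e) = (u⁻¹ * (t : N) * u * e⁻¹) * c * e := by group
              _ = e⁻¹ * (u⁻¹ * (t : N)) * (u * c) * e := by rw [hw]; group
              _ = _ := by rw [hc u hu]; group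
          rw [e2, mul_smul, mul_smul, inv_smul_eq_iff]
          exact hω)
      exact ⟨k, by rw [← Subgroup.orderOf_coe]; exact hk⟩
    obtain ⟨k, hk⟩ := hder' 1 (fun u _ => by simp)
    rw [mul_one] at hk
    obtain ⟨j, hj⟩ := hder' c₀ hc₀T
    have hcop : (orderOf (t : N)).Coprime (orderOf c₀) := by
      rw [hk, hc₀o]; exact Nat.Coprime.pow_left _ ((Nat.coprime_primes hp hs).2 (Ne.symm hsp))
    have hcm : Commute (t : N) c₀ := hc₀T t t.2
    rw [hcm.orderOf_mul_eq_mul_orderOf_of_coprime hcop, hc₀o] at hj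
    exact hsp ((Nat.prime_dvd_prime_iff_eq hs hp).1 (hs.dvd_of_dvd_pow (n := j) (hj ▸ dvd_mul_left s _)))

end Cfsg.Agent.S3556
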