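import Cfsg.Statements.S3680
import Cfsg.Agent.S0721
import Cfsg.Agent.Lib.CorePrimitive

set_option autoImplicit false
open Cfsg

namespace Cfsg.Agent.S3680

/-- The socle of a finite primitive permutation group. Let a finite group G act faithfully and primitively on a set Ω, and let N be the subgroup generated by the minimal normal subgroups of G. Then either N is an elementary abelian p-group for some prime p and acts regularly on Ω (transitively with trivial point stabilizers), or N is isomorphic to a direct product of m ≥ 1 copies of a non-abelian simple group. -/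
theorem result {G Ω : Type*} [Group G] [Finite G] [MulAction G Ω] [FaithfulSMul G Ω] [Finite Ω]
    (hprim : MulAction.IsPreprimitive G Ω) (N : Subgroup G)
    (hN : N = sSup {V : Subgroup G | V.Normal ∧ V ≠ ⊥ ∧ ∀ M : Subgroup G, M.Normal → M ≤ V → M = ⊥ ∨ M = V}) :
    (∃ p : ℕ, p.Prime ∧ IsMulCommutative N ∧ (∀ x : N, x ^ p = 1) ∧
      MulAction.IsPretransitive N Ω ∧ ∀ ω : Ω, MulAction.stabilizer N ω = ⊥) ∨
    (∃ (T : Type) (_ : Group T) (m : ℕ), 1 ≤ m ∧ IsSimpleGroup T ∧ ¬ IsMulCommutative T ∧ Nonempty (N ≃* (Fin m → T))) := by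
  classical
  let Min : Subgroup G → Prop := fun V => V.Normal ∧ V ≠ ⊥ ∧ ∀ M : Subgroup G, M.Normal → M ≤ V → M = ⊥ ∨ M = V
  have hN' : N = sSup {V | Min V} := hN
  have hne : ∀ V, Min V → MulAction.IsPretransitive V Ω := fun V hV => by
    haveI := hV.1
    exact CfsgLib.Core.Primitive.transitive_of_normal hprim hV.2.1
  have hcomm : ∀ V W, Min V → Min W → V ≠ W → ∀ v ∈ V, ∀ w ∈ W, Commute v w := by
    intro V W hV hW hVW v hv w hw
    haveI := hV.1; haveI := hW.1
    refine Subgroup.commute_of_normal_of_disjoint V W hV.1 hW.1 ?_ v w hv hw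
    rw [disjoint_iff]
    rcases hV.2.2 (V ⊓ W) inferInstance inf_le_left with h | h
    · exact h
    rcases hW.2.2 (V ⊓ W) inferInstance inf_le_right with h' | h'
    · exact h'
    · exact absurd (h.symm.trans h') hVW
  have hcent : ∀ V W, Min V → Min W → Nonempty Ω → (∀ v ∈ V, ∀ w ∈ W, Commute v w) →
      ∀ g : G, (∀ v ∈ V, Commute g v) → g ∈ W := by
    intro V W hV hW hΩ hVW g hg
    obtain ⟨a⟩ := hΩ
    obtain ⟨⟨w, hw⟩, hwa⟩ := (hne W hW).exists_smul_eq a (g • a)
    replace hwa : w • a = g • a := hwa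
    have : w⁻¹ * g = 1 := CfsgLib.Core.Primitive.eq_one_of_commute (hne V hV) (ω := a)
      (by rw [mul_smul, inv_smul_eq_iff, hwa]) (fun v hv => ((hVW v hv w hw).symm.inv_left).mul_left (hg v hv))
    rw [inv_mul_eq_one] at this
    exact this ▸ hw
  by_cases hex : ∃ V, Min V ∧ IsMulCommutative V
  · left
    obtain ⟨V, hV, hab⟩ := hex
    haveI := hV.1
    have hc : ∀ a ∈ V, ∀ b ∈ V, a * b = b * a := fun a ha b hb =>
      congrArg Subtype.val (hab.is_comm.comm (⟨a, ha⟩ : V) ⟨b, hb⟩)
    have hΩ : Nonempty Ω := by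
      obtain ⟨v, hv, hv1⟩ : ∃ v ∈ V, v ≠ 1 := by
        have := hV.2.1
        simp only [ne_eq, Subgroup.eq_bot_iff_forall, not_forall] at this
        obtain ⟨v, hv, h1⟩ := this
        exact ⟨v, hv, h1⟩
      by_contra h
      rw [not_nonempty_iff] at h
      exact hv1 (FaithfulSMul.eq_of_smul_eq_smul (α := Ω) fun a => isEmptyElim a)
    have hNV : N = V := by
      rw [hN']
      refine le_antisymm (sSup_le fun W hW => ?_) (le_sSup hV)
      by_contra hle
      have hWV : V ≠ W := fun e => hle (e ▸ le_rfl)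
      exact hle fun w hw => hcent V V hV hV hΩ (fun a ha b hb => hc a ha b hb) w
        (fun v hv => (hcomm V W hV hW hWV v hv w hw).symm)
    subst hNV
    obtain ⟨p, d, hp, -, -, hpow⟩ := CfsgLib.Core.Primitive.elementary_of_minimal N hV.2.1 hc hV.2.2
    exact ⟨p, hp, hab, fun x => Subtype.ext (hpow x x.2), hne N hV,
      fun ω => CfsgLib.Core.Primitive.abelian_regular (hne N hV) hc ω⟩
  · by_cases hG : ∃ V, Min V
    swap
    · left
      push Not at hG
      rcases subsingleton_or_nontrivial G with hs | hn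
      · haveI := hprim.toIsPretransitive
        have hΩ : ∀ x y : Ω, x = y := fun x y => by
          obtain ⟨g, rfl⟩ := MulAction.exists_smul_eq G x y
          rw [Subsingleton.elim g 1, one_smul]
        exact ⟨2, Nat.prime_two, ⟨⟨fun _ _ => Subsingleton.elim _ _⟩⟩, fun _ => Subsingleton.elim _ _,
          ⟨fun x y => ⟨1, hΩ _ _⟩⟩, fun _ => Subsingleton.elim _ _⟩
      · obtain ⟨V, hV⟩ := Set.Finite.exists_minimal (Set.toFinite {V : Subgroup G | V.Normal ∧ V ≠ ⊥}) ⟨⊤, inferInstance, top_ne_bot⟩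
        exact absurd ⟨hV.1.1, hV.1.2, fun M hM hle => or_iff_not_imp_left.2 fun h => le_antisymm hle (hV.2 ⟨hM, h⟩ hle)⟩ (hG V)
    right
    push Not at hex
    obtain ⟨V, hV⟩ := hG
    haveI := hV.1
    have hΩ : Nonempty Ω := by
      by_contra h
      rw [not_nonempty_iff] at h
      exact hV.2.1 ((Subgroup.eq_bot_iff_forall _).2 fun v _ => FaithfulSMul.eq_of_smul_eq_smul (α := Ω) fun a => isEmptyElim a)
    obtain ⟨T, gT, m, hT, hm, ⟨e⟩⟩ := Cfsg.Agent.S0721.result V hV.2.1 hV.2.2
    have hTnab : ¬ IsMulCommutative T := fun hc => hex V hV ⟨⟨fun a b => e.injective (funext fun i => by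
      simp only [map_mul, Pi.mul_apply]; exact hc.is_comm.comm _ _)⟩⟩
    by_cases h2 : ∃ W, Min W ∧ W ≠ V
    swap
    · push Not at h2
      have hNV : N = V := by
        rw [hN']
        exact le_antisymm (sSup_le fun W hW => le_of_eq (h2 W hW)) (le_sSup hV)
      subst hNV
      exact ⟨T, gT, m, hm, hT, hTnab, ⟨e⟩⟩
    obtain ⟨W, hW, hWV⟩ := h2
    haveI := hW.1
    have hVW := hcomm V W hV hW (Ne.symm hWV)
    have hNVW : N = V ⊔ W := by
      rw [hN']
      refine le_antisymm (sSup_le fun U hU => ?_) (sup_le (le_sSup hV) (le_sSup hW))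
      by_cases hUV : U = V
      · exact hUV ▸ le_sup_left
      refine le_trans (fun u hu => ?_) le_sup_right
      exact hcent V W hV hW hΩ hVW u fun v hv => hcomm U V hU hV hUV u hu v hv
    obtain ⟨a⟩ := hΩ
    have hinj : ∀ X Y, Min X → Min Y → (∀ x ∈ X, ∀ y ∈ Y, Commute x y) → ∀ g ∈ X, ∀ g' ∈ X, g • a = g' • a → g = g' := by
      intro X Y hX hY hXY g hg g' hg' hgg
      have := CfsgLib.Core.Primitive.eq_one_of_commute (hne Y hY) (g := g'⁻¹ * g) (ω := a)
        (by rw [mul_smul, inv_smul_eq_iff, hgg]) (fun y hy => hXY _ (mul_mem (inv_mem hg') hg) y hy)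
      rw [inv_mul_eq_one] at this
      exact this.symm
    have hex' : ∀ v : V, ∃ w : W, w • a = v⁻¹ • a := fun v => (hne W hW).exists_smul_eq a (v⁻¹ • a)
    choose φ hφ using hex'
    have hmul : ∀ v v' : V, φ (v * v') = φ v * φ v' := fun v v' => Subtype.ext <| by
      refine hinj W V hW hV (fun w hw v hv => (hVW v hv w hw).symm) _ (φ _).2 _ (φ v * φ v').2 ?_
      show φ (v * v') • a = (φ v * φ v') • a
      rw [hφ, mul_inv_rev, mul_smul, ← hφ, mul_smul, hφ v']
      show ((v'⁻¹ : V) : G) • ((φ v : W) : G) • a = ((φ v : W) : G) • ((v'⁻¹ : V) : G) • a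
      rw [← mul_smul, ← mul_smul, (hVW _ (v'⁻¹ : V).2 _ (φ v).2).eq]
    let ψ : V ≃* W := MulEquiv.ofBijective (MonoidHom.mk' φ hmul) ⟨fun v v' h => by
      have h' : φ v = φ v' := h
      have := hinj V W hV hW hVW _ (v⁻¹).2 _ (v'⁻¹).2 (show v⁻¹ • a = v'⁻¹ • a by rw [← hφ, ← hφ, h'])
      exact inv_injective (Subtype.ext this), fun w => by
      obtain ⟨v, hv⟩ := (hne V hV).exists_smul_eq a (w • a)
      exact ⟨v⁻¹, Subtype.ext (hinj W V hW hV (fun w hw v hv => (hVW v hv w hw).symm) _ (φ v⁻¹).2 _ w.2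
        (show φ v⁻¹ • a = w • a by rw [hφ, inv_inv, hv]))⟩⟩
    let χ : V × W →* G := MonoidHom.noncommCoprod V.subtype W.subtype fun v w => hVW v v.2 w w.2
    have hχ : Function.Injective χ := by
      refine (injective_iff_map_eq_one χ).2 fun ⟨v, w⟩ h => ?_
      change (v : G) * (w : G) = 1 at h
      have hv1 : (v : G) = 1 := by
        have hmem : (v : G) ∈ W := by rw [eq_inv_of_mul_eq_one_left h]; exact inv_mem w.2
        refine hinj V W hV hW hVW _ v.2 _ (one_mem V) ?_
        have hv : ∀ u ∈ V, Commute (v : G) u := fun u hu => (hVW u hu _ hmem).symm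
        have : (v : G) ∈ V ⊓ W := ⟨v.2, hmem⟩
        rcases hV.2.2 (V ⊓ W) inferInstance inf_le_left with h' | h'
        · rw [h', Subgroup.mem_bot] at this; rw [this]
        · exfalso
          exact hex V hV ⟨⟨fun x y => Subtype.ext (hVW x x.2 y ((h'.ge y.2).2)).eq⟩⟩
      rw [hv1, one_mul] at h
      exact Prod.ext (Subtype.ext hv1) (Subtype.ext h)
    have hr : χ.range = N := by
      rw [hNVW]
      refine le_antisymm ?_ (sup_le (fun v hv => ⟨(⟨v, hv⟩, 1), mul_one _⟩) (fun w hw => ⟨(1, ⟨w, hw⟩), one_mul _⟩))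
      rintro _ ⟨⟨v, w⟩, rfl⟩
      exact mul_mem (Subgroup.mem_sup_left v.2) (Subgroup.mem_sup_right w.2)
    refine ⟨T, gT, m + m, by omega, hT, hTnab, ⟨?_⟩⟩
    let P : (Fin (m + m) → T) ≃* (Fin m → T) × (Fin m → T) :=
      { toFun := fun f => (fun i => f (Fin.castAdd m i), fun i => f (Fin.natAdd m i))
        invFun := fun q => Fin.append q.1 q.2
        left_inv := fun f => Fin.append_castAdd_natAdd
        right_inv := fun q => Prod.ext (funext fun i => Fin.append_left q.1 q.2 i) (funext fun i => Fin.append_right q.1 q.2 i)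
        map_mul' := fun f g => rfl }
    exact (((MonoidHom.ofInjective hχ).trans (MulEquiv.subgroupCongr hr)).symm.trans
      (e.prodCongr (ψ.symm.trans e))).trans P.symm

end Cfsg.Agent.S3680
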