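import Cfsg.Statements.S3741
import Cfsg.Agent.Lib.CorePGroup
import Mathlib.GroupTheory.FiniteAbelian.Duality
import Mathlib.RingTheory.RootsOfUnity.AlgebraicallyClosed
import Mathlib.Analysis.Complex.Polynomial.Basic

set_option autoImplicit false
set_option maxHeartbeats 400000
open Cfsg

namespace Cfsg.Agent.S3741

open scoped commutatorElement

theorem pairing_le {G : Type*} [Group G] [Finite G] {p : ℕ} [hp : Fact p.Prime] (hG : IsPGroup p G) (A B : Subgroup G)
    (hAB : ⁅A, B⁆ ≤ A ⊓ B) (hcard : Nat.card ↥⁅A, B⁆ ≤ p) :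
    (A ⊓ Subgroup.centralizer (B : Set G)).relIndex A ≤ (B ⊓ Subgroup.centralizer (A : Set G)).relIndex B := by
  classical
  set Z := ⁅A, B⁆ with hZ
  obtain ⟨k, hk⟩ := IsPGroup.iff_card.1 (hG.to_subgroup Z)
  have hk1 : k ≤ 1 := by
    by_contra hlt
    have h1 : p ^ 1 < p ^ k := Nat.pow_lt_pow_right hp.out.one_lt (by omega)
    rw [pow_one, ← hk] at h1
    omega
  haveI hcyc : IsCyclic Z := by
    interval_cases k
    · haveI : Subsingleton Z := (Nat.card_eq_one_iff_unique.1 hk).1
      exact isCyclic_of_subsingleton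
    · exact isCyclic_of_prime_card (p := p) (hk.trans (pow_one p))
  -- `Z` is centralized by `A` and `B`
  have hcent : ∀ z ∈ Z, ∀ g ∈ A ⊔ B, z * g = g * z := by
    intro z hz g hg
    set W := A ⊔ B
    have hZW : Z ≤ W := hAB.trans (inf_le_left.trans le_sup_left)
    haveI hn : (Z.subgroupOf W).Normal :=
      (Subgroup.normal_subgroupOf_iff_le_normalizer hZW).2 (by
        rw [hZ]; exact sup_le (Subgroup.normalizer_commutator_ge_left A B) (Subgroup.normalizer_commutator_ge_right A B))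
    haveI := (hG.to_subgroup W).isNilpotent
    rcases eq_or_ne (Z.subgroupOf W) ⊥ with h | h
    · have : (⟨z, hZW hz⟩ : W) = 1 := Subgroup.mem_bot.1 (h.le hz)
      rw [show z = 1 from congrArg Subtype.val this, one_mul, mul_one]
    · have h2 := CfsgLib.Core.nilpotent_inf_center_ne_bot (N := Z.subgroupOf W) h
      have hc : Nat.card (Z.subgroupOf W) = Nat.card Z := Nat.card_congr (Subgroup.subgroupOfEquivOfLe hZW).toEquiv
      have hd := Subgroup.card_dvd_of_le (inf_le_left : Z.subgroupOf W ⊓ Subgroup.center W ≤ Z.subgroupOf W)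
      rw [hc, hk] at hd
      have hk' : k = 1 := by
        rcases Nat.le_one_iff_eq_zero_or_eq_one.1 hk1 with rfl | e
        · exact absurd (Subgroup.card_eq_one.1 (hc.trans (hk.trans (pow_zero p)))) h
        · exact e
      rw [hk', pow_one] at hd
      have h3 : Z.subgroupOf W ⊓ Subgroup.center W = Z.subgroupOf W := by
        refine CfsgLib.Core.eq_of_le_of_card_le inf_le_left ?_
        rcases hp.out.eq_one_or_self_of_dvd _ hd with e | e
        · exact absurd (Subgroup.card_eq_one.1 e) h2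
        · rw [e, hc, hk, hk', pow_one]
      have h4 : (⟨z, hZW hz⟩ : W) ∈ Subgroup.center W := (h3.ge (Subgroup.mem_subgroupOf.2 hz)).2
      exact (congrArg Subtype.val (Subgroup.mem_center_iff.1 h4 ⟨g, hg⟩)).symm
  letI : CommGroup Z := { (inferInstance : Group Z) with
    mul_comm := fun a b => Subtype.ext (hcent a a.2 b ((hAB.trans (inf_le_left.trans le_sup_left)) b.2)) }
  let ψ : B →* (A →* Z) := MonoidHom.mk'
    (fun b => MonoidHom.mk' (fun a => ⟨⁅(a : G), (b : G)⁆, Subgroup.commutator_mem_commutator a.2 b.2⟩)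
      fun a a' => Subtype.ext (by
        show ⁅(a : G) * a', (b : G)⁆ = ⁅(a : G), (b : G)⁆ * ⁅(a' : G), (b : G)⁆
        have h := hcent _ (Subgroup.commutator_mem_commutator a'.2 b.2) (a : G) (Subgroup.mem_sup_left a.2)
        calc ⁅(a : G) * a', (b : G)⁆ = ((a : G) * ⁅(a' : G), (b : G)⁆) * (a : G)⁻¹ * ⁅(a : G), (b : G)⁆ := by
              rw [commutatorElement_def, commutatorElement_def, commutatorElement_def]; group
          _ = ⁅(a' : G), (b : G)⁆ * ⁅(a : G), (b : G)⁆ := by rw [← h]; group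
          _ = _ := hcent _ (Subgroup.commutator_mem_commutator a'.2 b.2) _
              ((hAB.trans (inf_le_left.trans le_sup_left)) (Subgroup.commutator_mem_commutator a.2 b.2))))
    fun b b' => MonoidHom.ext fun a => Subtype.ext (by
      show ⁅(a : G), (b : G) * b'⁆ = ⁅(a : G), (b : G)⁆ * ⁅(a : G), (b' : G)⁆
      have h := hcent _ (Subgroup.commutator_mem_commutator a.2 b'.2) (b : G) (Subgroup.mem_sup_right b.2)
      calc ⁅(a : G), (b : G) * b'⁆ = ⁅(a : G), (b : G)⁆ * ((b : G) * ⁅(a : G), (b' : G)⁆) * (b : G)⁻¹ := by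
            rw [commutatorElement_def, commutatorElement_def, commutatorElement_def]; group
        _ = _ := by rw [← h]; group)
  haveI : NeZero (Monoid.exponent Z) := ⟨Monoid.ExponentExists.of_finite.exponent_ne_zero⟩
  obtain ⟨e⟩ := CommGroup.monoidHom_mulEquiv_of_hasEnoughRootsOfUnity Z ℂ
  obtain ⟨g₀, hg₀⟩ := IsCyclic.exists_generator (α := Z)
  haveI : Finite (ψ.range) := Finite.of_surjective ψ.rangeRestrict ψ.rangeRestrict_surjective
  haveI : NeZero (Monoid.exponent ψ.range) := ⟨Monoid.ExponentExists.of_finite.exponent_ne_zero⟩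
  -- a faithful character of `Z`
  obtain ⟨ι, hι⟩ : ∃ ι : Z →* ℂˣ, Function.Injective ι := by
    refine ⟨e.symm g₀, (injective_iff_map_eq_one _).2 fun z hz => ?_⟩
    refine (CommGroup.forall_apply_eq_apply_iff Z (M := ℂ)).1 fun φ => ?_
    obtain ⟨i, hi⟩ := Subgroup.mem_zpowers_iff.1 (hg₀ (e φ))
    have hφ : φ = (e.symm g₀) ^ i := by rw [← map_zpow, hi, MulEquiv.symm_apply_apply]
    rw [hφ, MonoidHom.zpow_apply, MonoidHom.zpow_apply, hz, map_one]
  let Φ : A →* (ψ.range →* ℂˣ) := MonoidHom.mk'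
    (fun a => MonoidHom.mk' (fun f => ι (f.1 a)) fun f f' => by simp)
    fun a a' => MonoidHom.ext fun f => by simp
  have hker : Φ.ker = (A ⊓ Subgroup.centralizer (B : Set G)).subgroupOf A := by
    ext a
    constructor
    · intro ha
      refine ⟨a.2, Subgroup.mem_centralizer_iff.2 fun b hb => ?_⟩
      have h1 : ι (ψ ⟨b, hb⟩ a) = ι 1 := by
        rw [map_one]
        exact DFunLike.congr_fun ha (⟨ψ ⟨b, hb⟩, _, rfl⟩ : ψ.range)
      have h2 : ⁅(a : G), b⁆ = 1 := congrArg Subtype.val (hι h1)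
      exact (commutatorElement_eq_one_iff_mul_comm.1 h2).symm
    · rintro ⟨-, ha⟩
      refine MonoidHom.ext fun f => ?_
      obtain ⟨b, hb⟩ := f.2
      show ι (f.1 a) = 1
      rw [← hb, show ψ b a = 1 from Subtype.ext
        (commutatorElement_eq_one_iff_mul_comm.2 (Subgroup.mem_centralizer_iff.1 ha b b.2).symm), map_one]
  have hA : (A ⊓ Subgroup.centralizer (B : Set G)).relIndex A = Nat.card Φ.range := by
    rw [← Subgroup.index_ker, hker]; rfl
  have hB : Nat.card ψ.range ≤ (B ⊓ Subgroup.centralizer (A : Set G)).relIndex B := by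
    rw [← Subgroup.index_ker]
    refine Nat.le_of_dvd (Nat.pos_of_ne_zero Subgroup.index_ne_zero_of_finite) (Subgroup.index_dvd_of_le ?_)
    rintro b ⟨-, hb⟩
    refine MonoidHom.ext fun a => Subtype.ext ?_
    exact commutatorElement_eq_one_iff_mul_comm.2 (Subgroup.mem_centralizer_iff.1 hb a a.2)
  obtain ⟨eψ⟩ := CommGroup.monoidHom_mulEquiv_of_hasEnoughRootsOfUnity ψ.range ℂ
  haveI : Finite (ψ.range →* ℂˣ) := Finite.of_equiv _ eψ.symm.toEquiv
  rw [hA]
  refine le_trans ?_ hB
  calc Nat.card Φ.range ≤ Nat.card (ψ.range →* ℂˣ) := Nat.card_le_card_of_injective _ Φ.range.subtype_injective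
    _ = Nat.card ψ.range := Nat.card_congr eψ.toEquiv


/-- Let A and B be subgroups of a finite p-group with [A, B] ≤ A ∩ B and [A, B] of order at most p. Then |A : C_A(B)| = |B : C_B(A)|. -/
theorem result {G : Type*} [Group G] [Finite G] {p : ℕ} [Fact p.Prime] (hG : IsPGroup p G) (A B : Subgroup G) (hAB : ⁅A, B⁆ ≤ A ⊓ B) (hcard : Nat.card ↥⁅A, B⁆ ≤ p) : (A ⊓ Subgroup.centralizer (B : Set G)).relIndex A = (B ⊓ Subgroup.centralizer (A : Set G)).relIndex B := by
  refine le_antisymm (pairing_le hG A B hAB hcard) (pairing_le hG B A ?_ ?_)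
  · rw [Subgroup.commutator_comm, inf_comm]; exact hAB
  · rw [Subgroup.commutator_comm]; exact hcard

end Cfsg.Agent.S3741
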