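import Cfsg.Statements.S3807
import Cfsg.Agent.Lib.TransferMore
import Cfsg.Agent.Lib.CorePGroup

set_option autoImplicit false
open Cfsg
open scoped commutatorElement

namespace Cfsg.Agent.S3807

/-- Let S be a non-abelian finite p-group with an abelian subgroup A of index p. Then [S : Z(S)] = p·#[S,S], and either [S,S] has order p, S/Z(S) is elementary abelian of order p², and S has exactly p + 1 abelian subgroups of index p; or [S,S] has order at least p² and A is the only abelian subgroup of index p in S. -/
theorem result {S : Type*} [Group S] [Finite S] (p : ℕ) [Fact p.Prime] (hS : IsPGroup p S) (hna : ¬ IsMulCommutative S)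
    (A : Subgroup S) (hA : IsMulCommutative ↥A) (hAi : A.index = p) :
    (Subgroup.center S).index = p * Nat.card (commutator S) ∧
      ((Nat.card (commutator S) = p ∧ Cfsg.IsElementaryAbelian p (⊤ : Subgroup (S ⧸ Subgroup.center S)) ∧
          Nat.card (S ⧸ Subgroup.center S) = p ^ 2 ∧
          Nat.card {B : Subgroup S // IsMulCommutative ↥B ∧ B.index = p} = p + 1) ∨
        (p ^ 2 ≤ Nat.card (commutator S) ∧ ∀ B : Subgroup S, IsMulCommutative ↥B → B.index = p → B = A)) := by
  classical
  have hp := (Fact.out : p.Prime)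
  haveI := hA
  haveI := hS.isNilpotent
  have hmulA : ∀ x ∈ A, ∀ y ∈ A, x * y = y * x := fun x hx y hy =>
    (Subgroup.mem_centralizer_iff.1 (A.le_centralizer hx) y hy).symm
  have hco : ∀ B : Subgroup S, B.index = p → IsCoatom B := by
    intro B hB
    refine ⟨fun e => ?_, fun K hK => ?_⟩
    · rw [e, Subgroup.index_top] at hB; exact hp.ne_one hB.symm
    · have h2 := Subgroup.relIndex_mul_index hK.le
      rw [hB] at h2
      rcases hp.eq_one_or_self_of_dvd _ (Dvd.intro_left _ h2) with e | e
      · exact Subgroup.index_eq_one.1 e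
      · rw [e, Nat.mul_eq_right hp.ne_zero, Subgroup.relIndex_eq_one] at h2
        exact absurd (le_antisymm hK.le h2) hK.ne
  have hnab : ¬ ∀ x y : S, x * y = y * x := fun h => hna (.of_comm h)
  have hZle : ∀ B : Subgroup S, IsMulCommutative B → B.index = p → Subgroup.center S ≤ B := by
    intro B hB hBi
    haveI := hB
    by_contra hne
    have h1 : B ⊔ Subgroup.center S = ⊤ :=
      (hco B hBi).2 _ (lt_of_le_of_ne le_sup_left fun e => hne (e ▸ le_sup_right))
    have h2 : B ⊔ Subgroup.center S ≤ Subgroup.centralizer ((B ⊔ Subgroup.center S : Subgroup S) : Set S) := by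
      refine sup_le ?_ (Subgroup.center_le_centralizer _)
      rw [Subgroup.le_centralizer_iff]
      exact sup_le B.le_centralizer (Subgroup.center_le_centralizer _)
    rw [h1] at h2
    exact hnab fun x y => Subgroup.mem_centralizer_iff.1 (h2 (Subgroup.mem_top y)) x (Subgroup.mem_top _)
  haveI hAn : A.Normal := (CfsgLib.Core.index_of_coatom_pgroup hS (hco A hAi)).1
  obtain ⟨g, hg⟩ : ∃ g, g ∉ A := by
    by_contra h; push Not at h
    exact (hco A hAi).1 (eq_top_iff.2 fun x _ => h x)
  have htop : A ⊔ Subgroup.zpowers g = ⊤ :=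
    (hco A hAi).2 _ (lt_of_le_of_ne le_sup_left fun e => hg (e ▸ Subgroup.mem_sup_right (Subgroup.mem_zpowers g)))
  have hin : ∀ a ∈ A, ⁅a, g⁆ ∈ A := fun a ha => by
    rw [commutatorElement_def, show a * g * a⁻¹ * g⁻¹ = a * (g * a⁻¹ * g⁻¹) by group]
    exact mul_mem ha (hAn.conj_mem _ (inv_mem ha) g)
  let φ : A →* S := MonoidHom.mk' (fun a => ⁅(a : S), g⁆) fun a b => by
    show ⁅(a : S) * b, g⁆ = ⁅(a : S), g⁆ * ⁅(b : S), g⁆
    calc ⁅(a : S) * b, g⁆ = (a : S) * ⁅(b : S), g⁆ * (a : S)⁻¹ * ⁅(a : S), g⁆ := by
          simp only [commutatorElement_def, mul_inv_rev]; group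
      _ = ⁅(b : S), g⁆ * ⁅(a : S), g⁆ := by rw [hmulA _ a.2 _ (hin _ b.2)]; group
      _ = _ := hmulA _ (hin _ b.2) _ (hin _ a.2)
  have hker : φ.ker = (Subgroup.center S).subgroupOf A := by
    ext a
    rw [MonoidHom.mem_ker, Subgroup.mem_subgroupOf]
    show ⁅(a : S), g⁆ = 1 ↔ _
    rw [commutatorElement_eq_one_iff_mul_comm]
    refine ⟨fun h => ?_, fun h => (Subgroup.mem_center_iff.1 h g).symm⟩
    have h2 : A ⊔ Subgroup.zpowers g ≤ Subgroup.centralizer {(a : S)} := by
      refine sup_le (fun x hx => ?_) (Subgroup.zpowers_le.2 ?_)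
      · rw [Subgroup.mem_centralizer_singleton_iff]; exact hmulA x hx a a.2
      · rw [Subgroup.mem_centralizer_singleton_iff]; exact h.symm
    rw [Subgroup.mem_center_iff]
    intro x
    exact Subgroup.mem_centralizer_singleton_iff.1 (h2 (htop ▸ Subgroup.mem_top x))
  have hZA := hZle A hA hAi
  -- the image is the derived subgroup
  have hrange : φ.range = commutator S := by
    refine le_antisymm ?_ ?_
    · rintro _ ⟨a, rfl⟩
      rw [_root_.commutator_def]
      exact Subgroup.commutator_mem_commutator (Subgroup.mem_top _) (Subgroup.mem_top _)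
    · haveI hRn : φ.range.Normal := by
        rw [← Subgroup.normalizer_eq_top_iff, eq_top_iff, ← htop]
        refine sup_le ?_ (Subgroup.zpowers_le.2 ?_)
        · refine le_trans ?_ (Subgroup.centralizer_le_normalizer _)
          intro x hx
          rw [Subgroup.mem_centralizer_iff]
          rintro _ ⟨a, rfl⟩
          exact hmulA _ (hin _ a.2) x hx
        · have hfix : ∀ a : A, g * φ a * g⁻¹ = φ ⟨g * a * g⁻¹, hAn.conj_mem _ a.2 g⟩ := fun a => by
            show g * ⁅(a : S), g⁆ * g⁻¹ = ⁅g * (a : S) * g⁻¹, g⁆
            simp only [commutatorElement_def, mul_inv_rev]; group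
          rw [Subgroup.mem_normalizer_iff]
          intro x
          refine ⟨?_, ?_⟩
          · rintro ⟨a, rfl⟩; exact ⟨_, (hfix a).symm⟩
          · rintro ⟨a, ha⟩
            refine ⟨⟨g⁻¹ * a * g, by simpa using hAn.conj_mem _ a.2 g⁻¹⟩, ?_⟩
            show ⁅g⁻¹ * (a : S) * g, g⁆ = x
            have ha' : ⁅(a : S), g⁆ = g * x * g⁻¹ := ha
            rw [show ⁅g⁻¹ * (a : S) * g, g⁆ = g⁻¹ * ⁅(a : S), g⁆ * g by
              simp only [commutatorElement_def, mul_inv_rev]; group, ha']
            group
      set q := QuotientGroup.mk' φ.range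
      have h1 : ∀ a ∈ A, Commute (q a) (q g) := fun a ha => by
        rw [← commutatorElement_eq_one_iff_commute, ← map_commutatorElement]
        exact (QuotientGroup.eq_one_iff _).2 ⟨⟨a, ha⟩, rfl⟩
      have h2 : A ⊔ Subgroup.zpowers g ≤ (Subgroup.center (S ⧸ φ.range)).comap q := by
        refine sup_le (fun a ha => ?_) (Subgroup.zpowers_le.2 ?_) <;>
          rw [Subgroup.mem_comap, Subgroup.mem_center_iff] <;> intro y <;>
          obtain ⟨y, rfl⟩ := QuotientGroup.mk'_surjective φ.range y
        · have h3 : A ⊔ Subgroup.zpowers g ≤ (Subgroup.centralizer {q a}).comap q :=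
            sup_le (fun b hb => Subgroup.mem_comap.2 (Subgroup.mem_centralizer_singleton_iff.2 (by
              rw [← map_mul, ← map_mul, hmulA b hb a ha])))
              (Subgroup.zpowers_le.2 (Subgroup.mem_comap.2 (Subgroup.mem_centralizer_singleton_iff.2 (h1 a ha).eq.symm)))
          exact Subgroup.mem_centralizer_singleton_iff.1 (Subgroup.mem_comap.1 (h3 (htop ▸ Subgroup.mem_top y)))
        · have h3 : A ⊔ Subgroup.zpowers g ≤ (Subgroup.centralizer {q g}).comap q :=
            sup_le (fun b hb => Subgroup.mem_comap.2 (Subgroup.mem_centralizer_singleton_iff.2 (h1 b hb).eq))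
              (Subgroup.zpowers_le.2 (Subgroup.mem_comap.2 (Subgroup.mem_centralizer_singleton_iff.2 rfl)))
          exact Subgroup.mem_centralizer_singleton_iff.1 (Subgroup.mem_comap.1 (h3 (htop ▸ Subgroup.mem_top y)))
      rw [_root_.commutator_def, Subgroup.commutator_le]
      intro x _ y _
      rw [← QuotientGroup.eq_one_iff (N := φ.range)]
      show q ⁅x, y⁆ = 1
      rw [map_commutatorElement, commutatorElement_eq_one_iff_mul_comm]
      exact Subgroup.mem_center_iff.1 (h2 (htop ▸ Subgroup.mem_top y)) (q x)
  have hidx : (Subgroup.center S).index = p * Nat.card (commutator S) := by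
    rw [← hrange, ← Subgroup.index_ker, hker, ← hAi, mul_comm]
    exact (Subgroup.relIndex_mul_index hZA).symm
  refine ⟨hidx, ?_⟩
  obtain ⟨k, hk⟩ := IsPGroup.iff_card.1 (hS.to_subgroup (commutator S))
  have hk0 : k ≠ 0 := fun e => hnab fun x y => by
    rw [e, pow_zero, Subgroup.card_eq_one] at hk
    rw [← commutatorElement_eq_one_iff_mul_comm, ← Subgroup.mem_bot, ← hk, _root_.commutator_def]
    exact Subgroup.commutator_mem_commutator (Subgroup.mem_top _) (Subgroup.mem_top _)
  by_cases hk1 : k = 1
  · left
    rw [hk1, pow_one] at hk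
    have hcentral : commutator S ≤ Subgroup.center S := by
      have h1 := CfsgLib.Core.nilpotent_inf_center_ne_bot (N := commutator S)
        (fun e => hp.ne_one (by rw [← hk, e, Subgroup.card_bot]))
      have h2 := Subgroup.card_dvd_of_le (inf_le_left : commutator S ⊓ Subgroup.center S ≤ commutator S)
      rw [hk] at h2
      rcases hp.eq_one_or_self_of_dvd _ h2 with e | e
      · exact absurd (Subgroup.card_eq_one.1 e) h1
      · exact inf_eq_left.1 (CfsgLib.Core.eq_of_le_of_card_le inf_le_left (by rw [e, hk]))
    have hexp : ∀ v : S ⧸ Subgroup.center S, v ^ p = 1 := by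
      intro v
      induction v using QuotientGroup.induction_on with
      | _ x =>
        rw [← QuotientGroup.mk_pow, QuotientGroup.eq_one_iff, Subgroup.mem_center_iff]
        intro y
        have hxy : ⁅x, y⁆ ∈ commutator S := by
          rw [_root_.commutator_def]; exact Subgroup.commutator_mem_commutator (Subgroup.mem_top _) (Subgroup.mem_top _)
        refine (commutatorElement_eq_one_iff_mul_comm.1 ?_).symm
        rw [CfsgLib.Transfer.commutator_pow_left (hcentral hxy)]
        have := pow_card_eq_one' (G := commutator S) (x := ⟨_, hxy⟩)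
        rw [hk] at this
        exact congrArg Subtype.val this
    have hcardV : Nat.card (S ⧸ Subgroup.center S) = p ^ 2 := by
      rw [← Subgroup.index_eq_card, hidx, hk, pow_two]
    have hab : ∀ v w : S ⧸ Subgroup.center S, v * w = w * v := fun v w =>
      IsPGroup.commutative_of_card_eq_prime_sq hcardV v w
    refine ⟨hk, ⟨.of_comm fun v w => Subtype.ext (hab v w), fun v _ => hexp v⟩, hcardV, ?_⟩
    set V := S ⧸ Subgroup.center S
    haveI : Fintype V := Fintype.ofFinite V
    set q := QuotientGroup.mk' (Subgroup.center S)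
    -- correspondence
    have e : {B : Subgroup S // IsMulCommutative ↥B ∧ B.index = p} ≃ {K : Subgroup V // Nat.card K = p} :=
      { toFun := fun B => ⟨B.1.map q, by
          have h1 := Subgroup.card_mul_index (B.1.map q)
          rw [Subgroup.index_map_eq _ (QuotientGroup.mk'_surjective _)
            (by rw [QuotientGroup.ker_mk']; exact hZle _ B.2.1 B.2.2), B.2.2, hcardV, pow_two] at h1
          exact Nat.eq_of_mul_eq_mul_right hp.pos h1⟩
        invFun := fun K => ⟨K.1.comap q, by
          haveI : IsCyclic K.1 := isCyclic_of_prime_card (p := p) K.2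
          obtain ⟨⟨w, hw⟩, hgen⟩ := IsCyclic.exists_generator (α := K.1)
          obtain ⟨u, rfl⟩ := QuotientGroup.mk'_surjective _ w
          refine ⟨.of_comm fun x y => Subtype.ext ?_, ?_⟩
          · have hform : ∀ x : S, q x ∈ K.1 → ∃ z ∈ Subgroup.center S, ∃ i : ℤ, x = u ^ i * z := by
              intro x hx
              obtain ⟨i, hi⟩ := Subgroup.mem_zpowers_iff.1 (hgen ⟨q x, hx⟩)
              have hi' : (q u) ^ i = q x := congrArg Subtype.val hi
              refine ⟨(u ^ i)⁻¹ * x, ?_, i, by group⟩
              rw [← QuotientGroup.eq_one_iff]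
              show q ((u ^ i)⁻¹ * x) = 1
              rw [map_mul, map_inv, map_zpow, hi', inv_mul_cancel]
            obtain ⟨z, hz, i, hi⟩ := hform x x.2
            obtain ⟨z', hz', j, hj⟩ := hform y y.2
            show (x : S) * y = y * x
            have hzc := fun w => (Subgroup.mem_center_iff.1 hz w : w * z = z * w)
            have hzc' := fun w => (Subgroup.mem_center_iff.1 hz' w : w * z' = z' * w)
            rw [hi, hj]
            exact Commute.mul_left (Commute.mul_right (Commute.zpow_zpow (Commute.refl u) i j) (hzc' _))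
              (Commute.mul_right (hzc _).symm (hzc' _)).eq
          · rw [Subgroup.index_comap_of_surjective _ (QuotientGroup.mk'_surjective _)]
            have h1 := Subgroup.card_mul_index K.1
            rw [K.2, hcardV, pow_two] at h1
            exact Nat.eq_of_mul_eq_mul_left hp.pos h1⟩
        left_inv := fun B => Subtype.ext (by
          show (B.1.map q).comap q = B.1
          rw [Subgroup.comap_map_eq, QuotientGroup.ker_mk', sup_eq_left.2 (hZle _ B.2.1 B.2.2)])
        right_inv := fun K => Subtype.ext (Subgroup.map_comap_eq_self_of_surjective (QuotientGroup.mk'_surjective _) _) }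
    rw [Nat.card_congr e]
    haveI : Fintype {K : Subgroup V // Nat.card K = p} := Fintype.ofFinite _
    rw [Nat.card_eq_fintype_card]
    have hord : ∀ v : V, v ≠ 1 → Nat.card (Subgroup.zpowers v) = p := fun v hv => by
      rw [Nat.card_zpowers]; exact orderOf_eq_prime (hexp v) hv
    let T : Finset V := Finset.univ.erase 1
    let f : V → Option {K : Subgroup V // Nat.card K = p} := fun v =>
      if h : v ≠ 1 then some ⟨Subgroup.zpowers v, hord v h⟩ else none
    have hT := Finset.card_eq_sum_card_fiberwise (s := T) (f := f)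
      (t := (Finset.univ : Finset {K : Subgroup V // Nat.card K = p}).image some) (by
        intro v hv
        have hv1 : v ≠ 1 := (Finset.mem_erase.1 hv).1
        simp only [f, dif_pos hv1, Finset.coe_image, Finset.coe_univ, Set.image_univ, Set.mem_range]
        exact ⟨_, rfl⟩)
    rw [Finset.sum_image (fun a _ b _ h => Option.some_injective _ h), Finset.sum_const_nat (m := p - 1)] at hT
    · rw [Finset.card_erase_of_mem (Finset.mem_univ _), Finset.card_univ, ← Nat.card_eq_fintype_card, hcardV,
        Finset.card_univ] at hT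
      obtain ⟨m, rfl⟩ : ∃ m, p = m + 1 := ⟨p - 1, by have := hp.pos; omega⟩
      simp only [Nat.add_sub_cancel] at hT
      have hm : 0 < m := by have := hp.two_le; omega
      refine Nat.eq_of_mul_eq_mul_right hm ?_
      rw [← hT, show (m + 1) ^ 2 = (m + 1 + 1) * m + 1 by ring]
      rfl
    · intro K _
      have h1 : (T.filter fun v => f v = some K) = (Finset.univ.filter fun v : V => v ∈ K.1).erase 1 := by
        ext v
        simp only [T, Finset.mem_filter, Finset.mem_erase, Finset.mem_univ, and_true, true_and]
        refine ⟨fun ⟨hv, he⟩ => ⟨hv, ?_⟩, fun ⟨hv, hvK⟩ => ⟨hv, ?_⟩⟩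
        · simp only [f, dif_pos hv, Option.some.injEq] at he
          rw [← he]; exact Subgroup.mem_zpowers v
        · simp only [f, dif_pos hv, Option.some.injEq]
          exact Subtype.ext (CfsgLib.Core.eq_of_le_of_card_le (Subgroup.zpowers_le.2 hvK) (by rw [hord v hv, K.2]))
      rw [h1, Finset.card_erase_of_mem (by simp), ← Fintype.card_subtype, ← Nat.card_eq_fintype_card]
      exact congrArg (· - 1) K.2
  · right
    have hk2 : p ^ 2 ≤ Nat.card (commutator S) := hk ▸ Nat.pow_le_pow_right hp.pos (by omega)
    refine ⟨hk2, fun B hB hBi => ?_⟩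
    by_contra hne
    haveI := hB
    have h1 : A ⊔ B = ⊤ := (hco A hAi).2 _ (lt_of_le_of_ne le_sup_left fun e => hne
      (CfsgLib.Core.eq_of_le_of_card_le (sup_eq_left.1 e.symm) (by
        have a1 := Subgroup.card_mul_index A
        have a2 := Subgroup.card_mul_index B
        rw [hAi] at a1; rw [hBi] at a2
        exact le_of_eq (Nat.eq_of_mul_eq_mul_right hp.pos (a1.trans a2.symm)))))
    have h2 : A ⊓ B ≤ Subgroup.center S := by
      rw [← Subgroup.centralizer_univ, ← Subgroup.coe_top, Subgroup.le_centralizer_iff, ← h1]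
      refine sup_le ?_ ?_
      · exact Subgroup.le_centralizer_iff.1 (inf_le_left.trans A.le_centralizer)
      · exact Subgroup.le_centralizer_iff.1 (inf_le_right.trans B.le_centralizer)
    have h3 : (Subgroup.center S).index ≤ p * p :=
      (Nat.le_of_dvd (Nat.pos_of_ne_zero Subgroup.index_ne_zero_of_finite) (Subgroup.index_dvd_of_le h2)).trans
        (Subgroup.index_inf_le.trans (le_of_eq (by rw [hAi, hBi])))
    rw [hidx] at h3
    have := hk2.trans (Nat.le_of_mul_le_mul_left h3 hp.pos)
    rw [pow_two] at this
    have := hp.two_le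
    nlinarith

end Cfsg.Agent.S3807
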