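import Cfsg.Statements.S3808
import Cfsg.Agent.Lib.CorePGroup

set_option autoImplicit false
set_option maxHeartbeats 200000
open Cfsg

namespace Cfsg.Agent.S3808

/-- Let S be a finite p-group with an extraspecial subgroup Q of index p. Then either Z(S) = Z(Q), or S = Q·Z(S) and Z(S) has order p². -/
theorem result {S : Type*} [Group S] [Finite S] (p : ℕ) [Fact p.Prime] (hS : IsPGroup p S) (Q : Subgroup S) (hQ : Cfsg.IsExtraspecial p ↥Q) (hQi : Q.index = p) :
    Subgroup.center S = (Subgroup.center ↥Q).map Q.subtype ∨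
      (Q ⊔ Subgroup.center S = ⊤ ∧ Nat.card (Subgroup.center S) = p ^ 2) := by
  have hp := (Fact.out : p.Prime)
  haveI := hS.isNilpotent
  haveI : Q.Normal := by
    rw [← Subgroup.normalizer_eq_top_iff]
    have hne : Q ≠ ⊤ := fun e => by rw [e, Subgroup.index_top] at hQi; exact hp.ne_one hQi.symm
    have hlt := Group.normalizerCondition_of_isNilpotent Q (lt_top_iff_ne_top.2 hne)
    rw [← Subgroup.index_eq_one]
    have h1 := Subgroup.relIndex_mul_index hlt.le
    rw [hQi] at h1
    rcases hp.eq_one_or_self_of_dvd _ (Dvd.intro_left _ h1) with h2 | h2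
    · exact h2
    · rw [h2] at h1
      have h3 : Q.relIndex (Subgroup.normalizer (Q : Set S)) = 1 :=
        Nat.eq_of_mul_eq_mul_right hp.pos (h1.trans (one_mul p).symm)
      exact absurd (Subgroup.relIndex_eq_one.1 h3) hlt.not_ge
  set W := (Subgroup.center Q).map Q.subtype with hW
  have hWcard : Nat.card W = p := by
    rw [hW, Subgroup.card_map_of_injective Q.subtype_injective]; exact hQ.2
  haveI hWn : W.Normal := ConjAct.normal_of_characteristic_of_normal
  have hWZ : W ≤ Subgroup.center S := by
    have hne : W ≠ ⊥ := fun e => by rw [e, Subgroup.card_bot] at hWcard; exact hp.ne_one hWcard.symm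
    have h := CfsgLib.Core.nilpotent_inf_center_ne_bot (N := W) hne
    refine le_of_eq_of_le ?_ (inf_le_right : W ⊓ Subgroup.center S ≤ _)
    refine (CfsgLib.Core.eq_of_le_of_card_le inf_le_left ?_).symm
    have hd : Nat.card (W ⊓ Subgroup.center S : Subgroup S) ∣ Nat.card W := Subgroup.card_dvd_of_le inf_le_left
    rw [hWcard] at hd ⊢
    rcases hp.eq_one_or_self_of_dvd _ hd with h2 | h2
    · exact absurd (Subgroup.card_eq_one.1 h2) h
    · exact h2.ge
  have hinf : Subgroup.center S ⊓ Q = W := by
    refine le_antisymm (fun x hx => ⟨⟨x, hx.2⟩, Subgroup.mem_center_iff.2 fun y => Subtype.ext ?_, rfl⟩)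
      (le_inf hWZ (Subgroup.map_subtype_le _))
    exact Subgroup.mem_center_iff.1 hx.1 y
  by_cases h : Subgroup.center S ≤ Q
  · exact Or.inl (by rw [inf_eq_left.2 h] at hinf; exact hinf)
  refine Or.inr ?_
  have htop : Q ⊔ Subgroup.center S = ⊤ := by
    rw [← Subgroup.index_eq_one]
    have hd : (Q ⊔ Subgroup.center S).index ∣ p :=
      (Subgroup.index_dvd_of_le (le_sup_left : Q ≤ Q ⊔ Subgroup.center S)).trans (dvd_of_eq hQi)
    rcases hp.eq_one_or_self_of_dvd _ hd with h1 | h1
    · exact h1
    · exfalso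
      refine h ?_
      have : Q = Q ⊔ Subgroup.center S := by
        refine CfsgLib.Core.eq_of_le_of_card_le le_sup_left ?_
        have h2 := Q.index_mul_card
        have h3 := (Q ⊔ Subgroup.center S).index_mul_card
        rw [hQi] at h2
        rw [h1, ← h2] at h3
        exact (Nat.eq_of_mul_eq_mul_left hp.pos h3).le
      exact le_sup_right.trans this.ge
  refine ⟨htop, ?_⟩
  have h1 := CfsgLib.Core.card_sup_mul_card_inf (A := Q) (K := Subgroup.center S)
    (le_top.trans (Subgroup.normalizer_eq_top (Subgroup.center S)).ge)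
  rw [htop, inf_comm, hinf, hWcard, Subgroup.card_top, ← Q.index_mul_card, hQi] at h1
  refine (Nat.eq_of_mul_eq_mul_left (Nat.card_pos (α := Q)) ?_).symm
  rw [← h1]; ring

end Cfsg.Agent.S3808
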