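import Cfsg.Statements.S3809
import Cfsg.Agent.Lib.TransferMore
import Cfsg.Agent.Lib.TransferApps

set_option autoImplicit false
open Cfsg

namespace Cfsg.Agent.S3809

/-- Let S be a finite p-group with an extraspecial subgroup of index p. Then S has order p^(2+2n) for some n ≥ 1, derived length at most 3, and exponent dividing p³. -/
theorem result {S : Type*} [Group S] [Finite S] (p : ℕ) [Fact p.Prime] (hS : IsPGroup p S) (Q : Subgroup S) (hQ : Cfsg.IsExtraspecial p ↥Q) (hQi : Q.index = p) :
    (∃ n : ℕ, 1 ≤ n ∧ Nat.card S = p ^ (2 + 2 * n)) ∧ derivedSeries S 3 = ⊥ ∧ ∀ x : S, x ^ (p ^ 3) = 1 := by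
  obtain ⟨n, hn, hcard⟩ := CfsgLib.Transfer.extraspecial_card hQ
  haveI hQn : Q.Normal := by
    have h1 : IsCoatom Q := by
      refine ⟨fun e => ?_, fun K hK => ?_⟩
      · rw [e, Subgroup.index_top] at hQi; exact (Fact.out : p.Prime).ne_one hQi.symm
      · have h2 := Subgroup.relIndex_mul_index hK.le
        rw [hQi] at h2
        rcases (Fact.out : p.Prime).eq_one_or_self_of_dvd _ (Dvd.intro_left _ h2) with e | e
        · exact Subgroup.index_eq_one.1 e
        · rw [e, Nat.mul_eq_right (Fact.out : p.Prime).ne_zero, Subgroup.relIndex_eq_one] at h2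
          exact absurd (le_antisymm hK.le h2) hK.ne
    exact (CfsgLib.Core.index_of_coatom_pgroup hS h1).1
  refine ⟨⟨n, hn, ?_⟩, ?_, ?_⟩
  · rw [← Subgroup.card_mul_index Q, hQi, hcard, ← pow_succ]; congr 1; omega
  · have h1 : derivedSeries S 1 ≤ Q := by
      rw [derivedSeries_one]
      haveI : IsCyclic (S ⧸ Q) := isCyclic_of_prime_card (p := p) (by rw [← Subgroup.index_eq_card]; exact hQi)
      exact Subgroup.Normal.quotient_commutative_iff_commutator_le.1 inferInstance
    rw [eq_bot_iff]
    have h3 : ∀ k, derivedSeries S (k + 1) ≤ (derivedSeries Q k).map Q.subtype := by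
      intro k
      induction k with
      | zero => rw [derivedSeries_zero, ← MonoidHom.range_eq_map, Subgroup.range_subtype]; exact h1
      | succ k ih =>
        rw [derivedSeries_succ S (k + 1), derivedSeries_succ Q k, Subgroup.map_commutator]
        exact Subgroup.commutator_mono ih ih
    refine (h3 2).trans (le_of_eq ?_)
    rw [show derivedSeries Q 2 = ⁅commutator Q, commutator Q⁆ by rw [derivedSeries_succ, derivedSeries_one], hQ.1.2.2,
      Subgroup.commutator_eq_bot_iff_le_centralizer.2 (Subgroup.center_le_centralizer _), Subgroup.map_bot]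
  · intro x
    have hxQ : x ^ p ∈ Q := by
      have := Subgroup.pow_index_mem Q x
      rwa [hQi] at this
    have h1 : (⟨x ^ p, hxQ⟩ : Q) ^ p ∈ Subgroup.center Q :=
      hQ.1.2.1.le (CfsgLib.Core.pgroup_pow_mem_frattini hQ.1.1 _)
    have h2 := congrArg Subtype.val (CfsgLib.Transfer.special_center_pow hQ.1 _ h1)
    simp only [SubmonoidClass.coe_pow, OneMemClass.coe_one] at h2
    rwa [show p ^ 3 = p * p * p by ring, pow_mul, pow_mul]

end Cfsg.Agent.S3809
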