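import Cfsg.Statements.S3810
import Cfsg.Agent.Lib.TransferMore
import Cfsg.Agent.Lib.TransferApps
import Cfsg.Agent.S3741

set_option autoImplicit false
open Cfsg

namespace Cfsg.Agent.S3810

/-- Let S be a finite p-group with an extraspecial subgroup of index p. Then S has an abelian subgroup of index p if and only if S has order p⁴. -/
theorem result {S : Type*} [Group S] [Finite S] (p : ℕ) [Fact p.Prime] (hS : IsPGroup p S) (Q : Subgroup S) (hQ : Cfsg.IsExtraspecial p ↥Q) (hQi : Q.index = p) :
    (∃ A : Subgroup S, IsMulCommutative ↥A ∧ A.index = p) ↔ Nat.card S = p ^ 4 := by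
  classical
  have hp := (Fact.out : p.Prime)
  obtain ⟨n, hn, hcard⟩ := CfsgLib.Transfer.extraspecial_card hQ
  have hScard : Nat.card S = p ^ (2 * n + 2) := by
    rw [← Subgroup.card_mul_index Q, hQi, hcard, ← pow_succ]
  have hnab : ¬ ∀ a b : Q, a * b = b * a := fun h => by
    have h1 : commutator Q = ⊥ := by
      rw [_root_.commutator_def, eq_bot_iff, Subgroup.commutator_le]
      exact fun a _ b _ => Subgroup.mem_bot.2 (commutatorElement_eq_one_iff_mul_comm.2 (h a b))
    have := hQ.2
    rw [← hQ.1.2.2, h1, Subgroup.card_bot] at this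
    exact hp.ne_one this.symm
  constructor
  · rintro ⟨A, hA, hAi⟩
    suffices n ≤ 1 by rw [hScard, show n = 1 by omega]
    set B := A.subgroupOf Q ⊔ Subgroup.center Q with hB
    have hBab : B ≤ Subgroup.centralizer (B : Set Q) := by
      refine sup_le ?_ (Subgroup.center_le_centralizer _)
      rw [Subgroup.le_centralizer_iff]
      refine sup_le ?_ (Subgroup.center_le_centralizer _)
      intro x hx
      rw [Subgroup.mem_centralizer_iff]
      intro y hy
      haveI := hA
      exact Subtype.ext (Subgroup.mem_centralizer_iff.1 (A.le_centralizer (Subgroup.mem_subgroupOf.1 hx)) _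
        (Subgroup.mem_subgroupOf.1 hy))
    have hBi : B.index ≤ p := by
      refine (Nat.le_of_dvd (Nat.pos_of_ne_zero Subgroup.index_ne_zero_of_finite)
        (Subgroup.index_dvd_of_le le_sup_left)).trans ?_
      rw [← hAi, ← Subgroup.relIndex_top_right A]
      exact Subgroup.relIndex_le_of_le_right le_top (by rw [Subgroup.relIndex_top_right]; exact Subgroup.index_ne_zero_of_finite)
    have hcomm : ⁅B, (⊤ : Subgroup Q)⁆ ≤ Subgroup.center Q :=
      (Subgroup.commutator_mono le_top le_rfl).trans hQ.1.2.2.le
    have hsym := Cfsg.Agent.S3741.result hQ.1.1 B ⊤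
      (le_inf (hcomm.trans le_sup_right) le_top)
      ((Subgroup.card_le_of_le hcomm).trans hQ.2.le)
    rw [Subgroup.coe_top, Subgroup.centralizer_univ, inf_of_le_right (le_sup_right : Subgroup.center Q ≤ B),
      top_inf_eq, Subgroup.relIndex_top_right] at hsym
    have h1 : (Subgroup.centralizer (B : Set Q)).index ≤ B.index :=
      Nat.le_of_dvd (Nat.pos_of_ne_zero Subgroup.index_ne_zero_of_finite) (Subgroup.index_dvd_of_le hBab)
    have h2 : (Subgroup.center Q).index ≤ p * p := by
      rw [← Subgroup.relIndex_mul_index (le_sup_right : Subgroup.center Q ≤ B), hsym]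
      exact Nat.mul_le_mul (h1.trans hBi) hBi
    have h3 := Subgroup.card_mul_index (Subgroup.center Q)
    rw [hQ.2, hcard, pow_succ'] at h3
    rw [Nat.eq_of_mul_eq_mul_left hp.pos h3, ← pow_two] at h2
    have := (Nat.pow_le_pow_iff_right hp.one_lt).1 h2
    omega
  · intro h4
    obtain ⟨A, hAn, hAc, hAC⟩ := CfsgLib.TwoGroup.exists_self_centralizing hS
    haveI := hAn
    obtain ⟨a, ha⟩ := IsPGroup.iff_card.1 (hS.to_subgroup A)
    have hAab : IsMulCommutative A := .of_comm (fun x y => Subtype.ext (hAc x x.2 y y.2))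
    have hmul := Subgroup.card_mul_index A
    have h2 := CfsgLib.Transfer.index_centralizer_le hS a A inferInstance ha
    rw [le_antisymm hAC A.le_centralizer, ] at h2
    refine ⟨A, hAab, ?_⟩
    have ha4 : a ≤ 4 := by
      refine (Nat.pow_le_pow_iff_right hp.one_lt).1 ?_
      rw [← ha, ← h4]; exact Subgroup.card_le_card_group A
    rw [h4, ha] at hmul
    have hne : a ≠ 4 := fun e => by
      subst e
      have : A = ⊤ := Subgroup.eq_top_of_card_eq A (ha.trans h4.symm)
      exact hnab fun x y => Subtype.ext (hAc x (this ▸ Subgroup.mem_top _) y (this ▸ Subgroup.mem_top _))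
    have h5 : p ^ 4 ≤ p ^ (a + a.choose 2) := by
      rw [← hmul, pow_add]; exact Nat.mul_le_mul_left _ h2
    have h6 := (Nat.pow_le_pow_iff_right hp.one_lt).1 h5
    have h7 : a = 3 := by interval_cases a <;> simp_all [Nat.choose]
    subst h7
    exact Nat.eq_of_mul_eq_mul_left (pow_pos hp.pos 3) (hmul.trans (pow_succ p 3))

end Cfsg.Agent.S3810
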