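import Cfsg.Statements.S3824
import Cfsg.Agent.Lib.CharBurnside
import Cfsg.Agent.Lib.FgsSylowProduct

set_option autoImplicit false
open Cfsg

namespace Cfsg.Agent.S3824

universe w

theorem key : ∀ (n : ℕ) (G : Type w) [Group G] [Finite G], Nat.card G ≤ n →
    ∀ (A : Subgroup G), IsMulCommutative A → ∀ k : ℕ, A.index = 2 ^ k → Group.IsSolvable G := by
  intro n
  induction n with
  | zero => intro G _ _ h; exact absurd h (by simp [Nat.card_pos.ne'])
  | succ n ih =>
    intro G _ _ hn A hA k hk
    haveI := Fact.mk Nat.prime_two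
    rcases subsingleton_or_nontrivial G with hs | hs
    · infer_instance
    by_cases hsim : IsSimpleGroup G
    · by_cases hAb : A = ⊥
      · rw [hAb, Subgroup.index_bot] at hk
        haveI := (IsPGroup.of_card (p := 2) hk).isNilpotent
        infer_instance
      · obtain ⟨⟨a, ha⟩, ha'⟩ := Subgroup.ne_bot_iff_exists_ne_one.1 hAb
        have ha1 : a ≠ 1 := fun e => ha' (Subtype.ext e)
        have hle : A ≤ Subgroup.centralizer ({a} : Set G) := fun x hx =>
          Subgroup.mem_centralizer_singleton_iff.2 (congrArg Subtype.val (hA.is_comm.comm ⟨x, hx⟩ ⟨a, ha⟩))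
        obtain ⟨j, -, hj⟩ := (Nat.dvd_prime_pow Nat.prime_two).1 (hk ▸ Subgroup.index_dvd_of_le hle)
        have hcard := CfsgLib.Char.prime_card_of_class_prime_pow Nat.prime_two ha1 hj
        haveI := isCyclic_of_prime_card (p := Nat.card G) (hp := ⟨hcard⟩) rfl
        exact Group.isSolvable_of_comm fun x y => by
          letI := IsCyclic.commGroup (α := G)
          exact mul_comm x y
    · obtain ⟨N, hN, hNb, hNt⟩ : ∃ N : Subgroup G, N.Normal ∧ N ≠ ⊥ ∧ N ≠ ⊤ := by
        by_contra h
        push Not at h
        exact hsim ⟨fun N hN => or_iff_not_imp_left.mpr fun hb => h N hN hb⟩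
      haveI := hN
      have hprod := Subgroup.card_eq_card_quotient_mul_card_subgroup N
      have h1 : Nat.card (G ⧸ N) < Nat.card G := by
        rw [hprod]; exact lt_mul_of_one_lt_right Nat.card_pos ((Subgroup.one_lt_card_iff_ne_bot N).2 hNb)
      have h2 : Nat.card N < Nat.card G := by
        rw [hprod]
        refine lt_mul_of_one_lt_left Nat.card_pos ?_
        rw [← Subgroup.index_eq_card]
        exact Subgroup.one_lt_index_of_ne_top hNt
      have hQ : Group.IsSolvable (G ⧸ N) := by
        have hd := Subgroup.index_map_dvd A (QuotientGroup.mk'_surjective N)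
        obtain ⟨j, -, hj⟩ := (Nat.dvd_prime_pow Nat.prime_two).1 (hk ▸ hd)
        refine ih _ (by omega) _ ⟨⟨?_⟩⟩ j hj
        rintro ⟨_, a, ha, rfl⟩ ⟨_, b, hb, rfl⟩
        refine Subtype.ext ?_
        show QuotientGroup.mk' N a * QuotientGroup.mk' N b = QuotientGroup.mk' N b * QuotientGroup.mk' N a
        rw [← map_mul, ← map_mul]
        exact congrArg _ (congrArg Subtype.val (hA.is_comm.comm ⟨a, ha⟩ ⟨b, hb⟩))
      have hNs : Group.IsSolvable N := by
        have hd : (A.subgroupOf N).index ∣ A.index := by
          show A.relIndex N ∣ A.index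
          rw [← CfsgLib.SylowProd.relIndex_sup_of_normal A N]
          exact Subgroup.relIndex_dvd_index_of_le le_sup_left
        obtain ⟨j, -, hj⟩ := (Nat.dvd_prime_pow Nat.prime_two).1 (hk ▸ hd)
        refine ih _ (by omega) _ ⟨⟨fun a b => ?_⟩⟩ j hj
        refine Subtype.ext (Subtype.ext ?_)
        show ((a : N) : G) * ((b : N) : G) = ((b : N) : G) * ((a : N) : G)
        exact congrArg Subtype.val (hA.is_comm.comm ⟨((a : N) : G), a.2⟩ ⟨((b : N) : G), b.2⟩)
      haveI := hQ
      haveI := hNs
      exact solvable_of_ker_le_range N.subtype (QuotientGroup.mk' N)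
        (by rw [QuotientGroup.ker_mk', Subgroup.range_subtype])

/-- Every finite group having an abelian subgroup whose index is a power of 2 is solvable. -/
theorem result {G : Type*} [Group G] [Finite G]
    (A : Subgroup G) (hA : IsMulCommutative A) (hidx : ∃ k : ℕ, A.index = 2 ^ k) : Group.IsSolvable G := by
  obtain ⟨k, hk⟩ := hidx
  exact key _ G le_rfl A hA k hk

end Cfsg.Agent.S3824
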