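import Cfsg.Statements.S3869
import Cfsg.Agent.Lib.CoreIrredCyclic
import Cfsg.Agent.Lib.CoreBasic

set_option autoImplicit false
open Cfsg

set_option maxHeartbeats 400000

namespace Cfsg.Agent.S3869

/-- Let p and q be distinct primes and G a finite non-abelian group with a normal elementary abelian q-subgroup A that is a minimal normal subgroup of G and has index p. Then A has order q^e with e the multiplicative order of q modulo p, and G is minimal non-p-closed: its Sylow p-subgroups are not normal, while in every proper subgroup and in every proper quotient of G the Sylow p-subgroups are normal. -/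
theorem result {G : Type*} [Group G] [Finite G] {p q : ℕ} [Fact p.Prime] (hq : q.Prime) (hpq : q ≠ p)
    (hna : ¬ IsMulCommutative G) (A : Subgroup G) [A.Normal] (hA : Cfsg.IsElementaryAbelian q A) (hidx : A.index = p)
    (hmin : ∀ B : Subgroup G, B.Normal → B ≤ A → B = ⊥ ∨ B = A) :
    Nat.card ↥A = q ^ orderOf (q : ZMod p) ∧ ¬ Cfsg.IsPClosed p G ∧ (∀ H : Subgroup G, H ≠ ⊤ → Cfsg.IsPClosed p ↥H) ∧
      ∀ (N : Subgroup G) [N.Normal], N ≠ ⊥ → Cfsg.IsPClosed p (G ⧸ N) := by
  have hp : p.Prime := Fact.out
  haveI := hA.1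
  have hcomA : ∀ x ∈ A, ∀ y ∈ A, x * y = y * x := fun x hx y hy =>
    congrArg Subtype.val (hA.1.is_comm.comm ⟨x, hx⟩ ⟨y, hy⟩)
  have hAq : IsPGroup q ↥A := fun a => ⟨1, Subtype.ext (by simpa using hA.2 a a.2)⟩
  haveI := Fact.mk hq
  obtain ⟨d, hd⟩ := IsPGroup.iff_card.mp hAq
  have hcop : (Nat.card A).Coprime p := by
    rw [hd]; exact ((Nat.coprime_primes hq hp).mpr hpq).pow_left d
  have hG : Nat.card G = q ^ d * p := by rw [← hd, ← hidx, A.card_mul_index]
  obtain ⟨T⟩ : Nonempty (Sylow p G) := inferInstance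
  have hTc : Nat.card (T : Subgroup G) = p := by
    rw [T.card_eq_multiplicity, hG, Nat.factorization_mul (pow_ne_zero _ hq.ne_zero) hp.ne_zero,
      Finsupp.add_apply, Nat.Prime.factorization_pow hq, Finsupp.single_eq_of_ne' hpq,
      hp.factorization, Finsupp.single_eq_same, zero_add, pow_one]
  haveI : IsCyclic ↥(T : Subgroup G) := isCyclic_of_prime_card hTc
  obtain ⟨⟨t, ht⟩, hgen⟩ := IsCyclic.exists_generator (α := ↥(T : Subgroup G))
  have hTt : (T : Subgroup G) = Subgroup.zpowers t := by
    refine le_antisymm (fun x hx => ?_) (Subgroup.zpowers_le.mpr ht)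
    obtain ⟨z, hz⟩ := hgen ⟨x, hx⟩
    exact ⟨z, congrArg Subtype.val hz⟩
  have hord : orderOf t = p := by rw [← Nat.card_zpowers, ← hTt, hTc]
  have hAT : A ⊔ (T : Subgroup G) = ⊤ := by
    rw [← Subgroup.index_eq_one]
    refine Nat.eq_one_of_dvd_coprimes ?_ ((Subgroup.index_dvd_of_le le_sup_left).trans (dvd_of_eq hidx))
      (Subgroup.index_dvd_of_le (le_sup_right : (T : Subgroup G) ≤ A ⊔ (T : Subgroup G)))
    exact (hp.coprime_iff_not_dvd).mpr T.not_dvd_index
  -- fixed points
  have hfix : ∀ B : Subgroup G, B ≤ A → (∀ b ∈ B, t * b * t⁻¹ ∈ B) → B.Normal := by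
    intro B hBA hB
    rw [← Subgroup.normalizer_eq_top_iff, eq_top_iff, ← hAT, hTt]
    refine sup_le (fun a ha => ?_) (Subgroup.zpowers_le.mpr ?_)
    · rw [Subgroup.mem_normalizer_iff]
      intro b
      have hiff : ∀ y ∈ A, a * y * a⁻¹ = y := fun y hy => by rw [hcomA a ha y hy]; group
      refine ⟨fun hb => by rwa [hiff b (hBA hb)], fun hb => ?_⟩
      have hb' : b ∈ A := by
        have := mul_mem (mul_mem (inv_mem ha) (hBA hb)) ha
        simpa [mul_assoc] using this
      rwa [hiff b hb'] at hb
    · exact Subgroup.mem_normalizer_fintype (fun n hn => hB n hn)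
  have hA0 : A ≠ ⊥ := by
    intro h
    haveI : IsCyclic G := by
      refine isCyclic_of_prime_card (p := p) ?_
      rw [← A.card_mul_index, hidx, h, Subgroup.card_bot, one_mul]
    exact hna inferInstance
  set F := A ⊓ Subgroup.centralizer ({t} : Set G) with hF
  have hF0 : F = ⊥ := by
    haveI : F.Normal := hfix F inf_le_left (fun b hb => by
      rw [(Subgroup.mem_centralizer_singleton_iff.mp hb.2).symm, mul_inv_cancel_right]; exact hb)
    rcases hmin F inferInstance inf_le_left with h | h
    · exact h
    refine absurd (IsMulCommutative.of_comm (M := G) fun x y => ?_) hna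
    have hc : ∀ z : G, z ∈ Subgroup.centralizer ((A : Set G) ∪ {t}) := fun z => by
      have hle : A ⊔ (T : Subgroup G) ≤ Subgroup.centralizer ((A : Set G) ∪ {t}) := by
        refine sup_le (fun a ha => ?_) (hTt ▸ Subgroup.zpowers_le.mpr ?_)
        · rw [Subgroup.mem_centralizer_iff]
          rintro y (hy | hy)
          · exact hcomA y hy a ha
          · rw [Set.mem_singleton_iff.mp hy]
            exact (Subgroup.mem_centralizer_singleton_iff.mp ((inf_eq_left.mp h) ha)).symm
        · rw [Subgroup.mem_centralizer_iff]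
          rintro y (hy | hy)
          · exact Subgroup.mem_centralizer_singleton_iff.mp ((inf_eq_left.mp h) hy)
          · rw [Set.mem_singleton_iff.mp hy]
      exact hle (hAT ▸ Subgroup.mem_top z)
    have hle : A ⊔ (T : Subgroup G) ≤ Subgroup.centralizer ({x} : Set G) := by
      refine sup_le (fun a ha => ?_) (hTt ▸ Subgroup.zpowers_le.mpr ?_)
      · exact Subgroup.mem_centralizer_singleton_iff.mpr
          (Subgroup.mem_centralizer_iff.mp (hc x) a (Or.inl ha))
      · exact Subgroup.mem_centralizer_singleton_iff.mpr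
          (Subgroup.mem_centralizer_iff.mp (hc x) t (Or.inr rfl))
    exact (Subgroup.mem_centralizer_singleton_iff.mp (hle (hAT ▸ Subgroup.mem_top y))).symm
  haveI : Nontrivial ↥A := (Subgroup.nontrivial_iff_ne_bot A).mpr hA0
  letI : CommGroup ↥A := { (inferInstance : Group ↥A) with mul_comm := hA.1.is_comm.comm }
  have hle : Nat.card ↥A ≤ q ^ orderOf (q : ZMod p) := by
    let φ : AddMonoid.End (Additive ↥A) := MonoidHom.toAdditive
      ({ toFun := fun a => ⟨t * a.1 * t⁻¹, ‹A.Normal›.conj_mem a.1 a.2 t⟩
         map_one' := Subtype.ext (by simp)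
         map_mul' := fun a b => Subtype.ext (by simp [mul_assoc]) } : ↥A →* ↥A)
    have hφpow : ∀ (k : ℕ) (a : ↥A),
        ((Additive.toMul ((φ ^ k) (Additive.ofMul a)) : ↥A) : G) = t ^ k * a.1 * (t ^ k)⁻¹ := by
      intro k a
      induction k with
      | zero => rw [pow_zero]; simp
      | succ k ih =>
        rw [pow_succ' φ]
        show t * ((Additive.toMul ((φ ^ k) (Additive.ofMul a)) : ↥A) : G) * t⁻¹ = _
        rw [ih, pow_succ' t]
        group
    refine le_trans (le_of_eq (Nat.card_congr Additive.ofMul))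
      (CfsgLib.Core.card_le_pow_orderOf (A := Additive ↥A) hq hpq ?_ φ ?_ ?_)
    · intro a
      refine Additive.toMul.injective (Subtype.ext ?_)
      simpa [toMul_nsmul] using hA.2 _ (Additive.toMul a).2
    · refine AddMonoidHom.ext fun a => Additive.toMul.injective (Subtype.ext ?_)
      have h := hφpow p (Additive.toMul a)
      rw [show t ^ p = 1 from hord ▸ pow_orderOf_eq_one t, one_mul, inv_one, mul_one] at h
      exact h
    · intro B hB
      let B' : Subgroup G := ((AddSubgroup.toSubgroup' B)).map A.subtype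
      have hB' : B'.Normal := hfix B' (Subgroup.map_subtype_le _) (by
        rintro _ ⟨b, hb, rfl⟩
        exact ⟨_, hB (Additive.ofMul b) hb, rfl⟩)
      rcases hmin B' hB' (Subgroup.map_subtype_le _) with h | h
      · left
        rw [eq_bot_iff]
        intro b hb
        have h1 : ((Additive.toMul b : ↥A) : G) ∈ B' := ⟨Additive.toMul b, hb, rfl⟩
        rw [h, Subgroup.mem_bot] at h1
        exact AddSubgroup.mem_bot.mpr (Additive.toMul.injective (Subtype.ext h1))
      · right
        rw [eq_top_iff]
        intro b _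
        have h1 : ((Additive.toMul b : ↥A) : G) ∈ B' := h.symm.le (Additive.toMul b).2
        obtain ⟨b', hb', he⟩ := h1
        obtain rfl : b' = Additive.toMul b := Subtype.ext he
        exact hb'
  -- p divides q^d - 1
  have hdd : orderOf (q : ZMod p) ∣ d := by
    rw [orderOf_dvd_iff_pow_eq_one]
    let W : Subgroup G := Subgroup.zpowers t
    have hW : IsPGroup p ↥W := by
      show IsPGroup p ↥(Subgroup.zpowers t)
      rw [← hTt]
      exact T.isPGroup'
    letI : MulAction ↥W ↥A :=
      { smul := fun w a => ⟨w.1 * a.1 * (w.1)⁻¹, ‹A.Normal›.conj_mem a.1 a.2 w.1⟩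
        one_smul := fun a => Subtype.ext (by show 1 * a.1 * 1⁻¹ = a.1; group)
        mul_smul := fun v w a => Subtype.ext (by
          show (v * w : G) * a.1 * (v * w : G)⁻¹ = v.1 * (w.1 * a.1 * w.1⁻¹) * v.1⁻¹; group) }
    have h := hW.card_modEq_card_fixedPoints ↥A
    have h1 : MulAction.fixedPoints ↥W ↥A = {1} := by
      ext a
      constructor
      · intro ha
        have h2 : t * a.1 * t⁻¹ = a.1 := congrArg Subtype.val (ha ⟨t, Subgroup.mem_zpowers t⟩)
        have h3 : a.1 ∈ F := ⟨a.2, Subgroup.mem_centralizer_singleton_iff.mpr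
          (mul_inv_eq_iff_eq_mul.mp h2).symm⟩
        rw [hF0, Subgroup.mem_bot] at h3
        exact Subtype.ext h3
      · rintro rfl w
        exact Subtype.ext (show w.1 * 1 * w.1⁻¹ = 1 by group)
    rw [h1, Nat.card_coe_set_eq, Set.ncard_singleton, hd, ← ZMod.natCast_eq_natCast_iff] at h
    push_cast at h
    exact h
  have hd1 : d ≠ 0 := fun h0 => hA0 (Subgroup.card_eq_one.mp (by rw [hd, h0, pow_zero]))
  have hcard : Nat.card ↥A = q ^ orderOf (q : ZMod p) := by
    refine le_antisymm hle ?_
    rw [hd]
    exact Nat.pow_le_pow_right hq.pos (Nat.le_of_dvd (Nat.pos_of_ne_zero hd1) hdd)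
  have hnotn : ¬ (T : Subgroup G).Normal := by
    intro hn
    refine hA0 (eq_bot_iff.mpr fun a ha => ?_)
    rw [← hF0]
    refine ⟨ha, ?_⟩
    have h1 : a * t * a⁻¹ * t⁻¹ ∈ A ⊓ (T : Subgroup G) := by
      refine Subgroup.mem_inf.mpr ?_
      constructor
      · rw [mul_assoc, mul_assoc]
        refine mul_mem ha ?_
        rw [← mul_assoc]
        exact ‹A.Normal›.conj_mem _ (inv_mem ha) t
      · exact mul_mem (hn.conj_mem t ht a) (inv_mem ht)
    rw [CfsgLib.Core.inf_eq_bot_of_coprime (by rw [hTc]; exact hcop), Subgroup.mem_bot, mul_inv_eq_one,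
      mul_inv_eq_iff_eq_mul] at h1
    exact Subgroup.mem_centralizer_singleton_iff.mpr h1
  refine ⟨hcard, fun h => hnotn (h T), fun H hH P => ?_, ?_⟩
  · by_cases hHA : H ≤ A
    · have h1 : ¬ p ∣ Nat.card ↥H := fun hd' =>
        (hp.coprime_iff_not_dvd).mp hcop.symm (hd'.trans (Subgroup.card_dvd_of_le hHA))
      have hP : (P : Subgroup ↥H) = ⊥ := by
        apply Subgroup.eq_bot_of_card_eq
        rw [P.card_eq_multiplicity, Nat.factorization_eq_zero_of_not_dvd h1, pow_zero]
      rw [hP]; infer_instance
    · have hAH : A ⊔ H = ⊤ := by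
        rcases (Nat.dvd_prime hp).mp
          ((Subgroup.index_dvd_of_le (le_sup_left : A ≤ A ⊔ H)).trans (dvd_of_eq hidx)) with h | h
        · exact Subgroup.index_eq_one.mp h
        · exfalso
          have h2 := Subgroup.relIndex_mul_index (le_sup_left : A ≤ A ⊔ H)
          rw [h, hidx, mul_eq_right₀ hp.ne_zero, Subgroup.relIndex_eq_one] at h2
          exact hHA (le_sup_right.trans h2)
      haveI : (A ⊓ H).Normal := by
        rw [← Subgroup.normalizer_eq_top_iff, eq_top_iff, ← hAH]
        refine sup_le (fun a ha => ?_) (CfsgLib.Core.le_normalizer_iff_forall.mpr fun x hx y hy =>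
          Subgroup.mem_inf.mpr ⟨‹A.Normal›.conj_mem y hy.1 x, mul_mem (mul_mem hx (show y ∈ H from hy.2)) (inv_mem hx)⟩)
        exact Subgroup.centralizer_le_normalizer _
          (Subgroup.mem_centralizer_iff.mpr fun y hy => hcomA y hy.1 a ha)
      have hbot : A ⊓ H = ⊥ := by
        refine (hmin _ inferInstance inf_le_left).resolve_right fun h => hH ?_
        rw [← hAH, sup_eq_right.mpr (inf_eq_left.mp h)]
      have hHp : Nat.card ↥H = p := by
        have h1 := CfsgLib.Core.card_sup_of_disjoint
          (Subgroup.normalizer_eq_top (H := A) ▸ le_top) (inf_comm A H ▸ hbot)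
        rw [sup_comm, hAH, Subgroup.card_top, hG, hd, mul_comm] at h1
        exact (mul_right_cancel₀ (pow_ne_zero _ hq.ne_zero) h1).symm
      have hP : (P : Subgroup ↥H) = ⊤ := by
        apply Subgroup.eq_top_of_card_eq
        rw [P.card_eq_multiplicity, hHp, hp.factorization, Finsupp.single_eq_same, pow_one]
      rw [hP]; infer_instance
  · intro N hN hN0 P
    haveI : (A ⊓ N).Normal := inferInstance
    have hAN : A ≤ N := by
      rcases hmin (A ⊓ N) inferInstance inf_le_left with h | h
      · exfalso
        refine hN0 (eq_bot_iff.mpr fun x hx => ?_)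
        have hxA : ∀ a ∈ A, x * a = a * x := by
          intro a ha
          have h1 : x * a * x⁻¹ * a⁻¹ ∈ A ⊓ N := by
            refine Subgroup.mem_inf.mpr ⟨mul_mem (‹A.Normal›.conj_mem a ha x) (inv_mem ha), ?_⟩
            rw [mul_assoc, mul_assoc]
            refine mul_mem hx ?_
            rw [← mul_assoc]
            exact hN.conj_mem _ (inv_mem hx) a
          rw [h, Subgroup.mem_bot, mul_inv_eq_one, mul_inv_eq_iff_eq_mul] at h1
          exact h1
        -- x = a * s with s in T
        obtain ⟨a, ha, s, hs, rfl⟩ := Subgroup.mem_sup_of_normal_left.mp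
          (by rw [hAT]; trivial : x ∈ A ⊔ (T : Subgroup G))
        by_cases hs1 : s = 1
        · subst hs1
          have : a * 1 ∈ A ⊓ N := ⟨by rw [mul_one]; exact ha, hx⟩
          rwa [h] at this
        · exfalso
          refine hA0 (eq_bot_iff.mpr fun b hb => ?_)
          rw [← hF0]
          refine ⟨hb, ?_⟩
          have hsb : s * b = b * s := by
            have h2 := hxA b hb
            rw [mul_assoc, ← mul_assoc b a, hcomA b hb a ha, mul_assoc] at h2
            exact mul_left_cancel h2
          have hgs : t ∈ Subgroup.zpowers s := by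
            have hsz : Subgroup.zpowers s = Subgroup.zpowers t := by
              refine Subgroup.eq_of_le_of_card_ge (Subgroup.zpowers_le.mpr (hTt ▸ hs)) ?_
              rw [Nat.card_zpowers, Nat.card_zpowers]
              rcases (Nat.dvd_prime hp).mp (hTc ▸ Subgroup.orderOf_dvd_natCard _ hs) with h3 | h3
              · exact absurd (orderOf_eq_one_iff.mp h3) hs1
              · rw [h3, hord]
            exact hsz ▸ Subgroup.mem_zpowers t
          have : Subgroup.zpowers s ≤ Subgroup.centralizer ({b} : Set G) :=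
            Subgroup.zpowers_le.mpr (Subgroup.mem_centralizer_singleton_iff.mpr hsb)
          exact Subgroup.mem_centralizer_singleton_iff.mpr
            (Subgroup.mem_centralizer_singleton_iff.mp (this hgs)).symm
      · exact inf_eq_left.mp h
    have hQ : IsPGroup p (G ⧸ N) := by
      obtain ⟨k, -, hk⟩ := (Nat.dvd_prime_pow hp).mp
        (show N.index ∣ p ^ 1 from (pow_one p).symm ▸ (Subgroup.index_dvd_of_le hAN).trans (dvd_of_eq hidx))
      exact IsPGroup.of_card (n := k) (by rw [← Subgroup.index_eq_card, hk])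
    have hP : (P : Subgroup (G ⧸ N)) = ⊤ :=
      (P.is_maximal' (hQ.to_subgroup ⊤) le_top).symm
    rw [hP]; infer_instance

end Cfsg.Agent.S3869
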