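import Cfsg.Statements.S3868
import Cfsg.Agent.S3869
import Cfsg.Agent.Lib.CoreCoprime
import Cfsg.Agent.Lib.CoreFitting
import Cfsg.Agent.Lib.CorePGroup

set_option autoImplicit false
open Cfsg

set_option maxHeartbeats 400000

namespace Cfsg.Agent.S3868

/-- Structure of the non-simple minimal non-p-closed groups. Call a finite group p-closed when its Sylow p-subgroups are normal, and minimal non-p-closed when it is not p-closed but every proper subgroup and every proper quotient is. If such a group G is not simple, then there is a prime q ≠ p such that G has order p · q^e, where e is the multiplicative order of q modulo p, and G has a normal subgroup A of order q^e that is elementary abelian and is a minimal normal subgroup of G (so G is the semidirect product of A by a group of order p acting irreducibly). -/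
theorem result {G : Type*} [Group G] [Finite G] {p : ℕ} [Fact p.Prime]
    (hnc : ¬ Cfsg.IsPClosed p G) (hsub : ∀ H : Subgroup G, H ≠ ⊤ → Cfsg.IsPClosed p ↥H)
    (hquo : ∀ (N : Subgroup G) [N.Normal], N ≠ ⊥ → Cfsg.IsPClosed p (G ⧸ N)) (hns : ¬ IsSimpleGroup G) :
    ∃ q : ℕ, q.Prime ∧ q ≠ p ∧ Nat.card G = p * q ^ orderOf (q : ZMod p) ∧
      ∃ A : Subgroup G, A.Normal ∧ Nat.card ↥A = q ^ orderOf (q : ZMod p) ∧ Cfsg.IsElementaryAbelian q A ∧
        ∀ B : Subgroup G, B.Normal → B ≤ A → B = ⊥ ∨ B = A := by
  have hp : p.Prime := Fact.out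
  obtain ⟨P, hPn⟩ : ∃ P : Sylow p G, ¬ (P : Subgroup G).Normal := by
    unfold Cfsg.IsPClosed at hnc
    push Not at hnc
    exact hnc
  have hmem : ∀ H : Subgroup G, H ≠ ⊤ → (P : Subgroup G) ≤ H →
      H ≤ Subgroup.normalizer ((P : Subgroup G) : Set G) := fun H hH hle =>
    (Subgroup.normal_subgroupOf_iff_le_normalizer hle).mp (hsub H hH (P.subtype hle))
  haveI hnt : Nontrivial G := by
    by_contra h
    rw [not_nontrivial_iff_subsingleton] at h
    exact hPn (by
      have : (P : Subgroup G) = ⊥ := Subsingleton.elim _ _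
      rw [this]; infer_instance)
  -- a proper nontrivial normal subgroup, chosen minimal
  obtain ⟨N₀, hN₀, hN₀b, hN₀t⟩ : ∃ N : Subgroup G, N.Normal ∧ N ≠ ⊥ ∧ N ≠ ⊤ := by
    by_contra hcon
    push Not at hcon
    exact hns ⟨fun H hH => or_iff_not_imp_left.mpr (hcon H hH)⟩
  haveI := hN₀
  obtain ⟨N, hN, hN0, hNle, hNmin⟩ := CfsgLib.Core.exists_minimal_normal_le hN₀b
  haveI := hN
  have hNtop : N ≠ ⊤ := fun h => hN₀t (top_le_iff.mp (h ▸ hNle))
  -- p does not divide |N|
  have hpN : ¬ p ∣ Nat.card N := by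
    intro hd
    obtain ⟨S⟩ : Nonempty (Sylow p ↥N) := inferInstance
    haveI hSn : (S : Subgroup ↥N).Normal := hsub N hNtop S
    haveI : (S : Subgroup ↥N).Characteristic := Sylow.characteristic_of_normal S hSn
    set R := (S : Subgroup ↥N).map N.subtype
    have hR : R.Normal := CfsgLib.Core.map_subtype_normal_of_characteristic hN inferInstance
    haveI := hR
    have hR0 : R ≠ ⊥ := fun h => by
      rw [Subgroup.map_eq_bot_iff_of_injective _ N.subtype_injective] at h
      exact S.ne_bot_of_dvd_card hd h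
    have hRp : IsPGroup p ↥R := S.isPGroup'.map _
    have hRP : R ≤ (P : Subgroup G) :=
      (CfsgLib.Core.le_pCore hR hRp).trans (CfsgLib.Core.pCore_le_sylow P)
    refine hPn ?_
    have h := (hquo R hR0 (P.mapSurjective (QuotientGroup.mk'_surjective R))).comap (QuotientGroup.mk' R)
    rw [Sylow.coe_mapSurjective, Subgroup.comap_map_eq, QuotientGroup.ker_mk', sup_eq_left.mpr hRP] at h
    exact h
  -- G = N P
  have hNP : N ⊔ (P : Subgroup G) = ⊤ := by
    by_contra hne
    have hK : (N ⊔ (P : Subgroup G)).Normal := by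
      have h := (hquo N hN0 (P.mapSurjective (QuotientGroup.mk'_surjective N))).comap (QuotientGroup.mk' N)
      rw [Sylow.coe_mapSurjective, Subgroup.comap_map_eq, QuotientGroup.ker_mk', sup_comm] at h
      exact h
    have h1 := Sylow.normalizer_sup_eq_top' (N := N ⊔ (P : Subgroup G)) P le_sup_right
    have h2 : Subgroup.normalizer ((P : Subgroup G) : Set G) ⊔ (N ⊔ (P : Subgroup G)) = ⊤ := h1
    rw [sup_eq_left.mpr (hmem _ hne le_sup_right)] at h2
    exact hPn (Subgroup.normalizer_eq_top_iff.mp h2)
  have hcopN : (Nat.card ↥(P : Subgroup G)).Coprime (Nat.card N) := by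
    obtain ⟨k, hk⟩ := IsPGroup.iff_card.mp P.isPGroup'
    rw [hk]; exact Nat.Coprime.pow_left k ((hp.coprime_iff_not_dvd).mpr hpN)
  -- some invariant Sylow subgroup is everything
  obtain ⟨q, hq, hQ⟩ : ∃ q : ℕ, q.Prime ∧ IsPGroup q ↥N := by
    by_contra hcon
    push Not at hcon
    refine hPn (Subgroup.normalizer_eq_top_iff.mp (top_le_iff.mp (hNP ▸ sup_le ?_ Subgroup.le_normalizer)))
    set C := (Subgroup.normalizer ((P : Subgroup G) : Set G)).subgroupOf N
    suffices h : C = ⊤ from Subgroup.subgroupOf_eq_top.mp h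
    refine Subgroup.eq_top_of_le_card _ (Nat.le_of_dvd Nat.card_pos ?_)
    refine (Nat.dvd_iff_prime_pow_dvd_dvd _ _).mpr fun r k hr hrk => ?_
    haveI := Fact.mk hr
    obtain ⟨Q, hQ⟩ := CfsgLib.Core.exists_invariant_sylow r
      (Subgroup.normalizer_eq_top (H := N) ▸ le_top) hcopN
      (Or.inl (by haveI := P.isPGroup'.isNilpotent; infer_instance))
    set QG := (Q : Subgroup ↥N).map N.subtype
    have hne : QG ⊔ (P : Subgroup G) ≠ ⊤ := by
      intro htop
      refine hcon r hr ((Q.isPGroup'.map N.subtype).to_le (show N ≤ QG from ?_))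
      intro x hx
      obtain ⟨a, ha, b, hb, rfl⟩ := (CfsgLib.Core.mem_sup_iff_of_le_normalizer' hQ).mp
        (by rw [sup_comm, htop]; trivial : x ∈ (P : Subgroup G) ⊔ QG)
      have hb1 : b ∈ N ⊓ (P : Subgroup G) := by
        refine Subgroup.mem_inf.mpr ⟨?_, hb⟩
        have := mul_mem (inv_mem (Subgroup.map_subtype_le _ ha)) hx
        rwa [inv_mul_cancel_left] at this
      rw [CfsgLib.Core.inf_eq_bot_of_coprime hcopN.symm, Subgroup.mem_bot] at hb1
      rwa [hb1, mul_one]
    have hQC : (Q : Subgroup ↥N) ≤ C := fun x hx =>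
      hmem _ hne le_sup_right (Subgroup.mem_sup_left (Subgroup.mem_map_of_mem _ hx))
    refine dvd_trans ?_ (Subgroup.card_dvd_of_le hQC)
    rw [Q.card_eq_multiplicity]
    exact pow_dvd_pow r ((hr.pow_dvd_iff_le_factorization Nat.card_pos.ne').mp hrk)
  haveI := Fact.mk hq
  have hqp : q ≠ p := by
    rintro rfl
    obtain ⟨k, hk⟩ := IsPGroup.iff_card.mp hQ
    rcases Nat.eq_zero_or_pos k with rfl | hk0
    · exact hN0 (Subgroup.card_eq_one.mp (by rw [hk, pow_zero]))
    · exact hpN (hk ▸ dvd_pow_self q hk0.ne')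
  haveI hNsol : Group.IsSolvable ↥N := by
    haveI := hQ.isNilpotent
    infer_instance
  have hel : Cfsg.IsElementaryAbelian q N := by
    obtain ⟨r, hr, hrN⟩ := CfsgLib.Core.exists_prime_pow_eq_one_of_minimal_normal hN0 hNmin
    have hab := CfsgLib.Core.isMulCommutative_of_minimal_normal (N := N) hNmin
    obtain ⟨⟨x, hx⟩, hx1⟩ := Subgroup.ne_bot_iff_exists_ne_one.mp hN0
    have hrq : r = q := by
      obtain ⟨k, hk⟩ := hQ ⟨x, hx⟩
      by_contra hne
      have h1 : orderOf x ∣ r := orderOf_dvd_of_pow_eq_one (hrN x hx)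
      have h2 : orderOf x ∣ q ^ k := orderOf_dvd_of_pow_eq_one (congrArg Subtype.val hk)
      exact hx1 (Subtype.ext (orderOf_eq_one_iff.mp
        (Nat.eq_one_of_dvd_coprimes (((Nat.coprime_primes hr hq).mpr hne).pow_right k) h1 h2)))
    exact ⟨hab, hrq ▸ hrN⟩
  -- P is cyclic of order p
  have hPcard : Nat.card ↥(P : Subgroup G) = p := by
    -- proper subgroups of P centralise N
    have hcent : ∀ U : Subgroup ↥(P : Subgroup G), U ≠ ⊤ →
        U.map (P : Subgroup G).subtype ≤ Subgroup.centralizer (N : Set G) := by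
      intro U hU
      set UG := U.map (P : Subgroup G).subtype with hUG
      have hcopU : (Nat.card UG).Coprime (Nat.card N) :=
        hcopN.coprime_dvd_left (Subgroup.card_dvd_of_le (Subgroup.map_subtype_le U))
      have hne : UG ⊔ N ≠ ⊤ := by
        intro htop
        refine hU (Subgroup.eq_top_of_card_eq U ?_)
        have h1 := CfsgLib.Core.card_sup_of_disjoint
          (Subgroup.normalizer_eq_top (H := N) ▸ le_top : UG ≤ _)
          (CfsgLib.Core.inf_eq_bot_of_coprime hcopU)
        have h2 := CfsgLib.Core.card_sup_of_disjoint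
          (Subgroup.normalizer_eq_top (H := N) ▸ le_top : (P : Subgroup G) ≤ _)
          (CfsgLib.Core.inf_eq_bot_of_coprime hcopN)
        rw [htop] at h1
        rw [sup_comm, hNP] at h2
        rw [h1, hUG, Subgroup.card_subtype] at h2
        exact mul_right_cancel₀ Nat.card_pos.ne' h2
      set H := UG ⊔ N
      set S : Sylow p ↥H := default
      haveI hS : (S : Subgroup ↥H).Normal := hsub H hne S
      have hUS : UG.subgroupOf H ≤ (S : Subgroup ↥H) := by
        have hUp : IsPGroup p ↥(UG.subgroupOf H) :=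
          ((P.isPGroup'.to_le (Subgroup.map_subtype_le U))).comap_of_injective _ H.subtype_injective
        obtain ⟨S', hS'⟩ := hUp.exists_le_sylow
        have : S' = S := by
          haveI := Sylow.unique_of_normal S hS
          exact Subsingleton.elim _ _
        exact this ▸ hS'
      have hSN : (S : Subgroup ↥H) ⊓ N.subgroupOf H = ⊥ := by
        refine CfsgLib.Core.inf_eq_bot_of_coprime ?_
        obtain ⟨k, hk⟩ := IsPGroup.iff_card.mp S.isPGroup'
        rw [hk, CfsgLib.Core.card_subgroupOf_of_le le_sup_right]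
        exact Nat.Coprime.pow_left k ((hp.coprime_iff_not_dvd).mpr hpN)
      intro u hu
      rw [Subgroup.mem_centralizer_iff]
      intro n hn
      set u' : ↥H := ⟨u, Subgroup.mem_sup_left hu⟩
      set n' : ↥H := ⟨n, Subgroup.mem_sup_right hn⟩
      have h1 : u' * n' * u'⁻¹ * n'⁻¹ ∈ (S : Subgroup ↥H) ⊓ N.subgroupOf H := by
        refine Subgroup.mem_inf.mpr ⟨?_, ?_⟩
        · rw [mul_assoc u' n', mul_assoc u']
          exact mul_mem (hUS hu) (hS.conj_mem _ (inv_mem (hUS hu)) n')
        · exact Subgroup.mem_subgroupOf.mpr (mul_mem (hN.conj_mem n hn u) (inv_mem hn))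
      rw [hSN, Subgroup.mem_bot, mul_inv_eq_one, mul_inv_eq_iff_eq_mul] at h1
      exact (congrArg Subtype.val h1).symm
    -- if the maximal subgroup were nontrivial it would be normal in G
    have hcyc : IsCyclic ↥(P : Subgroup G) := by
      by_contra hnc'
      refine hPn (Subgroup.normalizer_eq_top_iff.mp
        (top_le_iff.mp (hNP ▸ sup_le ?_ Subgroup.le_normalizer)))
      intro n hn
      refine Subgroup.centralizer_le_normalizer _ ?_
      rw [Subgroup.mem_centralizer_iff]
      intro x hx
      have hz : Subgroup.zpowers (⟨x, hx⟩ : ↥(P : Subgroup G)) ≠ ⊤ := fun h =>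
        hnc' ⟨⟨⟨x, hx⟩, fun y => by
          have hy : y ∈ Subgroup.zpowers (⟨x, hx⟩ : ↥(P : Subgroup G)) := h ▸ Subgroup.mem_top y
          exact hy⟩⟩
      have := hcent _ hz ⟨⟨x, hx⟩, Subgroup.mem_zpowers _, rfl⟩
      exact (Subgroup.mem_centralizer_iff.mp this n hn).symm
    obtain ⟨k, hk⟩ := IsPGroup.iff_card.mp P.isPGroup'
    have hk0 : k ≠ 0 := fun h => hPn (by
      have : (P : Subgroup G) = ⊥ := Subgroup.card_eq_one.mp (by rw [hk, h, pow_zero])
      rw [this]; infer_instance)
    obtain ⟨x, hx⟩ := IsCyclic.exists_generator (α := ↥(P : Subgroup G))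
    set U := Subgroup.zpowers (x ^ p)
    have hxo : orderOf x = p ^ k := by
      rw [← hk]; exact orderOf_eq_card_of_forall_mem_zpowers hx
    have hUc : Nat.card U = p ^ (k - 1) := by
      rw [Nat.card_zpowers, orderOf_pow, hxo, Nat.gcd_eq_right (dvd_pow_self p hk0)]
      exact Nat.div_eq_of_eq_mul_left hp.pos (by rw [← pow_succ]; congr 1; omega)
    have hU : U ≠ ⊤ := fun h => by
      rw [h, Subgroup.card_top, hk] at hUc
      have := Nat.pow_right_injective hp.two_le hUc
      omega
    by_contra hne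
    have hk1 : k ≠ 1 := fun h => hne (by rw [hk, h, pow_one])
    set R := U.map (P : Subgroup G).subtype
    have hRn : R.Normal := by
      rw [← Subgroup.normalizer_eq_top_iff, eq_top_iff, ← hNP]
      refine sup_le (fun n hn => ?_) ?_
      · refine Subgroup.centralizer_le_normalizer _ ?_
        rw [Subgroup.mem_centralizer_iff]
        intro r hr
        exact (Subgroup.mem_centralizer_iff.mp (hcent U hU hr) n hn).symm
      · have hle : R ≤ (P : Subgroup G) := Subgroup.map_subtype_le _
        refine (Subgroup.normal_subgroupOf_iff_le_normalizer hle).mp ?_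
        rw [Subgroup.subgroupOf, Subgroup.comap_map_eq_self_of_injective (Subgroup.subtype_injective _)]
        exact ⟨fun a ha b => by
          letI := IsCyclic.commGroup (α := ↥(P : Subgroup G))
          rwa [mul_comm b, mul_inv_cancel_right]⟩
    haveI := hRn
    have hR0 : R ≠ ⊥ := fun h => by
      have : Nat.card R = 1 := by rw [h, Subgroup.card_bot]
      rw [Subgroup.card_subtype, hUc, Nat.pow_eq_one] at this
      rcases this with h' | h'
      · exact hp.ne_one h'
      · omega
    refine hPn ?_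
    have h := (hquo R hR0 (P.mapSurjective (QuotientGroup.mk'_surjective R))).comap (QuotientGroup.mk' R)
    rw [Sylow.coe_mapSurjective, Subgroup.comap_map_eq, QuotientGroup.ker_mk',
      sup_eq_left.mpr (Subgroup.map_subtype_le _)] at h
    exact h
  have hidx : N.index = p := by
    have h2 := CfsgLib.Core.card_sup_of_disjoint
      (Subgroup.normalizer_eq_top (H := N) ▸ le_top : (P : Subgroup G) ≤ _)
      (CfsgLib.Core.inf_eq_bot_of_coprime hcopN)
    rw [sup_comm, hNP, Subgroup.card_top, hPcard, ← N.card_mul_index, mul_comm p] at h2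
    exact mul_left_cancel₀ Nat.card_pos.ne' h2
  have hna : ¬ IsMulCommutative G := fun h => hPn ⟨fun a ha b => by
    rwa [h.is_comm.comm b a, mul_inv_cancel_right]⟩
  obtain ⟨hcard, -⟩ := Cfsg.Agent.S3869.result hq hqp hna N hel hidx hNmin
  exact ⟨q, hq, hqp, by rw [← N.card_mul_index, hidx, hcard, mul_comm],
    N, hN, hcard, hel, hNmin⟩

end Cfsg.Agent.S3868
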