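import Cfsg.Statements.S3870
import Cfsg.Agent.Lib.CoreBasic

set_option autoImplicit false
open Cfsg

namespace Cfsg.Agent.S3870

/-- Let G be a finite simple group whose Sylow p-subgroups are not normal but such that every proper subgroup of G has a normal Sylow p-subgroup. Then any two distinct Sylow p-subgroups of G intersect trivially, and for every Sylow p-subgroup P the normalizer of every non-identity subgroup of P lies in the normalizer of P. -/
theorem result {G : Type*} [Group G] [Finite G] [IsSimpleGroup G] {p : ℕ} [Fact p.Prime]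
    (hnc : ¬ Cfsg.IsPClosed p G) (hsub : ∀ H : Subgroup G, H ≠ ⊤ → Cfsg.IsPClosed p ↥H) :
    (∀ P Q : Sylow p G, P ≠ Q → (P : Subgroup G) ⊓ (Q : Subgroup G) = ⊥) ∧
      ∀ (P : Sylow p G) (R : Subgroup G), R ≤ P → R ≠ ⊥ →
        Subgroup.normalizer (R : Set G) ≤ Subgroup.normalizer ((P : Subgroup G) : Set G) := by
  classical
  have hproper : ∀ R : Subgroup G, R ≠ ⊥ → IsPGroup p R → Subgroup.normalizer (R : Set G) ≠ ⊤ := by
    intro R hR1 hRp h
    haveI : R.Normal := Subgroup.normalizer_eq_top_iff.1 h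
    rcases Subgroup.Normal.eq_bot_or_eq_top (H := R) inferInstance with e | e
    · exact hR1 e
    · refine hnc fun P => ?_
      have : (P : Subgroup G) = ⊤ := top_le_iff.1 ((e ▸ le_rfl : (⊤ : Subgroup G) ≤ R).trans
        (le_of_eq (P.3 hRp (by rw [e]; exact le_top))))
      rw [this]; infer_instance
  have hTI : ∀ P Q : Sylow p G, P ≠ Q → (P : Subgroup G) ⊓ (Q : Subgroup G) = ⊥ := by
    by_contra hne
    push Not at hne
    obtain ⟨P₀, Q₀, hPQ₀, hD₀⟩ := hne
    obtain ⟨⟨P, Q⟩, hPQ, hmax⟩ := Set.exists_max_image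
      {x : Sylow p G × Sylow p G | x.1 ≠ x.2} (fun x => Nat.card ((x.1 : Subgroup G) ⊓ x.2 : Subgroup G))
      (Set.toFinite _) ⟨(P₀, Q₀), hPQ₀⟩
    set D := (P : Subgroup G) ⊓ Q with hD
    have hD1 : D ≠ ⊥ := fun e => by
      have := hmax (P₀, Q₀) hPQ₀
      simp only [← hD, e, Subgroup.card_bot] at this
      exact hD₀ (Subgroup.card_eq_one.1 (le_antisymm this Nat.card_pos))
    set N := Subgroup.normalizer (D : Set G)
    have hN : IsPClosed p N := hsub N (hproper D hD1 (P.2.to_le inf_le_left))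
    obtain ⟨R⟩ : Nonempty (Sylow p N) := inferInstance
    obtain ⟨S, hS⟩ := IsPGroup.exists_le_sylow (R.2.map N.subtype)
    have hin : ∀ T : Sylow p G, D < T → D < N ⊓ (T : Subgroup G) ∧ N ⊓ (T : Subgroup G) ≤ S := by
      intro T hT
      constructor
      · haveI := T.2.isNilpotent
        refine lt_of_le_of_ne (le_inf Subgroup.le_normalizer hT.le) fun e => ?_
        have hlt : D.subgroupOf (T : Subgroup G) < ⊤ := lt_top_iff_ne_top.2 fun e' =>
          hT.not_ge (Subgroup.subgroupOf_eq_top.1 e')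
        have h1 := Group.normalizerCondition_of_isNilpotent _ hlt
        obtain ⟨x, hx, hxD⟩ := SetLike.exists_of_lt h1
        refine hxD (Subgroup.mem_subgroupOf.2 (e.ge ⟨?_, x.2⟩))
        rw [← Subgroup.subgroupOf_normalizer_eq hT.le] at hx
        exact hx
      · intro x hx
        have h1 : IsPGroup p ((N ⊓ (T : Subgroup G)).subgroupOf N) :=
          (T.2.to_le (inf_le_right : N ⊓ (T : Subgroup G) ≤ T)).comap_of_injective N.subtype N.subtype_injective
        obtain ⟨R', hR'⟩ := h1.exists_le_sylow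
        haveI := hN R
        haveI : Subsingleton (Sylow p N) := Sylow.unique_of_normal R inferInstance |>.instSubsingleton
        rw [Subsingleton.elim R' R] at hR'
        exact hS ⟨⟨x, hx.1⟩, hR' hx, rfl⟩
    have hPD : D < P := lt_of_le_of_ne inf_le_left fun e => hPQ (Sylow.ext
      (P.3 Q.2 (e.symm.le.trans inf_le_right)).symm)
    have hQD : D < Q := lt_of_le_of_ne inf_le_right fun e => hPQ (Sylow.ext
      (Q.3 P.2 (e.symm.le.trans inf_le_left)))
    have hkey : ∀ T : Sylow p G, D < T → T = S := by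
      intro T hT
      by_contra hTS
      obtain ⟨h1, h2⟩ := hin T hT
      have h3 : D < (T : Subgroup G) ⊓ S := h1.trans_le (le_inf inf_le_right h2)
      have := hmax (T, S) hTS
      exact h3.ne (CfsgLib.Core.eq_of_le_of_card_le h3.le this)
    exact hPQ ((hkey P hPD).trans (hkey Q hQD).symm)
  refine ⟨hTI, fun P R hRP hR1 g hg => ?_⟩
  refine Sylow.smul_eq_iff_mem_normalizer.1 ?_
  by_contra hne
  refine hR1 (le_bot_iff.1 ((le_inf ?_ hRP).trans (le_of_eq (hTI _ P hne))))
  intro x hx
  rw [Sylow.coe_subgroup_smul, Subgroup.mem_pointwise_smul_iff_inv_smul_mem]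
  refine hRP ?_
  have := (Subgroup.mem_normalizer_iff.1 (inv_mem hg) x).1 hx
  simpa [MulAut.smul_def] using this

end Cfsg.Agent.S3870
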