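import Cfsg.Statements.S3872
import Cfsg.Agent.Lib.FusionPolyRegular
import Cfsg.Agent.Lib.CorePGroup

set_option autoImplicit false
open Cfsg

namespace Cfsg.Agent.S3872

/-- Say that a finite group is p-exponent closed when its elements of order dividing p form a subgroup. Let G be a finite p-group that is not p-exponent closed, but all of whose proper subgroups and proper quotients are. Then G is generated by two elements, has nilpotency class at least p, has exponent p², has cyclic center, and has order at least p^(p+1). -/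
theorem result {G : Type*} [Group G] [Finite G] {p : ℕ} [Fact p.Prime] (hG : IsPGroup p G)
    (hnc : ¬ (∃ H : Subgroup G, (H : Set G) = {g : G | g ^ p = 1})) (hsub : ∀ K : Subgroup G, K ≠ ⊤ → (∃ H : Subgroup ↥K, (H : Set ↥K) = {g : ↥K | g ^ p = 1}))
    (hquo : ∀ (N : Subgroup G) [N.Normal], N ≠ ⊥ → (∃ H : Subgroup (G ⧸ N), (H : Set (G ⧸ N)) = {g : (G ⧸ N) | g ^ p = 1})) :
    (∃ x y : G, Subgroup.closure ({x, y} : Set G) = ⊤) ∧ (⊤ : Subgroup G).lowerCentralSeries (p - 1) ≠ ⊥ ∧
      Monoid.exponent G = p ^ 2 ∧ IsCyclic ↥(Subgroup.center G) ∧ p ^ (p + 1) ≤ Nat.card G := by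
  classical
  haveI := hG.isNilpotent
  have hp := (inferInstance : Fact p.Prime).out
  have hmul_of : ∀ K : Subgroup G, K ≠ ⊤ → ∀ a ∈ K, ∀ b ∈ K, a ^ p = 1 → b ^ p = 1 → (a * b) ^ p = 1 := by
    intro K hK a ha b hb ha1 hb1
    obtain ⟨H, hH⟩ := hsub K hK
    have hmem : ∀ k : ↥K, k ∈ H ↔ k ^ p = 1 := fun k => by rw [← SetLike.mem_coe, hH]; rfl
    have := (hmem (⟨a, ha⟩ * ⟨b, hb⟩)).mp (mul_mem ((hmem _).mpr (Subtype.ext ha1)) ((hmem _).mpr (Subtype.ext hb1)))
    exact congrArg Subtype.val this
  obtain ⟨x, y, hx, hy, hxy⟩ : ∃ x y : G, x ^ p = 1 ∧ y ^ p = 1 ∧ (x * y) ^ p ≠ 1 := by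
    by_contra! h
    exact hnc ⟨{ carrier := {g | g ^ p = 1}
                 one_mem' := one_pow p
                 mul_mem' := fun {a b} ha hb => h a b ha hb
                 inv_mem' := fun {a} ha => by
                   show a⁻¹ ^ p = 1
                   rw [inv_pow, show a ^ p = 1 from ha, inv_one] }, rfl⟩
  have hgen : Subgroup.closure ({x, y} : Set G) = ⊤ := by
    by_contra h
    exact hxy (hmul_of _ h x (Subgroup.subset_closure (Set.mem_insert _ _)) y
      (Subgroup.subset_closure (Set.mem_insert_of_mem _ rfl)) hx hy)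
  refine ⟨⟨x, y, hgen⟩, ?_⟩
  -- the normal subgroup generated by `x` and the commutator subgroup
  set M := Subgroup.zpowers x ⊔ commutator G with hM
  have hMn : M.Normal := CfsgLib.Core.normal_of_commutator_le le_sup_right
  have hMtop : M ≠ ⊤ := fun h => by
    have h1 : Subgroup.zpowers x = ⊤ := CfsgLib.Core.eq_top_of_sup_frattini (eq_top_iff.mpr
      (h.ge.trans (sup_le_sup_left (CfsgLib.Core.pgroup_commutator_le_frattini hG) _)))
    obtain ⟨i, rfl⟩ := Subgroup.mem_zpowers_iff.mp (h1 ▸ Subgroup.mem_top y : y ∈ Subgroup.zpowers x)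
    apply hxy
    rw [(Commute.self_zpow x i).mul_pow, hx, hy, one_mul]
  obtain ⟨E, hE⟩ : ∃ E : Subgroup G, ∀ g, g ∈ E ↔ g ∈ M ∧ g ^ p = 1 := ⟨
    { carrier := {g | g ∈ M ∧ g ^ p = 1}
      one_mem' := ⟨one_mem M, one_pow p⟩
      mul_mem' := fun {a b} ha hb => ⟨mul_mem ha.1 hb.1, hmul_of M hMtop a ha.1 b hb.1 ha.2 hb.2⟩
      inv_mem' := fun {a} ha => ⟨inv_mem ha.1, by rw [inv_pow, ha.2, inv_one]⟩ }, fun g => Iff.rfl⟩
  haveI hEn : E.Normal := ⟨fun g hg h => (hE _).mpr
    ⟨hMn.conj_mem g ((hE g).mp hg).1 h, by rw [conj_pow, ((hE g).mp hg).2, mul_one, mul_inv_cancel]⟩⟩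
  have hxE : x ∈ E := (hE x).mpr ⟨Subgroup.mem_sup_left (Subgroup.mem_zpowers x), hx⟩
  have hGE : commutator G ≤ E := by
    have hq : ∀ a b : G ⧸ E, a * b = b * a := by
      have hall : ∀ a : G, (QuotientGroup.mk' E a) ∈ Subgroup.zpowers (QuotientGroup.mk' E y) := by
        intro a
        have h1 : Subgroup.closure ({x, y} : Set G) ≤
            (Subgroup.zpowers (QuotientGroup.mk' E y)).comap (QuotientGroup.mk' E) := by
          rw [Subgroup.closure_le]
          rintro g (rfl | rfl)
          · show QuotientGroup.mk' E g ∈ Subgroup.zpowers _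
            rw [show QuotientGroup.mk' E g = 1 from (QuotientGroup.eq_one_iff g).mpr hxE]
            exact one_mem _
          · exact Subgroup.mem_zpowers _
        exact h1 (hgen ▸ Subgroup.mem_top a)
      intro a b
      obtain ⟨a, rfl⟩ := QuotientGroup.mk_surjective a
      obtain ⟨b, rfl⟩ := QuotientGroup.mk_surjective b
      obtain ⟨i, hi⟩ := hall a
      obtain ⟨j, hj⟩ := hall b
      simp only [QuotientGroup.mk'_apply] at hi hj
      rw [← hi, ← hj]
      exact (Commute.zpow_zpow_self _ i j).eq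
    rw [_root_.commutator_def, Subgroup.commutator_le]
    intro a _ b _
    rw [← QuotientGroup.eq_one_iff, commutatorElement_def]
    simp only [QuotientGroup.mk_mul, QuotientGroup.mk_inv, hq (a : G ⧸ E) (b : G ⧸ E)]
    group
  have hcls : (⊤ : Subgroup G).lowerCentralSeries (p - 1) ≠ ⊥ := by
    intro h
    obtain ⟨w, hw, hw'⟩ := CfsgLib.PolySeq.hall_power (K := G) inferInstance hp ⊥
      (fun c hc => Subgroup.mem_bot.mpr ((hE c).mp (hGE hc)).2) x y
    rw [h, bot_sup_eq, Subgroup.mem_bot] at hw
    rw [hw, hx, hy, one_mul, one_mul] at hw'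
    exact hxy hw'
  have hNp : ∀ (N : Subgroup G) [N.Normal], N ≠ ⊥ → ∀ g : G, g ^ p ∈ N := by
    intro N _ hN g
    obtain ⟨H, hH⟩ := hquo N hN
    have hmem : ∀ k : G ⧸ N, k ∈ H ↔ k ^ p = 1 := fun k => by rw [← SetLike.mem_coe, hH]; rfl
    have h1 : Subgroup.closure ({x, y} : Set G) ≤ H.comap (QuotientGroup.mk' N) := by
      rw [Subgroup.closure_le]
      rintro a (rfl | rfl) <;> show QuotientGroup.mk' N a ∈ H <;> rw [hmem, ← map_pow]
      · rw [hx, map_one]
      · rw [hy, map_one]
    have h2 := (hmem _).mp (h1 (hgen ▸ Subgroup.mem_top g) : QuotientGroup.mk' N g ∈ H)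
    rw [← map_pow] at h2
    exact (QuotientGroup.eq_one_iff _).mp h2
  haveI : Nontrivial G := ⟨⟨x * y, 1, fun h => hxy (by rw [h, one_pow])⟩⟩
  have hnorm : ∀ z ∈ Subgroup.center G, (Subgroup.zpowers z).Normal := fun z hz => ⟨fun a ha g => by
    obtain ⟨i, rfl⟩ := Subgroup.mem_zpowers_iff.mp ha
    rw [Subgroup.mem_center_iff.mp (zpow_mem hz i) g, mul_inv_cancel_right]
    exact Subgroup.zpow_mem_zpowers z i⟩
  haveI := hG.center_nontrivial
  obtain ⟨z, hzc, hzp, hz1⟩ : ∃ z ∈ Subgroup.center G, z ^ p = 1 ∧ z ≠ 1 := by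
    obtain ⟨k, hk⟩ := (hG.to_subgroup (Subgroup.center G)).exists_card_eq
    have hd : p ∣ Nat.card ↥(Subgroup.center G) := by
      rw [hk]
      refine dvd_pow_self p fun h => ?_
      rw [h, pow_zero] at hk
      exact (Finite.one_lt_card (α := ↥(Subgroup.center G))).ne' hk
    obtain ⟨z, hz⟩ := exists_prime_orderOf_dvd_card' p hd
    refine ⟨z, z.2, ?_, fun h => ?_⟩
    · rw [← hz]
      exact congrArg Subtype.val (pow_orderOf_eq_one z)
    · have h1 : z = 1 := Subtype.ext h
      rw [h1, orderOf_one] at hz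
      exact hp.ne_one hz.symm
  have hexp : ∀ g : G, g ^ p ^ 2 = 1 := by
    intro g
    haveI := hnorm z hzc
    obtain ⟨i, hi⟩ := hNp (Subgroup.zpowers z) (Subgroup.zpowers_ne_bot.mpr hz1) g
    simp only at hi
    rw [pow_two, pow_mul, ← hi, ← zpow_natCast, ← zpow_mul, mul_comm, zpow_mul, zpow_natCast, hzp, one_zpow]
  refine ⟨hcls, ?_, ?_, ?_⟩
  · refine Nat.dvd_antisymm (Monoid.exponent_dvd_of_forall_pow_eq_one hexp) ?_
    have ho : orderOf (x * y) = p ^ 2 :=
      orderOf_eq_prime_pow (n := 1) (by rwa [pow_one]) (hexp _)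
    rw [← ho]
    exact Monoid.order_dvd_exponent _
  · -- a unique central subgroup of order `p`
    open scoped IsMulCommutative in
    have huniq : ∀ c ∈ Subgroup.center G, c ^ p = 1 → c ∈ Subgroup.zpowers z := by
      intro c hc hcp
      by_contra hcz
      have hc1 : c ≠ 1 := fun h => hcz (h ▸ one_mem _)
      haveI := hnorm z hzc
      haveI := hnorm c hc
      have hz' := hNp (Subgroup.zpowers z) (Subgroup.zpowers_ne_bot.mpr hz1) (x * y)
      have hc' := hNp (Subgroup.zpowers c) (Subgroup.zpowers_ne_bot.mpr hc1) (x * y)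
      have hco : orderOf c = p := orderOf_eq_prime hcp hc1
      have : Subgroup.zpowers ((x * y) ^ p) = Subgroup.zpowers c := Subgroup.eq_of_le_of_card_ge
        (Subgroup.zpowers_le.mpr hc') (by
          rw [Nat.card_zpowers, Nat.card_zpowers, hco]
          refine le_of_eq (orderOf_eq_prime ?_ hxy).symm
          rw [← pow_mul, ← pow_two, hexp])
      exact hcz ((this ▸ Subgroup.zpowers_le.mpr hz' : Subgroup.zpowers c ≤ Subgroup.zpowers z)
        (Subgroup.mem_zpowers c))
    letI : CommGroup ↥(Subgroup.center G) := { (inferInstance : Group ↥(Subgroup.center G)) with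
      mul_comm := fun a b => Subtype.ext (Subgroup.mem_center_iff.mp b.2 a) }
    haveI := Fintype.ofFinite ↥(Subgroup.center G)
    have hker : ∀ m : ℕ, Nat.card {c : ↥(Subgroup.center G) // c ^ p ^ m = 1} ≤ p ^ m := by
      intro m
      induction m with
      | zero =>
        rw [pow_zero]
        refine Finite.card_le_one_iff_subsingleton.mpr ⟨fun a b => Subtype.ext ?_⟩
        have ha := a.2; have hb := b.2
        simp only [pow_one] at ha hb
        rw [ha, hb]
      | succ m ih =>
        let φ := (powMonoidHom p : ↥(Subgroup.center G) →* ↥(Subgroup.center G)).comp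
          (powMonoidHom (p ^ (m + 1)) : ↥(Subgroup.center G) →* ↥(Subgroup.center G)).ker.subtype
        have hrange : Nat.card φ.range ≤ p ^ m := le_trans (Nat.card_le_card_of_injective
          (fun c : φ.range => (⟨c.1, by
            obtain ⟨⟨a, ha⟩, hac⟩ := c.2
            rw [← hac]
            show (a ^ p) ^ p ^ m = 1
            rw [← pow_mul, ← pow_succ']
            exact ha⟩ : {c : ↥(Subgroup.center G) // c ^ p ^ m = 1}))
          (fun a b h => Subtype.ext (congrArg (fun t => t.1) h))) ih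
        have hk : Nat.card φ.ker ≤ p := by
          refine le_trans (Nat.card_le_card_of_injective
            (fun c : φ.ker => (⟨((c.1.1 : ↥(Subgroup.center G)) : G), huniq _ c.1.1.2
              (congrArg Subtype.val (c.2 : (c.1.1) ^ p = 1))⟩ : ↥(Subgroup.zpowers z))) ?_)
            (le_of_eq ((Nat.card_zpowers z).trans (orderOf_eq_prime hzp hz1)))
          intro a b h
          exact Subtype.ext (Subtype.ext (Subtype.ext (congrArg (fun t => t.1) h)))
        calc Nat.card {c : ↥(Subgroup.center G) // c ^ p ^ (m + 1) = 1}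
            = Nat.card (powMonoidHom (p ^ (m + 1)) : ↥(Subgroup.center G) →* ↥(Subgroup.center G)).ker := rfl
          _ = Nat.card φ.range * Nat.card φ.ker := by
              rw [← Subgroup.index_ker, Subgroup.index_mul_card]
          _ ≤ p ^ m * p := Nat.mul_le_mul hrange hk
          _ = p ^ (m + 1) := (pow_succ p m).symm
    refine isCyclic_of_card_pow_eq_one_le fun n hn => ?_
    obtain ⟨k, hk⟩ := (hG.to_subgroup (Subgroup.center G)).exists_card_eq
    obtain ⟨m, -, hm⟩ := (Nat.dvd_prime_pow hp).mp (Nat.gcd_dvd_right n (p ^ k))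
    refine le_trans ?_ ((hm ▸ Nat.le_of_dvd hn (Nat.gcd_dvd_left n _)) : p ^ m ≤ n)
    refine le_trans (le_of_eq_of_le ?_ (Nat.card_le_card_of_injective
      (fun c : {c : ↥(Subgroup.center G) // c ^ n = 1} =>
        (⟨c.1, by
          rw [← hm]
          exact orderOf_dvd_iff_pow_eq_one.mp (Nat.dvd_gcd (orderOf_dvd_of_pow_eq_one c.2)
            (hk ▸ orderOf_dvd_natCard c.1))⟩ : {c : ↥(Subgroup.center G) // c ^ p ^ m = 1}))
      (fun a b h => Subtype.ext (congrArg (fun t => t.1) h)))) (hker m)
    rw [Nat.card_eq_fintype_card, Fintype.card_subtype]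
  · -- the order
    set L : ℕ → Subgroup G := fun i => (⊤ : Subgroup G).lowerCentralSeries i with hL
    have hlt : ∀ i, L i ≠ ⊥ → L (i + 1) < L i := by
      intro i hi
      refine lt_of_le_of_ne (Subgroup.lowerCentralSeries_antitone _ i.le_succ) fun h => hi ?_
      obtain ⟨N, hN⟩ := Subgroup.nilpotent_iff_lowerCentralSeries.mp (inferInstance : Group.IsNilpotent G)
      have : ∀ j, L (i + j) = L i := by
        intro j
        induction j with
        | zero => rfl
        | succ j ihj =>
          calc L (i + (j + 1)) = ⁅L (i + j), (⊤ : Subgroup G)⁆ := rfl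
            _ = ⁅L i, (⊤ : Subgroup G)⁆ := by rw [ihj]
            _ = L i := h
      exact (this N).symm.trans (eq_bot_iff.mpr
        ((Subgroup.lowerCentralSeries_antitone _ (Nat.le_add_left N i)).trans hN.le))
    have hstep : ∀ i, L i ≠ ⊥ → p * Nat.card (L (i + 1)) ≤ Nat.card (L i) := by
      intro i hi
      have hl := hlt i hi
      obtain ⟨e, he⟩ := (hG.to_subgroup (L i)).index ((L (i + 1)).subgroupOf (L i))
      change (L (i + 1)).relIndex (L i) = p ^ e at he
      rw [← CfsgLib.Core.card_mul_relIndex hl.le, he, mul_comm]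
      refine Nat.mul_le_mul_left _ (Nat.le_self_pow (fun h => hl.not_ge ?_) p)
      rw [← Subgroup.relIndex_eq_one, he, h, pow_zero]
    have hne : ∀ i ≤ p - 1, L i ≠ ⊥ := fun i hi h => hcls (eq_bot_iff.mpr
      ((Subgroup.lowerCentralSeries_antitone _ hi).trans h.le))
    have hchain : ∀ j, j ≤ p - 1 → 1 ≤ j → p ^ (j - 1) * Nat.card (L j) ≤ Nat.card (L 1) := by
      intro j hj h1
      induction j, h1 using Nat.le_induction with
      | base => simp
      | succ j hj1 ih =>
        refine le_trans ?_ (ih (by omega))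
        calc p ^ (j + 1 - 1) * Nat.card (L (j + 1)) = p ^ (j - 1) * (p * Nat.card (L (j + 1))) := by
              rw [← mul_assoc, ← pow_succ, show j - 1 + 1 = j + 1 - 1 by omega]
          _ ≤ _ := Nat.mul_le_mul_left _ (hstep j (hne j (by omega)))
    have h2 := hp.two_le
    have hlast : p ≤ Nat.card (L (p - 1)) := by
      obtain ⟨e, he⟩ := (hG.to_subgroup (L (p - 1))).exists_card_eq
      rw [he]
      refine Nat.le_self_pow (fun h => hne _ le_rfl (Subgroup.eq_bot_of_card_eq _ ?_)) p
      rw [he, h, pow_zero]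
    have hidx : p * p ≤ (L 1).index := by
      have hxM : commutator G < M := lt_of_le_of_ne le_sup_right fun h => hxy (by
        have hxc : x ∈ commutator G := h ▸ Subgroup.mem_sup_left (Subgroup.mem_zpowers x)
        have h1 : Subgroup.zpowers y = ⊤ := CfsgLib.Core.eq_top_of_sup_frattini (eq_top_iff.mpr (by
          rw [← hgen, Subgroup.closure_le]
          rintro g (rfl | rfl)
          · exact Subgroup.mem_sup_right (CfsgLib.Core.pgroup_commutator_le_frattini hG hxc)
          · exact Subgroup.mem_sup_left (Subgroup.mem_zpowers _)))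
        obtain ⟨i, rfl⟩ := Subgroup.mem_zpowers_iff.mp (h1 ▸ Subgroup.mem_top x : x ∈ Subgroup.zpowers y)
        rw [((Commute.self_zpow y i).symm).mul_pow, hx, hy, one_mul])
      have hpow : ∀ (H : Subgroup G), H ≠ ⊤ → p ≤ H.index := fun H hH => by
        obtain ⟨e, he⟩ := hG.index H
        rw [he]
        exact Nat.le_self_pow (fun h => hH (Subgroup.index_eq_one.mp (by rw [he, h, pow_zero]))) p
      show p * p ≤ (commutator G).index
      rw [← Subgroup.relIndex_mul_index hxM.le]
      refine Nat.mul_le_mul ?_ (hpow M hMtop)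
      obtain ⟨e, he⟩ := (hG.to_subgroup M).index ((commutator G).subgroupOf M)
      change (commutator G).relIndex M = p ^ e at he
      rw [he]
      refine Nat.le_self_pow (fun h => hxM.not_ge ?_) p
      rw [← Subgroup.relIndex_eq_one, he, h, pow_zero]
    calc p ^ (p + 1) = p ^ (p - 1 - 1) * p * (p * p) := by
          rw [← pow_succ, ← pow_two, ← pow_add]
          congr 1
          omega
      _ ≤ Nat.card (L 1) * (L 1).index :=
          Nat.mul_le_mul ((Nat.mul_le_mul_left _ hlast).trans (hchain (p - 1) le_rfl (by omega))) hidx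
      _ = Nat.card G := Subgroup.card_mul_index _

end Cfsg.Agent.S3872
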