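import Cfsg.Statements.S3873
import Cfsg.Agent.S3868
import Cfsg.Agent.Lib.CoreFitting

set_option autoImplicit false
open Cfsg

set_option maxHeartbeats 400000

namespace Cfsg.Agent.S3873

/-- Say that a finite group is p-exponent closed when its elements of order dividing p form a subgroup. Let G be a finite group that is not p-exponent closed, but all of whose proper subgroups and proper quotients are, and suppose G is neither simple nor a p-group. Then there is a prime q ≠ p such that G has order p · q^e, where e is the multiplicative order of q modulo p, and G has a normal elementary abelian subgroup of order q^e that is a minimal normal subgroup of G. -/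
theorem result {G : Type*} [Group G] [Finite G] {p : ℕ} [Fact p.Prime]
    (hnc : ¬ (∃ H : Subgroup G, (H : Set G) = {g : G | g ^ p = 1})) (hsub : ∀ K : Subgroup G, K ≠ ⊤ → (∃ H : Subgroup ↥K, (H : Set ↥K) = {g : ↥K | g ^ p = 1}))
    (hquo : ∀ (N : Subgroup G) [N.Normal], N ≠ ⊥ → (∃ H : Subgroup (G ⧸ N), (H : Set (G ⧸ N)) = {g : (G ⧸ N) | g ^ p = 1}))
    (hns : ¬ IsSimpleGroup G) (hnp : ¬ IsPGroup p G) :
    ∃ q : ℕ, q.Prime ∧ q ≠ p ∧ Nat.card G = p * q ^ orderOf (q : ZMod p) ∧
      ∃ A : Subgroup G, A.Normal ∧ Nat.card ↥A = q ^ orderOf (q : ZMod p) ∧ Cfsg.IsElementaryAbelian q A ∧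
        ∀ B : Subgroup G, B.Normal → B ≤ A → B = ⊥ ∨ B = A := by
  have hp : p.Prime := Fact.out
  -- G is generated by elements of order p
  have hgen : Subgroup.closure {g : G | g ^ p = 1} = ⊤ := by
    by_contra hne
    obtain ⟨H, hH⟩ := hsub _ hne
    refine hnc ⟨H.map (Subgroup.closure {g : G | g ^ p = 1}).subtype, ?_⟩
    ext g
    constructor
    · rintro ⟨x, hx, rfl⟩
      have hx' : x ∈ (H : Set _) := hx
      rw [hH] at hx'
      exact congrArg Subtype.val hx'
    · intro hg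
      refine ⟨⟨g, Subgroup.subset_closure hg⟩, ?_, rfl⟩
      show (⟨g, Subgroup.subset_closure hg⟩ : ↥(Subgroup.closure {g : G | g ^ p = 1})) ∈ (H : Set _)
      rw [hH]
      exact Subtype.ext hg
  -- quotients are groups of exponent p
  have hexpQ : ∀ (N : Subgroup G) [N.Normal], N ≠ ⊥ → ∀ x : G ⧸ N, x ^ p = 1 := by
    intro N hN hN0 x
    obtain ⟨H, hH⟩ := hquo N hN0
    have htop : H = ⊤ := by
      rw [eq_top_iff, ← Subgroup.map_top_of_surjective _ (QuotientGroup.mk'_surjective N), ← hgen,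
        MonoidHom.map_closure, Subgroup.closure_le]
      rintro _ ⟨g, hg, rfl⟩
      rw [hH]
      show (QuotientGroup.mk' N g) ^ p = 1
      rw [← map_pow, show g ^ p = 1 from hg, map_one]
    have : x ∈ (H : Set (G ⧸ N)) := by rw [htop]; trivial
    rwa [hH] at this
  haveI : Nontrivial G := by
    by_contra h
    rw [not_nontrivial_iff_subsingleton] at h
    exact hnp (fun g => ⟨0, Subsingleton.elim _ _⟩)
  obtain ⟨N₀, hN₀, hN₀b, hN₀t⟩ : ∃ N : Subgroup G, N.Normal ∧ N ≠ ⊥ ∧ N ≠ ⊤ := by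
    by_contra hcon
    push Not at hcon
    exact hns ⟨fun H hH => or_iff_not_imp_left.mpr (hcon H hH)⟩
  haveI := hN₀
  have hQp : ∀ (N : Subgroup G) [N.Normal], N ≠ ⊥ → IsPGroup p (G ⧸ N) :=
    fun N _ hN0 x => ⟨1, by rw [pow_one]; exact hexpQ N hN0 x⟩
  -- no normal p-subgroup
  have hnpn : ∀ (N : Subgroup G) [N.Normal], IsPGroup p ↥N → N = ⊥ := by
    intro N hN hNp
    by_contra hN0
    refine hnp (fun g => ?_)
    obtain ⟨k, hk⟩ := hNp ⟨g ^ p, by
      rw [← QuotientGroup.eq_one_iff, QuotientGroup.mk_pow]; exact hexpQ N hN0 _⟩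
    refine ⟨k + 1, ?_⟩
    rw [pow_succ', pow_mul]
    exact congrArg Subtype.val hk
  -- Sylow subgroups of exponent p
  have hexp : ∀ P : Sylow p G, ∀ x ∈ (P : Subgroup G), x ^ p = 1 := by
    intro P x hx
    have h1 : x ^ p ∈ N₀ := by
      rw [← QuotientGroup.eq_one_iff, QuotientGroup.mk_pow]; exact hexpQ N₀ hN₀b _
    obtain ⟨H, hH⟩ := hsub N₀ hN₀t
    have hHn : (H.map N₀.subtype).Normal := by
      refine ⟨fun a ha g => ?_⟩
      obtain ⟨y, hy, rfl⟩ := ha
      have hy' : y ∈ (H : Set ↥N₀) := hy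
      rw [hH] at hy'
      refine ⟨⟨g * y.1 * g⁻¹, hN₀.conj_mem y.1 y.2 g⟩, ?_, rfl⟩
      show _ ∈ (H : Set ↥N₀)
      rw [hH]
      exact Subtype.ext (show (g * y.1 * g⁻¹) ^ p = 1 by
        rw [conj_pow, show y.1 ^ p = 1 from congrArg Subtype.val hy', mul_one, mul_inv_cancel])
    have hHp : IsPGroup p ↥(H.map N₀.subtype) := by
      rintro ⟨a, y, hy, rfl⟩
      have hy' : y ∈ (H : Set ↥N₀) := hy
      rw [hH] at hy'
      exact ⟨1, Subtype.ext (show (y : G) ^ p ^ 1 = 1 by rw [pow_one, ← Subgroup.coe_pow, show y ^ p = 1 from hy', Subgroup.coe_one])⟩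
    have hH0 := hnpn _ hHp
    by_contra hne
    -- an element of order p of N₀ would lie in H
    obtain ⟨k, hk⟩ := P.isPGroup' ⟨x, hx⟩
    have hk' : (x ^ p) ^ p ^ k = 1 := by
      rw [← pow_mul, mul_comm, pow_mul, show x ^ p ^ k = 1 from congrArg Subtype.val hk, one_pow]
    have key : ∀ (j : ℕ) (y : G), y ∈ N₀ → y ^ p ^ j = 1 → y = 1 := by
      intro j
      induction j with
      | zero => intro y _ h; simpa using h
      | succ j ih =>
        intro y hy h
        rw [pow_succ', pow_mul] at h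
        have h2 := ih (y ^ p) (pow_mem hy p) h
        have h3 : y ∈ H.map N₀.subtype := ⟨⟨y, hy⟩, by
          show (⟨y, hy⟩ : ↥N₀) ∈ (H : Set ↥N₀)
          rw [hH]; exact Subtype.ext h2, rfl⟩
        rwa [hH0, Subgroup.mem_bot] at h3
    exact hne (key k _ h1 hk')
  -- the situation is that of a minimal non-p-closed group
  refine Cfsg.Agent.S3868.result (G := G) ?_ ?_ ?_ hns
  · intro hcl
    obtain ⟨P⟩ : Nonempty (Sylow p G) := inferInstance
    haveI := Sylow.unique_of_normal P (hcl P)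
    refine hnc ⟨(P : Subgroup G), ?_⟩
    ext g
    refine ⟨fun hg => hexp P g hg, fun hg => ?_⟩
    obtain ⟨Q, hQ⟩ := (show IsPGroup p ↥(Subgroup.zpowers g) from by
      obtain ⟨k, -, hk⟩ := (Nat.dvd_prime_pow hp).mp
        (show orderOf g ∣ p ^ 1 by rw [pow_one]; exact orderOf_dvd_of_pow_eq_one hg)
      exact IsPGroup.of_card (n := k) (by rw [Nat.card_zpowers, hk])).exists_le_sylow
    rw [Subsingleton.elim P Q]
    exact hQ (Subgroup.mem_zpowers g)
  · intro H hH S
    obtain ⟨K, hK⟩ := hsub H hH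
    have hS : (S : Subgroup ↥H) ≤ K := fun y hy => by
      show y ∈ (K : Set ↥H)
      rw [hK]
      obtain ⟨Q, hQ⟩ := (S.isPGroup'.map H.subtype).exists_le_sylow
      exact Subtype.ext (hexp Q y.1 (hQ (Subgroup.mem_map_of_mem _ hy)))
    have hKp : IsPGroup p ↥K := fun y => ⟨1, Subtype.ext (by
      rw [pow_one]
      have hy : y.1 ∈ (K : Set ↥H) := y.2
      rw [hK] at hy
      exact hy)⟩
    rw [← S.is_maximal' hKp hS]
    refine ⟨fun a ha g => ?_⟩
    have ha' : a ∈ (K : Set ↥H) := ha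
    rw [hK] at ha'
    show g * a * g⁻¹ ∈ (K : Set ↥H)
    rw [hK]
    show (g * a * g⁻¹) ^ p = 1
    rw [conj_pow, show a ^ p = 1 from ha', mul_one, mul_inv_cancel]
  · intro N hN hN0 P
    have hP : (P : Subgroup (G ⧸ N)) = ⊤ :=
      (P.is_maximal' ((hQp N hN0).to_subgroup ⊤) le_top).symm
    rw [hP]; infer_instance

end Cfsg.Agent.S3873
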