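import Cfsg.Statements.S3875
import Cfsg.Agent.Lib.CoreLeastNonClosed
import Cfsg.Agent.Lib.ClassicalCardLinear
import Mathlib.FieldTheory.Finite.GaloisField
import Mathlib.GroupTheory.SemidirectProduct
import Mathlib.LinearAlgebra.Matrix.Charpoly.Coeff

set_option autoImplicit false
open Cfsg

namespace Cfsg.Agent.S3875

private theorem affine (p m : ℕ) [Fact p.Prime] (hm : IsPrimePow m) (hm1 : m % p = 1) :
    ∃ (H : Type) (_ : Group H) (_ : Finite H), Nat.card H = p * m ∧ ¬ Cfsg.IsPClosed p H := by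
  classical
  obtain ⟨q, d, hq, hd, rfl⟩ := (isPrimePow_nat_iff m).1 hm
  haveI : Fact q.Prime := ⟨hq⟩
  have hpr : p.Prime := Fact.out
  have hpq : p ≠ q := by
    rintro rfl
    rw [Nat.mod_eq_zero_of_dvd] at hm1
    · omega
    · exact dvd_pow_self _ hd.ne'
  haveI : Fintype (GaloisField q d) := Fintype.ofFinite _
  have hF : Nat.card (GaloisField q d) = q ^ d := GaloisField.card q d hd.ne'
  have hdvd : p ∣ Nat.card (GaloisField q d)ˣ := by
    rw [Nat.card_units, hF]
    exact (Nat.modEq_iff_dvd' (Nat.one_le_pow _ _ hq.pos)).1 (by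
      show 1 % p = q ^ d % p
      rw [hm1, Nat.mod_eq_of_lt hpr.one_lt])
  obtain ⟨u, hu⟩ := exists_prime_orderOf_dvd_card' p hdvd
  let φ : Subgroup.zpowers u →* MulAut (Multiplicative (GaloisField q d)) :=
    (MonoidHom.mk' (fun c : (GaloisField q d)ˣ =>
      AddEquiv.toMultiplicative (DistribMulAction.toAddEquiv (GaloisField q d) c))
      (fun a b => by ext x; exact mul_smul a b (Multiplicative.toAdd x))).comp (Subgroup.zpowers u).subtype
  let H := Multiplicative (GaloisField q d) ⋊[φ] Subgroup.zpowers u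
  haveI : Finite H := Finite.of_equiv _ SemidirectProduct.equivProd.symm
  refine ⟨H, inferInstance, inferInstance, ?_, fun hcl => ?_⟩
  · rw [SemidirectProduct.card, Nat.card_zpowers, hu, mul_comm,
      show Nat.card (Multiplicative (GaloisField q d)) = q ^ d from
        (Nat.card_congr Multiplicative.toAdd).trans hF]
  set c : Subgroup.zpowers u := ⟨u, Subgroup.mem_zpowers u⟩
  set x : H := SemidirectProduct.inr c with hx
  have hxp : x ^ p = 1 := by
    rw [hx, ← map_pow, show c ^ p = 1 from Subtype.ext (by simp [c, ← hu, pow_orderOf_eq_one]), map_one]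
  obtain ⟨S, hS⟩ := (IsPGroup.of_card (p := p) (n := 1) (G := Subgroup.zpowers x) (by
    rw [Nat.card_zpowers, orderOf_eq_prime hxp fun e => by
      have h2 := congrArg SemidirectProduct.right e
      simp [hx, c] at h2
      rw [h2, orderOf_one] at hu
      exact hpr.one_lt.ne hu, pow_one])).exists_le_sylow
  set v : H := SemidirectProduct.inl (Multiplicative.ofAdd (1 : GaloisField q d)) with hv
  have hmem : v * x * v⁻¹ * x⁻¹ ∈ (S : Subgroup H) :=
    (S : Subgroup H).mul_mem ((hcl S).conj_mem _ (hS (Subgroup.mem_zpowers x)) v)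
      ((S : Subgroup H).inv_mem (hS (Subgroup.mem_zpowers x)))
  obtain ⟨k, hk⟩ := S.2 ⟨_, hmem⟩
  have hw : v * x * v⁻¹ * x⁻¹ = SemidirectProduct.inl
      (Multiplicative.ofAdd ((1 : GaloisField q d) - (u : GaloisField q d))) := by
    rw [hv, hx, mul_assoc _ (SemidirectProduct.inr c), mul_assoc,
      ← map_inv (SemidirectProduct.inl (φ := φ)), ← map_inv (SemidirectProduct.inr (φ := φ)),
      ← SemidirectProduct.inl_aut, ← map_mul]
    refine congrArg _ (Multiplicative.toAdd.injective ?_)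
    show (1 : GaloisField q d) + (u : GaloisField q d) • (-(1 : GaloisField q d)) = 1 - (u : GaloisField q d)
    rw [smul_eq_mul]; ring
  have hk' : (v * x * v⁻¹ * x⁻¹) ^ p ^ k = 1 := congrArg Subtype.val hk
  rw [hw, ← map_pow, ← ofAdd_nsmul, ← map_one (SemidirectProduct.inl (φ := φ))] at hk'
  have h1 : (p ^ k) • ((1 : GaloisField q d) - (u : GaloisField q d)) = 0 :=
    ofAdd_eq_one.1 (SemidirectProduct.inl_injective hk')
  rw [nsmul_eq_mul, mul_eq_zero] at h1
  rcases h1 with h1 | h1
  · rw [Nat.cast_pow] at h1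
    have h2 := (CharP.cast_eq_zero_iff (GaloisField q d) q p).1 (eq_zero_of_pow_eq_zero h1)
    exact hpq ((Nat.prime_dvd_prime_iff_eq hq hpr).1 h2).symm
  · have : u = 1 := Units.ext (sub_eq_zero.1 h1).symm
    rw [this, orderOf_one] at hu
    exact hpr.one_lt.ne hu

private theorem psl (p : ℕ) [Fact p.Prime] (hp : p ≠ 2) (hp5 : p ≠ 5) :
    ∃ (H : Type) (_ : Group H) (_ : Finite H), Nat.card H = p * (p ^ 2 - 1) / 2 ∧ ¬ Cfsg.IsPClosed p H := by
  classical
  have hpr : p.Prime := Fact.out
  have hcard : 2 * Nat.card (Matrix.ProjectiveSpecialLinearGroup (Fin 2) (ZMod p)) = p * (p ^ 2 - 1) := by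
    have h1 := CfsgLib.Classical.card_psl_mul (ι := Fin 2) (F := ZMod p)
    have h2 := CfsgLib.Classical.card_units_mul_card_sl (ι := Fin 2) (F := ZMod p)
    rw [Matrix.card_GL_field, Fin.prod_univ_two] at h2
    rw [Fintype.card_fin, ZMod.card] at h1
    simp only [ZMod.card, Fin.val_zero, Fin.val_one, pow_zero, pow_one] at h2
    have hg : Nat.gcd 2 (p - 1) = 2 := by
      refine Nat.gcd_eq_left ?_
      obtain ⟨k, hk⟩ := hpr.odd_of_ne_two hp
      exact ⟨k, by omega⟩
    rw [hg] at h1
    rw [h1]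
    have h3 : p ^ 2 - p = (p - 1) * p := by rw [Nat.sub_mul, one_mul, pow_two]
    rw [h3, mul_comm (p ^ 2 - 1), mul_assoc] at h2
    exact Nat.eq_of_mul_eq_mul_left (by have := hpr.two_le; omega) h2
  refine ⟨Matrix.ProjectiveSpecialLinearGroup (Fin 2) (ZMod p), inferInstance, inferInstance,
    by rw [← hcard]; omega, fun hcl => ?_⟩
  let U : Matrix.SpecialLinearGroup (Fin 2) (ZMod p) := ⟨!![1, 1; 0, 1], by simp [Matrix.det_fin_two_of]⟩
  let L : Matrix.SpecialLinearGroup (Fin 2) (ZMod p) := ⟨!![1, 0; 1, 1], by simp [Matrix.det_fin_two_of]⟩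
  obtain ⟨S⟩ := (inferInstance : Nonempty (Sylow p (Matrix.ProjectiveSpecialLinearGroup (Fin 2) (ZMod p))))
  haveI := Sylow.unique_of_normal S (hcl S)
  have key : ∀ a : Matrix.SpecialLinearGroup (Fin 2) (ZMod p), a ^ p = 1 →
      (QuotientGroup.mk a : Matrix.ProjectiveSpecialLinearGroup (Fin 2) (ZMod p)) ∈
        (S : Subgroup (Matrix.ProjectiveSpecialLinearGroup (Fin 2) (ZMod p))) := by
    intro a ha
    have hz : IsPGroup p (Subgroup.zpowers (QuotientGroup.mk a : Matrix.ProjectiveSpecialLinearGroup (Fin 2) (ZMod p))) := by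
      rintro ⟨_, j, rfl⟩
      refine ⟨1, Subtype.ext ?_⟩
      rw [pow_one, SubgroupClass.coe_pow]
      show ((QuotientGroup.mk a : Matrix.ProjectiveSpecialLinearGroup (Fin 2) (ZMod p)) ^ j) ^ p = 1
      rw [← zpow_natCast, ← zpow_mul, mul_comm, zpow_mul, zpow_natCast, ← QuotientGroup.mk_pow, ha,
        QuotientGroup.mk_one, one_zpow]
    obtain ⟨T, hT⟩ := hz.exists_le_sylow
    rw [Subsingleton.elim T S] at hT
    exact hT (Subgroup.mem_zpowers _)
  have hU : U ^ p = 1 := by
    have : ∀ k : ℕ, ((U ^ k : Matrix.SpecialLinearGroup (Fin 2) (ZMod p)) : Matrix (Fin 2) (Fin 2) (ZMod p)) =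
        !![1, (k : ZMod p); 0, 1] := by
      intro k
      induction k with
      | zero => simp [Matrix.one_fin_two]
      | succ k ih => rw [pow_succ, Matrix.SpecialLinearGroup.coe_mul, ih]; simp [U, Matrix.mul_fin_two, add_comm]
    ext i j
    rw [this p, ZMod.natCast_self]
    fin_cases i <;> fin_cases j <;> simp
  have hL : L ^ p = 1 := by
    have : ∀ k : ℕ, ((L ^ k : Matrix.SpecialLinearGroup (Fin 2) (ZMod p)) : Matrix (Fin 2) (Fin 2) (ZMod p)) =
        !![1, 0; (k : ZMod p), 1] := by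
      intro k
      induction k with
      | zero => simp [Matrix.one_fin_two]
      | succ k ih => rw [pow_succ, Matrix.SpecialLinearGroup.coe_mul, ih]; simp [L, Matrix.mul_fin_two, add_comm]
    ext i j
    rw [this p, ZMod.natCast_self]
    fin_cases i <;> fin_cases j <;> simp
  have hmem := (S : Subgroup (Matrix.ProjectiveSpecialLinearGroup (Fin 2) (ZMod p))).mul_mem (key U hU) (key L hL)
  obtain ⟨k, hk⟩ := S.2 ⟨_, hmem⟩
  have hc : (U * L) ^ p ^ k ∈ Subgroup.center (Matrix.SpecialLinearGroup (Fin 2) (ZMod p)) :=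
    (QuotientGroup.eq_one_iff _).1 ((QuotientGroup.mk_pow _ _ _).trans (congrArg Subtype.val hk))
  obtain ⟨r, hr, hrM⟩ := Matrix.SpecialLinearGroup.mem_center_iff.1 hc
  have hsq : ((U * L : Matrix.SpecialLinearGroup (Fin 2) (ZMod p)) ^ 2) ^ p ^ k = 1 := by
    rw [← pow_mul, mul_comm, pow_mul]
    ext i j
    rw [Matrix.SpecialLinearGroup.coe_pow, ← hrM]
    rw [← map_pow]
    rw [Fintype.card_fin] at hr
    rw [hr, map_one]
    rfl
  have hnil : IsNilpotent ((((U * L : Matrix.SpecialLinearGroup (Fin 2) (ZMod p)) ^ 2 :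
      Matrix.SpecialLinearGroup (Fin 2) (ZMod p)) : Matrix (Fin 2) (Fin 2) (ZMod p)) - 1) := by
    refine ⟨p ^ k, ?_⟩
    rw [sub_pow_char_pow_of_commute p k (Commute.one_right _), one_pow, ← Matrix.SpecialLinearGroup.coe_pow, hsq,
      Matrix.SpecialLinearGroup.coe_one, sub_self]
  have ht := (Matrix.isNilpotent_trace_of_isNilpotent hnil).eq_zero
  rw [Matrix.trace_fin_two] at ht
  have hUL : ((U * L : Matrix.SpecialLinearGroup (Fin 2) (ZMod p)) : Matrix (Fin 2) (Fin 2) (ZMod p)) = !![1 + 1, 1; 1, 1] := by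
    rw [Matrix.SpecialLinearGroup.coe_mul]
    show !![1, 1; 0, 1] * !![1, 0; 1, 1] = _
    simp [Matrix.mul_fin_two]
  rw [Matrix.SpecialLinearGroup.coe_pow, hUL, pow_two] at ht
  simp [Matrix.mul_apply, Fin.sum_univ_two] at ht
  have h5 : ((5 : ℕ) : ZMod p) = 0 := by push_cast; linear_combination ht
  exact hp5 ((Nat.prime_dvd_prime_iff_eq hpr (by norm_num)).1 ((ZMod.natCast_eq_zero_iff 5 p).1 h5))


/-- Let p be an odd prime and let m be the least prime power congruent to 1 modulo p. Then the least order of a finite group whose Sylow p-subgroups are not normal is the smaller of p · m and p(p² − 1)/2: every finite group whose Sylow p-subgroups are not normal has at least that order, and some group of exactly that order has non-normal Sylow p-subgroups. -/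
theorem result (p : ℕ) [Fact p.Prime] (hp : p ≠ 2) (m : ℕ) (hm : IsPrimePow m) (hm1 : m % p = 1)
    (hleast : ∀ k : ℕ, IsPrimePow k → k % p = 1 → m ≤ k) :
    (∀ (H : Type) [Group H] [Finite H], ¬ Cfsg.IsPClosed p H → min (p * m) (p * (p ^ 2 - 1) / 2) ≤ Nat.card H) ∧
      ∃ (H : Type) (_ : Group H) (_ : Finite H), Nat.card H = min (p * m) (p * (p ^ 2 - 1) / 2) ∧ ¬ Cfsg.IsPClosed p H := by
  refine ⟨fun H _ _ hcl => ?_, ?_⟩
  · rcases CfsgLib.Core.LeastNonClosed.bound hp hleast _ H rfl hcl with h | h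
    · exact (min_le_left _ _).trans h
    · exact (min_le_right _ _).trans (by omega)
  · rcases le_or_gt (p * m) (p * (p ^ 2 - 1) / 2) with h | h
    · rw [min_eq_left h]
      exact affine p m hm hm1
    · rw [min_eq_right h.le]
      refine psl p hp fun h5 => ?_
      subst h5
      have h11 : IsPrimePow 11 := (show Nat.Prime 11 by norm_num).isPrimePow
      have := hleast 11 h11 (by norm_num)
      norm_num at h
      omega

end Cfsg.Agent.S3875
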