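import Cfsg.Statements.S3889
import Cfsg.Agent.Lib.CoreBasic

set_option autoImplicit false
open Cfsg

namespace Cfsg.Agent.S3889

/-- A finite abelian group that is the union of a family of proper subgroups any two of which intersect trivially is elementary abelian: its exponent is a prime. -/
theorem result {G : Type*} [CommGroup G] [Finite G] (𝓑 : Set (Subgroup G)) (hprop : ∀ B ∈ 𝓑, B ≠ ⊤)
    (hcov : ∀ g : G, ∃ B ∈ 𝓑, g ∈ B) (hdisj : ∀ B ∈ 𝓑, ∀ C ∈ 𝓑, B ≠ C → B ⊓ C = ⊥) :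
    (Monoid.exponent G).Prime := by
  classical
  have hnt : ∃ g : G, g ≠ 1 := by
    by_contra h
    push Not at h
    obtain ⟨B, hB, -⟩ := hcov 1
    exact hprop B hB (Subgroup.eq_top_iff' B |>.2 fun g => (h g) ▸ B.one_mem)
  -- elements of different components have the same order
  have key : ∀ B ∈ 𝓑, ∀ x ∈ B, ∀ y : G, y ∉ B → x ≠ 1 → orderOf x = orderOf y := by
    intro B hB x hx y hy hx1
    obtain ⟨C, hC, hyC⟩ := hcov y
    have hCB : C ≠ B := fun e => hy (e ▸ hyC)
    have hy1 : y ≠ 1 := fun e => hy (e ▸ B.one_mem)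
    obtain ⟨D, hD, hxy⟩ := hcov (x * y)
    have hDB : D ≠ B := fun e => hy ((Subgroup.mul_mem_cancel_left B hx).1 (e ▸ hxy))
    have hDC : D ≠ C := fun e => hx1 (by
      have h1 : x ∈ B ⊓ C := ⟨hx, (Subgroup.mul_mem_cancel_right C hyC).1 (e ▸ hxy)⟩
      rwa [hdisj B hB C hC hCB.symm, Subgroup.mem_bot] at h1)
    refine Nat.dvd_antisymm ?_ ?_
    · refine orderOf_dvd_of_pow_eq_one ?_
      have h1 : x ^ orderOf y ∈ B ⊓ D := ⟨B.pow_mem hx _, by
        have := D.pow_mem hxy (orderOf y)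
        rwa [mul_pow, pow_orderOf_eq_one, mul_one] at this⟩
      rwa [hdisj B hB D hD hDB.symm, Subgroup.mem_bot] at h1
    · refine orderOf_dvd_of_pow_eq_one ?_
      have h1 : y ^ orderOf x ∈ C ⊓ D := ⟨C.pow_mem hyC _, by
        have := D.pow_mem hxy (orderOf x)
        rwa [mul_pow, pow_orderOf_eq_one, one_mul] at this⟩
      rwa [hdisj C hC D hD hDC.symm, Subgroup.mem_bot] at h1
  have hall : ∀ x y : G, x ≠ 1 → y ≠ 1 → orderOf x = orderOf y := by
    intro x y hx hy
    obtain ⟨B, hB, hxB⟩ := hcov x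
    by_cases hyB : y ∈ B
    · obtain ⟨z, -, hz⟩ := SetLike.exists_of_lt (lt_top_iff_ne_top.2 (hprop B hB))
      rw [key B hB x hxB z hz hx, key B hB y hyB z hz hy]
    · exact key B hB x hxB y hyB hx
  obtain ⟨g, hg⟩ := hnt
  obtain ⟨p, hp, hpd⟩ := Nat.exists_prime_and_dvd (show Nat.card G ≠ 1 from fun e => by
    haveI := (Nat.card_eq_one_iff_unique.1 e).1
    exact hg (Subsingleton.elim _ _))
  haveI := Fact.mk hp
  obtain ⟨w, hw⟩ := exists_prime_orderOf_dvd_card' (G := G) p hpd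
  have hw1 : w ≠ 1 := fun e => by rw [e, orderOf_one] at hw; exact hp.ne_one hw.symm
  have hexp : Monoid.exponent G = p := by
    refine Nat.dvd_antisymm (Monoid.exponent_dvd_of_forall_pow_eq_one fun x => ?_) (hw ▸ Monoid.order_dvd_exponent w)
    rcases eq_or_ne x 1 with rfl | hx
    · exact one_pow _
    · rw [← hw, ← hall x w hx hw1, pow_orderOf_eq_one]
  rw [hexp]
  exact hp

end Cfsg.Agent.S3889
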