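import Cfsg.Statements.S3893
import Cfsg.Agent.Lib.CoreNilCover
import Cfsg.Agent.Lib.LieSuzukiBridge
import Cfsg.Agent.Lib.LieSuzukiSylow

set_option autoImplicit false
open Cfsg

namespace Cfsg.Agent.S3893

/-- A cover of a group is a finite set of proper subgroups whose union is the whole group; it is minimal when no cover has fewer members, and nilpotent when all its members are nilpotent. The Suzuki groups Sz(q), q = 2^(2m+1) with m ≥ 1, have no nilpotent minimal cover. -/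
theorem result {F : Type*} [Field F] [Fintype F] (m : ℕ) (hm : 1 ≤ m) (hF : Fintype.card F = 2 ^ (2 * m + 1)) :
    ¬ ∃ 𝓐 : Finset (Subgroup ↥(Cfsg.Lie.Sz F (2 ^ (m + 1)))), ((∀ A ∈ 𝓐, A ≠ ⊤) ∧ (∀ g : ↥(Cfsg.Lie.Sz F (2 ^ (m + 1))), ∃ A ∈ 𝓐, g ∈ A)) ∧ (∀ 𝓑 : Finset (Subgroup ↥(Cfsg.Lie.Sz F (2 ^ (m + 1)))), (∀ A ∈ 𝓑, A ≠ ⊤) ∧ (∀ g : ↥(Cfsg.Lie.Sz F (2 ^ (m + 1))), ∃ A ∈ 𝓑, g ∈ A) → 𝓐.card ≤ 𝓑.card) ∧ (∀ A ∈ 𝓐, Group.IsNilpotent ↥A) := by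
  classical
  have hp := CfsgLib.Lie.SzOvoid.par_mk hm hF
  haveI : Fact (Nat.Prime 2) := ⟨Nat.prime_two⟩
  obtain ⟨φ, -⟩ := CfsgLib.Lie.SzOvoid.bridge hp
  haveI : Finite ↥(Cfsg.Lie.Sz F (2 ^ (m + 1))) := Finite.of_equiv _ φ.toEquiv
  letI : MulAction ↥(Cfsg.Lie.Sz F (2 ^ (m + 1))) ↥(Cfsg.suzukiOvoid F m) :=
    MulAction.compHom _ φ.symm.toMonoidHom
  have hsmul : ∀ (g : ↥(Cfsg.Lie.Sz F (2 ^ (m + 1)))) (x : ↥(Cfsg.suzukiOvoid F m)), g • x = φ.symm g • x :=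
    fun g x => rfl
  obtain ⟨-, htr, h3, ⟨g₀, hg₀, a₀, b₀, hab, ha₀, hb₀⟩, -⟩ := CfsgLib.Lie.SzOvoid.zassenhaus hp
  have htrans : ∀ a b : ↥(Cfsg.suzukiOvoid F m), ∃ g : ↥(Cfsg.Sz F m), g • a = b := fun a b => by
    haveI := htr
    haveI : MulAction.IsPretransitive ↥(Cfsg.Sz F m) ↥(Cfsg.suzukiOvoid F m) :=
      MulAction.isPretransitive_of_is_two_pretransitive
    exact MulAction.exists_smul_eq _ a b
  have hord : ∀ g : ↥(Cfsg.Lie.Sz F (2 ^ (m + 1))), orderOf (φ.symm g) = orderOf g := fun g => φ.symm.orderOf_eq g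
  have htwo : ∀ g : ↥(Cfsg.Sz F m), g ≠ 1 → (∃ k, orderOf g = 2 ^ k) →
      ∃ c : ↥(Cfsg.Sz F m), g • (c • CfsgLib.Lie.SzOvoid.oInf F m) = c • CfsgLib.Lie.SzOvoid.oInf F m ∧
        ∀ x, g • x = x → x = c • CfsgLib.Lie.SzOvoid.oInf F m := by
    rintro g hg ⟨k, hk⟩
    have hP : IsPGroup 2 ↥(Subgroup.zpowers g) := IsPGroup.of_card (n := k) (by rw [Nat.card_zpowers, hk])
    obtain ⟨S, hS⟩ := hP.exists_le_sylow
    obtain ⟨c, hc⟩ := CfsgLib.Lie.SzOvoid.sylow_conj hp S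
    obtain ⟨u, hu, hug⟩ := (hc ▸ hS (Subgroup.mem_zpowers g) : g ∈ (CfsgLib.Lie.SzOvoid.uSub hp).map (MulAut.conj c).toMonoidHom)
    simp only [MulEquiv.coe_toMonoidHom, MulAut.conj_apply] at hug
    have hu1 : u ≠ 1 := fun e => hg (by rw [← hug, e]; group)
    refine ⟨c, by rw [← hug, mul_smul, mul_smul, inv_smul_smul, CfsgLib.Lie.SzOvoid.uSub_fix hp hu], fun x hx => ?_⟩
    rw [← hug, mul_smul, mul_smul, ← eq_inv_smul_iff] at hx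
    rw [← CfsgLib.Lie.SzOvoid.uSub_only_fix hp hu hu1 hx, smul_inv_smul]
  refine CfsgLib.Core.NilCover.no_cover_of_twoPoint (Ω := ↥(Cfsg.suzukiOvoid F m)) (fun w hw => ?_)
    (fun g hg hk a b ha hb => ?_) (fun g hg hk => ?_) (fun a => ?_) (fun g a b c h1 h2 h3' e1 e2 e3 => ?_)
    ⟨φ g₀, fun e => hg₀ (φ.injective (e.trans φ.map_one.symm)), a₀, b₀, hab,
      by rw [hsmul, φ.symm_apply_apply]; exact ha₀, by rw [hsmul, φ.symm_apply_apply]; exact hb₀⟩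
  · obtain ⟨g₁, e₁⟩ := htrans w a₀
    obtain ⟨g₂, e₂⟩ := htrans w b₀
    have f₁ : φ g₁ • w = w := MulAction.mem_stabilizer_iff.1 (hw ▸ Subgroup.mem_top (φ g₁))
    have f₂ : φ g₂ • w = w := MulAction.mem_stabilizer_iff.1 (hw ▸ Subgroup.mem_top (φ g₂))
    rw [hsmul, φ.symm_apply_apply] at f₁ f₂
    exact hab (by rw [← e₁, ← e₂, f₁, f₂])
  · obtain ⟨c, -, hc⟩ := htwo (φ.symm g) (fun e => hg (φ.symm.injective (e.trans φ.symm.map_one.symm)))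
      (by rw [hord]; exact hk)
    exact (hc a ha).trans (hc b hb).symm
  · obtain ⟨c, hc, -⟩ := htwo (φ.symm g) (fun e => hg (φ.symm.injective (e.trans φ.symm.map_one.symm)))
      (by rw [hord]; exact hk)
    exact ⟨_, hc⟩
  · obtain ⟨c, hc⟩ := htrans (CfsgLib.Lie.SzOvoid.oInf F m) a
    set u := c * CfsgLib.Lie.SzOvoid.sU hp 1 0 * c⁻¹ with hu
    have hu0 : CfsgLib.Lie.SzOvoid.sU hp (1 : F) 0 ≠ 1 := fun h =>
      one_ne_zero (CfsgLib.Lie.SzOvoid.sU_inj hp (h.trans (CfsgLib.Lie.SzOvoid.sU_zero hp).symm)).1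
    refine ⟨φ u, fun e => hu0 ?_, ?_, ?_⟩
    · have : u = 1 := φ.injective (e.trans φ.map_one.symm)
      rw [hu] at this
      simpa [mul_inv_eq_one] using this
    · rw [φ.orderOf_eq, hu, ← MulAut.conj_apply, MulEquiv.orderOf_eq]
      obtain ⟨k, hk⟩ := (IsPGroup.iff_orderOf.1 (CfsgLib.Lie.SzOvoid.uSub_isPGroup hp)) ⟨_, ⟨1, 0, rfl⟩⟩
      exact ⟨k, (Subgroup.orderOf_coe _).trans hk⟩
    · rw [hsmul, φ.symm_apply_apply, hu, mul_smul, mul_smul, ← hc, inv_smul_smul,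
        CfsgLib.Lie.SzOvoid.uSub_fix hp ⟨1, 0, rfl⟩]
  · rw [hsmul] at e1 e2 e3
    exact φ.symm.injective ((h3 (φ.symm g) a b c h1 h2 h3' e1 e2 e3).trans φ.symm.map_one.symm)

end Cfsg.Agent.S3893
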