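import Cfsg.Statements.S4018
import Mathlib.GroupTheory.Transfer
import Mathlib.GroupTheory.Perm.Support
import Cfsg.Agent.Lib.CoreCharInvolutionArith
import Cfsg.Agent.Lib.CharBS2
import Cfsg.Agent.Lib.CharMult
import Cfsg.Agent.Lib.CharPerm
import Cfsg.Agent.Lib.CoreSZ

set_option autoImplicit false
set_option maxHeartbeats 1600000
open Cfsg

namespace Cfsg.Agent.S4018

open CfsgLib
open scoped ComplexConjugate

universe u

/-- Simple groups have no proper centraliser of everything. -/
theorem normalizer_ne_top {G : Type u} [Group G] [IsSimpleGroup G] {H : Subgroup G}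
    (h0 : H ≠ ⊥) (h1 : H ≠ ⊤) : Subgroup.normalizer (H : Set G) ≠ ⊤ := fun h => by
  haveI : H.Normal := Subgroup.normalizer_eq_top_iff.1 h
  rcases Subgroup.Normal.eq_bot_or_eq_top (H := H) inferInstance with e | e
  · exact h0 e
  · exact h1 e

/-- A simple group of order not a prime has trivial centre. -/
theorem center_eq_bot {G : Type u} [Group G] [IsSimpleGroup G] (h : ¬ IsMulCommutative G) :
    Subgroup.center G = ⊥ := by
  rcases Subgroup.Normal.eq_bot_or_eq_top (H := Subgroup.center G) inferInstance with e | e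
  · exact e
  · exact absurd ⟨⟨fun a b => (Subgroup.mem_center_iff.1 (e ▸ Subgroup.mem_top b) a)⟩⟩ h

/-- Let G be a finite group with an abelian Sylow 3-subgroup P such that the normalizer of P has order 4·#P, the centralizer C of P has order 2·#P, C meets each of its conjugates by elements outside its normalizer trivially, and every proper subgroup of G of even order has order dividing 4·#P. Then G is not simple. -/
theorem result {G : Type*} [Group G] [Finite G]
    (P : Sylow 3 G) (hab : IsMulCommutative P)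
    (hN : Nat.card (Subgroup.normalizer ((P : Subgroup G) : Set G)) = 4 * Nat.card P)
    (hC : Nat.card (Subgroup.centralizer (P : Set G)) = 2 * Nat.card P)
    (hTI : Cfsg.IsTISubset (Subgroup.centralizer (P : Set G) : Set G))
    (heven : ∀ H : Subgroup G, H ≠ ⊤ → 2 ∣ Nat.card H → Nat.card H ∣ 4 * Nat.card P) :
    ¬ IsSimpleGroup G := by
  classical
  intro hsimple
  haveI : Fintype G := Fintype.ofFinite G
  haveI : Fact (Nat.Prime 2) := ⟨Nat.prime_two⟩
  set C := Subgroup.centralizer (P : Set G) with hCdef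
  set N := Subgroup.normalizer ((P : Subgroup G) : Set G) with hNdef
  obtain ⟨a, ha⟩ := P.isPGroup'.exists_card_eq
  set q := Nat.card (P : Subgroup G) with hq
  change Nat.card C = 2 * q at hC
  change Nat.card N = 4 * q at hN
  have hq0 : 0 < q := Nat.card_pos
  have hq2 : ¬ 2 ∣ q := fun h => by
    rw [ha] at h
    have := (Nat.prime_dvd_prime_iff_eq Nat.prime_two Nat.prime_three).1 (Nat.prime_two.dvd_of_dvd_pow h)
    omega
  have hna : ¬ IsMulCommutative G := fun h => by
    have h1 : C = ⊤ := eq_top_iff.2 fun x _ => Subgroup.mem_centralizer_iff.2 fun y _ =>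
      h.is_comm.comm y x
    have h2 := Subgroup.card_le_of_le (le_top : N ≤ ⊤)
    rw [← h1, hC, hN] at h2
    omega
  have hcen := center_eq_bot hna
  have hCN : C ≤ N := Subgroup.centralizer_le_normalizer _
  have hPab : ∀ x ∈ (P : Subgroup G), ∀ y ∈ (P : Subgroup G), x * y = y * x := fun x hx y hy =>
    congrArg Subtype.val (hab.is_comm.comm (⟨x, hx⟩ : (P : Subgroup G)) ⟨y, hy⟩)
  have hPC : (P : Subgroup G) ≤ C := fun x hx => Subgroup.mem_centralizer_iff.2 fun y hy => hPab y hy x hx
  have ha1 : 1 ≤ a := by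
    by_contra h0
    have hPbot : (P : Subgroup G) = ⊥ := Subgroup.eq_bot_of_card_eq _ (by
      show q = 1
      rw [ha, show a = 0 by omega, pow_zero])
    have hNtop : N = ⊤ := by rw [hNdef, hPbot, Subgroup.normalizer_eq_top_iff]; infer_instance
    have hCtop : C = ⊤ := by
      refine eq_top_iff.2 fun x _ => Subgroup.mem_centralizer_iff.2 fun y hy => ?_
      have : y = 1 := Subgroup.mem_bot.1 (hPbot ▸ hy)
      subst this; simp
    rw [hNtop] at hN
    rw [hCtop] at hC
    omega
  have hq3 : 3 ≤ q := ha ▸ le_trans (by norm_num) (Nat.pow_le_pow_right (by norm_num : 0 < 3) ha1)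
  -- the involution of `C`
  obtain ⟨⟨t, htC⟩, hto⟩ := exists_prime_orderOf_dvd_card' (G := C) 2 (hC ▸ dvd_mul_right 2 q)
  replace hto : orderOf t = 2 := (Subgroup.orderOf_coe ⟨t, htC⟩).trans hto
  have ht2 : t * t = 1 := by rw [← pow_two, ← hto, pow_orderOf_eq_one]
  have ht1 : t ≠ 1 := fun h => by rw [h, orderOf_one] at hto; omega
  have htinv : t⁻¹ = t := inv_eq_of_mul_eq_one_right ht2
  have htP : t ∉ (P : Subgroup G) := fun h => hq2 (hto ▸ Subgroup.orderOf_dvd_natCard _ h)
  have htcP : ∀ y ∈ (P : Subgroup G), t * y = y * t := fun y hy =>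
    (Subgroup.mem_centralizer_iff.1 htC y hy).symm
  have hCdec : ∀ c ∈ C, c ∈ (P : Subgroup G) ∨ t * c ∈ (P : Subgroup G) := by
    intro c hc
    have hidx : ((P : Subgroup G).subgroupOf C).index = 2 := by
      have h1 := ((P : Subgroup G).subgroupOf C).index_mul_card
      rw [Nat.card_congr (Subgroup.subgroupOfEquivOfLe hPC).toEquiv, hC] at h1
      exact Nat.eq_of_mul_eq_mul_right hq0 h1
    have h2 := Subgroup.mul_mem_iff_of_index_two hidx (a := (⟨t, htC⟩ : C)) (b := ⟨c, hc⟩)
    simp only [Subgroup.mem_subgroupOf, Subgroup.coe_mul] at h2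
    by_cases h : c ∈ (P : Subgroup G)
    · exact Or.inl h
    · exact Or.inr (h2.2 ⟨fun e => absurd e htP, fun e => absurd e h⟩)
  have hCab : ∀ x ∈ C, ∀ y ∈ C, x * y = y * x := by
    intro x hx y hy
    have key : ∀ z ∈ C, ∀ w ∈ (P : Subgroup G), z * w = w * z := fun z hz w hw =>
      (Subgroup.mem_centralizer_iff.1 hz w hw).symm
    rcases hCdec y hy with h | h
    · exact key x hx y h
    · rcases hCdec x hx with h' | h'
      · exact (key y hy x h').symm
      · have e1 : x = t * (t * x) := by rw [← mul_assoc, ht2, one_mul]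
        have e2 : y = t * (t * y) := by rw [← mul_assoc, ht2, one_mul]
        have c1 : Commute t (t * x) := htcP _ h'
        have c2 : Commute t (t * y) := htcP _ h
        have c3 : Commute (t * x) (t * y) := hPab _ h' _ h
        rw [e1, e2]
        exact (((Commute.refl t).mul_right c2).mul_left (c1.symm.mul_right c3)).eq
  have hCinv : ∀ c ∈ C, c * c = 1 → c = 1 ∨ c = t := by
    intro c hc hc2
    have key : ∀ y ∈ (P : Subgroup G), y * y = 1 → y = 1 := fun y hy h => by
      refine orderOf_eq_one_iff.1 (Nat.eq_one_of_dvd_coprimes (Nat.prime_two.coprime_iff_not_dvd.2 hq2)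
        (orderOf_dvd_of_pow_eq_one (by rw [pow_two, h])) (Subgroup.orderOf_dvd_natCard _ hy))
    rcases hCdec c hc with h | h
    · exact Or.inl (key c h hc2)
    · refine Or.inr ?_
      have h3 := key _ h (by
        rw [show t * c * (t * c) = t * (c * t) * c by group, hCab c hc t htC,
          show t * (t * c) * c = (t * t) * (c * c) by group, ht2, hc2, one_mul])
      rw [← htinv]; exact eq_inv_of_mul_eq_one_right h3
  have hN_conj : ∀ x ∈ N, ∀ c ∈ C, x * c * x⁻¹ ∈ C := by
    intro x hx c hc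
    refine Subgroup.mem_centralizer_iff.2 fun y hy => ?_
    have hy' : x⁻¹ * y * x ∈ (P : Subgroup G) := (Subgroup.mem_normalizer_iff''.1 hx y).1 hy
    calc y * (x * c * x⁻¹) = x * ((x⁻¹ * y * x) * c) * x⁻¹ := by group
      _ = x * (c * (x⁻¹ * y * x)) * x⁻¹ := by rw [Subgroup.mem_centralizer_iff.1 hc _ hy']
      _ = x * c * x⁻¹ * y := by group
  have hNC : ∀ g, g ∈ Subgroup.normalizer (C : Set G) → g ∈ N := by
    intro g hg
    refine Subgroup.mem_normalizer_fintype fun y hy => ?_
    have h1 : g * y * g⁻¹ ∈ C := (Subgroup.mem_normalizer_iff.1 hg y).1 (hPC hy)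
    refine (hCdec _ h1).resolve_right fun h2 => ?_
    -- orders are odd
    have h3 : orderOf (g * y * g⁻¹) ∣ q := by
      rw [show g * y * g⁻¹ = MulAut.conj g y from rfl, MulEquiv.orderOf_eq]
      exact Subgroup.orderOf_dvd_natCard _ hy
    have h4 : (g * y * g⁻¹) ^ q = 1 := orderOf_dvd_iff_pow_eq_one.1 h3
    have h5 : (t * (g * y * g⁻¹)) ^ q = 1 :=
      orderOf_dvd_iff_pow_eq_one.1 (Subgroup.orderOf_dvd_natCard _ h2)
    rw [(show Commute t (g * y * g⁻¹) from hCab t htC _ h1).mul_pow, h4, mul_one] at h5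
    exact hq2 (hto ▸ orderOf_dvd_of_pow_eq_one h5)
  have hTI' : ∀ g x : G, x ∈ C → x ≠ 1 → g * x * g⁻¹ ∈ C → g ∈ N := fun g x hx hx1 hgx => by
    by_contra hg
    exact hx1 (hTI g (fun h => hg (hNC g h)) x hx hgx)
  have hNcent : ∀ x ∈ N, x * t = t * x := fun x hx => by
    rcases hCinv (x * t * x⁻¹) (hN_conj x hx t htC) (by
      rw [show x * t * x⁻¹ * (x * t * x⁻¹) = x * (t * t) * x⁻¹ by group, ht2, mul_one, mul_inv_cancel])
      with h | h
    · exact absurd (conj_eq_one_iff.1 h) ht1
    · calc x * t = x * t * x⁻¹ * x := by group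
        _ = t * x := by rw [h]
  have hbound : ∀ H : Subgroup G, H ≠ ⊤ → 2 ∣ Nat.card H → Nat.card H ∣ 4 * q := heven
  have hcent_ne : ∀ x : G, x ≠ 1 → Subgroup.centralizer ({x} : Set G) ≠ ⊤ := fun x hx h => by
    refine hx (Subgroup.mem_bot.1 (hcen ▸ Subgroup.mem_center_iff.2 fun y => ?_))
    exact Subgroup.mem_centralizer_singleton_iff.1 (h ▸ Subgroup.mem_top y)
  have hCt : Subgroup.centralizer ({t} : Set G) = N := by
    have hle : N ≤ Subgroup.centralizer ({t} : Set G) := fun x hx =>
      Subgroup.mem_centralizer_singleton_iff.2 (hNcent x hx)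
    refine (Subgroup.eq_of_le_of_card_ge hle ?_).symm
    rw [hN]
    refine Nat.le_of_dvd (by omega) (hbound _ (hcent_ne t ht1) ?_)
    exact ((hN ▸ dvd_mul_of_dvd_left (by norm_num) q : 2 ∣ Nat.card N)).trans (Subgroup.card_dvd_of_le hle)
  have hmemN : ∀ x, x ∈ N ↔ x * t = t * x := fun x => by
    rw [← hCt]; exact Subgroup.mem_centralizer_singleton_iff
  have hNne : N ≠ ⊤ := fun h => hcent_ne t ht1 (hCt.trans h)
  -- a Sylow two subgroup
  obtain ⟨S, hS⟩ := (IsPGroup.of_card (n := 1) (by rw [Nat.card_zpowers, hto, pow_one]) :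
    IsPGroup 2 (Subgroup.zpowers t)).exists_le_sylow
  have hSt : t ∈ (S : Subgroup G) := hS (Subgroup.mem_zpowers t)
  have hS4 : Nat.card (S : Subgroup G) = 4 := by
    obtain ⟨b, hb⟩ := S.isPGroup'.exists_card_eq
    have hb0 : 2 ∣ Nat.card (S : Subgroup G) := by
      have h0 := Subgroup.orderOf_dvd_natCard _ hSt
      rwa [hto] at h0
    have hne : (S : Subgroup G) ≠ ⊤ := by
      intro h
      have h3 : (3 : ℕ) ∣ Nat.card (S : Subgroup G) := by
        rw [h, Subgroup.card_top]
        exact (ha ▸ dvd_pow_self 3 (by omega) : (3 : ℕ) ∣ q).trans (Subgroup.card_subgroup_dvd_card _)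
      rw [hb] at h3
      have := (Nat.prime_dvd_prime_iff_eq Nat.prime_three Nat.prime_two).1 (Nat.prime_three.dvd_of_dvd_pow h3)
      omega
    have h1 := hbound _ hne hb0
    rw [hb] at h1 ⊢
    have h4 : 2 ^ 2 ∣ 2 ^ b := by
      have hNdvd : 2 ^ 2 ∣ Nat.card G :=
        (hN ▸ dvd_mul_of_dvd_left (by norm_num) q : 2 ^ 2 ∣ Nat.card N).trans (Subgroup.card_subgroup_dvd_card _)
      rw [← hb]
      exact S.pow_dvd_card_of_pow_dvd_card hNdvd
    have h5 : 2 ^ b ∣ 2 ^ 2 :=
      ((Nat.prime_two.coprime_iff_not_dvd.2 hq2).pow_left b).dvd_of_dvd_mul_right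
        (by rw [show (2 : ℕ) ^ 2 = 4 by norm_num]; exact h1)
    exact Nat.dvd_antisymm h5 h4
  have hSab : ∀ x ∈ (S : Subgroup G), ∀ y ∈ (S : Subgroup G), x * y = y * x := by
    haveI : IsMulCommutative (S : Subgroup G) :=
      IsPGroup.isMulCommutative_of_card_eq_prime_sq (p := 2) (by rw [hS4]; norm_num)
    exact fun x hx y hy => congrArg Subtype.val (mul_comm' (⟨x, hx⟩ : (S : Subgroup G)) ⟨y, hy⟩)
  have hSN : ∀ x ∈ (S : Subgroup G), x ∈ N := fun x hx => (hmemN x).2 (hSab x hx t hSt)
  -- some element of odd order of the normaliser moves `t`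
  obtain ⟨z, hzS, hzodd, hzt⟩ : ∃ z ∈ Subgroup.normalizer ((S : Subgroup G) : Set G),
      ¬ 2 ∣ orderOf z ∧ z * t ≠ t * z := by
    by_contra hno
    push Not at hno
    have hle : Subgroup.normalizer ((S : Subgroup G) : Set G) ≤
        Subgroup.centralizer ((S : Subgroup G) : Set G) := by
      intro x hx
      obtain ⟨i, j, hi, hxij⟩ : ∃ i j : ℕ, ¬ 2 ∣ j ∧ orderOf x = 2 ^ i * j := by
        obtain ⟨i, j, hj, he⟩ := Nat.exists_eq_two_pow_mul_odd (orderOf_pos x).ne'
        exact ⟨i, j, hj.not_two_dvd_nat, he⟩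
      have hj0 : j ≠ 0 := fun h => hi (h ▸ dvd_zero 2)
      have hxj : x ^ j ∈ (S : Subgroup G) := by
        have hp : IsPGroup 2 (Subgroup.zpowers (x ^ j)) := IsPGroup.of_card (n := i) (by
          rw [Nat.card_zpowers, orderOf_pow_of_dvd hj0 (hxij ▸ dvd_mul_left j _),
            hxij, Nat.mul_div_cancel _ (Nat.pos_of_ne_zero hj0)])
        have hle' : Subgroup.zpowers (x ^ j) ≤ Subgroup.normalizer ((S : Subgroup G) : Set G) :=
          Subgroup.zpowers_le.2 (pow_mem hx j)
        rw [← S.is_maximal' (IsPGroup.to_sup_of_normal_right' hp S.isPGroup' hle') le_sup_right]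
        exact Subgroup.mem_sup_left (Subgroup.mem_zpowers _)
      set u := x ^ (2 ^ i) with hu
      have huj : u ^ j = 1 := by rw [hu, ← pow_mul, ← hxij, pow_orderOf_eq_one]
      have huo : ¬ 2 ∣ orderOf u := fun h => hi (h.trans (orderOf_dvd_of_pow_eq_one huj))
      have hut : u * t = t * u := hno u (pow_mem hx _) huo
      have huS : ∀ w ∈ (S : Subgroup G), u * w * u⁻¹ ∈ (S : Subgroup G) :=
        fun w hw => (Subgroup.mem_normalizer_iff.1 (pow_mem hx _) w).1 hw
      let φ : Equiv.Perm (S : Subgroup G) :=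
        { toFun := fun w => ⟨u * w * u⁻¹, huS w w.2⟩
          invFun := fun w => ⟨u⁻¹ * w * u, (Subgroup.mem_normalizer_iff''.1 (pow_mem hx _) w).1 w.2⟩
          left_inv := fun w => Subtype.ext (by show u⁻¹ * (u * (w : G) * u⁻¹) * u = w; group)
          right_inv := fun w => Subtype.ext (by show u * (u⁻¹ * (w : G) * u) * u⁻¹ = w; group) }
      have hφpow : ∀ k (w : (S : Subgroup G)), (((φ ^ k) w : (S : Subgroup G)) : G) = u ^ k * w * (u ^ k)⁻¹ := by
        intro k
        induction k with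
        | zero => intro w; simp
        | succ k ih =>
          intro w
          rw [pow_succ', Equiv.Perm.mul_apply]
          show u * ((φ ^ k) w : G) * u⁻¹ = _
          rw [ih, pow_succ']; group
      have h1 : orderOf φ ∣ j := orderOf_dvd_of_pow_eq_one (Equiv.ext fun w => Subtype.ext (by
        rw [hφpow, huj]; simp))
      have hfix1 : φ 1 = 1 := Subtype.ext (by show u * 1 * u⁻¹ = 1; group)
      have hfix2 : φ ⟨t, hSt⟩ = ⟨t, hSt⟩ := Subtype.ext (by
        show u * t * u⁻¹ = t
        rw [hut]; group)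
      have hφ1 : φ = 1 := by
        by_contra hne'
        have hsub : Equiv.Perm.support φ ⊆ (Finset.univ.erase 1).erase ⟨t, hSt⟩ := fun w hw => by
          rw [Equiv.Perm.mem_support] at hw
          simp only [Finset.mem_erase, Finset.mem_univ, and_true]
          exact ⟨fun e => hw (e ▸ hfix2), fun e => hw (e ▸ hfix1)⟩
        have hcard : (Equiv.Perm.support φ).card ≤ 2 := by
          refine (Finset.card_le_card hsub).trans ?_
          rw [Finset.card_erase_of_mem (by simp [Subtype.ext_iff, ht1]),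
            Finset.card_erase_of_mem (Finset.mem_univ _), Finset.card_univ, ← Nat.card_eq_fintype_card, hS4]
        exact hi ((Equiv.Perm.IsSwap.orderOf (Equiv.Perm.card_support_eq_two.1
          (le_antisymm hcard (Equiv.Perm.two_le_card_support_of_ne_one hne')))) ▸ h1)
      have huA : u ∈ Subgroup.centralizer ((S : Subgroup G) : Set G) :=
        Subgroup.mem_centralizer_iff.2 fun w hw => by
          have h3 : u * w * u⁻¹ = w := congrArg Subtype.val (Equiv.congr_fun hφ1 ⟨w, hw⟩)
          calc w * u = u * w * u⁻¹ * u := by rw [h3]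
            _ = u * w := by group
      have hjA : x ^ j ∈ Subgroup.centralizer ((S : Subgroup G) : Set G) :=
        Subgroup.mem_centralizer_iff.2 fun w hw => hSab w hw _ hxj
      have hgcd := Nat.gcd_eq_gcd_ab (2 ^ i) j
      rw [((Nat.prime_two.coprime_iff_not_dvd.2 hi).pow_left i).gcd_eq_one] at hgcd
      rw [← zpow_one x, show (1 : ℤ) = _ from hgcd, zpow_add, zpow_mul, zpow_mul, zpow_natCast, zpow_natCast]
      exact mul_mem (zpow_mem huA _) (zpow_mem hjA _)
    have hker := MonoidHom.ker_transferSylow_isComplement' S hle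
    rcases Subgroup.Normal.eq_bot_or_eq_top (H := (MonoidHom.transferSylow S hle).ker) inferInstance with e | e
    · rw [e, Subgroup.isComplement'_bot_left] at hker
      have h1 := Subgroup.card_le_of_le (le_top : N ≤ ⊤)
      rw [← hker, hN, hS4] at h1
      omega
    · rw [e, Subgroup.isComplement'_top_left] at hker
      rw [hker, Subgroup.card_bot] at hS4
      omega
  -- all involutions are conjugate to `t`
  set s := z * t * z⁻¹ with hs
  have hsS : s ∈ (S : Subgroup G) := (Subgroup.mem_normalizer_iff.1 hzS t).1 hSt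
  have hst : s ≠ t := fun h => hzt (by calc z * t = s * z := by rw [hs]; group
                                      _ = t * z := by rw [h])
  have hsC : s ∉ C := fun h => by
    rcases hCinv s h (by rw [hs, show z * t * z⁻¹ * (z * t * z⁻¹) = z * (t * t) * z⁻¹ by group, ht2,
      mul_one, mul_inv_cancel]) with e | e
    · exact ht1 (conj_eq_one_iff.1 e)
    · exact hst e
  have hs2 : s * s = 1 := by
    rw [hs, show z * t * z⁻¹ * (z * t * z⁻¹) = z * (t * t) * z⁻¹ by group, ht2, mul_one, mul_inv_cancel]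
  have hsinv' : s⁻¹ = s := inv_eq_of_mul_eq_one_right hs2
  have hsN : s ∈ N := hSN s hsS
  -- `s` inverts `P` and so `C`
  have hfpf : ∀ y ∈ (P : Subgroup G), s * y = y * s → y = 1 := by
    intro y hy hsy
    by_contra hy1
    have h1 : (z⁻¹ * y * z) * t = t * (z⁻¹ * y * z) := by
      calc (z⁻¹ * y * z) * t = z⁻¹ * (y * s) * z := by rw [hs]; group
        _ = z⁻¹ * (s * y) * z := by rw [hsy]
        _ = t * (z⁻¹ * y * z) := by rw [hs]; group
    have h2 : z⁻¹ * y * z ∈ N := (hmemN _).2 h1
    have h3 : z⁻¹ * y * z ∈ (P : Subgroup G) := by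
      haveI : Fact (Nat.Prime 3) := ⟨Nat.prime_three⟩
      have hp : IsPGroup 3 (Subgroup.zpowers (z⁻¹ * y * z)) := by
        obtain ⟨k, hk⟩ := IsPGroup.iff_orderOf.1 P.isPGroup' ⟨y, hy⟩
        refine IsPGroup.of_card (n := k) ?_
        rw [Nat.card_zpowers, show z⁻¹ * y * z = MulAut.conj z⁻¹ y by simp, MulEquiv.orderOf_eq, ← hk,
          Subgroup.orderOf_mk]
      have hp2 := IsPGroup.to_sup_of_normal_right' hp P.isPGroup' (Subgroup.zpowers_le.2 h2)
      exact P.is_maximal' hp2 le_sup_right ▸ Subgroup.mem_sup_left (Subgroup.mem_zpowers _)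
    have h4 : z⁻¹ ∈ N := hTI' z⁻¹ y (hPC hy) hy1 (by rw [inv_inv]; exact hPC h3)
    exact hzt ((hmemN z).1 (inv_mem_iff.1 h4))
  have hinvP : ∀ y ∈ (P : Subgroup G), s * y * s⁻¹ = y⁻¹ := by
    intro y hy
    have hy' : s * y * s⁻¹ ∈ (P : Subgroup G) := (Subgroup.mem_normalizer_iff.1 hsN y).1 hy
    refine eq_inv_of_mul_eq_one_left (hfpf _ (mul_mem hy' hy) ?_)
    calc s * (s * y * s⁻¹ * y) = (s * s) * y * (s⁻¹ * y) := by group
      _ = y * (s⁻¹ * y) := by rw [hs2, one_mul]
      _ = y * (s * y * s⁻¹) * s := by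
        rw [hsinv', mul_assoc y (s * y * s) s, mul_assoc (s * y) s s, hs2, mul_one]
      _ = s * y * s⁻¹ * y * s := by rw [hPab y hy _ hy']
  have hinvC : ∀ c ∈ C, s * c * s⁻¹ = c⁻¹ := by
    intro c hc
    rcases hCdec c hc with h | h
    · exact hinvP c h
    · have h1 := hinvP _ h
      have hst' : s * t = t * s := hNcent s hsN
      have e1 : t * c⁻¹ = (t * c)⁻¹ := by rw [mul_inv_rev, htinv, hCab t htC c⁻¹ (inv_mem hc)]
      rw [← e1, show s * (t * c) * s⁻¹ = (s * t) * c * s⁻¹ by group, hst'] at h1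
      exact mul_left_cancel (a := t) (by rw [← h1]; group)
  have hNcoset : ∀ x ∈ N, x ∈ C ∨ s * x ∈ C := by
    intro x hx
    have hidx : (C.subgroupOf N).index = 2 := by
      have h1 := (C.subgroupOf N).index_mul_card
      rw [Nat.card_congr (Subgroup.subgroupOfEquivOfLe hCN).toEquiv, hC, hN,
        show 4 * q = 2 * (2 * q) by ring] at h1
      exact Nat.eq_of_mul_eq_mul_right (by omega) h1
    have h2 := Subgroup.mul_mem_iff_of_index_two hidx (a := (⟨s, hsN⟩ : N)) (b := ⟨x, hx⟩)
    simp only [Subgroup.mem_subgroupOf, Subgroup.coe_mul] at h2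
    by_cases h : x ∈ C
    · exact Or.inl h
    · exact Or.inr (h2.2 ⟨fun e => absurd e hsC, fun e => absurd e h⟩)
  have hNinv : ∀ u ∈ N, u * u = 1 → u ≠ 1 → ∃ n, n * t * n⁻¹ = u := by
    intro u hu hu2 hu1
    rcases hNcoset u hu with h | h
    · rcases hCinv u h hu2 with e | e
      · exact absurd e hu1
      · exact ⟨1, by rw [e]; group⟩
    · rcases hCdec _ h with h' | h'
      · -- `u = s * y`
        set y := s * u with hy
        have hroot : ∃ w ∈ (P : Subgroup G), w * w = y := ⟨y ^ ((q + 1) / 2), pow_mem h' _, by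
          rw [← pow_add, show (q + 1) / 2 + (q + 1) / 2 = q + 1 by omega, pow_succ,
            orderOf_dvd_iff_pow_eq_one.1 (Subgroup.orderOf_dvd_natCard _ h'), one_mul]⟩
        obtain ⟨w, hw, hwy⟩ := hroot
        refine ⟨w⁻¹ * z, ?_⟩
        have e1 : s * w = w⁻¹ * s := by rw [← hinvP w hw]; group
        calc w⁻¹ * z * t * (w⁻¹ * z)⁻¹ = w⁻¹ * s * w := by rw [hs]; group
          _ = s * w * w := by rw [e1]
          _ = s * y := by rw [mul_assoc, hwy]
          _ = u := by rw [hy, ← mul_assoc, hs2, one_mul]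
      · -- `u = t * s * y`
        set y := t * (s * u) with hy
        obtain ⟨x, hx⟩ : ∃ x, x * t * x⁻¹ = s * t := by
          have hz' : z * t * z⁻¹ = s := rfl
          have h2 : z * s * z⁻¹ ∈ (S : Subgroup G) := (Subgroup.mem_normalizer_iff.1 hzS s).1 hsS
          have hel : ∀ v ∈ (S : Subgroup G), v = 1 ∨ v = t ∨ v = s ∨ v = s * t := by
            intro v hv
            by_contra hcon
            push Not at hcon
            have hsub : ({⟨v, hv⟩, 1, ⟨t, hSt⟩, ⟨s, hsS⟩, ⟨s * t, mul_mem hsS hSt⟩} : Finset (S : Subgroup G)).card = 5 := by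
              have e1 : s ≠ 1 := fun e => hsC (e ▸ one_mem C)
              have e2 : s * t ≠ 1 := fun e => hst (by rw [← htinv]; exact eq_inv_of_mul_eq_one_left e)
              have e3 : s * t ≠ t := fun e => e1 (mul_eq_right.1 e)
              have e4 : s * t ≠ s := fun e => ht1 (mul_eq_left.1 e)
              rw [Finset.card_insert_of_notMem, Finset.card_insert_of_notMem, Finset.card_insert_of_notMem,
                Finset.card_insert_of_notMem, Finset.card_singleton]
              · simp [Subtype.ext_iff, e4.symm]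
              · simp [Subtype.ext_iff, e3.symm, hst.symm]
              · simp [Subtype.ext_iff, ht1.symm, e1.symm, e2.symm]
              · simp [Subtype.ext_iff, hcon.1, hcon.2.1, hcon.2.2.1, hcon.2.2.2]
            have h5 := Finset.card_le_univ ({⟨v, hv⟩, 1, ⟨t, hSt⟩, ⟨s, hsS⟩, ⟨s * t, mul_mem hsS hSt⟩} : Finset (S : Subgroup G))
            rw [hsub, ← Nat.card_eq_fintype_card, hS4] at h5
            omega
          rcases hel _ h2 with e | e | e | e
          · exact absurd (conj_eq_one_iff.1 e) (fun e => hsC (e ▸ one_mem C))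
          · -- `z` of odd order cannot swap `t` and `s`
            exfalso
            have hk : ∀ k : ℕ, z ^ (2 * k) * t * (z ^ (2 * k))⁻¹ = t := by
              intro k
              induction k with
              | zero => simp
              | succ k ih =>
                calc z ^ (2 * (k + 1)) * t * (z ^ (2 * (k + 1)))⁻¹
                    = z * (z * (z ^ (2 * k) * t * (z ^ (2 * k))⁻¹) * z⁻¹) * z⁻¹ := by
                      rw [show 2 * (k + 1) = (1 + 1) + 2 * k by ring, pow_add, pow_add, pow_one]; group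
                  _ = t := by rw [ih, hz', e]
            obtain ⟨k, hk'⟩ : ∃ k, orderOf z = 2 * k + 1 := ⟨orderOf z / 2, by omega⟩
            have h7 : z ^ (2 * k + 1) * t * (z ^ (2 * k + 1))⁻¹ = t := by
              rw [← hk', pow_orderOf_eq_one]; group
            refine hst ?_
            calc s = z * (z ^ (2 * k) * t * (z ^ (2 * k))⁻¹) * z⁻¹ := by rw [hk, hz']
              _ = z ^ (2 * k + 1) * t * (z ^ (2 * k + 1))⁻¹ := by rw [pow_succ']; group
              _ = t := h7
          · exact absurd ((MulAut.conj z).injective (e.trans hz'.symm : MulAut.conj z s = MulAut.conj z t)) hst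
          · exact ⟨z * z, by rw [show z * z * t * (z * z)⁻¹ = z * (z * t * z⁻¹) * z⁻¹ by group, hz', e]⟩
        obtain ⟨w, hw, hwy⟩ : ∃ w ∈ (P : Subgroup G), w * w = y := ⟨y ^ ((q + 1) / 2), pow_mem h' _, by
          rw [← pow_add, show (q + 1) / 2 + (q + 1) / 2 = q + 1 by omega, pow_succ,
            orderOf_dvd_iff_pow_eq_one.1 (Subgroup.orderOf_dvd_natCard _ h'), one_mul]⟩
        refine ⟨w⁻¹ * x, ?_⟩
        have e1 : s * w = w⁻¹ * s := by rw [← hinvP w hw]; group
        calc w⁻¹ * x * t * (w⁻¹ * x)⁻¹ = w⁻¹ * (x * t * x⁻¹) * w := by group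
          _ = w⁻¹ * s * (t * w) := by rw [hx]; group
          _ = w⁻¹ * s * (w * t) := by rw [htcP w hw]
          _ = s * w * w * t := by rw [e1]; group
          _ = s * y * t := by rw [mul_assoc s, hwy]
          _ = s * (t * (s * u)) * t := by rw [hy]
          _ = (s * t) * s * (u * t) := by group
          _ = t * (s * s) * (t * u) := by rw [hNcent s hsN, (hmemN u).1 hu]; group
          _ = u := by rw [hs2, mul_one, ← mul_assoc, ht2, one_mul]
  -- every involution is conjugate to `t`
  have hinvol : ∀ u : G, u * u = 1 → u ≠ 1 → ∃ n, n * t * n⁻¹ = u := by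
    intro u hu hu1
    have hp : IsPGroup 2 (Subgroup.zpowers u) := IsPGroup.of_card (n := 1) (by
      rw [Nat.card_zpowers, pow_one]
      exact orderOf_eq_prime (by rw [pow_two, hu]) hu1)
    obtain ⟨S', hS'⟩ := hp.exists_le_sylow
    obtain ⟨g, hg⟩ := MulAction.exists_smul_eq G S' S
    have h1 : g * u * g⁻¹ ∈ (S : Subgroup G) := by
      rw [← hg]
      exact Subgroup.mem_map.2 ⟨u, hS' (Subgroup.mem_zpowers u), rfl⟩
    obtain ⟨n, hn⟩ := hNinv _ (hSN _ h1)
      (by rw [show g * u * g⁻¹ * (g * u * g⁻¹) = g * (u * u) * g⁻¹ by group, hu, mul_one, mul_inv_cancel])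
      (fun e => hu1 (conj_eq_one_iff.1 e))
    exact ⟨g⁻¹ * n, by rw [show g⁻¹ * n * t * (g⁻¹ * n)⁻¹ = g⁻¹ * (n * t * n⁻¹) * g by group, hn]; group⟩
  -- the coset outside `C`
  have hsC_mem : ∀ u, s * u ∈ C → u ∈ N ∧ u * u = 1 ∧ u ≠ 1 ∧
      ∀ c ∈ C, u⁻¹ * c * u = c⁻¹ := by
    intro u hu
    have hu' : u = s * (s * u) := by rw [← mul_assoc, hs2, one_mul]
    refine ⟨hu' ▸ mul_mem hsN (hCN hu), ?_, fun e => hsC (by rw [e, mul_one] at hu; exact hu),
      fun c hc => ?_⟩
    · calc u * u = s * (s * u) * s⁻¹ * (s * u) := by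
            rw [hsinv', show s * (s * u) * s * (s * u) = (s * s) * u * (s * s) * u by group, hs2]
            group
        _ = 1 := by rw [hinvC _ hu, inv_mul_cancel]
    · calc u⁻¹ * c * u = (s * u)⁻¹ * (s * c * s⁻¹) * (s * u) := by group
        _ = c⁻¹ := by rw [hinvC c hc, mul_assoc, hCab _ (inv_mem hc) _ hu, inv_mul_cancel_left]
  have htoC : ∀ g ∈ N, g ≠ 1 → ∃ x, x⁻¹ * g * x ∈ C := by
    intro g hg hg1
    rcases hNcoset g hg with h | h
    · exact ⟨1, by simpa using h⟩
    · obtain ⟨-, h2, -, -⟩ := hsC_mem g h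
      obtain ⟨n, hn⟩ := hinvol g h2 hg1
      exact ⟨n, by rw [← hn, show n⁻¹ * (n * t * n⁻¹) * n = t by group]; exact htC⟩
  have hcoset : ∀ x₀ : G, (Finset.univ.filter fun x : G => x₀⁻¹ * x ∈ N).card = 4 * q := by
    intro x₀
    rw [← hN, ← Fintype.card_subtype, ← Nat.card_eq_fintype_card]
    exact Nat.card_congr ((Equiv.mulLeft x₀⁻¹).subtypeEquiv fun x => Iff.rfl)
  have hfib : ∀ u : G, (∃ n, n * t * n⁻¹ = u) →
      (Finset.univ.filter fun x : G => x * t * x⁻¹ = u).card = 4 * q := by
    rintro u ⟨n, rfl⟩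
    rw [← hcoset n]
    congr 1
    refine Finset.filter_congr fun x _ => ?_
    rw [hmemN]
    constructor
    · intro h
      calc n⁻¹ * x * t = n⁻¹ * (x * t * x⁻¹) * x := by group
        _ = t * (n⁻¹ * x) := by rw [h]; group
    · intro h
      calc x * t * x⁻¹ = n * (n⁻¹ * x * t) * x⁻¹ := by group
        _ = n * t * n⁻¹ := by rw [h]; group
  have hcardC : ∀ a₀ : G, (Finset.univ.filter fun x : G => a₀ * x ∈ C).card = 2 * q := by
    intro a₀
    rw [← hC, ← Fintype.card_subtype, ← Nat.card_eq_fintype_card]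
    exact Nat.card_congr ((Equiv.mulLeft a₀).subtypeEquiv fun x => Iff.rfl)
  -- products of two conjugates of `t`
  set K : G → ℕ := fun g => Nat.card {p : G × G // p.1 * t * p.1⁻¹ * (p.2 * t * p.2⁻¹) = g} with hKdef
  set M : G → ℕ := fun g => (Finset.univ.filter fun x : G => x⁻¹ * g * x ∈ C ∧ x⁻¹ * g * x ≠ 1).card
    with hMdef
  have hKfin : ∀ g, K g = ∑ x : G, (Finset.univ.filter fun w : G => x * t * x⁻¹ * (w * t * w⁻¹) = g).card := by
    intro g
    simp only [hKdef]
    rw [Nat.card_eq_fintype_card, Fintype.card_subtype, Finset.card_filter, Fintype.sum_prod_type]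
    exact Finset.sum_congr rfl fun x _ => (Finset.card_filter _ _).symm
  have hconj2 : ∀ y : G, y * t * y⁻¹ * (y * t * y⁻¹) = 1 := fun y => by
    rw [show y * t * y⁻¹ * (y * t * y⁻¹) = y * (t * t) * y⁻¹ by group, ht2, mul_one, mul_inv_cancel]
  have hK : ∀ g, K g = (if g = 1 then Nat.card G * (4 * q) else 0) + 8 * q ^ 2 * M g := by
    intro g
    by_cases hg : g = 1
    · subst hg
      have hM0 : M 1 = 0 := by simp [hMdef]
      rw [if_pos rfl, hM0, mul_zero, add_zero, hKfin,
        Finset.sum_congr rfl (g := fun _ => 4 * q) fun x _ => ?_, Finset.sum_const, Finset.card_univ,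
        smul_eq_mul, Nat.card_eq_fintype_card]
      rw [← hfib (x * t * x⁻¹) ⟨x, rfl⟩]
      congr 1
      refine Finset.filter_congr fun w _ => ?_
      constructor
      · intro h
        rw [eq_inv_of_mul_eq_one_right h, inv_eq_of_mul_eq_one_right (hconj2 x)]
      · intro h; rw [h, hconj2]
    rw [if_neg hg, zero_add]
    by_cases hT : ∃ x, x⁻¹ * g * x ∈ C
    · obtain ⟨x₀, hx₀⟩ := hT
      set c := x₀⁻¹ * g * x₀ with hc
      have hgc : g = x₀ * c * x₀⁻¹ := by rw [hc]; group
      have hc1 : c ≠ 1 := fun e => hg (by rw [hgc, e]; group)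
      have hM : M g = 4 * q := by
        rw [hMdef, ← hcoset x₀]
        show (Finset.univ.filter _).card = _
        congr 1
        refine Finset.filter_congr fun x _ => ?_
        have he : x⁻¹ * g * x = (x₀⁻¹ * x)⁻¹ * c * (x₀⁻¹ * x) := by rw [hgc]; group
        rw [he]
        constructor
        · rintro ⟨h, -⟩
          exact inv_mem_iff.1 (hTI' _ c hx₀ hc1 (by rw [inv_inv]; exact h))
        · intro h
          refine ⟨?_, fun e => hc1 ?_⟩
          · simpa using hN_conj _ (inv_mem h) c hx₀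
          · exact conj_eq_one_iff.1
              (show (x₀⁻¹ * x)⁻¹ * c * ((x₀⁻¹ * x)⁻¹)⁻¹ = 1 by rw [inv_inv]; exact e)
      have hKc : K g = K c := Nat.card_congr
        (((Equiv.mulLeft x₀⁻¹).prodCongr (Equiv.mulLeft x₀⁻¹)).subtypeEquiv fun p => by
          simp only [Equiv.prodCongr_apply, Prod.map, Equiv.coe_mulLeft, hc]
          constructor
          · intro h; rw [← h]; group
          · intro h
            calc p.1 * t * p.1⁻¹ * (p.2 * t * p.2⁻¹)
                = x₀ * (x₀⁻¹ * p.1 * t * (x₀⁻¹ * p.1)⁻¹ * (x₀⁻¹ * p.2 * t * (x₀⁻¹ * p.2)⁻¹)) * x₀⁻¹ := by group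
              _ = g := by rw [h]; group)
      rw [hM, hKc, hKfin, Finset.sum_congr rfl
        (g := fun x => if s * (x * t * x⁻¹) ∈ C then 4 * q else 0) fun x _ => ?_]
      · rw [← Finset.sum_filter, Finset.sum_const, smul_eq_mul]
        have hU : (Finset.univ.filter fun x : G => s * (x * t * x⁻¹) ∈ C).card = 2 * q * (4 * q) := by
          rw [Finset.card_eq_sum_card_fiberwise (f := fun x : G => x * t * x⁻¹)
            (t := Finset.univ.filter fun u : G => s * u ∈ C) (fun x hx => by simpa using hx),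
            Finset.sum_congr rfl (g := fun _ => 4 * q) fun u hu => ?_, Finset.sum_const, hcardC, smul_eq_mul]
          have hu' : s * u ∈ C := by simpa using hu
          obtain ⟨-, h2, h1, -⟩ := hsC_mem u hu'
          rw [← hfib u (hinvol u h2 h1), Finset.filter_filter]
          congr 1
          exact Finset.filter_congr fun x _ => ⟨fun h => h.2, fun h => ⟨by rw [h]; exact hu', h⟩⟩
        rw [hU]; ring
      · set u := x * t * x⁻¹ with hu
        have hu2 : u * u = 1 := hconj2 x
        have hui : u⁻¹ = u := inv_eq_of_mul_eq_one_right hu2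
        have hiff : ∀ w, u * (w * t * w⁻¹) = c ↔ w * t * w⁻¹ = u * c := fun w =>
          ⟨fun h => by rw [← h, ← mul_assoc, hu2, one_mul], fun h => by rw [h, ← mul_assoc, hu2, one_mul]⟩
        simp only [hiff]
        by_cases h : s * u ∈ C
        · rw [if_pos h]
          refine hfib _ ?_
          have h' : s * (u * c) ∈ C := by rw [← mul_assoc]; exact mul_mem h hx₀
          obtain ⟨-, h2, h1, -⟩ := hsC_mem _ h'
          exact hinvol _ h2 h1
        · rw [if_neg h, Finset.card_eq_zero, Finset.filter_eq_empty_iff]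
          intro w _ hw
          have h1 : u * c * u⁻¹ = c⁻¹ := by
            have h2 : u * c * (u * c) = 1 := by rw [← hw]; exact hconj2 w
            rw [hui]
            exact eq_inv_of_mul_eq_one_left (by rw [← h2]; group)
          have huN : u ∈ N := hTI' u c hx₀ hc1 (by rw [h1]; exact inv_mem hx₀)
          rcases hNcoset u huN with h3 | h3
          · have hu1 : u ≠ 1 := fun e => ht1 (conj_eq_one_iff.1 e)
            have hut : u = t := (hCinv u h3 hu2).resolve_left hu1
            rw [hui, hCab u h3 c hx₀, mul_assoc, hu2, mul_one] at h1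
            rcases hCinv c hx₀ (by nth_rewrite 1 [h1]; exact inv_mul_cancel c) with e | e
            · exact hc1 e
            · refine ht1 (conj_eq_one_iff.1 (show w * t * w⁻¹ = 1 from ?_))
              rw [hw, hut, e, ht2]
          · exact h h3
    · push Not at hT
      have hM : M g = 0 := Finset.card_eq_zero.2 (Finset.filter_eq_empty_iff.2 fun x _ h => hT x h.1)
      rw [hM, mul_zero, hKfin]
      refine Finset.sum_eq_zero fun x _ => Finset.card_eq_zero.2 (Finset.filter_eq_empty_iff.2 ?_)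
      intro w _ hw
      set u := x * t * x⁻¹ with hu
      have hu2 : u * u = 1 := hconj2 x
      have hu1 : u ≠ 1 := fun e => ht1 (conj_eq_one_iff.1 e)
      have hui : u⁻¹ = u := inv_eq_of_mul_eq_one_right hu2
      have hinv : u * g * u⁻¹ = g⁻¹ := by
        have h2 : u * g * (u * g) = 1 := by
          rw [← hw, ← mul_assoc u u, hu2, one_mul]; exact hconj2 w
        rw [hui]
        exact eq_inv_of_mul_eq_one_left (by rw [← h2]; group)
      by_cases hev : 2 ∣ orderOf g
      · obtain ⟨k, hk⟩ := hev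
        have hk0 : k ≠ 0 := fun e => (orderOf_pos g).ne' (by omega)
        have hj2 : g ^ k * g ^ k = 1 := by rw [← pow_add, show k + k = orderOf g by omega, pow_orderOf_eq_one]
        have hj1 : g ^ k ≠ 1 := fun e => by
          have := Nat.le_of_dvd (Nat.pos_of_ne_zero hk0) (orderOf_dvd_of_pow_eq_one e)
          omega
        obtain ⟨n, hn⟩ := hinvol _ hj2 hj1
        have hmem : n⁻¹ * g * n ∈ N := (hmemN _).2 (by
          calc n⁻¹ * g * n * t = n⁻¹ * (g * g ^ k) * n := by rw [← hn]; group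
            _ = n⁻¹ * (g ^ k * g) * n := by rw [← pow_succ', pow_succ]
            _ = t * (n⁻¹ * g * n) := by rw [← hn]; group)
        obtain ⟨x', hx'⟩ := htoC _ hmem (fun e => hg (conj_eq_one_iff.1
          (show n⁻¹ * g * n⁻¹⁻¹ = 1 by rw [inv_inv]; exact e)))
        exact hT (n * x') (by
          rw [show (n * x')⁻¹ * g * (n * x') = x'⁻¹ * (n⁻¹ * g * n) * x' by group]; exact hx')
      · set D := Subgroup.zpowers g ⊔ Subgroup.zpowers u with hD
        have hDnorm : D ≤ Subgroup.normalizer ((Subgroup.zpowers g) : Set G) :=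
          sup_le Subgroup.le_normalizer (Subgroup.zpowers_le.2 (by
            have himg : (Subgroup.zpowers g).map (MulAut.conj u).toMonoidHom = Subgroup.zpowers g := by
              rw [MonoidHom.map_zpowers]
              show Subgroup.zpowers (u * g * u⁻¹) = _
              rw [hinv, Subgroup.zpowers_inv]
            refine Subgroup.mem_normalizer_fintype fun y hy => ?_
            have : u * y * u⁻¹ ∈ (Subgroup.zpowers g).map (MulAut.conj u).toMonoidHom :=
              Subgroup.mem_map.2 ⟨y, hy, rfl⟩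
            rwa [himg] at this))
        have hDne : D ≠ ⊤ := fun e => by
          have hn : (Subgroup.zpowers g).Normal :=
            Subgroup.normalizer_eq_top_iff.1 (eq_top_iff.2 (e ▸ hDnorm))
          rcases Subgroup.Normal.eq_bot_or_eq_top (H := Subgroup.zpowers g) hn with e' | e'
          · exact hg (Subgroup.zpowers_eq_bot.1 e')
          · refine hna ⟨⟨fun a b => ?_⟩⟩
            obtain ⟨i, rfl⟩ := Subgroup.mem_zpowers_iff.1 (e' ▸ Subgroup.mem_top a)
            obtain ⟨j, rfl⟩ := Subgroup.mem_zpowers_iff.1 (e' ▸ Subgroup.mem_top b)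
            exact ((Commute.refl g).zpow_zpow i j).eq
        have hD2 : 2 ∣ Nat.card D := by
          rw [← (orderOf_eq_prime (by rw [pow_two, hu2]) hu1 : orderOf u = 2)]
          exact Subgroup.orderOf_dvd_natCard _ (Subgroup.mem_sup_right (Subgroup.mem_zpowers u))
        have hgd : orderOf g ∣ 4 * q :=
          (Subgroup.orderOf_dvd_natCard _ (Subgroup.mem_sup_left (Subgroup.mem_zpowers g))).trans
            (hbound D hDne hD2)
        have hgq : orderOf g ∣ q := Nat.Coprime.dvd_of_dvd_mul_left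
          (by rw [show (4 : ℕ) = 2 ^ 2 by norm_num]
              exact (Nat.prime_two.coprime_iff_not_dvd.2 hev).symm.pow_right 2) hgd
        haveI : Fact (Nat.Prime 3) := ⟨Nat.prime_three⟩
        obtain ⟨i, -, hi⟩ := (Nat.dvd_prime_pow Nat.prime_three).1 (ha ▸ hgq)
        obtain ⟨Q, hQ⟩ := (IsPGroup.of_card (n := i) (by rw [Nat.card_zpowers, hi]) :
          IsPGroup 3 (Subgroup.zpowers g)).exists_le_sylow
        obtain ⟨n, hn⟩ := MulAction.exists_smul_eq G Q P
        refine hT n⁻¹ (hPC ?_)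
        rw [inv_inv, ← hn]
        exact Subgroup.mem_map.2 ⟨g, hQ (Subgroup.mem_zpowers g), rfl⟩
  -- swapping the sums
  set Bset : Finset G := Finset.univ.filter fun c => c ∈ C ∧ c ≠ 1 with hBdef
  have hMsum : ∀ f : G → ℂ, IsClassFunction G f →
      ∑ g, (M g : ℂ) * f g = (Nat.card G : ℂ) * ∑ c ∈ Bset, f c := by
    intro f hf
    have e1 : ∀ g, (M g : ℂ) * f g = ∑ x : G, if x⁻¹ * g * x ∈ C ∧ x⁻¹ * g * x ≠ 1 then f g else 0 :=
      fun g => by rw [← Finset.sum_filter, Finset.sum_const, nsmul_eq_mul]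
    rw [Finset.sum_congr rfl fun g _ => e1 g, Finset.sum_comm,
      Finset.sum_congr rfl (g := fun _ => ∑ c ∈ Bset, f c) fun x _ => ?_, Finset.sum_const,
      Finset.card_univ, nsmul_eq_mul, Nat.card_eq_fintype_card]
    rw [hBdef, Finset.sum_filter]
    refine (Fintype.sum_equiv (MulAut.conj x).toEquiv _ _ fun c => ?_).symm
    show _ = if x⁻¹ * (x * c * x⁻¹) * x ∈ C ∧ x⁻¹ * (x * c * x⁻¹) * x ≠ 1 then f (x * c * x⁻¹) else 0
    rw [hf c x, show x⁻¹ * (x * c * x⁻¹) * x = c by group]
  have hBsum : ∀ f : G → ℂ, ∑ c ∈ Bset, f c = (∑ c : C, f c) - f 1 := by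
    intro f
    rw [← Finset.sum_subtype (Finset.univ.filter fun c : G => c ∈ C) (p := fun c => c ∈ C) (by simp) f,
      show Bset = (Finset.univ.filter fun c : G => c ∈ C).erase 1 by ext; simp [hBdef, and_comm],
      Finset.sum_erase_eq_sub (by simp [one_mem C])]
  -- the order of the group
  have hsumK : ∑ g, (K g : ℂ) = (Nat.card G : ℂ) * Nat.card G := by
    have h1 : ∑ g, K g = Nat.card G * Nat.card G := by
      rw [Finset.sum_congr rfl fun g _ => hKfin g, Finset.sum_comm, Nat.card_eq_fintype_card,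
        Finset.sum_congr rfl (g := fun _ => Fintype.card G) fun x _ => ?_, Finset.sum_const, Finset.card_univ,
        smul_eq_mul]
      rw [← Finset.card_univ]
      exact (Finset.card_eq_sum_card_fiberwise fun _ _ => Finset.mem_univ _).symm
    exact_mod_cast congrArg (Nat.cast : ℕ → ℂ) h1
  have hKC : ∀ g, (K g : ℂ) = (if g = 1 then (Nat.card G : ℂ) * (4 * q) else 0) + 8 * (q : ℂ) ^ 2 * (M g : ℂ) :=
    fun g => by rw [hK g]; split_ifs <;> push_cast <;> ring
  have hKf : ∀ f : G → ℂ, IsClassFunction G f → ∑ g, (K g : ℂ) * f g =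
      (Nat.card G : ℂ) * (4 * q * f 1 + 8 * (q : ℂ) ^ 2 * ((∑ c : C, f c) - f 1)) := by
    intro f hf
    rw [← hBsum f, mul_add, ← mul_left_comm (8 * (q : ℂ) ^ 2), ← hMsum f hf, Finset.mul_sum,
      Finset.sum_congr rfl fun g _ => show (K g : ℂ) * f g =
        (if g = 1 then (Nat.card G : ℂ) * (4 * q) * f g else 0) + 8 * (q : ℂ) ^ 2 * ((M g : ℂ) * f g) by
          rw [hKC g]; split_ifs <;> ring,
      Finset.sum_add_distrib, Finset.sum_ite_eq' Finset.univ (1 : G), if_pos (Finset.mem_univ _)]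
    ring
  set m : ℕ := 1 + 2 * q * (2 * q - 1) with hmdef
  have hGm : (Nat.card G : ℂ) = 4 * q * m := by
    have h := hKf (fun _ => 1) (fun _ _ => rfl)
    simp only [mul_one, hsumK, Finset.sum_const, Finset.card_univ, nsmul_eq_mul,
      ← Nat.card_eq_fintype_card, hC] at h
    have hcast : (m : ℂ) = 1 + 2 * q * (2 * q - 1) := by
      rw [hmdef]; push_cast [show 1 ≤ 2 * q by omega]; ring
    rw [hcast, mul_left_cancel₀ (Char.natCard_ne_zero G) h]
    push_cast; ring
  -- the linear character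
  haveI : IsMulCommutative C := ⟨⟨fun x y => Subtype.ext (hCab x x.2 y y.2)⟩⟩
  obtain ⟨c₀, hc₀P, hc₀1⟩ : ∃ c ∈ (P : Subgroup G), c ≠ 1 :=
    (P : Subgroup G).bot_or_exists_ne_one.resolve_left (fun e => by
      have : q = 1 := Subgroup.eq_bot_iff_card _ |>.1 e
      omega)
  obtain ⟨l, hlt, hl2⟩ : ∃ l : C →* ℂˣ, l ⟨t, htC⟩ = 1 ∧ l * l ≠ 1 := by
    letI : CommGroup C := { (inferInstance : Group C) with mul_comm := fun x y => mul_comm' x y }
    haveI : NeZero (Monoid.exponent C) := ⟨Monoid.exponent_ne_zero_of_finite⟩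
    obtain ⟨f, hf⟩ := CommGroup.exists_apply_ne_one_of_hasEnoughRootsOfUnity C ℂ
      (a := ⟨c₀, hPC hc₀P⟩) (fun e => hc₀1 (congrArg Subtype.val e))
    have hq1 : (⟨c₀, hPC hc₀P⟩ : C) ^ q = 1 := Subtype.ext (orderOf_dvd_iff_pow_eq_one.1
      (Subgroup.orderOf_dvd_natCard _ hc₀P))
    obtain ⟨r, hr⟩ : ∃ r, q + 1 = 2 * r := ⟨(q + 1) / 2, by omega⟩
    refine ⟨f ^ (q + 1), ?_, fun e => hf ?_⟩
    · rw [MonoidHom.pow_apply, ← map_pow, hr, pow_mul,
        show (⟨t, htC⟩ : C) ^ 2 = 1 from Subtype.ext (by simp [pow_two, ht2]), one_pow, map_one]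
    · have e1 := DFunLike.congr_fun e ⟨c₀, hPC hc₀P⟩
      rw [MonoidHom.mul_apply, MonoidHom.pow_apply, ← map_pow, pow_succ, hq1, one_mul,
        MonoidHom.one_apply] at e1
      have h1 : orderOf (f ⟨c₀, hPC hc₀P⟩) ∣ 2 := orderOf_dvd_of_pow_eq_one (by rw [pow_two, e1])
      have h2 : orderOf (f ⟨c₀, hPC hc₀P⟩) ∣ q :=
        orderOf_dvd_of_pow_eq_one (by rw [← map_pow, hq1, map_one])
      exact orderOf_eq_one_iff.1 (Nat.eq_one_of_dvd_coprimes
        (Nat.prime_two.coprime_iff_not_dvd.2 hq2) h1 h2)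
  have hl1 : l ≠ 1 := fun e => hl2 (MonoidHom.ext fun c => by rw [e]; simp)
  let l' : C →* ℂˣ := l⁻¹
  have hl'1 : l' ≠ 1 := fun e => hl1 (MonoidHom.ext fun c => by
    have := DFunLike.congr_fun e c
    simpa [l'] using this)
  have hll' : l ≠ l' := fun e => hl2 (by nth_rewrite 2 [e]; exact mul_inv_cancel l)
  let lc : (C →* ℂˣ) → C → ℂ := fun f c => (f c : ℂ)
  have hlc_inj : ∀ f f', lc f = lc f' → f = f' := fun f f' e =>
    MonoidHom.ext fun c => Units.ext (congrFun e c)
  have hone : (fun _ : C => (1 : ℂ)) = lc 1 := rfl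
  have hinn : ∀ f f' : C →* ℂˣ, classInner (lc f) (lc f') = if f = f' then 1 else 0 := fun f f' => by
    split_ifs with e
    · rw [e]; exact Char.irr_inner_self (Char.isIrrCharacter_hom f')
    · exact Char.irr_inner_ne (Char.isIrrCharacter_hom f) (Char.isIrrCharacter_hom f')
        (fun e' => e (hlc_inj _ _ e'))
  set θ : C → ℂ := lc 1 - lc l with hθdef
  set α : G → ℂ := indFun C θ with hαdef
  have hαgen : IsGeneralizedCharacter G α :=
    Char.isGenChar_indFun ⟨lc 1, lc l, Char.isCharacter_hom 1, Char.isCharacter_hom l, rfl⟩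
  have hαres : (fun c : C => α c) = θ + (lc 1 - lc l') := by
    funext c
    by_cases hc : (c : G) = 1
    · obtain rfl : c = 1 := Subtype.ext hc
      show α 1 = _
      rw [hαdef, Char.indFun_one_apply]
      simp [hθdef, lc]
    have hv : ∀ x : G, extendByZero C θ (x⁻¹ * c * x) =
        (if x ∈ C then θ c else 0) + (if s * x ∈ C then θ c⁻¹ else 0) := by
      intro x
      by_cases h1 : x ∈ C
      · have h2 : ¬ s * x ∈ C := fun h => hsC (by
          have := mul_mem h (inv_mem h1); rwa [mul_inv_cancel_right] at this)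
        have e : x⁻¹ * (c : G) * x = c := by
          rw [mul_assoc, hCab c c.2 x h1, inv_mul_cancel_left]
        rw [if_pos h1, if_neg h2, add_zero, e, Char.extendByZero_mem θ c.2]
      by_cases h2 : s * x ∈ C
      · obtain ⟨-, -, -, h3⟩ := hsC_mem x h2
        rw [if_neg h1, if_pos h2, zero_add, h3 c c.2, Char.extendByZero_mem θ (inv_mem c.2)]
        rfl
      rw [if_neg h1, if_neg h2, add_zero]
      refine Char.extendByZero_not_mem θ fun h => ?_
      have hxN : x ∈ N := inv_mem_iff.1 (hTI' x⁻¹ c c.2 hc (by rw [inv_inv]; exact h))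
      rcases hNcoset x hxN with h' | h'
      · exact h1 h'
      · exact h2 h'
    rw [hαdef, Char.indFun_apply, Finset.sum_congr rfl fun x _ => hv x, Finset.sum_add_distrib,
      ← Finset.sum_filter, ← Finset.sum_filter, Finset.sum_const, Finset.sum_const, hcardC, hC,
      show (Finset.univ.filter fun x : G => x ∈ C).card = 2 * q by simpa using hcardC 1,
      nsmul_eq_mul, nsmul_eq_mul]
    have h0 : ((2 * q : ℕ) : ℂ) ≠ 0 := by exact_mod_cast (by omega : 2 * q ≠ 0)
    rw [← mul_add, inv_mul_cancel_left₀ h0]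
    simp [hθdef, lc, l']
  have hα1 : α 1 = 0 := by
    have := congrFun hαres 1
    simpa [hθdef, lc] using this
  have hαt : α t = 0 := by
    have := congrFun hαres ⟨t, htC⟩
    simpa [hθdef, lc, l', hlt] using this
  have hone' : IsClassFunction G (fun _ => (1 : ℂ)) := fun _ _ => rfl
  have hαone : classInner α (fun _ => 1) = 1 := by
    rw [hαdef, Char.frobenius θ _ hone']
    show classInner θ (lc 1) = 1
    rw [hθdef, Char.inner_sub_left, hinn, hinn, if_pos rfl, if_neg hl1, sub_zero]
  have hαα : classInner α α = 3 := by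
    conv_lhs => arg 1; rw [hαdef]
    rw [Char.frobenius θ α (Char.isGenChar_classFunction hαgen), hαres, hθdef]
    simp only [Char.inner_add_right, Char.inner_sub_left, Char.inner_sub_right, hinn,
      if_pos rfl, if_neg hl1, if_neg hl1.symm, if_neg hl'1.symm, if_neg hll']
    norm_num
  set η : G → ℂ := α - fun _ => 1 with hηdef
  have hηgen : IsGeneralizedCharacter G η :=
    Char.isGenChar_sub hαgen (Char.isGenChar_of_isCharacter Char.isCharacter_one)
  have hone1 : classInner (fun _ : G => (1 : ℂ)) (fun _ => 1) = 1 :=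
    Char.irr_inner_self (Char.isIrrCharacter_hom (1 : G →* ℂˣ))
  have hηη : classInner η η = 2 := by
    rw [hηdef, Char.inner_sub_left, Char.inner_sub_right, Char.inner_sub_right, hαα, hαone,
      ← Char.inner_conj_symm α, hαone, map_one, hone1]
    norm_num
  obtain ⟨χ, ψ, hχ, hψ, -, -, hdeg, hη⟩ := BS.genChar_norm_two' hηgen hηη
    (by simp [hηdef, hα1]) (by rw [hηdef, Char.inner_sub_left, hαone, hone1, sub_self])
  obtain ⟨d, hd0, hd⟩ := Char.exists_degree_pos hψ
  rw [hd] at hdeg
  -- values at `t`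
  have hint : ∀ φ : IrrCharacter G, ∃ z : ℤ, (φ : G → ℂ) t = z := fun φ =>
    Core.exists_int_char_involution φ.2.isCharacter' ht2
  choose v hv using hint
  set sv : ℤ := v ⟨ψ, hψ⟩ with hsv
  have hψt : ψ t = sv := hv ⟨ψ, hψ⟩
  have hχt : χ t = sv + 1 := by
    have := congrFun hη t
    simp [hηdef, hαt, hψt] at this
    linear_combination this
  have hsq : sv ^ 2 ≤ 4 * 3 ^ a := by
    have h := Char.column_orth_conj (IsConj.refl t)
    rw [hCt, hN, ha] at h
    simp only [hv, map_intCast] at h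
    have h' : ∑ φ : IrrCharacter G, v φ * v φ = ((4 * 3 ^ a : ℕ) : ℤ) := by exact_mod_cast h
    push_cast at h'
    rw [← h', pow_two]
    exact Finset.single_le_sum (f := fun φ => v φ * v φ) (fun φ _ => mul_self_nonneg _)
      (Finset.mem_univ (⟨ψ, hψ⟩ : IrrCharacter G))
  -- the class multiplication function
  have hKchar : (fun g => (K g : ℂ)) =
      ∑ φ : IrrCharacter G, ((Nat.card G : ℂ) * ((v φ : ℂ) ^ 2 / (φ : G → ℂ) 1)) • (φ : G → ℂ) := by
    funext g
    rw [hKdef]
    show (Nat.card {p : G × G // p.1 * t * p.1⁻¹ * (p.2 * t * p.2⁻¹) = g} : ℂ) = _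
    rw [Char.count_conj_mul, Finset.sum_apply, Finset.mul_sum]
    refine Finset.sum_congr rfl fun φ _ => ?_
    rw [hv, map_intCast, Pi.smul_apply, smul_eq_mul]
    ring
  have hiη : ∀ φ : IrrCharacter G, classInner (φ : G → ℂ) η =
      (if φ = ⟨ψ, hψ⟩ then 1 else 0) - (if φ = ⟨χ, hχ⟩ then 1 else 0) := fun φ => by
    rw [hη, Char.inner_sub_right, Char.irr_classInner φ ⟨ψ, hψ⟩, Char.irr_classInner φ ⟨χ, hχ⟩]
  have hLHS : classInner (fun g => (K g : ℂ)) η =
      (Nat.card G : ℂ) * ((sv : ℂ) ^ 2 / d - ((sv : ℂ) + 1) ^ 2 / (d + 1)) := by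
    rw [hKchar, Char.inner_sum_left]
    simp only [Char.inner_smul_left, hiη, mul_sub, mul_ite, mul_one, mul_zero, Finset.sum_sub_distrib,
      Finset.sum_ite_eq', Finset.mem_univ, if_true]
    rw [hd, ← hsv, show ((v ⟨χ, hχ⟩ : ℤ) : ℂ) = sv + 1 from (hv ⟨χ, hχ⟩).symm.trans hχt, hdeg]
  have hsumη : ∑ c : C, conj (η c) = 2 * q := by
    have h : classInner (lc 1) (fun c : C => α c) = 2 := by
      rw [hαres, hθdef]
      simp only [Char.inner_add_right, Char.inner_sub_right, hinn, if_pos rfl, if_neg hl1.symm,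
        if_neg hl'1.symm]
      norm_num
    rw [classInner, inv_mul_eq_iff_eq_mul₀ (Char.natCard_ne_zero C), hC] at h
    simp only [hηdef, Pi.sub_apply, map_sub, map_one, Finset.sum_sub_distrib, Finset.sum_const,
      Finset.card_univ, ← Nat.card_eq_fintype_card, hC, nsmul_eq_mul, mul_one]
    simp only [lc, MonoidHom.one_apply, Units.val_one, one_mul] at h
    rw [h]; push_cast; ring
  have hRHS : classInner (fun g => (K g : ℂ)) η = -4 * q + 8 * (q : ℂ) ^ 2 * (2 * q + 1) := by
    rw [classInner, hKf (fun g => conj (η g)) (fun g h => by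
      show conj (η _) = conj (η g); rw [Char.isGenChar_classFunction hηgen g h]), hsumη,
      inv_mul_cancel_left₀ (Char.natCard_ne_zero G)]
    simp [hηdef, hα1]
  have hd1 : (d : ℂ) ≠ 0 := by exact_mod_cast (by omega : d ≠ 0)
  have hd2 : (d : ℂ) + 1 ≠ 0 := by exact_mod_cast (by omega : d + 1 ≠ 0)
  have hm0 : (m : ℂ) = 1 + 2 * q * (2 * q - 1) := by
    rw [hmdef]; push_cast [show 1 ≤ 2 * q by omega]; ring
  have hkey : (m : ℂ) * ((d : ℂ) - sv) ^ 2 = 8 * (q : ℂ) ^ 2 * d * (d + 1) := by
    have h := hLHS.symm.trans hRHS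
    rw [hGm] at h
    field_simp at h
    have h4 : (4 : ℂ) * q ≠ 0 := by exact_mod_cast (by omega : 4 * q ≠ 0)
    refine mul_left_cancel₀ h4 ?_
    linear_combination h + 4 * (q : ℂ) * d * (d + 1) * hm0
  refine Core.no_solution_three_pow (a := a) (m := m) (d := d) (s := sv) ha1 ?_ (by omega) hsq ?_
  · have : ((m : ℤ) : ℂ) = ((4 * (3 ^ a) ^ 2 - 2 * 3 ^ a + 1 : ℤ) : ℂ) := by
      push_cast
      rw [hm0, ha]; push_cast; ring
    exact_mod_cast this
  · have : (((m : ℤ) * ((d : ℤ) - sv) ^ 2 : ℤ) : ℂ) = ((8 * (3 ^ a) ^ 2 * d * (d + 1) : ℤ) : ℂ) := by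
      push_cast
      rw [hkey, ha]; push_cast; ring
    exact_mod_cast this

end Cfsg.Agent.S4018
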