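import Cfsg.Statements.S4113
import Mathlib

set_option autoImplicit false
open Cfsg
open scoped Pointwise

namespace Cfsg.Agent.S4113

/-- Let G be a finite group, M ≤ N non-trivial proper normal subgroups, and H a subgroup with HM = G and H ∩ M = 1. Then every element of G outside N acts fixed-point-freely on M (C_G(x) ≤ N for every x ∈ M, x ≠ 1) if and only if H ∩ gHg⁻¹ ≤ H ∩ N for every g outside H, with H proper and non-trivial and H ∩ N proper in H. -/
theorem result {G : Type*} [Group G] [Finite G] (N M : Subgroup G) [N.Normal] [M.Normal] (hMN : M ≤ N) (hM1 : M ≠ ⊥) (hN2 : N ≠ ⊤)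
    (H : Subgroup G) (hHM : H ⊔ M = ⊤) (hHM' : H ⊓ M = ⊥) :
    (∀ x ∈ M, x ≠ 1 → Subgroup.centralizer ({x} : Set G) ≤ N) ↔
      (H ≠ ⊥ ∧ H ≠ ⊤ ∧ H ⊓ N < H ∧ ∀ g : G, g ∉ H → H ⊓ H.map (MulAut.conj g).toMonoidHom ≤ N) := by
  classical
  have hdisj : ∀ a ∈ H, a ∈ M → a = 1 := fun a h1 h2 => Subgroup.mem_bot.mp (hHM' ▸ ⟨h1, h2⟩)
  have hdec : ∀ g : G, ∃ h ∈ H, ∃ m ∈ M, h * m = g := by
    intro g
    have hg : g ∈ H ⊔ M := hHM ▸ Subgroup.mem_top g
    rw [← SetLike.mem_coe, Subgroup.mul_normal] at hg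
    obtain ⟨h, hh, m, hm, e⟩ := hg
    exact ⟨h, hh, m, hm, e⟩
  constructor
  · intro hfix
    refine ⟨?_, ?_, ?_, ?_⟩
    · rintro rfl
      rw [bot_sup_eq] at hHM
      exact hN2 (top_le_iff.mp (hHM ▸ hMN))
    · rintro rfl
      rw [top_inf_eq] at hHM'
      exact hM1 hHM'
    · refine lt_of_le_of_ne inf_le_left fun e => hN2 (top_le_iff.mp ?_)
      rw [← hHM]
      exact sup_le (e ▸ inf_le_right) hMN
    · intro g hg x hx
      obtain ⟨hxH, y, hy, rfl⟩ := hx
      obtain ⟨h, hh, m, hm, rfl⟩ := hdec g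
      simp only [MulEquiv.coe_toMonoidHom, MulAut.conj_apply] at hxH ⊢
      have hm1 : m ≠ 1 := fun e => hg (by rw [e, mul_one]; exact hh)
      have hz : m * y * m⁻¹ ∈ H := by
        have := H.mul_mem (H.mul_mem (H.inv_mem hh) hxH) hh
        simpa [mul_assoc] using this
      have hk : m * (y * m⁻¹ * y⁻¹) = 1 := by
        refine hdisj _ ?_ ?_
        · have := H.mul_mem hz (H.inv_mem hy)
          simpa [mul_assoc] using this
        · exact M.mul_mem hm (Subgroup.Normal.conj_mem inferInstance _ (M.inv_mem hm) y)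
      have hcomm : m * y = y * m := by
        calc m * y = (m * (y * m⁻¹ * y⁻¹)) * (y * m) := by group
          _ = y * m := by rw [hk, one_mul]
      have hyN : y ∈ N := hfix m hm hm1 (Subgroup.mem_centralizer_singleton_iff.mpr hcomm.symm)
      exact Subgroup.Normal.conj_mem inferInstance _ hyN _
  · rintro ⟨-, -, -, hTI⟩ x hx hx1 y hy
    by_contra hyN
    rw [Subgroup.mem_centralizer_singleton_iff] at hy
    let f : (G ⧸ H) × {h : H // (h : G) ∉ N} → {g : G // g ∉ N} := fun p =>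
      ⟨p.1.out * (p.2.1 : G) * p.1.out⁻¹, fun h => p.2.2 (by
        have := Subgroup.Normal.conj_mem inferInstance _ h p.1.out⁻¹
        simpa [mul_assoc] using this)⟩
    have hf : Function.Injective f := by
      rintro ⟨q₁, h₁⟩ ⟨q₂, h₂⟩ e
      have e' : q₁.out * (h₁.1 : G) * q₁.out⁻¹ = q₂.out * (h₂.1 : G) * q₂.out⁻¹ := congrArg Subtype.val e
      have hin : q₁.out⁻¹ * q₂.out ∈ H := by
        by_contra hn
        apply h₁.2
        refine hTI _ hn ⟨h₁.1.2, (h₂.1 : G), h₂.1.2, ?_⟩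
        simp only [MulEquiv.coe_toMonoidHom, MulAut.conj_apply]
        calc q₁.out⁻¹ * q₂.out * (h₂.1 : G) * (q₁.out⁻¹ * q₂.out)⁻¹
            = q₁.out⁻¹ * (q₂.out * (h₂.1 : G) * q₂.out⁻¹) * q₁.out := by group
          _ = (h₁.1 : G) := by rw [← e']; group
      have hq : q₁ = q₂ := by
        rw [← QuotientGroup.out_eq' q₁, ← QuotientGroup.out_eq' q₂]
        exact QuotientGroup.eq.mpr hin
      subst hq
      exact Prod.ext rfl (Subtype.ext (Subtype.ext (mul_left_cancel (mul_right_cancel e'))))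
    haveI := Fintype.ofFinite G
    have hcardN : Nat.card (H ⊓ N : Subgroup G) * Nat.card M = Nat.card N := by
      rw [← Nat.card_prod]
      refine Nat.card_congr (Equiv.ofBijective
        (fun p => (⟨(p.1 : G) * p.2, N.mul_mem p.1.2.2 (hMN p.2.2)⟩ : N)) ⟨?_, ?_⟩)
      · rintro ⟨a, b⟩ ⟨c, d⟩ e
        have e' : (a : G) * b = c * d := congrArg Subtype.val e
        have h1 : (c : G)⁻¹ * a = d * (b : G)⁻¹ := by
          calc (c : G)⁻¹ * a = (c : G)⁻¹ * (a * b) * (b : G)⁻¹ := by group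
            _ = d * (b : G)⁻¹ := by rw [e']; group
        have h2 := hdisj _ (H.mul_mem (H.inv_mem c.2.1) a.2.1) (h1 ▸ M.mul_mem d.2 (M.inv_mem b.2))
        have hac : (a : G) = c := (inv_mul_eq_one.mp h2).symm
        rw [hac] at e'
        exact Prod.ext (Subtype.ext hac) (Subtype.ext (mul_left_cancel e'))
      · rintro ⟨n, hn⟩
        obtain ⟨h, hh, m, hm, rfl⟩ := hdec n
        refine ⟨⟨⟨h, hh, ?_⟩, ⟨m, hm⟩⟩, rfl⟩
        simpa using N.mul_mem hn (N.inv_mem (hMN hm))
    have hcompl : Subgroup.IsComplement' M H :=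
      Subgroup.isComplement'_of_disjoint_and_mul_eq_univ (disjoint_iff.mpr (by rw [inf_comm]; exact hHM'))
        (by rw [← Subgroup.normal_mul, sup_comm, hHM]; rfl)
    have hidx : Nat.card (G ⧸ H) = Nat.card M := hcompl.index_eq_card
    have hdom : Nat.card {h : H // (h : G) ∉ N} = Nat.card H - Nat.card (H ⊓ N : Subgroup G) := by
      have e : Nat.card (H ⊓ N : Subgroup G) = Nat.card {h : H // (h : G) ∈ N} :=
        Nat.card_congr ⟨fun a => ⟨⟨a.1, a.2.1⟩, a.2.2⟩, fun a => ⟨a.1.1, a.1.2, a.2⟩, fun _ => rfl, fun _ => rfl⟩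
      rw [e, Nat.card_eq_fintype_card, Nat.card_eq_fintype_card, Nat.card_eq_fintype_card,
        Fintype.card_subtype_compl]
    have hcard : Nat.card ((G ⧸ H) × {h : H // (h : G) ∉ N}) = Nat.card {g : G // g ∉ N} := by
      have hG : Nat.card {g : G // g ∉ N} = Nat.card G - Nat.card N := by
        rw [Nat.card_eq_fintype_card, Nat.card_eq_fintype_card, Nat.card_eq_fintype_card, Fintype.card_subtype_compl]
      rw [Nat.card_prod, hdom, hG, hidx, Nat.mul_sub, mul_comm _ (Nat.card (H ⊓ N : Subgroup G)), hcardN,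
        hcompl.card_mul]
    have hs := ((Nat.bijective_iff_injective_and_card f).mpr ⟨hf, hcard⟩).surjective
    obtain ⟨⟨q, h⟩, he⟩ := hs ⟨y, hyN⟩
    have he' : q.out * (h.1 : G) * q.out⁻¹ = y := congrArg Subtype.val he
    have hcx : (h.1 : G) * (q.out⁻¹ * x * q.out) = (q.out⁻¹ * x * q.out) * h.1 := by
      calc (h.1 : G) * (q.out⁻¹ * x * q.out) = q.out⁻¹ * ((q.out * (h.1 : G) * q.out⁻¹) * x) * q.out := by group
        _ = q.out⁻¹ * (x * (q.out * (h.1 : G) * q.out⁻¹)) * q.out := by rw [he', hy]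
        _ = (q.out⁻¹ * x * q.out) * h.1 := by group
    have hx'M : q.out⁻¹ * x * q.out ∈ M := by
      have := Subgroup.Normal.conj_mem inferInstance _ hx q.out⁻¹
      rwa [inv_inv] at this
    have hx'H : q.out⁻¹ * x * q.out ∉ H := fun hc => hx1 (by
      have e := hdisj _ hc hx'M
      calc x = q.out * (q.out⁻¹ * x * q.out) * q.out⁻¹ := by group
        _ = 1 := by rw [e]; group)
    exact h.2 (hTI _ hx'H ⟨h.1.2, (h.1 : G), h.1.2, by
      simp only [MulEquiv.coe_toMonoidHom, MulAut.conj_apply]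
      rw [← hcx, mul_inv_cancel_right]⟩)

end Cfsg.Agent.S4113
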