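import Cfsg.Statements.S4347


set_option autoImplicit false
open Cfsg
open scoped Pointwise

namespace Cfsg.Agent.S4347

/-- Let G be a finite group and p a prime. Say a Sylow p-subgroup Q is redundant when every element of p-power order lies in some Sylow p-subgroup other than Q. Then G has no redundant Sylow p-subgroup if and only if some element of p-power order lies in exactly one Sylow p-subgroup. -/
theorem result {G : Type*} [Group G] [Finite G]
    (p : ℕ) [Fact p.Prime] :
    (¬ ∃ Q : Sylow p G, ∀ x : G, (∃ k : ℕ, orderOf x = p ^ k) → ∃ P : Sylow p G, P ≠ Q ∧ x ∈ P) ↔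
      ∃ x : G, (∃ k : ℕ, orderOf x = p ^ k) ∧ ∃! P : Sylow p G, x ∈ P := by
  constructor
  · intro h
    push Not at h
    obtain ⟨x, hx, hxQ⟩ := h default
    refine ⟨x, hx, ?_⟩
    obtain ⟨k, hk⟩ := hx
    have hp : IsPGroup p (Subgroup.zpowers x) :=
      IsPGroup.of_card (by rw [Nat.card_zpowers, hk])
    obtain ⟨R, hR⟩ := hp.exists_le_sylow
    have hRd : R = default := by
      by_contra hne
      exact hxQ R hne (hR (Subgroup.mem_zpowers x))
    refine ⟨default, hRd ▸ hR (Subgroup.mem_zpowers x), fun P hP => ?_⟩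
    by_contra hne
    exact hxQ P hne hP
  · rintro ⟨x, ⟨k, hk⟩, P, hP, hu⟩ ⟨Q, hQ⟩
    obtain ⟨g, rfl⟩ := MulAction.exists_smul_eq G P Q
    obtain ⟨R, hR, hxR⟩ := hQ (g * x * g⁻¹) ⟨k, by
      rw [← hk]; exact MulEquiv.orderOf_eq (MulAut.conj g) x⟩
    apply hR
    have hmem : x ∈ g⁻¹ • R := by
      show x ∈ MulAut.conj g⁻¹ • (R : Subgroup G)
      rw [Subgroup.mem_pointwise_smul_iff_inv_smul_mem]
      simp [mul_assoc] at hxR ⊢; exact hxR
    rw [← hu _ hmem, smul_inv_smul]

end Cfsg.Agent.S4347
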