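import Cfsg.Statements.S4348
import Mathlib
import Cfsg.Agent.Lib.CoreBasic

set_option autoImplicit false
open Cfsg

namespace Cfsg.Agent.S4348

/-- Let G be a finite group, p a prime and P a Sylow p-subgroup of G, and let O_p(G) be the largest normal p-subgroup of G. If P/O_p(G) is cyclic, then some element of p-power order of G lies in exactly one Sylow p-subgroup. -/
theorem result {G : Type*} [Group G] [Finite G]
    (p : ℕ) [Fact p.Prime] (P : Sylow p G)
    [hn : ((Cfsg.pCore p G).subgroupOf (P : Subgroup G)).Normal]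
    (hc : IsCyclic ((P : Subgroup G) ⧸ (Cfsg.pCore p G).subgroupOf (P : Subgroup G))) :
    ∃ x : G, (∃ k : ℕ, orderOf x = p ^ k) ∧ ∃! Q : Sylow p G, x ∈ Q := by
  classical
  obtain ⟨z, hz⟩ := hc.exists_generator
  obtain ⟨x, rfl⟩ := QuotientGroup.mk_surjective z
  refine ⟨x, ?_, P, x.2, fun Q hQ => ?_⟩
  · obtain ⟨k, hk⟩ := IsPGroup.iff_orderOf.mp P.isPGroup' x
    exact ⟨k, by rw [Subgroup.orderOf_coe, hk]⟩
  refine Sylow.ext (Subgroup.eq_of_le_of_card_ge ?_ ?_).symm
  · intro y hy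
    obtain ⟨i, hi⟩ := hz (QuotientGroup.mk ⟨y, hy⟩)
    have hi' : ((x ^ i : (P : Subgroup G)) : (P : Subgroup G) ⧸ (Cfsg.pCore p G).subgroupOf (P : Subgroup G)) =
        QuotientGroup.mk ⟨y, hy⟩ := hi
    rw [QuotientGroup.eq, Subgroup.mem_subgroupOf] at hi'
    have h2 := Q.mul_mem (Q.zpow_mem hQ i) (CfsgLib.Core.pCore_le_sylow Q hi')
    simpa using h2
  · rw [Q.card_eq_multiplicity, P.card_eq_multiplicity]

end Cfsg.Agent.S4348
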