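import Cfsg.Statements.S4866
import Cfsg.Agent.Lib.CharPerm
import Cfsg.Agent.Lib.CharNormal

set_option autoImplicit false
open Cfsg

namespace Cfsg.Agent.S4866

theorem twisted_fix_iff {A X : Type*} [Group A] [MulAction A X] (c : X → X) (hc : Function.Involutive c)
    (hcomm : ∀ (a : A) (x : X), a • c x = c (a • x)) (a : A) {n : ℕ} (hn : Odd n)
    (hfix : ∀ x : X, a ^ n • x = x) (x : X) : c (a • x) = x ↔ c x = x ∧ a • x = x := by
  constructor
  · intro h
    have ha : a • x = c x := by rw [← hc (a • x), h]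
    have hpow : ∀ j : ℕ, a ^ j • x = c^[j] x := by
      intro j
      induction j with
      | zero => simp
      | succ j ih =>
        have hsw : ∀ (i : ℕ) (y : X), a • c^[i] y = c^[i] (a • y) := by
          intro i
          induction i with
          | zero => simp
          | succ i ihi => intro y; rw [Function.iterate_succ_apply, ihi, hcomm, ← Function.iterate_succ_apply]
        rw [pow_succ', mul_smul, ih, hsw, ha, ← Function.iterate_succ_apply]
    have h1 := hpow n
    rw [hfix, hc.iterate_odd hn] at h1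
    exact ⟨h1.symm, by rw [ha, ← h1]⟩
  · rintro ⟨h1, h2⟩
    rw [h2, h1]

theorem orbit_count_eq {A X Y : Type*} [Group A] [Finite A] [MulAction A X] [MulAction A Y] [Finite X] [Finite Y]
    (h : ∀ a : A, Nat.card (MulAction.fixedBy X a) = Nat.card (MulAction.fixedBy Y a)) :
    Nat.card (MulAction.orbitRel.Quotient A X) = Nat.card (MulAction.orbitRel.Quotient A Y) := by
  classical
  haveI := Fintype.ofFinite A
  haveI := Fintype.ofFinite X
  haveI := Fintype.ofFinite Y
  haveI : Fintype (MulAction.orbitRel.Quotient A X) := Fintype.ofFinite _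
  haveI : Fintype (MulAction.orbitRel.Quotient A Y) := Fintype.ofFinite _
  have hX := MulAction.sum_card_fixedBy_eq_card_orbits_mul_card_group A X
  have hY := MulAction.sum_card_fixedBy_eq_card_orbits_mul_card_group A Y
  simp only [← Nat.card_eq_fintype_card] at hX hY
  simp only [h] at hX
  exact Nat.eq_of_mul_eq_mul_right Nat.card_pos (hX.symm.trans hY)

/-- Let K be a normal subgroup of odd index in the finite group G. Then G has as many orbits on the real-valued irreducible complex characters of K (acting by conjugation) as it has orbits on the conjugacy classes of K that are real in K; equivalently, the number of G-orbits of real-valued irreducible characters of K equals the number of G-conjugacy classes of elements of K that are conjugate in K to their inverses. -/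
theorem result {G : Type*} [Group G] [Finite G] (K : Subgroup G) [K.Normal] (hodd : Odd K.index) : Nat.card (Quot (fun θ η : {θ : Cfsg.IrrCharacter ↥K // (∀ k : ↥K, ((θ : ↥K → ℂ) k).im = 0)} => ∃ g : G, ∀ k k' : ↥K, (k' : G) = g * (k : G) * g⁻¹ → (η.1 : ↥K → ℂ) k' = (θ.1 : ↥K → ℂ) k)) = Nat.card (Quot (fun x y : {x : ↥K // IsConj x x⁻¹} => ∃ g : G, (y.1 : G) = g * x.1 * g⁻¹)) := by
  classical
  haveI := Fintype.ofFinite G
  haveI := Fintype.ofFinite ↥K
  haveI : Finite (ConjClasses ↥K) := Finite.of_surjective _ ConjClasses.mk_surjective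
  -- the two actions
  letI aX : MulAction G (IrrCharacter ↥K) :=
    { smul := fun g θ => ⟨CfsgLib.Char.conjFn g⁻¹ θ.1, CfsgLib.Char.isIrrCharacter_conjFn θ.2 g⁻¹⟩
      one_smul := fun θ => Subtype.ext (by
        show CfsgLib.Char.conjFn (1 : G)⁻¹ θ.1 = θ.1
        rw [inv_one, CfsgLib.Char.conjFn_one])
      mul_smul := fun a b θ => Subtype.ext (by
        show CfsgLib.Char.conjFn (a * b)⁻¹ θ.1 = CfsgLib.Char.conjFn a⁻¹ (CfsgLib.Char.conjFn b⁻¹ θ.1)
        rw [mul_inv_rev, CfsgLib.Char.conjFn_mul]) }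
  have hX : ∀ (g : G) (θ : IrrCharacter ↥K) (k k' : ↥K), (k' : G) = g * k * g⁻¹ →
      ((g • θ : IrrCharacter ↥K) : ↥K → ℂ) k' = (θ : ↥K → ℂ) k := by
    intro g θ k k' h
    show CfsgLib.Char.conjFn g⁻¹ θ.1 k' = θ.1 k
    rw [CfsgLib.Char.conjFn_eq_comp, Function.comp_apply]
    refine congrArg θ.1 ?_
    apply Subtype.ext
    rw [MulAut.conjNormal_apply, h]
    group
  letI aY : MulAction G (ConjClasses ↥K) :=
    { smul := fun g C => ConjClasses.map (MulEquiv.toMonoidHom (MulAut.conjNormal g : MulAut ↥K)) C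
      one_smul := fun C => by
        obtain ⟨k, rfl⟩ := ConjClasses.mk_surjective C
        show ConjClasses.mk ((MulAut.conjNormal (1 : G) : MulAut ↥K) k) = _
        rw [map_one]; rfl
      mul_smul := fun a b C => by
        obtain ⟨k, rfl⟩ := ConjClasses.mk_surjective C
        show ConjClasses.mk ((MulAut.conjNormal (a * b) : MulAut ↥K) k) = _
        rw [map_mul]; rfl }
  have hY : ∀ (g : G) (k k' : ↥K), (k' : G) = g * k * g⁻¹ → g • ConjClasses.mk k = ConjClasses.mk k' := by
    intro g k k' h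
    show ConjClasses.mk ((MulAut.conjNormal g : MulAut ↥K) k) = _
    congr 1
    apply Subtype.ext
    rw [MulAut.conjNormal_apply, h]
  let cX : IrrCharacter ↥K → IrrCharacter ↥K := CfsgLib.Char.irrConj
  have hcX : Function.Involutive cX := fun θ => Subtype.ext (funext fun k => Complex.conj_conj _)
  have hcommX : ∀ (g : G) (θ : IrrCharacter ↥K), g • cX θ = cX (g • θ) := fun g θ => rfl
  let cY : ConjClasses ↥K → ConjClasses ↥K := CfsgLib.Char.invClass
  have hcY : Function.Involutive cY := fun C => by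
    obtain ⟨k, rfl⟩ := ConjClasses.mk_surjective C
    simp only [cY, CfsgLib.Char.invClass_mk, inv_inv]
  have hcommY : ∀ (g : G) (C : ConjClasses ↥K), g • cY C = cY (g • C) := fun g C => by
    obtain ⟨k, rfl⟩ := ConjClasses.mk_surjective C
    show ConjClasses.mk ((MulAut.conjNormal g : MulAut ↥K) k⁻¹) = ConjClasses.mk ((MulAut.conjNormal g : MulAut ↥K) k)⁻¹
    rw [map_inv]
  have hfX : ∀ (g : G) (θ : IrrCharacter ↥K), g ^ K.index • θ = θ := by
    intro g θ
    apply Subtype.ext
    show CfsgLib.Char.conjFn (g ^ K.index)⁻¹ θ.1 = θ.1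
    exact CfsgLib.Char.conjFn_of_mem (CfsgLib.Char.isCharacter_classFunction θ.2.isCharacter')
      (K.inv_mem (K.pow_index_mem g))
  have hfY : ∀ (g : G) (C : ConjClasses ↥K), g ^ K.index • C = C := by
    intro g C
    obtain ⟨k, rfl⟩ := ConjClasses.mk_surjective C
    set u : ↥K := ⟨g ^ K.index, K.pow_index_mem g⟩
    rw [hY (g ^ K.index) k (u * k * u⁻¹) rfl, CfsgLib.Char.mk_eq_mk_conj]
  let PX : SubMulAction G (IrrCharacter ↥K) :=
    { carrier := {θ | cX θ = θ}
      smul_mem' := fun g θ (h : cX θ = θ) => by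
        show cX (g • θ) = g • θ
        rw [← hcommX, h] }
  let PY : SubMulAction G (ConjClasses ↥K) :=
    { carrier := {C | cY C = C}
      smul_mem' := fun g C (h : cY C = C) => by
        show cY (g • C) = g • C
        rw [← hcommY, h] }
  have hfix : ∀ g : G, Nat.card (MulAction.fixedBy PX g) = Nat.card (MulAction.fixedBy PY g) := by
    intro g
    have e1 : Nat.card (MulAction.fixedBy PX g) = Nat.card {θ : IrrCharacter ↥K // cX (g • θ) = θ} :=
      Nat.card_congr
        { toFun := fun θ => ⟨θ.1.1, (twisted_fix_iff cX hcX hcommX g hodd (hfX g) θ.1.1).2 ⟨θ.1.2, congrArg Subtype.val θ.2⟩⟩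
          invFun := fun θ => ⟨⟨θ.1, ((twisted_fix_iff cX hcX hcommX g hodd (hfX g) θ.1).1 θ.2).1⟩, Subtype.ext ((twisted_fix_iff cX hcX hcommX g hodd (hfX g) θ.1).1 θ.2).2⟩
          left_inv := fun θ => rfl
          right_inv := fun θ => rfl }
    have e2 : Nat.card (MulAction.fixedBy PY g) = Nat.card {C : ConjClasses ↥K // cY (g • C) = C} :=
      Nat.card_congr
        { toFun := fun θ => ⟨θ.1.1, (twisted_fix_iff cY hcY hcommY g hodd (hfY g) θ.1.1).2 ⟨θ.1.2, congrArg Subtype.val θ.2⟩⟩
          invFun := fun θ => ⟨⟨θ.1, ((twisted_fix_iff cY hcY hcommY g hodd (hfY g) θ.1).1 θ.2).1⟩, Subtype.ext ((twisted_fix_iff cY hcY hcommY g hodd (hfY g) θ.1).1 θ.2).2⟩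
          left_inv := fun θ => rfl
          right_inv := fun θ => rfl }
    rw [e1, e2]
    refine CfsgLib.Char.brauer_permutation (fun θ => cX (g • θ)) (fun C => cY (g • C)) ?_ ?_
    · intro C
      exact ⟨g⁻¹ • cY C, by simp only [smul_inv_smul]; exact hcY C⟩
    · intro θ k k' h
      obtain ⟨k₁, hk₁⟩ : ∃ k₁ : ↥K, (k₁ : G) = g * k * g⁻¹ := ⟨⟨_, Subgroup.Normal.conj_mem inferInstance _ k.2 g⟩, rfl⟩
      rw [hY g k k₁ hk₁] at h
      simp only [cY, CfsgLib.Char.invClass_mk] at h
      show (starRingEnd ℂ) (((g • θ : IrrCharacter ↥K) : ↥K → ℂ) k') = _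
      rw [CfsgLib.Char.char_eq_of_isConj (CfsgLib.Char.isCharacter_classFunction (g • θ).2.isCharacter')
        (ConjClasses.mk_eq_mk_iff_isConj.1 h), CfsgLib.Char.isCharacter_inv_eq_conj (g • θ).2.isCharacter',
        Complex.conj_conj, hX g θ k k₁ hk₁]
  have main := orbit_count_eq hfix
  refine Eq.trans (Nat.card_congr ?_) (main.trans (Nat.card_congr ?_))
  · refine Quot.congr (Equiv.subtypeEquivRight fun θ => (CfsgLib.Char.irrConj_eq_self_iff θ).symm) ?_
    intro θ η
    rw [MulAction.orbitRel_apply, MulAction.mem_orbit_iff]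
    constructor
    · rintro ⟨g, hg⟩
      refine ⟨g⁻¹, ?_⟩
      rw [inv_smul_eq_iff]
      apply Subtype.ext
      apply Subtype.ext
      funext k'
      obtain ⟨k, hk⟩ : ∃ k : ↥K, (k' : G) = g * k * g⁻¹ :=
        ⟨⟨g⁻¹ * k' * g, by simpa using Subgroup.Normal.conj_mem inferInstance _ k'.2 g⁻¹⟩, by simp [mul_assoc]⟩
      show (η.1 : ↥K → ℂ) k' = ((g • θ.1 : IrrCharacter ↥K) : ↥K → ℂ) k'
      rw [hX g θ.1 k k' hk, hg k k' hk]
    · rintro ⟨g, hg⟩
      refine ⟨g⁻¹, fun k k' hk => ?_⟩
      have h2 : (g⁻¹ • θ.1 : IrrCharacter ↥K) = η.1 := by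
        rw [inv_smul_eq_iff]; exact (congrArg Subtype.val hg).symm
      rw [← h2, hX g⁻¹ θ.1 k k' hk]
  · let f : {x : ↥K // IsConj x x⁻¹} → PY := fun x => ⟨ConjClasses.mk x.1, ConjClasses.mk_eq_mk_iff_isConj.2 x.2.symm⟩
    have hf : ∀ x y : {x : ↥K // IsConj x x⁻¹}, (∃ g : G, (y.1 : G) = g * x.1 * g⁻¹) ↔
        (MulAction.orbitRel G PY) (f x) (f y) := by
      intro x y
      rw [MulAction.orbitRel_apply, MulAction.mem_orbit_iff]
      constructor
      · rintro ⟨g, hg⟩
        refine ⟨g⁻¹, ?_⟩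
        rw [inv_smul_eq_iff]
        exact Subtype.ext (hY g x.1 y.1 hg).symm
      · rintro ⟨g, hg⟩
        have h2 : g • ConjClasses.mk y.1 = ConjClasses.mk x.1 := congrArg Subtype.val hg
        obtain ⟨k₁, hk₁⟩ : ∃ k₁ : ↥K, (k₁ : G) = g * y.1 * g⁻¹ := ⟨⟨_, Subgroup.Normal.conj_mem inferInstance _ y.1.2 g⟩, rfl⟩
        rw [hY g y.1 k₁ hk₁, ConjClasses.mk_eq_mk_iff_isConj, isConj_iff] at h2
        obtain ⟨c, hc⟩ := h2
        refine ⟨g⁻¹ * (c : G)⁻¹, ?_⟩
        have hc' : (c : G) * (k₁ : G) * (c : G)⁻¹ = (x.1 : G) := congrArg Subtype.val hc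
        rw [← hc', hk₁]; group
    let e : Quot (fun x y : {x : ↥K // IsConj x x⁻¹} => ∃ g : G, (y.1 : G) = g * x.1 * g⁻¹) → MulAction.orbitRel.Quotient G PY :=
      Quot.lift (fun x => Quotient.mk _ (f x)) fun x y h => Quotient.sound ((hf x y).1 h)
    refine (Equiv.ofBijective e ⟨?_, ?_⟩).symm
    · intro a b
      induction a using Quot.ind with
      | _ x =>
        induction b using Quot.ind with
        | _ y => exact fun h => Quot.sound ((hf x y).2 (Quotient.exact h))
    · intro q
      induction q using Quotient.inductionOn with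
      | _ C =>
        obtain ⟨k, hk⟩ := ConjClasses.mk_surjective C.1
        have hc : cY C.1 = C.1 := C.2
        rw [← hk] at hc
        simp only [cY, CfsgLib.Char.invClass_mk] at hc
        exact ⟨Quot.mk _ ⟨k, (ConjClasses.mk_eq_mk_iff_isConj.1 hc).symm⟩, congrArg (Quotient.mk _) (Subtype.ext hk)⟩

end Cfsg.Agent.S4866
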