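import Cfsg.Statements.S4873
import Cfsg.Agent.Lib.CharIndicator
import Cfsg.Agent.Lib.CharPerm
import Cfsg.Agent.Lib.CharNormal
import Cfsg.Agent.Lib.CoreRealOdd
import Cfsg.Agent.S4866

set_option autoImplicit false
open Cfsg

namespace Cfsg.Agent.S4873

/-- Let N be a normal subgroup of odd index in the finite group G. Then every irreducible complex character of N with Frobenius–Schur indicator +1 lies under exactly one irreducible character of G with Frobenius–Schur indicator +1. -/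
theorem result {G : Type*} [Group G] [Finite G] (N : Subgroup G) [N.Normal] (hodd : Odd N.index) (φ : Cfsg.IrrCharacter ↥N) (hφ : (Nat.card ↥N : ℂ)⁻¹ * ∑ᶠ g : ↥N, (φ : ↥N → ℂ) (g * g) = 1) : ∃! χ : Cfsg.IrrCharacter G, (Nat.card G : ℂ)⁻¹ * ∑ᶠ g : G, (χ : G → ℂ) (g * g) = 1 ∧ (∑ᶠ n : ↥N, (χ : G → ℂ) n * (starRingEnd ℂ) ((φ : ↥N → ℂ) n)) ≠ 0 := by
  classical
  haveI := Fintype.ofFinite G
  haveI := Fintype.ofFinite ↥N
  have hν : ∀ θ : IrrCharacter ↥N, CfsgLib.Char.sqIndicator (θ : ↥N → ℂ) =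
      ∑ χ : IrrCharacter G, classInner (fun n : ↥N => (χ : G → ℂ) n) (θ : ↥N → ℂ) *
        CfsgLib.Char.sqIndicator (χ : G → ℂ) := by
    intro θ
    set π := Cfsg.indFun N (θ : ↥N → ℂ) with hπ
    have hm : ∀ χ : IrrCharacter G, classInner π (χ : G → ℂ) =
        classInner (fun n : ↥N => (χ : G → ℂ) n) (θ : ↥N → ℂ) := fun χ => by
      rw [hπ, CfsgLib.Char.frobenius _ _ (CfsgLib.Char.isCharacter_classFunction χ.2.isCharacter')]
      exact CfsgLib.Char.inner_comm_of_isCharacter θ.2.isCharacter' (CfsgLib.Char.isCharacter_restrict χ.2.isCharacter' N)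
    have h1 : (Nat.card G : ℂ)⁻¹ * ∑ g : G, π (g * g) =
        ∑ χ : IrrCharacter G, classInner π (χ : G → ℂ) * CfsgLib.Char.sqIndicator (χ : G → ℂ) := by
      conv_lhs => rw [CfsgLib.Char.classFunction_eq_sum π (CfsgLib.Char.indFun_classFunction _)]
      simp only [Finset.sum_apply, Pi.smul_apply, smul_eq_mul, CfsgLib.Char.sqIndicator]
      rw [Finset.sum_comm, Finset.mul_sum]
      refine Finset.sum_congr rfl fun χ _ => ?_
      rw [← Finset.mul_sum]; ring
    simp only [hm] at h1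
    rw [← h1]
    have hmemN : ∀ g : G, g * g ∈ N → g ∈ N := by
      intro g hg
      obtain ⟨k, hk⟩ := hodd
      have h2 : g ^ (2 * (k + 1)) ∈ N := by rw [pow_mul, pow_two]; exact N.pow_mem hg _
      have h3 : g ^ N.index ∈ N := N.pow_index_mem g
      rw [show 2 * (k + 1) = N.index + 1 by omega, pow_succ] at h2
      exact (Subgroup.mul_mem_cancel_left N h3).1 h2
    have hin : ∀ x : G, ∑ g : G, extendByZero N (θ : ↥N → ℂ) (x⁻¹ * (g * g) * x) =
        ∑ n : ↥N, (θ : ↥N → ℂ) (n * n) := by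
      intro x
      rw [Finset.sum_equiv (MulAut.conj x⁻¹).toEquiv (t := Finset.univ)
        (g := fun g => extendByZero N (θ : ↥N → ℂ) (g * g)) (by simp)
        (fun g _ => by simp [MulAut.conj_apply]; congr 1; group)]
      rw [← Finset.sum_subset (Finset.subset_univ (Finset.univ.map (Function.Embedding.subtype fun g : G => g ∈ N)))]
      · rw [Finset.sum_map]
        refine Finset.sum_congr rfl fun n _ => ?_
        exact CfsgLib.Char.extendByZero_mem (θ : ↥N → ℂ) (g := (n : G) * n) (N.mul_mem n.2 n.2)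
      · intro g _ hg
        refine CfsgLib.Char.extendByZero_not_mem _ fun h => hg ?_
        simpa using hmemN g h
    simp only [hπ, CfsgLib.Char.indFun_apply, CfsgLib.Char.sqIndicator]
    rw [← Finset.mul_sum, Finset.sum_comm, Finset.sum_congr rfl fun x _ => hin x, Finset.sum_const,
      Finset.card_univ, nsmul_eq_mul, ← Nat.card_eq_fintype_card]
    field_simp [CfsgLib.Char.natCard_ne_zero G]
  -- every real character of `N` lies under a real character of `G`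
  let RN := {θ : IrrCharacter ↥N // ∀ n : ↥N, ((θ : ↥N → ℂ) n).im = 0}
  let RG := {χ : IrrCharacter G // ∀ g : G, ((χ : G → ℂ) g).im = 0}
  let r : RN → RN → Prop := fun θ η => ∃ g : G, ∀ k k' : ↥N, (k' : G) = g * (k : G) * g⁻¹ → (η.1 : ↥N → ℂ) k' = (θ.1 : ↥N → ℂ) k
  have hex : ∀ θ : RN, ∃ χ : RG, classInner (fun n : ↥N => (χ.1 : G → ℂ) n) (θ.1 : ↥N → ℂ) ≠ 0 := by
    intro θ
    by_contra h
    push Not at h
    have h0 : CfsgLib.Char.sqIndicator (θ.1 : ↥N → ℂ) = 0 := by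
      rw [hν]
      refine Finset.sum_eq_zero fun χ _ => ?_
      by_cases hχ : ∀ g : G, ((χ : G → ℂ) g).im = 0
      · rw [h ⟨χ, hχ⟩, zero_mul]
      · push Not at hχ
        rw [(CfsgLib.Char.sqIndicator_trichotomy χ.2).2.2 hχ, mul_zero]
    obtain ⟨n, hn⟩ := (CfsgLib.Char.sqIndicator_trichotomy θ.1.2).2.1 h0
    exact hn (θ.2 n)
  have horb : ∀ (χ : IrrCharacter G) (θ η : RN), classInner (fun n : ↥N => (χ : G → ℂ) n) (θ.1 : ↥N → ℂ) ≠ 0 →
      classInner (fun n : ↥N => (χ : G → ℂ) n) (η.1 : ↥N → ℂ) ≠ 0 → Quot.mk r θ = Quot.mk r η := by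
    intro χ θ η h1 h2
    obtain ⟨g, hg⟩ := CfsgLib.Char.constituent_conj χ.2 θ.1.2 η.1.2 h1 h2
    refine Quot.sound ⟨g⁻¹, fun k k' hk => ?_⟩
    rw [hg, CfsgLib.Char.conjFn_eq_comp, Function.comp_apply]
    refine congrArg θ.1.1 (Subtype.ext ?_)
    rw [MulAut.conjNormal_apply, hk]
    group
  haveI : Finite (Quot r) := Quot.finite _
  haveI : Finite (ConjClasses G) := Finite.of_surjective _ ConjClasses.mk_surjective
  have hcard : Nat.card RG ≤ Nat.card (Quot r) := by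
    have hle : ∀ C : ConjClasses G, (∀ g : G, ConjClasses.mk g = C → IsConj g g⁻¹) →
        ∃ x : {x : ↥N // IsConj x x⁻¹}, ConjClasses.mk (x.1 : G) = C := by
      intro C hC
      obtain ⟨g, rfl⟩ := ConjClasses.mk_surjective C
      have hg := hC g rfl
      have hq : IsConj (QuotientGroup.mk g : G ⧸ N) (QuotientGroup.mk g : G ⧸ N)⁻¹ := by
        simpa using (QuotientGroup.mk' N).map_isConj hg
      have hgN : g ∈ N := (QuotientGroup.eq_one_iff g).1
        (CfsgLib.Char.eq_one_of_isConj_inv hodd hq)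
      obtain ⟨c, hc⟩ := isConj_iff.1 hg
      obtain ⟨t, ⟨k, ht⟩, htx⟩ := CfsgLib.Core.RealOdd.exists_two_element_inverting hc
      exact ⟨⟨⟨g, hgN⟩, isConj_iff.2 ⟨⟨t, CfsgLib.Core.RealOdd.mem_of_odd_index N hodd ht⟩, Subtype.ext htx⟩⟩, rfl⟩
    rw [CfsgLib.Char.card_real_irr, Cfsg.Agent.S4866.result N hodd]
    refine Nat.card_le_card_of_injective (fun C => Quot.mk _ (hle C.1 C.2).choose) ?_
    intro C D h
    apply Subtype.ext
    rw [← (hle C.1 C.2).choose_spec, ← (hle D.1 D.2).choose_spec]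
    have hresp : ∀ x y : {x : ↥N // IsConj x x⁻¹}, (∃ g : G, (y.1 : G) = g * x.1 * g⁻¹) →
        ConjClasses.mk (x.1 : G) = ConjClasses.mk (y.1 : G) := fun x y ⟨g, hg⟩ =>
      ConjClasses.mk_eq_mk_iff_isConj.2 (isConj_iff.2 ⟨g, hg.symm⟩)
    exact congrArg (Quot.lift (fun x : {x : ↥N // IsConj x x⁻¹} => ConjClasses.mk (x.1 : G)) hresp) h
  -- choose one real character over each orbit
  let sec : Quot r → RG := fun q => (hex q.out).choose
  have hsec : Function.Injective sec := by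
    intro q q' h
    have h1 := (hex q.out).choose_spec
    have h2 := (hex q'.out).choose_spec
    change classInner (fun n : ↥N => ((sec q).1 : G → ℂ) n) (q.out.1 : ↥N → ℂ) ≠ 0 at h1
    rw [h] at h1
    have := horb _ q.out q'.out h1 h2
    simpa [Quot.out_eq] using this
  have hsurj : Function.Surjective sec :=
    (Function.Injective.bijective_of_nat_card_le hsec hcard).2
  have hreal : ∀ (H : Type _) [Group H] [Fintype H] (θ : IrrCharacter H), CfsgLib.Char.sqIndicator (θ : H → ℂ) = 1 →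
      ∀ h : H, ((θ : H → ℂ) h).im = 0 := by
    intro H _ _ θ h1 h
    by_contra hne
    rw [(CfsgLib.Char.sqIndicator_trichotomy θ.2).2.2 ⟨h, hne⟩] at h1
    exact zero_ne_one h1
  have hφ1 : CfsgLib.Char.sqIndicator (φ : ↥N → ℂ) = 1 := by
    rw [CfsgLib.Char.sqIndicator, ← finsum_eq_sum_of_fintype]; exact hφ
  let φR : RN := ⟨φ, hreal ↥N φ hφ1⟩
  have huniq : ∀ χ : RG, classInner (fun n : ↥N => (χ.1 : G → ℂ) n) (φ : ↥N → ℂ) ≠ 0 →
      χ = sec (Quot.mk r φR) := by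
    intro χ hχ
    obtain ⟨q, rfl⟩ := hsurj χ
    congr 1
    rw [← Quot.out_eq q]
    exact horb _ q.out φR (hex q.out).choose_spec hχ
  have hfs : ∀ χ : IrrCharacter G, (Nat.card G : ℂ)⁻¹ * ∑ᶠ g : G, (χ : G → ℂ) (g * g) = CfsgLib.Char.sqIndicator (χ : G → ℂ) := by
    intro χ
    rw [CfsgLib.Char.sqIndicator, finsum_eq_sum_of_fintype]
  have hov : ∀ χ : IrrCharacter G, (∑ᶠ n : ↥N, (χ : G → ℂ) n * (starRingEnd ℂ) ((φ : ↥N → ℂ) n)) ≠ 0 ↔
      classInner (fun n : ↥N => (χ : G → ℂ) n) (φ : ↥N → ℂ) ≠ 0 := by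
    intro χ
    rw [finsum_eq_sum_of_fintype, classInner, mul_ne_zero_iff]
    exact ⟨fun h => ⟨inv_ne_zero (CfsgLib.Char.natCard_ne_zero _), h⟩, fun h => h.2⟩
  simp only [hfs, hov]
  obtain ⟨χ₀, hχ₀, huniq⟩ : ∃ χ₀ : RG, classInner (fun n : ↥N => (χ₀.1 : G → ℂ) n) (φ : ↥N → ℂ) ≠ 0 ∧
      ∀ χ : RG, classInner (fun n : ↥N => (χ.1 : G → ℂ) n) (φ : ↥N → ℂ) ≠ 0 → χ = χ₀ := by
    obtain ⟨χ₁, h1⟩ := hex φR
    exact ⟨χ₁, h1, fun χ h => (huniq χ h).trans (huniq χ₁ h1).symm⟩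
  refine ⟨χ₀.1, ⟨?_, hχ₀⟩, fun χ hχ => congrArg Subtype.val (huniq ⟨χ, hreal G χ hχ.1⟩ hχ.2)⟩
  have h := hν φ
  rw [hφ1, Finset.sum_eq_single χ₀.1] at h
  · obtain ⟨m, hm⟩ := CfsgLib.Char.inner_character_nat
      (CfsgLib.Char.isCharacter_restrict χ₀.1.2.isCharacter' N) φ.2.isCharacter'
    rcases (CfsgLib.Char.sqIndicator_trichotomy χ₀.1.2).1 with h0 | h0 | h0
    · rw [h0, mul_zero] at h; exact absurd h one_ne_zero
    · exact h0
    · exfalso
      rw [h0, hm] at h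
      have := congrArg Complex.re h
      simp at this
      linarith [(Nat.cast_nonneg m : (0 : ℝ) ≤ m)]
  · intro χ _ hne
    by_cases hχ : ∀ g : G, ((χ : G → ℂ) g).im = 0
    · by_contra h0
      exact hne (congrArg Subtype.val (huniq ⟨χ, hχ⟩ (left_ne_zero_of_mul h0)))
    · push Not at hχ
      rw [(CfsgLib.Char.sqIndicator_trichotomy χ.2).2.2 hχ, mul_zero]
  · exact fun h' => absurd (Finset.mem_univ _) h'

end Cfsg.Agent.S4873
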