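import Cfsg.Statements.S5179
import Cfsg.Agent.Lib.FusionExtraspecialInside

set_option autoImplicit false
universe u
open Cfsg

namespace Cfsg.Agent.S5179

/-- Let p be an odd prime, S a finite p-group of order at least p⁶ containing an extraspecial subgroup Q of index p, and F a saturated fusion system over S whose largest subgroup normal in F is trivial. Then no proper subgroup of Q is essential in F: an essential subgroup of F contained in Q equals Q. -/
theorem result {Ω : Type u} [Group Ω] {S : Subgroup Ω} [Finite S] (p : ℕ) [Fact p.Prime] (hp : Odd p) (hS : IsPGroup p S)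
    (Q : Subgroup Ω) (hQS : Q ≤ S) (hQ : Cfsg.IsExtraspecial p ↥Q) (hQi : (Q.subgroupOf S).index = p)
    (h6 : p ^ 6 ≤ Nat.card S)
    (F : Cfsg.FusionSystem S) (hF : F.IsSaturated p) (hO : F.core = ⊥)
    (E : Subgroup Ω) (hEQ : E ≤ Q) (hE : F.IsEssential p E) : E = Q := by
  haveI := CfsgLib.Fusion.finite_of_le hQS
  refine CfsgLib.ExtraspecialInside.main hS hF Q hQS hQ ?_ E hEQ hE
  have h1 := Subgroup.card_mul_index (Q.subgroupOf S)
  rw [Nat.card_congr (Subgroup.subgroupOfEquivOfLe hQS).toEquiv, hQi] at h1
  rw [← h1, pow_succ] at h6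
  exact Nat.le_of_mul_le_mul_right h6 (Fact.out : p.Prime).pos

end Cfsg.Agent.S5179
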