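import Cfsg.Statements.S5522
import Cfsg.Agent.Lib.SporM24Fixed
import Cfsg.Agent.Lib.SporMathieu2

set_option autoImplicit false
open Cfsg

namespace Cfsg.Agent.S5522
open CfsgLib.Spor

theorem five_fix {g : Equiv.Perm GolayPt} (hg : g ∈ Cfsg.Spor.M12) {F : Finset GolayPt}
    (hF : F ⊆ Cfsg.Spor.squareDodecad) (h5 : 5 ≤ F.card) (hfix : ∀ p ∈ F, g p = p) : g = 1 := by
  classical
  let x : ℕ → GolayPt := fun i => if h : i < F.card then (F.equivFin.symm ⟨i, h⟩ : GolayPt) else none
  have hx : ∀ i, (h : i < F.card) → x i = F.equivFin.symm ⟨i, h⟩ := fun i h => dif_pos h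
  have hxF : ∀ i < 5, x i ∈ F := fun i hi => by
    rw [hx i (by omega)]; exact Finset.coe_mem _
  obtain ⟨h, hh, e⟩ := exists_M12_to_base x 5 le_rfl (fun i hi => hF (hxF i hi)) (by
    intro i hi j hj hij he
    rw [hx i (by omega), hx j (by omega)] at he
    exact hij (Fin.mk.inj_iff.1 (F.equivFin.symm.injective (Subtype.ext he))))
  have h1 : h * g * h⁻¹ = 1 := eq_one_of_fix12
    (Cfsg.Spor.M12.mul_mem (Cfsg.Spor.M12.mul_mem hh hg) (Cfsg.Spor.M12.inv_mem hh)) fun j hj => by
      simp only [Equiv.Perm.mul_apply]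
      rw [← e j hj, ← Equiv.Perm.mul_apply h⁻¹ h, inv_mul_cancel, Equiv.Perm.one_apply,
        hfix _ (hxF j hj)]
  exact conj_eq_one_iff.1 h1

/-- The Mathieu group M₁₁, realised as the stabiliser of one point of the dodecad of squares inside the stabiliser M₁₂ of that dodecad in M₂₄, acts on the twelve coordinate positions outside the dodecad of squares (its 3-transitive action of degree 12); in this action every element of prime order fixes a point, i.e. the action is elusive. -/
theorem result (g : Equiv.Perm Cfsg.GolayPt) (hg : g ∈ Cfsg.Spor.M11) (hord : (orderOf g).Prime) :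
    ∃ x : Cfsg.GolayPt, x ∉ Cfsg.Spor.squareDodecad ∧ g x = x := by
  classical
  have hM : g ∈ Cfsg.Spor.M12 := hg.1
  have hd : ∀ x, g x ∈ Cfsg.Spor.squareDodecad ↔ x ∈ Cfsg.Spor.squareDodecad := fun x => by
    conv_lhs => rw [← (mem_M12_iff'.1 hM).2]
    exact Finset.smul_mem_smul_finset_iff g
  have h0 : g (some 0) = some 0 := hg.2
  have hdvd : orderOf g ∣ 7920 := card_M11 ▸ Subgroup.orderOf_dvd_natCard _ hg
  have hne : g ≠ 1 := fun h => by simp [h, Nat.not_prime_one] at hord
  have hmain : orderOf g = 2 ∨ orderOf g = 3 ∨ ¬ orderOf g ∣ 12 := by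
    have hle : orderOf g ≤ 7920 := Nat.le_of_dvd (by norm_num) hdvd
    by_cases h12 : orderOf g ∣ 12
    · have : orderOf g ≤ 12 := Nat.le_of_dvd (by norm_num) h12
      interval_cases h : orderOf g <;> simp_all (config := { decide := true })
    · exact Or.inr (Or.inr h12)
  have hfew : 4 < (Finset.univ.filter fun p => g p = p).card → ∃ x, x ∉ Cfsg.Spor.squareDodecad ∧ g x = x := by
    intro h4
    by_contra! hc
    refine hne (five_fix hM (F := Finset.univ.filter fun p => g p = p) (fun p hp => ?_) h4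
      fun p hp => (Finset.mem_filter.1 hp).2)
    by_contra hpd
    exact hc p hpd (Finset.mem_filter.1 hp).2
  rcases hmain with h2 | h3 | hn
  · obtain ⟨k, -, ⟨-, h⟩ | ⟨-, h⟩⟩ := two_of_fix hM.1 h2
    · exact hfew (by omega)
    · exact absurd h0 (card_fix_zero.1 h _)
  · obtain ⟨k, -, ⟨-, h⟩ | ⟨-, h⟩⟩ := three_of_fix hM.1 h3
    · exact hfew (by omega)
    · exact absurd h0 (card_fix_zero.1 h _)
  · have := Fact.mk hord
    let σ : Equiv.Perm {x // x ∉ Cfsg.Spor.squareDodecad} := g.subtypePerm fun x => not_congr (hd x)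
    have hc : Fintype.card {x // x ∉ Cfsg.Spor.squareDodecad} = 12 := by
      rw [Fintype.card_subtype_compl, Fintype.card_coe]
      decide +kernel
    obtain ⟨⟨a, ha⟩, he⟩ := Equiv.Perm.exists_fixed_point_of_prime (p := orderOf g) (n := 1)
      (by rwa [hc]) (σ := σ) (by
        ext x
        simp [σ, Equiv.Perm.subtypePerm_pow, pow_orderOf_eq_one])
    exact ⟨a, ha, congrArg Subtype.val he⟩

end Cfsg.Agent.S5522
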