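import Cfsg.Statements.S5728
import Mathlib

set_option autoImplicit false
open Cfsg

namespace Cfsg.Agent.S5728

open Polynomial in
theorem mem_prime_field {p : ℕ} [Fact p.Prime] {K : Type*} [Field K] [Algebra (ZMod p) K] {a : K}
    (h : a ^ p = a) : ∃ c : ZMod p, algebraMap (ZMod p) K c = a := by
  classical
  by_contra hc
  push Not at hc
  have hp : p.Prime := Fact.out
  set P : K[X] := X ^ p - X
  have hP : P.natDegree = p := FiniteField.X_pow_card_sub_X_natDegree_eq K hp.one_lt
  have hP0 : P ≠ 0 := FiniteField.X_pow_card_sub_X_ne_zero K hp.one_lt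
  let S : Finset K := insert a ((Finset.univ : Finset (ZMod p)).image (algebraMap (ZMod p) K))
  have hsub : S ⊆ P.roots.toFinset := by
    intro x hx
    rw [Multiset.mem_toFinset, mem_roots hP0]
    rcases Finset.mem_insert.1 hx with rfl | hx
    · simp [P, h]
    · obtain ⟨c, -, rfl⟩ := Finset.mem_image.1 hx
      simp [P, ← map_pow, ZMod.pow_card]
  have hS : S.card = p + 1 := by
    rw [Finset.card_insert_of_notMem (by simpa using hc),
      Finset.card_image_of_injective _ (algebraMap (ZMod p) K).injective, Finset.card_univ, ZMod.card]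
  have := (Finset.card_le_card hsub).trans ((Multiset.toFinset_card_le _).trans (card_roots' P))
  omega

/-- An elusive transitive action. Let p = 2^s − 1 be a prime and let F be the field with p² elements. Inside the group of affine maps x ↦ a·x + b of F (a ≠ 0), consider the subgroup of maps with both coefficients in the prime field. Then every element of prime order of the affine group is conjugate, within the affine group, to an element of that subgroup; equivalently, in the transitive action of the affine group on the cosets of that subgroup (of degree p(p + 1)) every element of prime order fixes a point. -/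
theorem result (p s : ℕ) [Fact p.Prime] (hs : p = 2 ^ s - 1)
    (g : Equiv.Perm (GaloisField p 2)) (hg : g ∈ Cfsg.affineGroup (GaloisField p 2)) (hord : (orderOf g).Prime) :
    ∃ x ∈ Cfsg.affineGroup (GaloisField p 2), ∃ a b : ZMod p, a ≠ 0 ∧
      ∀ y : GaloisField p 2, (x * g * x⁻¹) y = algebraMap (ZMod p) (GaloisField p 2) a * y + algebraMap (ZMod p) (GaloisField p 2) b := by
  have hp : p.Prime := Fact.out
  obtain ⟨a, b, hab⟩ := hg
  have hpow : ∀ n : ℕ, ∃ c, ∀ y, (g ^ n) y = (a : GaloisField p 2) ^ n * y + c := by
    intro n
    induction n with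
    | zero => exact ⟨0, fun y => by simp⟩
    | succ n ih =>
      obtain ⟨c, hc⟩ := ih
      refine ⟨(a : GaloisField p 2) ^ n * b + c, fun y => ?_⟩
      rw [pow_succ g n, Equiv.Perm.mul_apply, hab, hc, pow_succ]
      ring
  have har : (a : GaloisField p 2) ^ orderOf g = 1 := by
    obtain ⟨c, hc⟩ := hpow (orderOf g)
    rw [pow_orderOf_eq_one] at hc
    have h0 := hc 0
    have h1 := hc 1
    simp only [Equiv.Perm.one_apply, mul_zero, zero_add, mul_one] at h0 h1
    rw [← h0, add_zero] at h1
    exact h1.symm
  haveI : Fintype (GaloisField p 2) := Fintype.ofFinite _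
  have hcard : Fintype.card (GaloisField p 2) = p ^ 2 := by
    rw [← Nat.card_eq_fintype_card]; exact GaloisField.card p 2 (by norm_num)
  by_cases ha1 : (a : GaloisField p 2) = 1
  · have hb : b ≠ 0 := by
      intro hb
      have : g = 1 := Equiv.ext fun y => by simp [hab, ha1, hb]
      rw [this, orderOf_one] at hord
      exact Nat.not_prime_one hord
    refine ⟨Equiv.mulLeft₀ b⁻¹ (inv_ne_zero hb), ⟨(Units.mk0 b hb)⁻¹, 0, fun y => by simp⟩, 1, 1, one_ne_zero, fun y => ?_⟩
    simp [hab, ha1, mul_add, hb]
  · have hap : (a : GaloisField p 2) ^ p = a := by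
      rcases hord.eq_two_or_odd' with h2 | hodd
      · rw [h2] at har
        have : (a : GaloisField p 2) = -1 := by
          rcases sq_eq_one_iff.1 har with h | h
          · exact absurd h ha1
          · exact h
        rw [this]
        rcases hp.eq_two_or_odd' with hp2 | hpo
        · subst hp2
          rw [neg_one_sq]
          exact (by rw [CharTwo.neg_eq] : (1 : GaloisField 2 2) = -1)
        · exact hpo.neg_one_pow
      · set r := orderOf g with hr
        have h1 : (a : GaloisField p 2) ^ (p ^ 2 - 1) = 1 := by
          rw [← hcard]; exact FiniteField.pow_card_sub_one_eq_one _ a.ne_zero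
        have hoa : orderOf (a : GaloisField p 2) = r :=
          ((hord.eq_one_or_self_of_dvd _ (orderOf_dvd_of_pow_eq_one har)).resolve_left
            (fun h => ha1 (orderOf_eq_one_iff.1 h)))
        have hd : r ∣ (p + 1) * (p - 1) := by
          rw [← hoa]
          apply orderOf_dvd_of_pow_eq_one
          rw [← Nat.sq_sub_sq, one_pow]
          exact h1
        have h2s : p + 1 = 2 ^ s := by
          have : 1 ≤ 2 ^ s := Nat.one_le_two_pow
          omega
        have hd' : r ∣ p - 1 := by
          refine (Nat.Coprime.dvd_of_dvd_mul_left ?_ hd)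
          rw [h2s]
          exact Nat.Coprime.pow_right _ (Nat.coprime_two_right.2 hodd)
        obtain ⟨t, ht⟩ := hd'
        calc (a : GaloisField p 2) ^ p = (a : GaloisField p 2) ^ (r * t + 1) := by
              rw [← ht, Nat.sub_add_cancel hp.one_lt.le]
          _ = a := by rw [pow_succ, pow_mul, har, one_pow, one_mul]
    obtain ⟨c, hc⟩ := mem_prime_field hap
    have hsub : (1 : GaloisField p 2) - a ≠ 0 := sub_ne_zero.2 (Ne.symm ha1)
    refine ⟨Equiv.addRight (-(b / (1 - a))), ⟨1, -(b / (1 - a)), fun y => by simp⟩, c, 0, ?_, fun y => ?_⟩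
    · rintro rfl
      rw [map_zero] at hc
      exact a.ne_zero hc.symm
    · rw [hc, map_zero, add_zero, Equiv.Perm.mul_apply, Equiv.Perm.mul_apply]
      simp only [Equiv.Perm.inv_def, Equiv.addRight_symm, Equiv.coe_addRight, neg_neg, hab]
      field_simp
      ring

end Cfsg.Agent.S5728
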